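import Mathlib
import Groth.Prelude.Def_Wider
import Groth.Agent.S0326
import Groth.Agent.S0380
import Groth.Agent.Lib.helper21.LC23

/-!
# Grothendieck vanishing: `cd(R, I) ≤ dim R` (helper8).

* `exists_finset_height`: prime-avoidance construction of elements `x₁..x_j ∈ J` such that every prime
  containing them and not containing `J` has height `≥ j`.
* `exists_finset_radical_eq`: in a Noetherian local ring of dimension `≤ n`, every proper ideal is, up to
  radical, generated by `n` elements.
* `cdLE_of_isLocalRing`, `cdLE_of_ringKrullDim_le`.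
-/

universe u

namespace Groth.Agent.H8.CdDim

open CategoryTheory LocCoh IsLocalRing

section Ara

variable {A : Type u} [CommRing A] [IsNoetherianRing A]

theorem exists_finset_height (J : Ideal A) (j : ℕ) :
    ∃ s : Finset A, s.card ≤ j ∧ (s : Set A) ⊆ J ∧
      ∀ q : Ideal A, q.IsPrime → Ideal.span (s : Set A) ≤ q → ¬ J ≤ q → (j : ℕ∞) ≤ q.height := by
  classical
  induction j with
  | zero =>
    exact ⟨∅, by simp, by simp, fun q _ _ _ => by simp⟩
  | succ j ih =>
    obtain ⟨s, hcard, hsub, hs⟩ := ih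
    -- the minimal primes of `span s` not containing `J`
    have hfin : ((Ideal.span (s : Set A)).minimalPrimes).Finite :=
      Ideal.finite_minimalPrimes_of_isNoetherianRing A _
    set S : Finset (Ideal A) := hfin.toFinset.filter (fun p => ¬ J ≤ p) with hS
    have hprime : ∀ p ∈ S, p.IsPrime := by
      intro p hp
      rw [hS, Finset.mem_filter, Set.Finite.mem_toFinset] at hp
      exact hp.1.1.1
    have hex : ∃ x ∈ J, ∀ p ∈ S, x ∉ p := by
      by_contra hcon
      push Not at hcon
      have hsubset : (J : Set A) ⊆ ⋃ p ∈ (S : Set (Ideal A)), (p : Set A) := by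
        intro x hx
        obtain ⟨p, hp, hxp⟩ := hcon x hx
        exact Set.mem_biUnion (Finset.mem_coe.mpr hp) hxp
      obtain ⟨p, hp, hJp⟩ := (Ideal.subset_union_prime (s := S) (f := fun p => p) ⊥ ⊥
        (fun p hp _ _ => hprime p hp)).mp hsubset
      rw [hS, Finset.mem_filter] at hp
      exact hp.2 hJp
    obtain ⟨x, hxJ, hx⟩ := hex
    refine ⟨insert x s, ?_, ?_, ?_⟩
    · exact (Finset.card_insert_le x s).trans (by omega)
    · intro y hy
      rw [Finset.coe_insert, Set.mem_insert_iff] at hy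
      rcases hy with rfl | hy
      · exact hxJ
      · exact hsub hy
    · intro q hq hsq hJq
      have hsq' : Ideal.span (s : Set A) ≤ q :=
        (Ideal.span_mono (by rw [Finset.coe_insert]; exact Set.subset_insert _ _)).trans hsq
      have hxq : x ∈ q := hsq (Ideal.subset_span (by simp))
      obtain ⟨p, hpmin, hpq⟩ := Ideal.exists_minimalPrimes_le hsq'
      haveI : p.IsPrime := hpmin.1.1
      have hJp : ¬ J ≤ p := fun h => hJq (h.trans hpq)
      have hpS : p ∈ S := by
        rw [hS, Finset.mem_filter, Set.Finite.mem_toFinset]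
        exact ⟨hpmin, hJp⟩
      have hxp : x ∉ p := hx p hpS
      have hlt : p < q := lt_of_le_of_ne hpq (fun h => hxp (h ▸ hxq))
      have h1 : (j : ℕ∞) ≤ p.height := hs p inferInstance hpmin.1.2 hJp
      have h2 : p.height + 1 ≤ q.height := Ideal.height_add_one_le_of_lt_of_isPrime hlt
      calc ((j + 1 : ℕ) : ℕ∞) = (j : ℕ∞) + 1 := by push_cast; rfl
        _ ≤ p.height + 1 := by gcongr
        _ ≤ q.height := h2

theorem exists_finset_radical_eq [IsLocalRing A] (J : Ideal A) (hJ : J ≠ ⊤) (n : ℕ)
    (hn : ringKrullDim A ≤ n) :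
    ∃ s : Finset A, s.card ≤ n ∧ (Ideal.span (s : Set A)).radical = J.radical := by
  obtain ⟨s, hcard, hsub, hs⟩ := exists_finset_height J n
  refine ⟨s, hcard, le_antisymm (Ideal.radical_mono (Ideal.span_le.mpr hsub)) ?_⟩
  rw [Ideal.radical_le_radical_iff, Ideal.radical_eq_sInf]
  refine le_sInf ?_
  rintro q ⟨hsq, hq⟩
  by_contra hJq
  have h1 : (n : ℕ∞) ≤ q.height := hs q hq hsq hJq
  have hqm : q ≤ maximalIdeal A := IsLocalRing.le_maximalIdeal hq.ne_top
  have hne : q ≠ maximalIdeal A := by
    rintro rfl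
    exact hJq (IsLocalRing.le_maximalIdeal hJ)
  have hlt : q < maximalIdeal A := lt_of_le_of_ne hqm hne
  have h2 : q.height + 1 ≤ (maximalIdeal A).height :=
    Ideal.height_add_one_le_of_lt_of_isPrime hlt
  have h3 : ((maximalIdeal A).height : WithBot ℕ∞) ≤ ringKrullDim A :=
    Ideal.height_le_ringKrullDim_of_ne_top (IsLocalRing.maximalIdeal.isMaximal A).ne_top
  have h4 : ((maximalIdeal A).height : WithBot ℕ∞) ≤ ((n : ℕ∞) : WithBot ℕ∞) := h3.trans hn
  have h5 : (maximalIdeal A).height ≤ (n : ℕ∞) := by exact_mod_cast h4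
  have h6 : (n : ℕ∞) + 1 ≤ (n : ℕ∞) := (add_le_add_left h1 1).trans (h2.trans h5)
  have h7 : (n + 1 : ℕ) ≤ n := by exact_mod_cast h6
  omega

end Ara

section Cd

theorem cdLE_mono {R : Type u} [CommRing R] (I : Ideal R) {d e : ℕ} (h : d ≤ e)
    (hd : CdLE R I d) : CdLE R I e :=
  fun M _ _ i hi => hd M i (lt_of_le_of_lt h hi)

theorem cdLE_of_radical_eq {R : Type u} [CommRing R] [IsNoetherianRing R] {I K : Ideal R}
    (h : I.radical = K.radical) (d : ℕ) (hd : CdLE R I d) : CdLE R K d := by
  intro M _ _ i hi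
  haveI := hd M i hi
  let e : (localCohomology I i).obj (ModuleCat.of R M) ≅
      (localCohomology K i).obj (ModuleCat.of R M) :=
    (localCohomology.isoOfSameRadical h i).app (ModuleCat.of R M)
  exact e.toLinearEquiv.symm.toEquiv.subsingleton

theorem cdLE_top {R : Type u} [CommRing R] (d : ℕ) : CdLE R (⊤ : Ideal R) d := by
  intro M _ _ i _
  refine Groth.Agent.H21.LC.subsingleton_of_smul_bijective ⊤ 1 Submodule.mem_top i
    (ModuleCat.of R M) ?_
  simp only [one_smul]
  exact Function.bijective_id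

theorem cdLE_of_isLocalRing (A : Type u) [CommRing A] [IsNoetherianRing A] [IsLocalRing A]
    (J : Ideal A) (d : ℕ) (hd : ringKrullDim A ≤ d) : CdLE A J d := by
  by_cases hJ : J = ⊤
  · subst hJ
    exact cdLE_top d
  · obtain ⟨s, hcard, hrad⟩ := exists_finset_radical_eq J hJ d hd
    exact cdLE_of_radical_eq hrad d (cdLE_mono _ hcard (Groth.Agent.S0326.result A s))

theorem cdLE_of_ringKrullDim_le (R : Type u) [CommRing R] [IsNoetherianRing R] (I : Ideal R)
    (d : ℕ) (hd : ringKrullDim R ≤ d) : CdLE R I d := by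
  rw [Groth.Agent.S0380.result R I d]
  intro p _
  refine cdLE_of_isLocalRing _ _ d ?_
  have h1 : ringKrullDim (Localization.AtPrime p) = p.height :=
    IsLocalization.AtPrime.ringKrullDim_eq_height p _
  rw [h1]
  exact (Ideal.height_le_ringKrullDim_of_ne_top (Ideal.IsPrime.ne_top inferInstance)).trans hd

end Cd

end Groth.Agent.H8.CdDim
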