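import Mathlib
import Groth.Prelude.Def_Wider
import Groth.Agent.Lib.helper8.CdDim
import Groth.Agent.Lib.helper21.LC23

/-!
# Grothendieck vanishing for finitely generated modules: `H^i_I(M) = 0` for `i > dim Supp M` (helper8).
-/

universe u

namespace Groth.Agent.H8.CdDim

open CategoryTheory LocCoh IsLocalRing Groth.Agent.H21.LC

variable {R : Type u} [CommRing R]

theorem subsingleton_H_of_subsingleton (I : Ideal R) (i : ℕ) (M : ModuleCat.{u} R)
    [Subsingleton M] : Subsingleton ((localCohomology I i).obj M) := by
  refine ⟨fun x y => ?_⟩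
  have key : ∀ z : (localCohomology I i).obj M, z = 0 := by
    intro z
    have h0 : (0 : R) • 𝟙 M = 𝟙 M := by
      ext m
      exact Subsingleton.elim _ _
    have h1 := map_smul_id I i M 0 z
    rw [h0, CategoryTheory.Functor.map_id, zero_smul] at h1
    exact h1
  rw [key x, key y]

variable [IsNoetherianRing R]

/-- `H^i_I(M) = 0` for `i > dim R/a` when `a` kills `M`. -/
theorem subsingleton_H_of_killed (I a : Ideal R) (M : Type u) [AddCommGroup M] [Module R M]
    (ha : ∀ r ∈ a, ∀ m : M, r • m = 0) (e i : ℕ) (he : ringKrullDim (R ⧸ a) ≤ e) (hi : e < i) :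
    Subsingleton (H I i M) := by
  have htors : Module.IsTorsionBySet R M (a : Set R) := by
    intro m r
    exact ha r.1 r.2 m
  letI : Module (R ⧸ a) M := htors.module
  let X' : ModuleCat.{u} (R ⧸ a) := ModuleCat.of (R ⧸ a) M
  obtain ⟨φ⟩ := nonempty_FrEquiv (R := R) (R' := R ⧸ a) I i X'
  have hcd := cdLE_of_ringKrullDim_le (R ⧸ a) (I.map (algebraMap R (R ⧸ a))) e he
  haveI h1 : Subsingleton ((localCohomology (I.map (algebraMap R (R ⧸ a))) i).obj X') :=
    hcd M i hi
  haveI h1' : Subsingleton ((Fr R (R ⧸ a)).obj
      ((localCohomology (I.map (algebraMap R (R ⧸ a))) i).obj X')) := h1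
  haveI h2 : Subsingleton ((localCohomology I i).obj ((Fr R (R ⧸ a)).obj X')) :=
    φ.symm.toEquiv.subsingleton
  let ε : ((Fr R (R ⧸ a)).obj X') ≃ₗ[R] M :=
    { toFun := fun m => m
      invFun := fun m => m
      map_add' := fun _ _ => rfl
      map_smul' := fun r m => by
        show (algebraMap R (R ⧸ a) r) • (show M from m) = r • (show M from m)
        exact Module.IsTorsionBySet.mk_smul htors r m
      left_inv := fun _ => rfl
      right_inv := fun _ => rfl }
  let ι : (Fr R (R ⧸ a)).obj X' ≅ ModuleCat.of R M := ε.toModuleIso
  exact (((localCohomology I i).mapIso ι).toLinearEquiv.symm).toEquiv.subsingleton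

/-- Grothendieck vanishing for finitely generated modules. -/
theorem subsingleton_H_of_supportDim_lt (I : Ideal R) (M : Type u) [AddCommGroup M] [Module R M]
    [Module.Finite R M] (i : ℕ) (h : Module.supportDim R M < i) : Subsingleton (H I i M) := by
  by_cases hM : Subsingleton M
  · exact subsingleton_H_of_subsingleton I i (ModuleCat.of R M)
  · rw [not_subsingleton_iff_nontrivial] at hM
    rw [Module.supportDim_eq_ringKrullDim_quotient_annihilator] at h
    have hne : ringKrullDim (R ⧸ Module.annihilator R M) ≠ ⊥ := by
      rw [← Module.supportDim_eq_ringKrullDim_quotient_annihilator]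
      exact Module.supportDim_ne_bot_of_nontrivial R M
    obtain ⟨j, rfl⟩ : ∃ j, i = j + 1 := by
      rcases Nat.eq_zero_or_pos i with rfl | hpos
      · exfalso
        have h' : ringKrullDim (R ⧸ Module.annihilator R M) < 0 := by exact_mod_cast h
        generalize ringKrullDim (R ⧸ Module.annihilator R M) = a at h' hne
        induction a with
        | bot => exact hne rfl
        | coe a => simp at h'
      · exact ⟨i - 1, by omega⟩
    refine subsingleton_H_of_killed I (Module.annihilator R M) M
      (fun r hr m => Module.mem_annihilator.mp hr m) j (j + 1) ?_ (by omega)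
    generalize ringKrullDim (R ⧸ Module.annihilator R M) = a at h hne
    induction a with
    | bot => exact bot_le
    | coe a =>
      have h' : a < ((j + 1 : ℕ) : ℕ∞) := by exact_mod_cast h
      have h2 : a ≤ (j : ℕ∞) := by
        induction a with
        | top => simp at h'
        | coe a =>
          have : a < j + 1 := by exact_mod_cast h'
          exact_mod_cast (by omega : a ≤ j)
      exact_mod_cast h2

end Groth.Agent.H8.CdDim
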