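import Mathlib
import Groth.Prelude.Def_Wider
import Groth.Agent.Lib.helper8.CdDimB

/-!
# Surjectivity of multiplication on top local cohomology (helper8)
-/

universe u

set_option linter.unusedSectionVars false

namespace Groth.Agent.H8.CdDim

open CategoryTheory LocCoh IsLocalRing Groth.Agent.H21.LC

variable {R : Type u} [CommRing R]

/-- right exactness of `H^d` gives surjectivity of `f` on `H^d_I(M)` when `H^d_I(M/fM) = 0`. -/
theorem smul_surjective_H (I : Ideal R) (M : Type u) [AddCommGroup M] [Module R M] (f : R) (d : ℕ)
    (hcd : ∀ N : ModuleCat.{u} R, Subsingleton ((localCohomology I (d + 1)).obj N))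
    (hQ : Subsingleton ((localCohomology I d).obj
      (ModuleCat.of R (M ⧸ LinearMap.range (f • (LinearMap.id : M →ₗ[R] M)))))) :
    Function.Surjective (fun x : H I d M => f • x) := by
  set e : M →ₗ[R] M := f • LinearMap.id with he
  have hS1 := kerSES_shortExact e
  have hS2 := rangeSES_shortExact e
  have s1 : Function.Surjective ((localCohomology I d).map (kerSES e).g).hom := by
    intro y
    haveI := hcd (kerSES e).X₁
    exact ((exact₃ I hS1 d) y).1 (Subsingleton.elim _ _)
  have s2 : Function.Surjective ((localCohomology I d).map (rangeSES e).f).hom := by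
    intro y
    haveI : Subsingleton ((localCohomology I d).obj (rangeSES e).X₃) := hQ
    exact ((exact₂ I hS2 d) y).1 (Subsingleton.elim _ _)
  have hcomp : ModuleCat.ofHom e = f • 𝟙 (ModuleCat.of R M) := by
    refine ModuleCat.hom_ext (LinearMap.ext fun x => ?_)
    rfl
  intro y
  obtain ⟨z, hz⟩ := s2 y
  obtain ⟨w, hw⟩ := s1 z
  refine ⟨w, ?_⟩
  show f • w = y
  rw [← map_smul_id I d (ModuleCat.of R M) f w, ← hcomp, ofHom_eq_comp e,
    CategoryTheory.Functor.map_comp]
  show ((localCohomology I d).map (rangeSES e).f).hom
    (((localCohomology I d).map (kerSES e).g).hom w) = y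
  rw [hw, hz]

/-- a module killed by an element avoiding all top-dimensional minimal primes has smaller
dimension. -/
theorem supportDim_lt_of_smul_eq_zero (d : ℕ) (hd : ringKrullDim R = d) (f : R)
    (hf : ∀ p ∈ minimalPrimes R, ringKrullDim (R ⧸ p) = d → f ∉ p)
    (N : Type u) [AddCommGroup N] [Module R N] (hN : ∀ y : N, f • y = 0) :
    Module.supportDim R N < d := by
  by_contra hcon
  rw [not_lt] at hcon
  obtain ⟨l, hl⟩ := Order.le_krullDim_iff.mp hcon
  let l' : LTSeries (PrimeSpectrum R) := l.map Subtype.val (fun _ _ h => h)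
  have hlen : l'.length = d := by rw [LTSeries.map_length, hl]
  have hfq : f ∈ l'.head.asIdeal := by
    have hmem : l'.head ∈ Module.support R N := by
      have : l'.head = (l.head).1 := by
        simp [l', LTSeries.head_map]
      rw [this]
      exact l.head.2
    exact Module.annihilator_le_of_mem_support hmem (Module.mem_annihilator.mpr hN)
  have hdimR : Order.krullDim (PrimeSpectrum R) = d := hd
  -- the head is a minimal prime
  have hmin : l'.head.asIdeal ∈ minimalPrimes R := by
    obtain ⟨p, hpmin, hp⟩ := Ideal.exists_minimalPrimes_le (I := (⊥ : Ideal R))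
      (J := l'.head.asIdeal) bot_le
    by_cases hpe : p = l'.head.asIdeal
    · rw [← hpe]; exact hpmin
    · exfalso
      haveI : p.IsPrime := hpmin.1.1
      have hlt : (⟨p, inferInstance⟩ : PrimeSpectrum R) < l'.head := by
        refine lt_of_le_of_ne hp ?_
        intro h
        exact hpe (congrArg PrimeSpectrum.asIdeal h)
      have h1 := Order.LTSeries.length_le_krullDim (l'.cons ⟨p, inferInstance⟩ hlt)
      rw [hdimR, RelSeries.cons_length, hlen] at h1
      have h2 : d + 1 ≤ d := by exact_mod_cast h1
      omega
  -- its quotient has dimension `d`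
  have hdimq : ringKrullDim (R ⧸ l'.head.asIdeal) = d := by
    refine le_antisymm ((ringKrullDim_quotient_le _).trans hd.le) ?_
    have hset : PrimeSpectrum.zeroLocus (l'.head.asIdeal : Set R) = Set.Ici l'.head := by
      ext q
      exact Iff.rfl
    rw [ringKrullDim_quotient, hset, ← Order.coheight_eq_krullDim_Ici]
    have h1 : (l'.length : ℕ∞) ≤ Order.coheight l'.head := Order.length_le_coheight_head
    rw [hlen] at h1
    exact_mod_cast h1
  exact hf _ hmin hdimq hfq

section Main

variable [IsNoetherianRing R]

/-- multiplication by `f` is surjective on `H^d_I(M)` (`d = dim R`) when `f` avoids the top-dimensional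
minimal primes. -/
theorem smul_surjective_H_top (I : Ideal R) (d : ℕ) (hd : ringKrullDim R = d) (f : R)
    (hf : ∀ p ∈ minimalPrimes R, ringKrullDim (R ⧸ p) = d → f ∉ p)
    (M : Type u) [AddCommGroup M] [Module R M] [Module.Finite R M] :
    Function.Surjective (fun x : H I d M => f • x) := by
  refine smul_surjective_H I M f d ?_ ?_
  · intro N
    exact cdLE_of_ringKrullDim_le R I d hd.le N (d + 1) (by omega)
  · refine subsingleton_H_of_supportDim_lt I _ d ?_
    refine supportDim_lt_of_smul_eq_zero d hd f hf _ ?_
    intro y
    obtain ⟨x, rfl⟩ := Submodule.Quotient.mk_surjective _ y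
    rw [← Submodule.Quotient.mk_smul, Submodule.Quotient.mk_eq_zero]
    exact ⟨x, rfl⟩

end Main

end Groth.Agent.H8.CdDim
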