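import Mathlib
import Groth.Prelude.Def_GrLC
import Groth.Prelude.Def_GrSeg

/-!
# Graded `k`-duals, part A (helper8): basic consequences of `GrSeg.IsGDual`.
-/

universe u

set_option linter.unusedSectionVars false

namespace Groth.Agent.H8.GDual

open DirectSum GrSeg GrLC

section Basic

variable {ι : Type} [AddCommGroup ι] [DecidableEq ι]
variable {k : Type u} [Field k] {R : Type u} [CommRing R] [Algebra k R]
  {M : Type u} [AddCommGroup M] [Module R M] [Module k M] [IsScalarTower k R M]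
  {τ : Type u} [SetLike τ M] [AddSubgroupClass τ M]
  {D : Type u} [AddCommGroup D] [Module R D] [Module k D] [IsScalarTower k R D]
  {τ' : Type u} [SetLike τ' D] [AddSubgroupClass τ' D]
  (ℳ : ι → τ) [DirectSum.Decomposition ℳ] (𝒟 : ι → τ') [DirectSum.Decomposition 𝒟]
  (β : D →ₗ[k] M →ₗ[k] k)

/-- two additive maps out of a graded module agree if they agree on homogeneous elements. -/
theorem ext_homogeneous {N : Type*} [AddCommMonoid N] (φ ψ : M →+ N)
    (h : ∀ n, ∀ x ∈ ℳ n, φ x = ψ x) : φ = ψ := by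
  ext x
  induction x using DirectSum.Decomposition.inductionOn ℳ with
  | zero => simp
  | homogeneous x => exact h _ x x.2
  | add a b ha hb => simp [ha, hb]

theorem ext_homogeneous_lin {φ ψ : M →ₗ[k] k}
    (h : ∀ n, ∀ x ∈ ℳ n, φ x = ψ x) : φ = ψ := by
  have := ext_homogeneous ℳ φ.toAddMonoidHom ψ.toAddMonoidHom h
  ext x
  exact DFunLike.congr_fun this x

variable {ℳ 𝒟 β}

theorem apply_eq_apply_decompose (hD : IsGDual R ℳ 𝒟 β) (d : D) (n : ι) (x : M)
    (hx : x ∈ ℳ (-n)) : β d x = β (decompose 𝒟 d n) x := by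
  classical
  conv_lhs => rw [← DirectSum.sum_support_decompose 𝒟 d]
  rw [map_sum, LinearMap.sum_apply]
  rw [Finset.sum_eq_single n]
  · intro j _ hjn
    exact hD.vanish j _ (SetLike.coe_mem _) (-n) (fun h => hjn (neg_injective h).symm) x hx
  · intro hn
    rw [DFinsupp.notMem_support_iff] at hn
    rw [hn]
    simp

theorem beta_injective (hD : IsGDual R ℳ 𝒟 β) : Function.Injective β := by
  rw [← LinearMap.ker_eq_bot, LinearMap.ker_eq_bot']
  intro d hd
  have h : ∀ n, (decompose 𝒟 d n : D) = 0 := by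
    intro n
    apply hD.eq_zero n _ (SetLike.coe_mem _)
    intro x hx
    rw [← apply_eq_apply_decompose hD d n x hx, hd]
    rfl
  have h2 : decompose 𝒟 d = 0 := by
    ext n
    rw [h n]
    rfl
  exact (decompose 𝒟).injective (h2.trans (decompose_zero 𝒟).symm)

theorem exists_eq' (hD : IsGDual R ℳ 𝒟 β) (m : ι) (g : M →ₗ[k] k) :
    ∃ d : D, d ∈ 𝒟 (-m) ∧ ∀ x : M, x ∈ ℳ m → β d x = g x := by
  obtain ⟨d, hd, h⟩ := hD.exists_eq (-m) g
  refine ⟨d, hd, fun x hx => h x ?_⟩
  rwa [neg_neg]

theorem vanish' (hD : IsGDual R ℳ 𝒟 β) {n m : ι} {d : D} (hd : d ∈ 𝒟 n) {x : M} (hx : x ∈ ℳ m)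
    (h : n + m ≠ 0) : β d x = 0 :=
  hD.vanish n d hd m (fun h' => h (by rw [h']; simp)) x hx

/-- every finitely supported functional is represented. -/
theorem exists_rep (hD : IsGDual R ℳ 𝒟 β) (φ : M →ₗ[k] k) (s : Finset ι)
    (hs : ∀ m, m ∉ s → ∀ x : M, x ∈ ℳ m → φ x = 0) : ∃ d : D, β d = φ := by
  classical
  choose c hc hc' using fun m => exists_eq' hD m φ
  refine ⟨∑ m ∈ s, c m, ?_⟩
  apply ext_homogeneous_lin ℳ
  intro n x hx
  rw [map_sum, LinearMap.sum_apply]
  by_cases hn : n ∈ s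
  · rw [Finset.sum_eq_single n]
    · exact hc' n x hx
    · intro j _ hjn
      exact vanish' hD (hc j) hx (fun h => hjn (by
        have : n = j := by
          have h2 : j = n := by
            have := neg_add_eq_zero.mp h
            exact this
          exact h2.symm
        exact this.symm))
    · intro h; exact absurd hn h
  · rw [hs n hn x hx]
    apply Finset.sum_eq_zero
    intro j hj
    exact vanish' hD (hc j) hx (fun h => hn (by
      have h2 : j = n := neg_add_eq_zero.mp h
      rwa [← h2]))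

/-- an element whose functional vanishes on all pieces but `ℳ (-n)` lies in `𝒟 n`. -/
theorem mem_piece_of_vanish (hD : IsGDual R ℳ 𝒟 β) (d : D) (n : ι)
    (h : ∀ m, m ≠ -n → ∀ x : M, x ∈ ℳ m → β d x = 0) : d ∈ 𝒟 n := by
  classical
  have h0 : ∀ j, j ≠ n → (decompose 𝒟 d j : D) = 0 := by
    intro j hj
    apply hD.eq_zero j _ (SetLike.coe_mem _)
    intro x hx
    rw [← apply_eq_apply_decompose hD d j x hx]
    exact h (-j) (fun h' => hj (neg_injective h')) x hx
  have h1 : d = (decompose 𝒟 d n : D) := by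
    conv_lhs => rw [← DirectSum.sum_support_decompose 𝒟 d]
    rw [Finset.sum_eq_single n]
    · intro j _ hj
      exact h0 j hj
    · intro hn
      rw [DFinsupp.notMem_support_iff] at hn
      rw [hn]; rfl
  rw [h1]
  exact SetLike.coe_mem _

/-- a nonzero element of `𝒟 n` is nonzero on some element of `ℳ (-n)`. -/
theorem exists_apply_ne_zero (hD : IsGDual R ℳ 𝒟 β) {n : ι} {d : D} (hd : d ∈ 𝒟 n) (h0 : d ≠ 0) :
    ∃ x : M, x ∈ ℳ (-n) ∧ β d x ≠ 0 := by
  by_contra hcon
  push Not at hcon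
  exact h0 (hD.eq_zero n d hd hcon)

end Basic

end Groth.Agent.H8.GDual
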