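import Mathlib
import Groth.Prelude.Def_GrLC
import Groth.Prelude.Def_GrSeg
import Groth.Agent.Lib.helper8.GDualA

/-!
# Graded `k`-duals, part B (helper8): graded modules over a graded `k`-algebra; maps into a graded
dual from functionals; the graded dual of the ring is *injective.
-/

universe u

set_option linter.unusedSectionVars false

namespace Groth.Agent.H8.GDual

open DirectSum GrSeg GrLC

section KStr

variable {ι : Type} [AddCommGroup ι] [DecidableEq ι]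
variable {k : Type u} [Field k] {R : Type u} [CommRing R] [Algebra k R]
  (𝒜 : ι → Submodule k R) [GradedAlgebra 𝒜]
  {B : Type u} [AddCommGroup B] [Module R B] [Module k B] [IsScalarTower k R B]
  (ℬ : ι → AddSubgroup B) [DirectSum.Decomposition ℬ] [SetLike.GradedSMul 𝒜 ℬ]

include 𝒜 in
theorem algebraMap_mem_zero (c : k) : algebraMap k R c ∈ 𝒜 0 := by
  rw [Algebra.algebraMap_eq_smul_one]
  exact Submodule.smul_mem _ c SetLike.GradedOne.one_mem

theorem smul_mem_add {i j : ι} {r : R} (hr : r ∈ 𝒜 i) {b : B} (hb : b ∈ ℬ j) :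
    r • b ∈ ℬ (i + j) := by
  have := SetLike.GradedSMul.smul_mem (A := 𝒜) (B := ℬ) hr hb
  rwa [vadd_eq_add] at this

include 𝒜 in
theorem ksmul_mem (c : k) {n : ι} {b : B} (hb : b ∈ ℬ n) : c • b ∈ ℬ n := by
  have h := smul_mem_add 𝒜 ℬ (algebraMap_mem_zero 𝒜 c) hb
  rwa [zero_add, algebraMap_smul] at h

include 𝒜 in
theorem decompose_ksmul (c : k) (b : B) (n : ι) :
    (decompose ℬ (c • b) n : B) = c • (decompose ℬ b n : B) := by
  induction b using DirectSum.Decomposition.inductionOn ℬ with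
  | zero => simp
  | @homogeneous i x =>
    by_cases h : i = n
    · subst h
      rw [decompose_of_mem_same ℬ (ksmul_mem 𝒜 ℬ c x.2), decompose_of_mem_same ℬ x.2]
    · rw [decompose_of_mem_ne ℬ (ksmul_mem 𝒜 ℬ c x.2) h, decompose_of_mem_ne ℬ x.2 h, smul_zero]
  | add a b ha hb =>
    rw [smul_add, decompose_add, decompose_add]
    simp only [DirectSum.add_apply, AddSubgroup.coe_add, ha, hb, smul_add]

/-- the projection onto the degree `n` piece, as a `k`-linear map. -/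
noncomputable def proj (n : ι) : B →ₗ[k] B where
  toFun b := (decompose ℬ b n : B)
  map_add' a b := by simp [decompose_add]
  map_smul' c b := by
    simp only [RingHom.id_apply]
    exact decompose_ksmul 𝒜 ℬ c b n

theorem proj_apply (n : ι) (b : B) : proj 𝒜 ℬ n b = (decompose ℬ b n : B) := rfl

theorem proj_of_mem {n : ι} {b : B} (hb : b ∈ ℬ n) : proj 𝒜 ℬ n b = b :=
  decompose_of_mem_same ℬ hb

theorem proj_of_mem_ne {n i : ι} {b : B} (hb : b ∈ ℬ i) (h : i ≠ n) : proj 𝒜 ℬ n b = 0 :=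
  decompose_of_mem_ne ℬ hb h

end KStr

section HomOfFunctional

variable {k : Type u} [Field k] {R : Type u} [CommRing R] [Algebra k R]
  (𝒜 : ℤ → Submodule k R) [GradedAlgebra 𝒜]
  {B : Type u} [AddCommGroup B] [Module R B] [Module k B] [IsScalarTower k R B]
  (ℬ : ℤ → AddSubgroup B) [DirectSum.Decomposition ℬ] [SetLike.GradedSMul 𝒜 ℬ]
  {D : Type u} [AddCommGroup D] [Module R D] [Module k D] [IsScalarTower k R D]
  {𝒟 : ℤ → AddSubgroup D} [DirectSum.Decomposition 𝒟] [SetLike.GradedSMul 𝒜 𝒟]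
  {β : D →ₗ[k] R →ₗ[k] k}

/-- the functional `r ↦ Λ (r • b)` on `R`. -/
noncomputable def pullFun (Λ : B →ₗ[k] k) (b : B) : R →ₗ[k] k where
  toFun r := Λ (r • b)
  map_add' r s := by rw [add_smul, map_add]
  map_smul' c r := by
    simp only [RingHom.id_apply]
    rw [smul_assoc, map_smul]

theorem pullFun_apply (Λ : B →ₗ[k] k) (b : B) (r : R) : pullFun (R := R) Λ b r = Λ (r • b) := rfl

theorem pullFun_add (Λ : B →ₗ[k] k) (b b' : B) :
    pullFun (R := R) Λ (b + b') = pullFun Λ b + pullFun Λ b' := by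
  ext r
  simp [pullFun_apply, smul_add]

theorem pullFun_zero (Λ : B →ₗ[k] k) : pullFun (R := R) Λ (0 : B) = 0 := by
  ext r
  simp [pullFun_apply]

theorem exists_rep_pullFun (hD : IsGDual R 𝒜 𝒟 β) (Λ : B →ₗ[k] k) (d₀ : ℤ)
    (hΛ : ∀ n, n ≠ d₀ → ∀ b ∈ ℬ n, Λ b = 0) (b : B) : ∃ d : D, β d = pullFun Λ b := by
  induction b using DirectSum.Decomposition.inductionOn ℬ with
  | zero => exact ⟨0, by rw [map_zero, pullFun_zero]⟩
  | @homogeneous i x =>
    apply exists_rep hD _ {d₀ - i}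
    intro m hm r hr
    rw [pullFun_apply]
    apply hΛ (m + i) _ _ (smul_mem_add 𝒜 ℬ hr x.2)
    intro h
    apply hm
    rw [Finset.mem_singleton]
    omega
  | add a b ha hb =>
    obtain ⟨d, hd⟩ := ha
    obtain ⟨d', hd'⟩ := hb
    exact ⟨d + d', by rw [map_add, hd, hd', pullFun_add]⟩

/-- the graded `R`-linear map `B → D = R^*` attached to a functional `Λ` on `B` supported in degree `d₀`:
`β (h b) r = Λ (r • b)`. -/
noncomputable def homOfFun (hD : IsGDual R 𝒜 𝒟 β) (Λ : B →ₗ[k] k) (d₀ : ℤ)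
    (hΛ : ∀ n, n ≠ d₀ → ∀ b ∈ ℬ n, Λ b = 0) : B →ₗ[R] D where
  toFun b := Classical.choose (exists_rep_pullFun 𝒜 ℬ hD Λ d₀ hΛ b)
  map_add' a b := by
    apply beta_injective hD
    rw [map_add, Classical.choose_spec (exists_rep_pullFun 𝒜 ℬ hD Λ d₀ hΛ (a + b)),
      Classical.choose_spec (exists_rep_pullFun 𝒜 ℬ hD Λ d₀ hΛ a),
      Classical.choose_spec (exists_rep_pullFun 𝒜 ℬ hD Λ d₀ hΛ b), pullFun_add]
  map_smul' s b := by
    apply beta_injective hD
    simp only [RingHom.id_apply]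
    ext r
    rw [hD.map_smul, Classical.choose_spec (exists_rep_pullFun 𝒜 ℬ hD Λ d₀ hΛ (s • b)),
      Classical.choose_spec (exists_rep_pullFun 𝒜 ℬ hD Λ d₀ hΛ b), pullFun_apply, pullFun_apply,
      smul_eq_mul, mul_comm, mul_smul]

theorem beta_homOfFun (hD : IsGDual R 𝒜 𝒟 β) (Λ : B →ₗ[k] k) (d₀ : ℤ)
    (hΛ : ∀ n, n ≠ d₀ → ∀ b ∈ ℬ n, Λ b = 0) (b : B) (r : R) :
    β (homOfFun 𝒜 ℬ hD Λ d₀ hΛ b) r = Λ (r • b) := by
  have := Classical.choose_spec (exists_rep_pullFun 𝒜 ℬ hD Λ d₀ hΛ b)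
  exact DFunLike.congr_fun this r

theorem homOfFun_mem (hD : IsGDual R 𝒜 𝒟 β) (Λ : B →ₗ[k] k) (d₀ : ℤ)
    (hΛ : ∀ n, n ≠ d₀ → ∀ b ∈ ℬ n, Λ b = 0) {n : ℤ} {b : B} (hb : b ∈ ℬ n) :
    homOfFun 𝒜 ℬ hD Λ d₀ hΛ b ∈ 𝒟 (n - d₀) := by
  apply mem_piece_of_vanish hD
  intro m hm x hx
  rw [beta_homOfFun]
  apply hΛ (m + n) _ _ (smul_mem_add 𝒜 ℬ hx hb)
  intro h
  apply hm
  omega

end HomOfFunctional

end Groth.Agent.H8.GDual
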