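import Mathlib
import Groth.Prelude.Def_GrLC
import Groth.Prelude.Def_GrSeg
import Groth.Agent.Lib.helper8.GDualB

/-!
# Graded `k`-duals, part C (helper8): the graded dual `R^*` of the ring is the *injective envelope
of `R ⧸ R_+`.
-/

universe u

set_option linter.unusedSectionVars false

namespace Groth.Agent.H8.GDual

open DirectSum GrSeg GrLC

section StarInj

variable {k : Type u} [Field k] {R : Type u} [CommRing R] [Algebra k R]
  (𝒜 : ℤ → Submodule k R) [GradedAlgebra 𝒜]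
  {D : Type u} [AddCommGroup D] [Module R D] [Module k D] [IsScalarTower k R D]
  {𝒟 : ℤ → AddSubgroup D} [DirectSum.Decomposition 𝒟] [SetLike.GradedSMul 𝒜 𝒟]
  {β : D →ₗ[k] R →ₗ[k] k}

theorem isStarInj_gdual_self (hD : IsGDual R 𝒜 𝒟 β) : IsStarInj 𝒜 𝒟 := by
  intro A B f hf hinj g hg
  letI : Module k A.carrier := Module.compHom _ (algebraMap k R)
  letI : Module k B.carrier := Module.compHom _ (algebraMap k R)
  haveI : IsScalarTower k R A.carrier := IsScalarTower.of_algebraMap_smul (fun c x => rfl)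
  haveI : IsScalarTower k R B.carrier := IsScalarTower.of_algebraMap_smul (fun c x => rfl)
  let Λg : A.carrier →ₗ[k] k := (β.flip 1).comp (g.restrictScalars k)
  let fk : A.carrier →ₗ[k] B.carrier := f.restrictScalars k
  obtain ⟨l, hl⟩ := LinearMap.exists_leftInverse_of_injective fk
    (LinearMap.ker_eq_bot.mpr (by exact hinj))
  let Λ : B.carrier →ₗ[k] k := (Λg.comp l).comp (proj 𝒜 B.gr 0)
  have hΛ : ∀ n, n ≠ 0 → ∀ b ∈ B.gr n, Λ b = 0 := by
    intro n hn b hb
    show Λg (l (proj 𝒜 B.gr 0 b)) = 0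
    rw [proj_of_mem_ne 𝒜 B.gr hb hn, map_zero, map_zero]
  have key : ∀ a', Λ (f a') = Λg a' := by
    have h1 : (Λ.comp fk).toAddMonoidHom = Λg.toAddMonoidHom := by
      apply ext_homogeneous A.gr
      intro n x hx
      show Λg (l (proj 𝒜 B.gr 0 (f x))) = Λg x
      by_cases hn : n = 0
      · subst hn
        rw [proj_of_mem 𝒜 B.gr (hf 0 x hx)]
        have := DFunLike.congr_fun hl x
        simp only [LinearMap.comp_apply, LinearMap.id_apply] at this
        show Λg (l (fk x)) = Λg x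
        rw [this]
      · rw [proj_of_mem_ne 𝒜 B.gr (hf n x hx) hn, map_zero, map_zero]
        show 0 = β (g x) 1
        rw [vanish' hD (hg n x hx) (SetLike.GradedOne.one_mem (A := 𝒜))]
        simpa using hn
    intro a'
    exact DFunLike.congr_fun h1 a'
  refine ⟨homOfFun 𝒜 B.gr hD Λ 0 hΛ, ?_, ?_⟩
  · intro n b hb
    have := homOfFun_mem 𝒜 B.gr hD Λ 0 hΛ hb
    simpa using this
  · ext a
    apply beta_injective hD
    ext r
    rw [LinearMap.comp_apply, beta_homOfFun, ← map_smul, key]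
    show β (g (r • a)) 1 = β (g a) r
    rw [map_smul, hD.map_smul, smul_eq_mul, mul_one]

end StarInj

section Irrelevant

variable {k : Type u} [Field k] {R : Type u} [CommRing R] [Algebra k R]
  (𝒜 : ℤ → Submodule k R) [GradedAlgebra 𝒜]

/-- in a non-negatively graded ring, elements of the ideal generated by the positive pieces have
vanishing components in degrees `≤ 0`. -/
theorem decompose_eq_zero_of_mem_irrelevant (hposR : ∀ n : ℤ, n < 0 → 𝒜 n = ⊥) {x : R}
    (hx : x ∈ Ideal.span (⋃ n ∈ Set.Ioi (0 : ℤ), (𝒜 n : Set R))) (j : ℤ) (hj : j ≤ 0) :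
    (decompose 𝒜 x j : R) = 0 := by
  induction hx using Submodule.span_induction generalizing j with
  | mem y hy =>
    simp only [Set.mem_iUnion, Set.mem_Ioi, SetLike.mem_coe] at hy
    obtain ⟨n, hn, hy⟩ := hy
    exact decompose_of_mem_ne 𝒜 hy (by omega)
  | zero => simp
  | add a b _ _ ha hb =>
    rw [decompose_add]
    simp only [DirectSum.add_apply, Submodule.coe_add, ha j hj, hb j hj, add_zero]
  | smul r y _ hy =>
    -- expand r along its components
    classical
    rw [smul_eq_mul]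
    conv_lhs => rw [← DirectSum.sum_support_decompose 𝒜 r]
    rw [Finset.sum_mul, decompose_sum]
    rw [DFinsupp.finset_sum_apply, AddSubmonoidClass.coe_finset_sum]
    apply Finset.sum_eq_zero
    intro i _
    have h1 : j = i + (j - i) := by ring
    rw [h1, coe_decompose_mul_add_of_left_mem 𝒜 (SetLike.coe_mem _)]
    by_cases hi : i < 0
    · have h3 : ∀ z ∈ 𝒜 i, z = 0 := by
        rw [hposR i hi]
        intro z hz
        exact (Submodule.mem_bot k).mp hz
      rw [h3 _ (SetLike.coe_mem _), zero_mul]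
    · rw [hy (j - i) (by omega), mul_zero]

theorem one_notMem_irrelevant [Nontrivial R] (hposR : ∀ n : ℤ, n < 0 → 𝒜 n = ⊥) :
    (1 : R) ∉ Ideal.span (⋃ n ∈ Set.Ioi (0 : ℤ), (𝒜 n : Set R)) := by
  intro h
  have := decompose_eq_zero_of_mem_irrelevant 𝒜 hposR h 0 le_rfl
  rw [decompose_of_mem_same 𝒜 SetLike.GradedOne.one_mem] at this
  exact one_ne_zero this

end Irrelevant

section StarEss

variable {k : Type u} [Field k] {R : Type u} [CommRing R] [Algebra k R]
  (𝒜 : ℤ → Submodule k R) [GradedAlgebra 𝒜]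
  {D : Type u} [AddCommGroup D] [Module R D] [Module k D] [IsScalarTower k R D]
  {𝒟 : ℤ → AddSubgroup D} [DirectSum.Decomposition 𝒟] [SetLike.GradedSMul 𝒜 𝒟]
  {β : D →ₗ[k] R →ₗ[k] k}

/-- an element of `𝒟 0` is determined by its value at `1`. -/
theorem eq_zero_of_apply_one (hD : IsGDual R 𝒜 𝒟 β) (h0R : 𝒜 0 = Submodule.span k {(1 : R)})
    {d : D} (hd : d ∈ 𝒟 0) (h1 : β d 1 = 0) : d = 0 := by
  apply hD.eq_zero 0 d hd
  intro x hx
  rw [neg_zero, h0R, Submodule.mem_span_singleton] at hx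
  obtain ⟨c, rfl⟩ := hx
  rw [map_smul, h1, smul_zero]

theorem isStarEss_gdual_self (hD : IsGDual R 𝒜 𝒟 β) (h0R : 𝒜 0 = Submodule.span k {(1 : R)})
    (mR : HomogeneousIdeal 𝒜) (e : (R ⧸ mR.toIdeal) →ₗ[R] D) (he : Function.Injective e)
    (hegr : IsGrHom (quotGr 𝒜 mR) 𝒟 e) (hne : (1 : R) ∉ mR.toIdeal) :
    IsStarEss (quotGr 𝒜 mR) 𝒟 e := by
  refine ⟨he, hegr, ?_⟩
  intro P hP hPne
  -- the element e(1)
  set e₁ : D := e (Ideal.Quotient.mk mR.toIdeal 1) with he₁
  have he₁mem : e₁ ∈ 𝒟 0 := by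
    apply hegr 0
    exact ⟨1, SetLike.GradedOne.one_mem (A := 𝒜), rfl⟩
  have he₁ne : e₁ ≠ 0 := by
    intro h
    have := he (h.trans (map_zero e).symm)
    rw [Ideal.Quotient.eq_zero_iff_mem] at this
    exact hne this
  have hb1 : β e₁ 1 ≠ 0 := fun h => he₁ne (eq_zero_of_apply_one 𝒜 hD h0R he₁mem h)
  -- a nonzero homogeneous element of P
  obtain ⟨d, hdP, hd0⟩ := (Submodule.ne_bot_iff P).mp hPne
  have : ∃ n, (decompose 𝒟 d n : D) ≠ 0 := by
    by_contra hcon
    push Not at hcon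
    apply hd0
    have h2 : decompose 𝒟 d = 0 := by
      ext n
      rw [hcon n]; rfl
    exact (decompose 𝒟).injective (h2.trans (decompose_zero 𝒟).symm)
  obtain ⟨n, hn⟩ := this
  have hdn : (decompose 𝒟 d n : D) ∈ P := hP n hdP
  obtain ⟨x, hx, hxne⟩ := exists_apply_ne_zero hD (SetLike.coe_mem (decompose 𝒟 d n)) hn
  obtain ⟨y, hy⟩ : ∃ y : D, y = x • (decompose 𝒟 d n : D) := ⟨_, rfl⟩
  have hyP : y ∈ P := hy ▸ P.smul_mem x hdn
  have hy0 : y ∈ 𝒟 0 := by
    have := smul_mem_add 𝒜 𝒟 hx (SetLike.coe_mem (decompose 𝒟 d n))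
    rwa [neg_add_cancel, ← hy] at this
  have hy1 : β y 1 = β (decompose 𝒟 d n : D) x := by
    rw [hy, hD.map_smul, smul_eq_mul, mul_one]
  have hyne : y ≠ 0 := by
    intro h
    rw [h, map_zero] at hy1
    exact hxne hy1.symm
  obtain ⟨c, hc⟩ : ∃ c : k, c = β y 1 / β e₁ 1 := ⟨_, rfl⟩
  have hyc : y = c • e₁ := by
    rw [← sub_eq_zero]
    apply eq_zero_of_apply_one 𝒜 hD h0R
    · exact sub_mem hy0 (ksmul_mem 𝒜 𝒟 c he₁mem)
    · rw [map_sub, LinearMap.sub_apply, LinearMap.map_smul, LinearMap.smul_apply, smul_eq_mul, hc,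
        div_mul_cancel₀ _ hb1, sub_self]
  intro hbot
  apply hyne
  have hmem : y ∈ P ⊓ LinearMap.range e := by
    refine ⟨hyP, ?_⟩
    refine ⟨(algebraMap k R c) • (Ideal.Quotient.mk mR.toIdeal 1), ?_⟩
    rw [map_smul, algebraMap_smul, hyc]
  rw [hbot] at hmem
  exact (Submodule.mem_bot R).mp hmem

end StarEss

end Groth.Agent.H8.GDual
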