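import Mathlib
import Groth.Prelude.Def_GrLC
import Groth.Prelude.Def_GrSeg
import Groth.Agent.Lib.helper8.GDualC

/-!
# Graded `k`-duals, part D (helper8): pieces as `k`-subspaces, finite-dimensionality of the pieces
of finitely generated graded modules, reflexivity of the graded dual.
-/

universe u

set_option linter.unusedSectionVars false

namespace Groth.Agent.H8.GDual

open DirectSum GrSeg GrLC

section Pieces

variable {k : Type u} [Field k] {R : Type u} [CommRing R] [Algebra k R]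
  (𝒜 : ℤ → Submodule k R) [GradedAlgebra 𝒜]
  {B : Type u} [AddCommGroup B] [Module R B] [Module k B] [IsScalarTower k R B]
  (ℬ : ℤ → AddSubgroup B) [DirectSum.Decomposition ℬ] [SetLike.GradedSMul 𝒜 ℬ]

/-- the degree `n` piece as a `k`-subspace. -/
def pieceSub (n : ℤ) : Submodule k B where
  carrier := ℬ n
  add_mem' := add_mem
  zero_mem' := zero_mem _
  smul_mem' c _ hx := ksmul_mem 𝒜 ℬ c hx

theorem mem_pieceSub {n : ℤ} {x : B} : x ∈ pieceSub 𝒜 ℬ n ↔ x ∈ ℬ n := Iff.rfl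

theorem coe_decompose_smul_of_right_mem {z : B} {j : ℤ} (hz : z ∈ ℬ j) (r : R) (i : ℤ) :
    (decompose ℬ (r • z) (i + j) : B) = (decompose 𝒜 r i : R) • z := by
  induction r using DirectSum.Decomposition.inductionOn 𝒜 with
  | zero => simp
  | @homogeneous i' a =>
    have hm : (a : R) • z ∈ ℬ (i' + j) := smul_mem_add 𝒜 ℬ a.2 hz
    by_cases h : i' = i
    · subst h
      rw [decompose_of_mem_same ℬ hm, decompose_of_mem_same 𝒜 a.2]
    · rw [decompose_of_mem_ne ℬ hm (fun e => h (add_right_cancel e)),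
        decompose_of_mem_ne 𝒜 a.2 h, zero_smul]
  | add a b ha hb =>
    rw [add_smul, decompose_add, decompose_add, DirectSum.add_apply,
      DirectSum.add_apply, AddSubgroup.coe_add, Submodule.coe_add, ha, hb, add_smul]

theorem coe_decompose_smul_of_right_mem' {z : B} {j : ℤ} (hz : z ∈ ℬ j) (r : R) (n : ℤ) :
    (decompose ℬ (r • z) n : B) = (decompose 𝒜 r (n - j) : R) • z := by
  have := coe_decompose_smul_of_right_mem 𝒜 ℬ hz r (n - j)
  rwa [sub_add_cancel] at this

/-- elements of non-positive degree pieces are scalars. -/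
theorem mem_span_one_of_nonpos (hposR : ∀ n : ℤ, n < 0 → 𝒜 n = ⊥)
    (h0R : 𝒜 0 = Submodule.span k {(1 : R)}) {i : ℤ} (hi : i ≤ 0) {a : R} (ha : a ∈ 𝒜 i) :
    ∃ c : k, a = c • (1 : R) := by
  rcases lt_or_eq_of_le hi with h | h
  · have h3 : ∀ z ∈ 𝒜 i, z = 0 := by
      rw [hposR i h]
      intro z hz
      exact (Submodule.mem_bot k).mp hz
    exact ⟨0, by rw [h3 a ha, zero_smul]⟩
  · subst h
    rw [h0R, Submodule.mem_span_singleton] at ha
    obtain ⟨c, hc⟩ := ha
    exact ⟨c, hc.symm⟩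

include 𝒜 in
theorem finite_piece_ring (hposR : ∀ n : ℤ, n < 0 → 𝒜 n = ⊥)
    (h0R : 𝒜 0 = Submodule.span k {(1 : R)}) [IsNoetherianRing R] (n : ℤ) :
    Module.Finite k (𝒜 n) := by
  classical
  let S : Set R := ⋃ j ∈ Set.Ici n, (𝒜 j : Set R)
  have hfg : (Ideal.span S).FG := IsNoetherian.noetherian _
  obtain ⟨T, hTS, hT⟩ := (Submodule.fg_span_iff_fg_span_finset_subset S).mp hfg
  have hdeg : ∀ t ∈ T, ∃ j, n ≤ j ∧ t ∈ 𝒜 j := by
    intro t ht
    have := hTS ht
    simp only [S, Set.mem_iUnion, Set.mem_Ici, SetLike.mem_coe] at this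
    obtain ⟨j, hj, h⟩ := this
    exact ⟨j, hj, h⟩
  have hle : 𝒜 n ≤ Submodule.span k (T : Set R) := by
    intro x hx
    have hxI : x ∈ Submodule.span R (T : Set R) := by
      have : x ∈ Ideal.span S := by
        apply Ideal.subset_span
        simp only [S, Set.mem_iUnion, Set.mem_Ici, SetLike.mem_coe]
        exact ⟨n, le_rfl, hx⟩
      rw [Ideal.span, hT] at this
      exact this
    obtain ⟨f, -, hf⟩ := Submodule.mem_span_finset.mp hxI
    have hx' : x = (decompose 𝒜 x n : R) := (decompose_of_mem_same 𝒜 hx).symm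
    rw [hx', ← hf, decompose_sum, DFinsupp.finsetSum_apply, AddSubmonoidClass.coe_finsetSum]
    apply Submodule.sum_mem
    intro t ht
    obtain ⟨j, hj, htj⟩ := hdeg t ht
    have h1 : n = (n - j) + j := by ring
    rw [smul_eq_mul, h1, coe_decompose_mul_add_of_right_mem 𝒜 htj]
    obtain ⟨c, hc⟩ := mem_span_one_of_nonpos 𝒜 hposR h0R (by omega : n - j ≤ 0)
      (SetLike.coe_mem (decompose 𝒜 (f t) (n - j)))
    rw [hc, smul_mul_assoc, one_mul]
    exact Submodule.smul_mem _ c (Submodule.subset_span ht)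
  exact Module.Finite.of_injective (Submodule.inclusion hle) (Submodule.inclusion_injective hle)

theorem exists_homogeneous_generators [Module.Finite R B] :
    ∃ S : Finset B, (∀ x ∈ S, ∃ d, x ∈ ℬ d) ∧ Submodule.span R (S : Set B) = ⊤ := by
  classical
  obtain ⟨s, hs⟩ := (Module.Finite.fg_top : (⊤ : Submodule R B).FG)
  let T : Finset B :=
    s.biUnion fun x => (DFinsupp.support (decompose ℬ x)).image
      fun g => ((decompose ℬ x g : ℬ g) : B)
  refine ⟨T, ?_, ?_⟩
  · intro x hx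
    obtain ⟨y, _, hy⟩ := Finset.mem_biUnion.mp hx
    obtain ⟨g, _, rfl⟩ := Finset.mem_image.mp hy
    exact ⟨g, (decompose ℬ y g).2⟩
  · rw [eq_top_iff, ← hs, Submodule.span_le]
    intro x hx
    rw [← DirectSum.sum_support_decompose ℬ x]
    apply Submodule.sum_mem
    intro g hg
    apply Submodule.subset_span
    exact Finset.mem_biUnion.mpr ⟨x, hx, Finset.mem_image.mpr ⟨g, hg, rfl⟩⟩

theorem finite_piece_module (hposR : ∀ n : ℤ, n < 0 → 𝒜 n = ⊥)
    (h0R : 𝒜 0 = Submodule.span k {(1 : R)}) [IsNoetherianRing R] [Module.Finite R B] (n : ℤ) :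
    Module.Finite k (pieceSub 𝒜 ℬ n) := by
  classical
  obtain ⟨Z, hZ, hspan⟩ := exists_homogeneous_generators (R := R) ℬ
  choose! e he using hZ
  haveI : ∀ j, Module.Finite k (𝒜 j) := fun j => finite_piece_ring 𝒜 hposR h0R j
  let W : Submodule k B := ⨆ z : Z, (𝒜 (n - e z)).map
    ((LinearMap.toSpanSingleton R B (z : B)).restrictScalars k)
  haveI : Module.Finite k W := Submodule.finite_iSup _
  have hle : pieceSub 𝒜 ℬ n ≤ W := by
    intro x hx
    have hxI : x ∈ Submodule.span R (Z : Set B) := by rw [hspan]; trivial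
    obtain ⟨f, hf⟩ := Submodule.mem_span_finset'.mp hxI
    have hx' : x = (decompose ℬ x n : B) := (decompose_of_mem_same ℬ hx).symm
    rw [hx', ← hf, decompose_sum, DFinsupp.finsetSum_apply, AddSubmonoidClass.coe_finsetSum]
    apply Submodule.sum_mem
    intro z _
    rw [coe_decompose_smul_of_right_mem' 𝒜 ℬ (he z z.2)]
    apply Submodule.mem_iSup_of_mem z
    exact ⟨_, SetLike.coe_mem _, rfl⟩
  exact Module.Finite.of_injective (Submodule.inclusion hle) (Submodule.inclusion_injective hle)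

end Pieces

section Flip

variable {k : Type u} [Field k] {R : Type u} [CommRing R] [Algebra k R]
  (𝒜 : ℤ → Submodule k R) [GradedAlgebra 𝒜]
  {M : Type u} [AddCommGroup M] [Module R M] [Module k M] [IsScalarTower k R M]
  (ℳ : ℤ → AddSubgroup M) [DirectSum.Decomposition ℳ] [SetLike.GradedSMul 𝒜 ℳ]
  {D : Type u} [AddCommGroup D] [Module R D] [Module k D] [IsScalarTower k R D]
  (𝒟 : ℤ → AddSubgroup D) [DirectSum.Decomposition 𝒟] [SetLike.GradedSMul 𝒜 𝒟]
  {β : D →ₗ[k] M →ₗ[k] k}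

/-- the restriction map `D_{-n} → (M_n)^*`. -/
noncomputable def restr (β : D →ₗ[k] M →ₗ[k] k) (n : ℤ) :
    pieceSub 𝒜 𝒟 (-n) →ₗ[k] Module.Dual k (pieceSub 𝒜 ℳ n) :=
  ((LinearMap.lcomp k k (pieceSub 𝒜 ℳ n).subtype).comp β).comp (pieceSub 𝒜 𝒟 (-n)).subtype

theorem restr_apply (n : ℤ) (d : pieceSub 𝒜 𝒟 (-n)) (x : pieceSub 𝒜 ℳ n) :
    restr 𝒜 ℳ 𝒟 β n d x = β (d : D) (x : M) := rfl

theorem restr_bijective (hD : IsGDual R ℳ 𝒟 β) (n : ℤ) :
    Function.Bijective (restr 𝒜 ℳ 𝒟 β n) := by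
  constructor
  · rw [← LinearMap.ker_eq_bot, LinearMap.ker_eq_bot']
    intro d hd
    apply Subtype.ext
    apply hD.eq_zero (-n) _ d.2
    intro x hx
    rw [neg_neg] at hx
    exact DFunLike.congr_fun hd ⟨x, hx⟩
  · intro ψ
    obtain ⟨g, hg⟩ := LinearMap.exists_extend ψ
    obtain ⟨d, hd, hd'⟩ := exists_eq' hD n g
    refine ⟨⟨d, hd⟩, ?_⟩
    ext x
    rw [restr_apply]
    show β d x = ψ x
    rw [hd' x x.2, ← hg]
    rfl

/-- reflexivity: if the pieces of `M` are finite dimensional then `M` is the graded dual of `M^*`. -/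
theorem isGDual_flip (hD : IsGDual R ℳ 𝒟 β)
    (hfin : ∀ n, Module.Finite k (pieceSub 𝒜 ℳ n)) : IsGDual R 𝒟 ℳ β.flip := by
  refine ⟨?_, ?_, ?_, ?_⟩
  · intro r x d
    show β d (r • x) = β (r • d) x
    rw [hD.map_smul]
  · intro n x hx m hm d hd
    show β d x = 0
    apply vanish' hD hd hx
    intro h
    apply hm
    omega
  · intro n x hx h
    by_contra hx0
    obtain ⟨g, hg⟩ : ∃ g : M →ₗ[k] k, g x ≠ 0 := by
      by_contra hcon
      push Not at hcon
      exact hx0 ((Module.forall_dual_apply_eq_zero_iff k x).mp hcon)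
    obtain ⟨d, hd, hd'⟩ := exists_eq' hD n g
    apply hg
    rw [← hd' x hx]
    exact h d hd
  · intro n G
    have := hfin n
    let E := LinearEquiv.ofBijective (restr 𝒜 ℳ 𝒟 β n) (restr_bijective 𝒜 ℳ 𝒟 hD n)
    let γ : Module.Dual k (Module.Dual k (pieceSub 𝒜 ℳ n)) :=
      (G.comp (pieceSub 𝒜 𝒟 (-n)).subtype).comp E.symm.toLinearMap
    let v := (Module.evalEquiv k (pieceSub 𝒜 ℳ n)).symm γ
    refine ⟨(v : M), v.2, ?_⟩
    intro d hd
    have hd2 : d ∈ pieceSub 𝒜 𝒟 (-n) := hd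
    have h1 : (E ⟨d, hd2⟩) v = γ (E ⟨d, hd2⟩) :=
      Module.apply_evalEquiv_symm_apply k (pieceSub 𝒜 ℳ n) (E ⟨d, hd2⟩) γ
    have h2 : γ (E ⟨d, hd2⟩) = G d := by
      show G ((pieceSub 𝒜 𝒟 (-n)).subtype (E.symm (E ⟨d, hd2⟩))) = G d
      rw [LinearEquiv.symm_apply_apply]
      rfl
    rw [h2] at h1
    exact h1

end Flip

end Groth.Agent.H8.GDual
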