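import Mathlib
import Groth.Prelude.Def_GrLC
import Groth.Prelude.Def_GrSeg
import Groth.Agent.Lib.helper8.GDualD

/-!
# Graded `k`-duals, part E (helper8): maps into a graded dual from pairings.
-/

universe u

set_option linter.unusedSectionVars false

namespace Groth.Agent.H8.GDual

open DirectSum GrSeg GrLC

section HomOfPairing

variable {k : Type u} [Field k] {R : Type u} [CommRing R] [Algebra k R]
  {N : Type u} [AddCommGroup N] [Module R N] [Module k N] [IsScalarTower k R N]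
  {𝒩 : ℤ → AddSubgroup N} [DirectSum.Decomposition 𝒩]
  {E : Type u} [AddCommGroup E] [Module R E] [Module k E] [IsScalarTower k R E]
  {ℰ : ℤ → AddSubgroup E} [DirectSum.Decomposition ℰ]
  {βE : E →ₗ[k] N →ₗ[k] k}
  {B : Type u} [AddCommGroup B] [Module R B] [Module k B] [IsScalarTower k R B]
  (ℬ : ℤ → AddSubgroup B) [DirectSum.Decomposition ℬ]

theorem exists_rep_pairing (hE : IsGDual R 𝒩 ℰ βE) (Ψ : B →ₗ[k] N →ₗ[k] k)
    (hΨ : ∀ i j, i + j ≠ 0 → ∀ b ∈ ℬ i, ∀ y ∈ 𝒩 j, Ψ b y = 0) (b : B) :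
    ∃ e : E, βE e = Ψ b := by
  induction b using DirectSum.Decomposition.inductionOn ℬ with
  | zero => exact ⟨0, by rw [map_zero, map_zero]⟩
  | @homogeneous i x =>
    apply exists_rep hE _ {-i}
    intro m hm y hy
    apply hΨ i m _ x x.2 y hy
    intro h
    apply hm
    rw [Finset.mem_singleton]
    omega
  | add a b ha hb =>
    obtain ⟨d, hd⟩ := ha
    obtain ⟨d', hd'⟩ := hb
    exact ⟨d + d', by rw [map_add, hd, hd', map_add]⟩

/-- the graded `R`-linear map `B → E = N^*` attached to a pairing `Ψ : B × N → k`. -/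
noncomputable def homOfPairing (hE : IsGDual R 𝒩 ℰ βE) (Ψ : B →ₗ[k] N →ₗ[k] k)
    (hΨ : ∀ i j, i + j ≠ 0 → ∀ b ∈ ℬ i, ∀ y ∈ 𝒩 j, Ψ b y = 0)
    (hsm : ∀ (r : R) (b : B) (y : N), Ψ (r • b) y = Ψ b (r • y)) : B →ₗ[R] E where
  toFun b := Classical.choose (exists_rep_pairing ℬ hE Ψ hΨ b)
  map_add' a b := by
    apply beta_injective hE
    have h1 := Classical.choose_spec (exists_rep_pairing ℬ hE Ψ hΨ (a + b))
    have h2 := Classical.choose_spec (exists_rep_pairing ℬ hE Ψ hΨ a)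
    have h3 := Classical.choose_spec (exists_rep_pairing ℬ hE Ψ hΨ b)
    exact h1.trans ((map_add Ψ a b).trans (by rw [map_add βE, h2, h3]))
  map_smul' s b := by
    apply beta_injective hE
    simp only [RingHom.id_apply]
    ext y
    have h1 := Classical.choose_spec (exists_rep_pairing ℬ hE Ψ hΨ (s • b))
    have h2 := Classical.choose_spec (exists_rep_pairing ℬ hE Ψ hΨ b)
    rw [hE.map_smul, h1, h2, hsm]

theorem beta_homOfPairing (hE : IsGDual R 𝒩 ℰ βE) (Ψ : B →ₗ[k] N →ₗ[k] k)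
    (hΨ : ∀ i j, i + j ≠ 0 → ∀ b ∈ ℬ i, ∀ y ∈ 𝒩 j, Ψ b y = 0)
    (hsm : ∀ (r : R) (b : B) (y : N), Ψ (r • b) y = Ψ b (r • y)) (b : B) (y : N) :
    βE (homOfPairing ℬ hE Ψ hΨ hsm b) y = Ψ b y := by
  have := Classical.choose_spec (exists_rep_pairing ℬ hE Ψ hΨ b)
  exact DFunLike.congr_fun this y

theorem homOfPairing_mem (hE : IsGDual R 𝒩 ℰ βE) (Ψ : B →ₗ[k] N →ₗ[k] k)
    (hΨ : ∀ i j, i + j ≠ 0 → ∀ b ∈ ℬ i, ∀ y ∈ 𝒩 j, Ψ b y = 0)
    (hsm : ∀ (r : R) (b : B) (y : N), Ψ (r • b) y = Ψ b (r • y)) {n : ℤ} {b : B} (hb : b ∈ ℬ n) :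
    homOfPairing ℬ hE Ψ hΨ hsm b ∈ ℰ n := by
  apply mem_piece_of_vanish hE
  intro m hm y hy
  rw [beta_homOfPairing]
  apply hΨ n m _ b hb y hy
  intro h
  apply hm
  omega

end HomOfPairing

end Groth.Agent.H8.GDual
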