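import Mathlib
import Groth.Prelude.Def_GrLC
import Groth.Prelude.Def_GrSeg
import Groth.Agent.Lib.helper8.GDualE

/-!
# Graded `k`-duals, part F (helper8): components of `r • x`, spans of homogeneous elements,
the filtration `M_{≥ n}` over a non-negatively graded ring.
-/

universe u

set_option linter.unusedSectionVars false

namespace Groth.Agent.H8.GDual

open DirectSum GrSeg GrLC

section Smul

variable {k : Type u} [Field k] {R : Type u} [CommRing R] [Algebra k R]
  (𝒜 : ℤ → Submodule k R) [GradedAlgebra 𝒜]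
  {B : Type u} [AddCommGroup B] [Module R B]
  (ℬ : ℤ → AddSubgroup B) [DirectSum.Decomposition ℬ] [SetLike.GradedSMul 𝒜 ℬ]

theorem smul_mem_add' {i j : ℤ} {r : R} (hr : r ∈ 𝒜 i) {b : B} (hb : b ∈ ℬ j) :
    r • b ∈ ℬ (i + j) := by
  have := SetLike.GradedSMul.smul_mem (A := 𝒜) (B := ℬ) hr hb
  rwa [vadd_eq_add] at this

/-- component of `a • x` for homogeneous `a`. -/
theorem coe_decompose_smul_of_left_mem {a : R} {h : ℤ} (ha : a ∈ 𝒜 h) (x : B) (g : ℤ) :
    (decompose ℬ (a • x) (h + g) : B) = a • (decompose ℬ x g : B) := by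
  induction x using DirectSum.Decomposition.inductionOn ℬ with
  | zero => simp
  | @homogeneous i m =>
    have hm : a • (m : B) ∈ ℬ (h + i) := smul_mem_add' 𝒜 ℬ ha m.2
    by_cases hgi : i = g
    · subst hgi
      rw [decompose_of_mem_same ℬ hm, decompose_of_mem_same ℬ m.2]
    · have h1 : h + i ≠ h + g := fun e => hgi (add_left_cancel e)
      rw [decompose_of_mem_ne ℬ hm h1, decompose_of_mem_ne ℬ m.2 hgi, smul_zero]
  | add m m' hm hm' =>
    rw [smul_add, decompose_add, decompose_add, DirectSum.add_apply, DirectSum.add_apply,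
      AddSubgroup.coe_add, AddSubgroup.coe_add, hm, hm', smul_add]

theorem coe_decompose_smul_of_left_mem' {a : R} {h : ℤ} (ha : a ∈ 𝒜 h) (x : B) (n : ℤ) :
    (decompose ℬ (a • x) n : B) = a • (decompose ℬ x (n - h) : B) := by
  have := coe_decompose_smul_of_left_mem 𝒜 ℬ ha x (n - h)
  rwa [add_sub_cancel] at this

open Classical in
/-- the general formula for the components of `r • x`. -/
theorem coe_decompose_smul (r : R) (x : B) (n : ℤ) :
    (decompose ℬ (r • x) n : B) =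
      ∑ a ∈ DFinsupp.support (decompose 𝒜 r), (decompose 𝒜 r a : R) • (decompose ℬ x (n - a) : B) := by
  classical
  conv_lhs => rw [← DirectSum.sum_support_decompose 𝒜 r]
  rw [Finset.sum_smul, decompose_sum, DFinsupp.finsetSum_apply, AddSubmonoidClass.coe_finsetSum]
  apply Finset.sum_congr rfl
  intro a _
  exact coe_decompose_smul_of_left_mem' 𝒜 ℬ (SetLike.coe_mem _) x n

include 𝒜 in
/-- the span of a set of homogeneous elements is a homogeneous submodule. -/
theorem isHomogeneous_span (S : Set B) (hS : ∀ s ∈ S, ∃ i, s ∈ ℬ i) :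
    (Submodule.span R S).IsHomogeneous ℬ := by
  intro i x hx
  induction hx using Submodule.span_induction generalizing i with
  | mem s hs =>
    obtain ⟨j, hj⟩ := hS s hs
    by_cases h : j = i
    · subst h
      rw [decompose_of_mem_same ℬ hj]
      exact Submodule.subset_span hs
    · rw [decompose_of_mem_ne ℬ hj h]
      exact zero_mem _
  | zero => simp
  | add a b _ _ ha hb =>
    rw [decompose_add, DirectSum.add_apply, AddSubgroup.coe_add]
    exact add_mem (ha i) (hb i)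
  | smul r y _ hy =>
    rw [coe_decompose_smul 𝒜 ℬ]
    apply Submodule.sum_mem
    intro a _
    exact Submodule.smul_mem _ _ (hy (i - a))

end Smul

section GeSub

variable {k : Type u} [Field k] {R : Type u} [CommRing R] [Algebra k R]
  (𝒜 : ℤ → Submodule k R) [GradedAlgebra 𝒜]
  {B : Type u} [AddCommGroup B] [Module R B]
  (ℬ : ℤ → AddSubgroup B) [DirectSum.Decomposition ℬ] [SetLike.GradedSMul 𝒜 ℬ]

theorem decompose_ring_eq_zero_of_neg (hposR : ∀ n : ℤ, n < 0 → 𝒜 n = ⊥) (r : R) {a : ℤ}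
    (ha : a < 0) : (decompose 𝒜 r a : R) = 0 := by
  have h3 : ∀ z ∈ 𝒜 a, z = 0 := by
    rw [hposR a ha]
    intro z hz
    exact (Submodule.mem_bot k).mp hz
  exact h3 _ (SetLike.coe_mem _)

/-- `M_{≥ n}`: the elements all of whose components in degrees `< n` vanish. -/
def geSub (hposR : ∀ n : ℤ, n < 0 → 𝒜 n = ⊥) (n : ℤ) : Submodule R B where
  carrier := {x | ∀ j, j < n → (decompose ℬ x j : B) = 0}
  add_mem' {a b} ha hb j hj := by
    rw [decompose_add, DirectSum.add_apply, AddSubgroup.coe_add, ha j hj, hb j hj, add_zero]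
  zero_mem' j _ := by simp
  smul_mem' r x hx j hj := by
    rw [coe_decompose_smul 𝒜 ℬ]
    apply Finset.sum_eq_zero
    intro a _
    by_cases ha : a < 0
    · rw [decompose_ring_eq_zero_of_neg 𝒜 hposR r ha, zero_smul]
    · rw [hx (j - a) (by omega), smul_zero]

theorem mem_geSub (hposR : ∀ n : ℤ, n < 0 → 𝒜 n = ⊥) {n : ℤ} {x : B} :
    x ∈ geSub 𝒜 ℬ hposR n ↔ ∀ j, j < n → (decompose ℬ x j : B) = 0 := Iff.rfl

theorem mem_geSub_of_mem (hposR : ∀ n : ℤ, n < 0 → 𝒜 n = ⊥) {n j : ℤ} (hnj : n ≤ j) {x : B}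
    (hx : x ∈ ℬ j) : x ∈ geSub 𝒜 ℬ hposR n := by
  intro i hi
  exact decompose_of_mem_ne ℬ hx (by omega)

theorem geSub_mono (hposR : ∀ n : ℤ, n < 0 → 𝒜 n = ⊥) {n n' : ℤ} (h : n ≤ n') :
    geSub 𝒜 ℬ hposR n' ≤ geSub 𝒜 ℬ hposR n := by
  intro x hx j hj
  exact hx j (by omega)

/-- multiplication by an element of the irrelevant ideal raises the filtration degree. -/
theorem smul_mem_geSub_succ (hposR : ∀ n : ℤ, n < 0 → 𝒜 n = ⊥) {a : R}
    (ha : a ∈ Ideal.span (⋃ n ∈ Set.Ioi (0 : ℤ), (𝒜 n : Set R))) {n : ℤ} {x : B}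
    (hx : x ∈ geSub 𝒜 ℬ hposR n) : a • x ∈ geSub 𝒜 ℬ hposR (n + 1) := by
  intro j hj
  rw [coe_decompose_smul 𝒜 ℬ]
  apply Finset.sum_eq_zero
  intro i _
  by_cases hi : i ≤ 0
  · rw [decompose_eq_zero_of_mem_irrelevant 𝒜 hposR ha i hi, zero_smul]
  · rw [hx (j - i) (by omega), smul_zero]

theorem pow_smul_le_geSub (hposR : ∀ n : ℤ, n < 0 → 𝒜 n = ⊥) (n : ℤ) (N : ℕ) :
    (Ideal.span (⋃ n ∈ Set.Ioi (0 : ℤ), (𝒜 n : Set R))) ^ N • geSub 𝒜 ℬ hposR n
      ≤ geSub 𝒜 ℬ hposR (n + N) := by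
  induction N with
  | zero => simp
  | succ N ih =>
    rw [pow_succ', Submodule.mul_smul, Submodule.smul_le]
    intro a ha x hx
    have := smul_mem_geSub_succ 𝒜 ℬ hposR ha (ih hx)
    have h2 : n + (N : ℤ) + 1 = n + ((N + 1 : ℕ) : ℤ) := by push_cast; ring
    rwa [h2] at this

theorem geSub_eq_top (hposR : ∀ n : ℤ, n < 0 → 𝒜 n = ⊥) {n : ℤ}
    (h : ∀ j, j < n → ∀ x ∈ ℬ j, x = 0) : geSub 𝒜 ℬ hposR n = ⊤ := by
  rw [eq_top_iff]
  intro x _ j hj
  exact h j hj _ (SetLike.coe_mem _)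

end GeSub

end Groth.Agent.H8.GDual
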