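import Mathlib
import Groth.Prelude.Def_Wider

/-!
# Matlis duality toolbox, part A (helper8): Baer criterion for power-torsion modules.
-/

universe u

namespace Groth.Agent.H8.Matlis

open LocCoh

section Baer

variable {A : Type u} [CommRing A] [IsNoetherianRing A] (J : Ideal A)
  {H : Type u} [AddCommGroup H] [Module A H]

/-- a linear map from an ideal into a `J`-power torsion module kills `𝔞 ⊓ J ^ m` for large `m`. -/
theorem exists_pow_inf_le_ker (hH : IsPowerTorsion J H) (𝔞 : Ideal A) (g : 𝔞 →ₗ[A] H) :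
    ∃ m : ℕ, ∀ (x : A) (hx : x ∈ 𝔞), x ∈ J ^ m → g ⟨x, hx⟩ = 0 := by
  classical
  -- uniform exponent on the range of `g`
  obtain ⟨s, hs⟩ := (Module.Finite.fg_top : (⊤ : Submodule A 𝔞).FG)
  choose e he using fun y : 𝔞 => hH (g y)
  let n := s.sup e
  have hT : ∀ y : 𝔞, ∀ j ∈ J ^ n, j • g y = 0 := by
    intro y
    have hy : y ∈ Submodule.span A (s : Set 𝔞) := by rw [hs]; trivial
    induction hy using Submodule.span_induction with
    | mem z hz =>
      intro j hj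
      exact he z j (Ideal.pow_le_pow_right (Finset.le_sup (f := e) hz) hj)
    | zero => intro j _; simp
    | add y z _ _ hy hz => intro j hj; rw [map_add, smul_add, hy j hj, hz j hj, add_zero]
    | smul r y _ hy => intro j hj; rw [map_smul, smul_comm, hy j hj, smul_zero]
  -- Artin-Rees
  obtain ⟨c, hc⟩ := Ideal.exists_pow_inf_eq_pow_smul J (𝔞 : Submodule A A)
  refine ⟨n + c, fun x hx hxm => ?_⟩
  have h1 : x ∈ J ^ (n + c) • (⊤ : Submodule A A) ⊓ (𝔞 : Submodule A A) := by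
    refine ⟨?_, hx⟩
    rw [Ideal.smul_top_eq_map]
    simpa using hxm
  rw [hc (n + c) (Nat.le_add_left c n), Nat.add_sub_cancel] at h1
  have key : ∀ z : A, z ∈ J ^ n • (J ^ c • (⊤ : Submodule A A) ⊓ (𝔞 : Submodule A A)) →
      ∃ hz : z ∈ 𝔞, g ⟨z, hz⟩ = 0 := by
    intro z hz
    refine Submodule.smul_induction_on hz ?_ ?_
    · intro j hj a ha
      have ha' : a ∈ 𝔞 := ha.2
      refine ⟨𝔞.mul_mem_left j ha', ?_⟩
      have : (⟨j • a, 𝔞.mul_mem_left j ha'⟩ : 𝔞) = j • ⟨a, ha'⟩ := rfl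
      rw [this, map_smul]
      exact hT _ j hj
    · intro y z hy hz
      obtain ⟨hy1, hy2⟩ := hy
      obtain ⟨hz1, hz2⟩ := hz
      refine ⟨𝔞.add_mem hy1 hz1, ?_⟩
      have : (⟨y + z, 𝔞.add_mem hy1 hz1⟩ : 𝔞) = ⟨y, hy1⟩ + ⟨z, hz1⟩ := rfl
      rw [this, map_add, hy2, hz2, add_zero]
  obtain ⟨_, h2⟩ := key x h1
  exact h2

/-- Baer's criterion from extension over finite modules killed by a power of `J`. -/
theorem baer_of_extension (hH : IsPowerTorsion J H)
    (hext : ∀ (M : Type u) [AddCommGroup M] [Module A M], Module.Finite A M →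
      (∃ k : ℕ, (J ^ k) • (⊤ : Submodule A M) = ⊥) → ∀ (N : Submodule A M) (g : N →ₗ[A] H),
        ∃ g' : M →ₗ[A] H, g'.comp N.subtype = g) :
    Module.Baer A H := by
  intro 𝔞 g
  obtain ⟨m, hm⟩ := exists_pow_inf_le_ker J hH 𝔞 g
  let π : A →ₗ[A] A ⧸ (J ^ m) := (J ^ m).mkQ
  let N : Submodule A (A ⧸ (J ^ m)) := Submodule.map π 𝔞
  let ρ : 𝔞 →ₗ[A] N := (π.domRestrict 𝔞).codRestrict N (fun x => Submodule.mem_map_of_mem x.2)
  have hρ_surj : Function.Surjective ρ := by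
    rintro ⟨y, hy⟩
    obtain ⟨x, hx, rfl⟩ := hy
    exact ⟨⟨x, hx⟩, rfl⟩
  have hker : LinearMap.ker ρ ≤ LinearMap.ker g := by
    intro x hx
    rw [LinearMap.mem_ker] at hx ⊢
    have h1 : π x = 0 := congrArg Subtype.val hx
    have h2 : (x : A) ∈ J ^ m := Ideal.Quotient.eq_zero_iff_mem.mp h1
    exact hm x x.2 h2
  let gbar : N →ₗ[A] H := ((LinearMap.ker ρ).liftQ g hker).comp
    (ρ.quotKerEquivOfSurjective hρ_surj).symm.toLinearMap
  have hgbar : ∀ x : 𝔞, gbar (ρ x) = g x := by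
    intro x
    have : (ρ.quotKerEquivOfSurjective hρ_surj).symm (ρ x) = (LinearMap.ker ρ).mkQ x := by
      rw [LinearEquiv.symm_apply_eq]
      rfl
    simp only [gbar, LinearMap.comp_apply, LinearEquiv.coe_coe, this]
    rfl
  have hkill : (J ^ m) • (⊤ : Submodule A (A ⧸ (J ^ m))) = ⊥ := by
    rw [eq_bot_iff, Submodule.smul_le]
    intro r hr n _
    obtain ⟨a, rfl⟩ := Ideal.Quotient.mk_surjective n
    rw [Submodule.mem_bot]
    show (Ideal.Quotient.mk (J ^ m)) (r * a) = 0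
    exact Ideal.Quotient.eq_zero_iff_mem.mpr (Ideal.mul_mem_right _ _ hr)
  obtain ⟨g', hg'⟩ := hext (A ⧸ (J ^ m)) inferInstance ⟨m, hkill⟩ N gbar
  refine ⟨g'.comp π, fun x hx => ?_⟩
  have h1 := congrArg (fun F => F (ρ ⟨x, hx⟩)) hg'
  simp only [LinearMap.comp_apply] at h1
  rw [hgbar] at h1
  exact h1

end Baer

end Groth.Agent.H8.Matlis
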