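import Mathlib
import Groth.Prelude.Def_Wider
import Groth.Agent.Lib.helper8.MatlisA

/-!
# Matlis duality toolbox, part B (helper8): the injective hull `E` of the residue field of a
local ring: torsion, socle, `Hom(k, E)`, cogenerator, lengths of duals, reflexivity.
-/

universe u

namespace Groth.Agent.H8.Matlis

open LocCoh InjHull IsLocalRing

section Core

variable {R : Type u} [CommRing R] [IsLocalRing R]
  {E : Type u} [AddCommGroup E] [Module R E]
  (f : ResidueField R →ₗ[R] E)

theorem smul_residueField_eq_zero {a : R} (ha : a ∈ maximalIdeal R) (z : ResidueField R) :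
    a • z = 0 := by
  rw [Algebra.smul_def]
  have : algebraMap R (ResidueField R) a = 0 := (IsLocalRing.residue_eq_zero_iff a).mpr ha
  rw [this, zero_mul]

theorem smul_residue (r : R) (z : ResidueField R) : r • z = IsLocalRing.residue R r * z := by
  rw [Algebra.smul_def]; rfl

theorem smul_range_eq_zero {a : R} (ha : a ∈ maximalIdeal R) {y : E}
    (hy : y ∈ LinearMap.range f) : a • y = 0 := by
  obtain ⟨z, rfl⟩ := hy
  rw [← map_smul, smul_residueField_eq_zero ha, map_zero]

/-- the socle of `E` is the image of `k`. -/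
theorem mem_range_of_smul_eq_zero (hf : IsEssentialInj f) {y : E}
    (hy : ∀ a ∈ maximalIdeal R, a • y = 0) : y ∈ LinearMap.range f := by
  by_cases h0 : y = 0
  · rw [h0]; exact zero_mem _
  have hne : Submodule.span R {y} ≠ ⊥ := by
    rw [Ne, Submodule.span_singleton_eq_bot]; exact h0
  obtain ⟨w, hw, hw0⟩ := Submodule.exists_mem_ne_zero_of_ne_bot (hf.essential _ hne)
  obtain ⟨hw1, hw2⟩ := hw
  obtain ⟨r, rfl⟩ := Submodule.mem_span_singleton.mp hw1
  have hr : IsUnit r := by
    by_contra hr
    exact hw0 (hy r ((IsLocalRing.mem_maximalIdeal r).mpr hr))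
  obtain ⟨u, rfl⟩ := hr
  have : y = (↑u⁻¹ : R) • ((u : R) • y) := by rw [smul_smul, Units.inv_mul, one_smul]
  rw [this]
  exact Submodule.smul_mem _ _ hw2

/-- `E` is `𝔪`-power torsion. -/
theorem isPowerTorsion_of_essential [IsNoetherianRing R] (hf : IsEssentialInj f) :
    IsPowerTorsion (maximalIdeal R) E := by
  intro x
  let S : Submodule R E := Submodule.span R {x}
  haveI : Module.Finite R S := Module.Finite.span_singleton R x
  let N' : Submodule R S := (LinearMap.range f).comap S.subtype
  obtain ⟨c, hc⟩ := Ideal.exists_pow_inf_eq_pow_smul (maximalIdeal R) N'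
  refine ⟨c + 1, fun a ha => ?_⟩
  by_contra hax
  have hne : Submodule.span R {a • x} ≠ ⊥ := by
    rwa [Ne, Submodule.span_singleton_eq_bot]
  obtain ⟨w, ⟨hw1, hw2⟩, hw0⟩ := Submodule.exists_mem_ne_zero_of_ne_bot (hf.essential _ hne)
  obtain ⟨r, rfl⟩ := Submodule.mem_span_singleton.mp hw1
  let xs : S := ⟨x, Submodule.mem_span_singleton_self x⟩
  have hmem : (r * a) • xs ∈ (maximalIdeal R) ^ (c + 1) • (⊤ : Submodule R S) ⊓ N' := by
    refine ⟨?_, ?_⟩
    · exact Submodule.smul_mem_smul (Ideal.mul_mem_left _ r ha) trivial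
    · show S.subtype ((r * a) • xs) ∈ LinearMap.range f
      have : S.subtype ((r * a) • xs) = r • a • x := by
        simp [xs, mul_smul]
      rw [this]; exact hw2
  rw [hc (c + 1) (Nat.le_succ c), Nat.add_sub_cancel_left] at hmem
  have hle : (maximalIdeal R) ^ 1 • ((maximalIdeal R) ^ c • (⊤ : Submodule R S) ⊓ N') ≤ ⊥ := by
    rw [Submodule.smul_le]
    intro b hb n hn
    rw [pow_one] at hb
    rw [Submodule.mem_bot]
    apply Subtype.ext
    show b • (n : E) = 0
    exact smul_range_eq_zero f hb hn.2
  have h1 := hle hmem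
  rw [Submodule.mem_bot] at h1
  apply hw0
  have h2 := congrArg Subtype.val h1
  simpa [xs, mul_smul] using h2

/-- `k → Hom(k, E)`, `z ↦ (w ↦ f (z * w))`. -/
noncomputable def homMap : ResidueField R →ₗ[R] (ResidueField R →ₗ[R] E) :=
  (LinearMap.llcomp R (ResidueField R) (ResidueField R) E f).comp
    (LinearMap.mul R (ResidueField R))

@[simp] theorem homMap_apply (z w : ResidueField R) : homMap f z w = f (z * w) := rfl

theorem homMap_bijective (hf : IsEssentialInj f) : Function.Bijective (homMap f) := by
  constructor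
  · rw [← LinearMap.ker_eq_bot, LinearMap.ker_eq_bot']
    intro z hz
    have h1 : homMap f z 1 = 0 := by rw [hz]; rfl
    rw [homMap_apply, mul_one] at h1
    exact hf.injective (h1.trans (map_zero f).symm)
  · intro g
    have hg1 : g 1 ∈ LinearMap.range f := by
      apply mem_range_of_smul_eq_zero f hf
      intro a ha
      rw [← map_smul, smul_residueField_eq_zero ha, map_zero]
    obtain ⟨z, hz⟩ := hg1
    refine ⟨z, LinearMap.ext fun w => ?_⟩
    obtain ⟨r, rfl⟩ := IsLocalRing.residue_surjective w
    rw [homMap_apply, mul_comm, ← smul_residue, map_smul, hz, ← map_smul, smul_residue, mul_one]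

/-- `k ≃ Hom(k, E)`. -/
noncomputable def homEquiv (hf : IsEssentialInj f) :
    ResidueField R ≃ₗ[R] (ResidueField R →ₗ[R] E) :=
  LinearEquiv.ofBijective (homMap f) (homMap_bijective f hf)

variable (R) in
theorem isSimpleModule_residueField : IsSimpleModule R (ResidueField R) := by
  rw [isSimpleModule_iff_quot_maximal]
  exact ⟨maximalIdeal R, inferInstance, ⟨LinearEquiv.refl R _⟩⟩

theorem isSimpleModule_hom (hf : IsEssentialInj f) :
    IsSimpleModule R (ResidueField R →ₗ[R] E) :=
  haveI := isSimpleModule_residueField R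
  IsSimpleModule.congr (homEquiv f hf).symm

/-- every simple module is isomorphic to `k`. -/
theorem nonempty_equiv_of_simple (S : Type u) [AddCommGroup S] [Module R S] [IsSimpleModule R S] :
    Nonempty (S ≃ₗ[R] ResidueField R) := by
  obtain ⟨I, hI, ⟨e⟩⟩ := (isSimpleModule_iff_quot_maximal (R := R) (M := S)).mp inferInstance
  obtain rfl := IsLocalRing.eq_maximalIdeal hI
  exact ⟨e⟩

theorem length_hom_of_simple (hf : IsEssentialInj f) (S : Type u) [AddCommGroup S] [Module R S]
    [IsSimpleModule R S] : Module.length R (S →ₗ[R] E) = 1 := by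
  obtain ⟨e⟩ := nonempty_equiv_of_simple (R := R) S
  rw [(LinearEquiv.congrLeft E R e).length_eq]
  haveI := isSimpleModule_hom f hf
  exact Module.length_eq_one R _

end Core

section Dual

variable {R : Type u} [CommRing R] [IsLocalRing R]
  {E : Type u} [AddCommGroup E] [Module R E]
  (f : ResidueField R →ₗ[R] E)

/-- the dual sequence of `0 → N → M → M/N → 0` is exact when `E` is injective. -/
theorem dual_exact {M : Type u} [AddCommGroup M] [Module R M] (N : Submodule R M) :
    Function.Exact (LinearMap.lcomp R E N.mkQ) (LinearMap.lcomp R E N.subtype) := by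
  intro h
  constructor
  · intro hh
    have hle : N ≤ LinearMap.ker h := by
      intro n hn
      have := congrArg (fun F : N →ₗ[R] E => F ⟨n, hn⟩) hh
      simpa using this
    exact ⟨N.liftQ h hle, LinearMap.ext fun m => by simp⟩
  · rintro ⟨g, rfl⟩
    ext n
    show g (N.mkQ (n : M)) = 0
    have : N.mkQ (n : M) = 0 := (Submodule.Quotient.mk_eq_zero N).mpr n.2
    rw [this, map_zero]

theorem dual_mkQ_injective {M : Type u} [AddCommGroup M] [Module R M] (N : Submodule R M) :
    Function.Injective (LinearMap.lcomp R E N.mkQ) := by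
  intro g g' h
  ext m
  have := congrArg (fun F : M →ₗ[R] E => F m) h
  simpa using this

theorem dual_subtype_surjective (hE : Module.Injective R E) {M : Type u} [AddCommGroup M]
    [Module R M] (N : Submodule R M) :
    Function.Surjective (LinearMap.lcomp R E N.subtype) := by
  intro g
  haveI := hE
  obtain ⟨h, hh⟩ := Module.Injective.extension_property R E N M N.subtype N.injective_subtype g
  exact ⟨h, hh⟩

/-- `length Hom(M, E) = length M` for `M` of finite length. -/
theorem length_hom (hf : IsInjectiveHull f) (M : Type u) [AddCommGroup M] [Module R M]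
    (hM : IsFiniteLength R M) : Module.length R (M →ₗ[R] E) = Module.length R M := by
  induction hM with
  | of_subsingleton =>
    rw [Module.length_eq_zero, Module.length_eq_zero]
  | @of_simple_quotient M _ _ N _ hN ih =>
    rw [Module.length_eq_add_of_exact (LinearMap.lcomp R E N.mkQ) (LinearMap.lcomp R E N.subtype)
      (dual_mkQ_injective N) (dual_subtype_surjective hf.isInjective N) (dual_exact N),
      Module.length_eq_add_of_exact N.subtype N.mkQ N.injective_subtype N.mkQ_surjective
        (LinearMap.exact_subtype_mkQ N), ih,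
      length_hom_of_simple f hf.toIsEssentialInj (M ⧸ N), Module.length_eq_one R (M ⧸ N), add_comm]

/-- `E` is a cogenerator. -/
theorem exists_hom_ne_zero (hf : IsInjectiveHull f) {M : Type u} [AddCommGroup M] [Module R M]
    {x : M} (hx : x ≠ 0) : ∃ g : M →ₗ[R] E, g x ≠ 0 := by
  let ψ : R →ₗ[R] M := LinearMap.toSpanSingleton R M x
  let q : R →ₗ[R] E := f.comp (Algebra.linearMap R (ResidueField R))
  have hker : LinearMap.ker ψ ≤ LinearMap.ker q := by
    intro r hr
    rw [LinearMap.mem_ker] at hr ⊢
    have hr' : r ∈ maximalIdeal R := by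
      rw [IsLocalRing.mem_maximalIdeal]
      intro hu
      obtain ⟨u, rfl⟩ := hu
      apply hx
      have h1 : (u : R) • x = 0 := by simpa [ψ] using hr
      calc x = (↑u⁻¹ : R) • ((u : R) • x) := by rw [smul_smul, Units.inv_mul, one_smul]
        _ = 0 := by rw [h1, smul_zero]
    show f (algebraMap R (ResidueField R) r) = 0
    have : algebraMap R (ResidueField R) r = 0 := (IsLocalRing.residue_eq_zero_iff r).mpr hr'
    rw [this, map_zero]
  let h : LinearMap.range ψ →ₗ[R] E :=
    ((LinearMap.ker ψ).liftQ q hker).comp (LinearMap.quotKerEquivRange ψ).symm.toLinearMap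
  have hh : ∀ r : R, h ⟨ψ r, ⟨r, rfl⟩⟩ = q r := by
    intro r
    have : (LinearMap.quotKerEquivRange ψ).symm ⟨ψ r, ⟨r, rfl⟩⟩ = (LinearMap.ker ψ).mkQ r := by
      rw [LinearEquiv.symm_apply_eq]
      rfl
    simp only [h, LinearMap.comp_apply, LinearEquiv.coe_coe, this]
    rfl
  haveI := hf.isInjective
  obtain ⟨g, hg⟩ := Module.Injective.extension_property R E (LinearMap.range ψ) M
    (LinearMap.range ψ).subtype (LinearMap.range ψ).injective_subtype h
  refine ⟨g, ?_⟩
  have h1 := congrArg (fun F : LinearMap.range ψ →ₗ[R] E => F ⟨ψ 1, ⟨1, rfl⟩⟩) hg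
  simp only [LinearMap.comp_apply, Submodule.subtype_apply] at h1
  rw [hh] at h1
  have hψ1 : ψ 1 = x := by simp [ψ]
  rw [hψ1] at h1
  rw [h1]
  show f (algebraMap R (ResidueField R) 1) ≠ 0
  rw [map_one]
  intro h0
  exact one_ne_zero (hf.injective (h0.trans (map_zero f).symm))

/-- the evaluation map into the double dual is injective. -/
theorem applyₗ_injective (hf : IsInjectiveHull f) (M : Type u) [AddCommGroup M] [Module R M] :
    Function.Injective (LinearMap.applyₗ : M →ₗ[R] (M →ₗ[R] E) →ₗ[R] E) := by
  rw [← LinearMap.ker_eq_bot, LinearMap.ker_eq_bot']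
  intro x hx
  by_contra hx0
  obtain ⟨g, hg⟩ := exists_hom_ne_zero f hf hx0
  apply hg
  have := congrArg (fun F : (M →ₗ[R] E) →ₗ[R] E => F g) hx
  simpa using this

/-- an injective map between modules of the same finite length is surjective. -/
theorem surjective_of_injective_of_length_le {A : Type*} [Ring A] {M N : Type*} [AddCommGroup M]
    [Module A M] [AddCommGroup N] [Module A N] (g : M →ₗ[A] N) (hg : Function.Injective g)
    (hfin : Module.length A M ≠ ⊤) (hle : Module.length A N ≤ Module.length A M) :
    Function.Surjective g := by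
  have h1 := Module.length_eq_add_of_exact g (LinearMap.range g).mkQ hg
    (Submodule.mkQ_surjective _) (LinearMap.exact_map_mkQ_range g)
  have h2 : Module.length A (N ⧸ LinearMap.range g) = 0 := by
    rw [h1] at hle
    have h3 : Module.length A M + Module.length A (N ⧸ LinearMap.range g)
        ≤ Module.length A M + 0 := by rwa [add_zero]
    have h4 := (ENat.add_le_add_iff_left hfin).mp h3
    exact le_antisymm h4 bot_le
  rw [Module.length_eq_zero_iff] at h2
  rw [← LinearMap.range_eq_top]
  exact Submodule.Quotient.subsingleton_iff.mp h2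

/-- reflexivity of modules of finite length. -/
theorem applyₗ_bijective_of_isFiniteLength (hf : IsInjectiveHull f)
    (M : Type u) [AddCommGroup M]
    [Module R M] (hM : IsFiniteLength R M) :
    Function.Bijective (LinearMap.applyₗ : M →ₗ[R] (M →ₗ[R] E) →ₗ[R] E) := by
  refine ⟨applyₗ_injective f hf M, ?_⟩
  have h1 := length_hom f hf M hM
  have hM' : IsFiniteLength R (M →ₗ[R] E) := by
    rw [← Module.length_ne_top_iff, h1, Module.length_ne_top_iff]; exact hM
  have h2 := length_hom f hf (M →ₗ[R] E) hM'
  apply surjective_of_injective_of_length_le _ (applyₗ_injective f hf M)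
  · rw [Module.length_ne_top_iff]; exact hM
  · rw [h2, h1]

end Dual

section Socle

variable {R : Type u} [CommRing R] [IsLocalRing R]

/-- a nonzero element of a power-torsion module has a nonzero multiple in the socle. -/
theorem exists_socle_mem {M : Type*} [AddCommGroup M] [Module R M]
    (hM : IsPowerTorsion (maximalIdeal R) M) {x : M} (hx : x ≠ 0) :
    ∃ r : R, r • x ≠ 0 ∧ ∀ b ∈ maximalIdeal R, b • (r • x) = 0 := by
  classical
  have hspec := Nat.find_spec (hM x)
  have hmin := fun m (h : m < Nat.find (hM x)) => Nat.find_min (hM x) h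
  rcases Nat.eq_zero_or_eq_succ_pred (Nat.find (hM x)) with h0 | hs
  · exfalso
    apply hx
    have := hspec 1 (by rw [h0, pow_zero, Ideal.one_eq_top]; trivial)
    simpa using this
  · set m := (Nat.find (hM x)).pred with hm
    have h1 := hmin m (by rw [hs]; exact Nat.lt_succ_self _)
    push Not at h1
    obtain ⟨a, ha, hax⟩ := h1
    refine ⟨a, hax, fun b hb => ?_⟩
    rw [smul_smul]
    apply hspec
    rw [hs, pow_succ, mul_comm b a]
    exact Ideal.mul_mem_mul ha hb

variable {E : Type u} [AddCommGroup E] [Module R E]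

/-- the map `k → E` attached to a socle element. -/
noncomputable def socleHom (y : E) (hy : ∀ b ∈ maximalIdeal R, b • y = 0) :
    ResidueField R →ₗ[R] E :=
  Submodule.liftQ (maximalIdeal R) (LinearMap.toSpanSingleton R E y) (by
    intro b hb
    rw [LinearMap.mem_ker, LinearMap.toSpanSingleton_apply]
    exact hy b hb)

theorem socleHom_one (y : E) (hy : ∀ b ∈ maximalIdeal R, b • y = 0) :
    socleHom y hy 1 = y := by
  show Submodule.liftQ (maximalIdeal R) (LinearMap.toSpanSingleton R E y) _
    (Submodule.Quotient.mk (1 : R)) = y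
  rw [Submodule.liftQ_apply, LinearMap.toSpanSingleton_apply, one_smul]

/-- converse characterization: injective + torsion + `Hom(k, E)` simple gives a hull. -/
theorem isInjectiveHull_of_simple (hE : Module.Injective R E)
    (hT : IsPowerTorsion (maximalIdeal R) E)
    (hS : IsSimpleModule R (ResidueField R →ₗ[R] E)) :
    ∃ f : ResidueField R →ₗ[R] E, IsInjectiveHull f := by
  haveI := IsSimpleModule.nontrivial R (ResidueField R →ₗ[R] E)
  obtain ⟨f, hf0⟩ := exists_ne (0 : ResidueField R →ₗ[R] E)
  haveI := isSimpleModule_residueField R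
  have hinj : Function.Injective f := (LinearMap.injective_or_eq_zero f).resolve_right hf0
  refine ⟨f, ⟨⟨hinj, fun N hN => ?_⟩, hE⟩⟩
  obtain ⟨x, hxN, hx0⟩ := Submodule.exists_mem_ne_zero_of_ne_bot hN
  obtain ⟨r, hr0, hr⟩ := exists_socle_mem hT hx0
  have hsurj := IsSimpleModule.toSpanSingleton_surjective R hf0
  obtain ⟨c, hc⟩ := hsurj (socleHom (r • x) hr)
  have hmem : r • x ∈ LinearMap.range f := by
    refine ⟨c • 1, ?_⟩
    rw [map_smul]
    have := congrArg (fun F : ResidueField R →ₗ[R] E => F 1) hc
    simp only [LinearMap.toSpanSingleton_apply, LinearMap.smul_apply] at this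
    rw [this, socleHom_one]
  intro hbot
  apply hr0
  have : r • x ∈ N ⊓ LinearMap.range f := ⟨N.smul_mem r hxN, hmem⟩
  rw [hbot] at this
  exact (Submodule.mem_bot R).mp this

end Socle

end Groth.Agent.H8.Matlis
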