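import Mathlib
import Groth.Prelude.Def_Wider
import Groth.Agent.Lib.helper8.MatlisB

/-!
# Matlis duality toolbox, part C (helper8): embedding into powers of the hull, quotient rings.
-/

universe u

namespace Groth.Agent.H8.Matlis

open LocCoh InjHull IsLocalRing

section Embed

variable {R : Type u} [CommRing R] [IsLocalRing R]
  {E : Type u} [AddCommGroup E] [Module R E]
  (f : ResidueField R →ₗ[R] E)

/-- a power torsion module with `n`-dimensional socle embeds into `E^n`. -/
theorem exists_embedding (hf : IsInjectiveHull f) (M : Type u) [AddCommGroup M] [Module R M]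
    (hM : IsPowerTorsion (maximalIdeal R) M) (n : ℕ)
    [Module.Finite (R ⧸ maximalIdeal R) ↥(torsionBy (maximalIdeal R) M)]
    (hn : Module.finrank (R ⧸ maximalIdeal R) ↥(torsionBy (maximalIdeal R) M) = n) :
    ∃ g : M →ₗ[R] (Fin n → E), Function.Injective g := by
  classical
  letI : Field (R ⧸ maximalIdeal R) := Ideal.Quotient.field _
  let V : Submodule R M := torsionBy (maximalIdeal R) M
  let b : Module.Basis (Fin n) (R ⧸ maximalIdeal R) V := Module.finBasisOfFinrankEq _ _ hn
  let φ : V →ₗ[R] (Fin n → E) :=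
    LinearMap.pi (fun i => f.comp ((b.coord i).restrictScalars R))
  have hφ : Function.Injective φ := by
    rw [← LinearMap.ker_eq_bot, LinearMap.ker_eq_bot']
    intro v hv
    apply b.repr.injective
    ext i
    have h1 := congrFun hv i
    have h2 : f (b.repr v i) = 0 := h1
    have h3 := hf.injective (h2.trans (map_zero f).symm)
    have h4 : (b.repr v) i = (0 : R ⧸ maximalIdeal R) := h3
    rw [h4]; simp
  haveI : ∀ _ : Fin n, Module.Injective R E := fun _ => hf.isInjective
  obtain ⟨g, hg⟩ := Module.Injective.extension_property R (Fin n → E) V M V.subtype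
    V.injective_subtype φ
  refine ⟨g, ?_⟩
  rw [← LinearMap.ker_eq_bot, LinearMap.ker_eq_bot']
  intro x hx
  by_contra hx0
  obtain ⟨r, hr0, hr⟩ := exists_socle_mem hM hx0
  have hmem : r • x ∈ V := by
    rw [Submodule.mem_torsionBySet_iff]
    intro a
    exact hr a a.2
  have h1 : φ ⟨r • x, hmem⟩ = 0 := by
    have := congrArg (fun F : V →ₗ[R] (Fin n → E) => F ⟨r • x, hmem⟩) hg
    simp only [LinearMap.comp_apply, Submodule.subtype_apply] at this
    rw [← this, map_smul, hx, smul_zero]
  have h2 := hφ (h1.trans (map_zero φ).symm)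
  exact hr0 (congrArg Subtype.val h2)

end Embed

section Quot

variable {A : Type u} [CommRing A] [IsLocalRing A] (a : Ideal A) [IsLocalRing (A ⧸ a)]
  {E : Type u} [AddCommGroup E] [Module A E]
  (f : ResidueField A →ₗ[A] E)

theorem le_maximalIdeal_of_isLocalRing_quotient : a ≤ maximalIdeal A := by
  apply IsLocalRing.le_maximalIdeal
  intro h
  have : Subsingleton (A ⧸ a) := Ideal.Quotient.subsingleton_iff.mpr h
  exact not_subsingleton (A ⧸ a) this

theorem mem_maximalIdeal_of_mk_mem {x : A}
    (hx : Ideal.Quotient.mk a x ∈ maximalIdeal (A ⧸ a)) : x ∈ maximalIdeal A := by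
  rw [IsLocalRing.mem_maximalIdeal] at hx ⊢
  intro hu
  exact hx (hu.map (Ideal.Quotient.mk a))

/-- `E[a]` is Baer (hence injective) over `A ⧸ a`. -/
theorem baer_torsionBy (hE : Module.Injective A E) :
    Module.Baer (A ⧸ a) (torsionBy a E) := by
  intro I h
  let J : Ideal A := I.comap (Ideal.Quotient.mk a)
  let h₀ : J →ₗ[A] E :=
    { toFun := fun x => (h ⟨Ideal.Quotient.mk a x.1, x.2⟩).1
      map_add' := fun x y => by
        have : (⟨Ideal.Quotient.mk a (x + y : J).1, (x + y : J).2⟩ : I)
            = ⟨Ideal.Quotient.mk a x.1, x.2⟩ + ⟨Ideal.Quotient.mk a y.1, y.2⟩ := by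
          apply Subtype.ext; simp
        rw [this, map_add]; rfl
      map_smul' := fun r x => by
        have : (⟨Ideal.Quotient.mk a (r • x : J).1, (r • x : J).2⟩ : I)
            = (Ideal.Quotient.mk a r) • ⟨Ideal.Quotient.mk a x.1, x.2⟩ := by
          apply Subtype.ext; simp
        rw [this, map_smul]; rfl }
  obtain ⟨h₁, hh₁⟩ := Module.Baer.of_injective hE J h₀
  have he : h₁ 1 ∈ torsionBy a E := by
    rw [Submodule.mem_torsionBySet_iff]
    intro x
    have hxJ : (x : A) ∈ J := by
      show Ideal.Quotient.mk a x ∈ I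
      rw [Ideal.Quotient.eq_zero_iff_mem.mpr x.2]; exact I.zero_mem
    have h2 : (x : A) • h₁ 1 = h₁ (x : A) := by rw [← map_smul, smul_eq_mul, mul_one]
    rw [h2, hh₁ x hxJ]
    show (h ⟨Ideal.Quotient.mk a (x : A), _⟩).1 = 0
    have : (⟨Ideal.Quotient.mk a (x : A), hxJ⟩ : I) = 0 := by
      apply Subtype.ext
      exact Ideal.Quotient.eq_zero_iff_mem.mpr x.2
    rw [this, map_zero]; rfl
  refine ⟨LinearMap.toSpanSingleton (A ⧸ a) (torsionBy a E) ⟨h₁ 1, he⟩, fun b hb => ?_⟩
  obtain ⟨x, rfl⟩ := Ideal.Quotient.mk_surjective b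
  apply Subtype.ext
  rw [LinearMap.toSpanSingleton_apply]
  show x • h₁ 1 = _
  have h2 : x • h₁ 1 = h₁ x := by rw [← map_smul, smul_eq_mul, mul_one]
  rw [h2, hh₁ x hb]
  rfl

theorem f_one_mem_torsionBy : f 1 ∈ torsionBy a E := by
  rw [Submodule.mem_torsionBySet_iff]
  intro x
  exact smul_range_eq_zero f (le_maximalIdeal_of_isLocalRing_quotient a x.2) ⟨1, rfl⟩

/-- the hull map `k(A ⧸ a) → E[a]`. -/
noncomputable def quotHullMap : ResidueField (A ⧸ a) →ₗ[A ⧸ a] (torsionBy a E) :=
  socleHom (R := A ⧸ a) (E := torsionBy a E) ⟨f 1, f_one_mem_torsionBy a f⟩ (by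
    intro b hb
    obtain ⟨x, rfl⟩ := Ideal.Quotient.mk_surjective b
    apply Subtype.ext
    show x • f 1 = 0
    exact smul_range_eq_zero f (mem_maximalIdeal_of_mk_mem a hb) ⟨1, rfl⟩)

theorem quotHullMap_one : quotHullMap a f 1 = ⟨f 1, f_one_mem_torsionBy a f⟩ :=
  socleHom_one _ _

theorem isInjectiveHull_quotHullMap (hf : IsInjectiveHull f) :
    IsInjectiveHull (quotHullMap a f) := by
  have hf1 : f 1 ≠ 0 := by
    intro h0
    exact one_ne_zero (hf.injective (h0.trans (map_zero f).symm))
  refine ⟨⟨?_, ?_⟩, Module.Baer.injective (baer_torsionBy a hf.isInjective)⟩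
  · haveI := isSimpleModule_residueField (A ⧸ a)
    refine (LinearMap.injective_or_eq_zero (quotHullMap a f)).resolve_right ?_
    intro h0
    have := quotHullMap_one a f
    rw [h0] at this
    exact hf1 (congrArg Subtype.val this).symm
  · intro N hN
    obtain ⟨y, hyN, hy0⟩ := Submodule.exists_mem_ne_zero_of_ne_bot hN
    have hy0' : (y : E) ≠ 0 := fun h => hy0 (Subtype.ext h)
    have hne : Submodule.span A {(y : E)} ≠ ⊥ := by
      rwa [Ne, Submodule.span_singleton_eq_bot]
    obtain ⟨w, ⟨hw1, hw2⟩, hw0⟩ := Submodule.exists_mem_ne_zero_of_ne_bot (hf.essential _ hne)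
    obtain ⟨r, rfl⟩ := Submodule.mem_span_singleton.mp hw1
    obtain ⟨z, hz⟩ := hw2
    obtain ⟨s, rfl⟩ := IsLocalRing.residue_surjective z
    have hs : f (IsLocalRing.residue A s) = s • f 1 := by
      rw [← map_smul, smul_residue, mul_one]
    have key : (Ideal.Quotient.mk a r) • y
        = quotHullMap a f ((Ideal.Quotient.mk a s) • 1) := by
      rw [map_smul, quotHullMap_one]
      apply Subtype.ext
      show r • (y : E) = s • f 1
      rw [← hz, hs]
    intro hbot
    have hmem : (Ideal.Quotient.mk a r) • y ∈ N ⊓ LinearMap.range (quotHullMap a f) :=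
      ⟨N.smul_mem _ hyN, ⟨_, key.symm⟩⟩
    rw [hbot, Submodule.mem_bot] at hmem
    exact hw0 (congrArg Subtype.val hmem)

end Quot

section SocleDual

variable {R : Type u} [CommRing R] [IsLocalRing R]
  {E : Type u} [AddCommGroup E] [Module R E]

/-- `Hom(M/𝔪M, E) ≃ Hom(M, E)[𝔪]`. -/
noncomputable def homQuotEquivTorsion (M : Type u) [AddCommGroup M] [Module R M] :
    ((M ⧸ (maximalIdeal R • (⊤ : Submodule R M))) →ₗ[R] E) ≃ₗ[R]
      torsionBy (maximalIdeal R) (M →ₗ[R] E) := by
  let P : Submodule R M := maximalIdeal R • (⊤ : Submodule R M)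
  let F : ((M ⧸ P) →ₗ[R] E) →ₗ[R] torsionBy (maximalIdeal R) (M →ₗ[R] E) :=
    (LinearMap.lcomp R E P.mkQ).codRestrict _ (by
      intro φ
      rw [Submodule.mem_torsionBySet_iff]
      intro a
      ext m
      show (a : R) • φ (P.mkQ m) = 0
      rw [← map_smul, ← map_smul]
      have : P.mkQ ((a : R) • m) = 0 :=
        (Submodule.Quotient.mk_eq_zero P).mpr (Submodule.smul_mem_smul a.2 trivial)
      rw [this, map_zero])
  refine LinearEquiv.ofBijective F ⟨?_, ?_⟩
  · intro φ φ' h
    apply dual_mkQ_injective (E := E) P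
    exact congrArg Subtype.val h
  · rintro ⟨ψ, hψ⟩
    rw [Submodule.mem_torsionBySet_iff] at hψ
    have hle : P ≤ LinearMap.ker ψ := by
      rw [Submodule.smul_le]
      intro a ha m _
      rw [LinearMap.mem_ker, map_smul]
      have := congrArg (fun G : M →ₗ[R] E => G m) (hψ ⟨a, ha⟩)
      simpa using this
    refine ⟨P.liftQ ψ hle, ?_⟩
    apply Subtype.ext
    ext m
    show (P.liftQ ψ hle) (P.mkQ m) = ψ m
    simp

variable (f : ResidueField R →ₗ[R] E)

theorem spanFinrank_eq_length_socle_dual [IsNoetherianRing R] (hf : IsInjectiveHull f)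
    (M : Type u) [AddCommGroup M] [Module R M] [Module.Finite R M] :
    ((⊤ : Submodule R M).spanFinrank : ℕ∞)
      = Module.length R (torsionBy (maximalIdeal R) (M →ₗ[R] E)) := by
  letI : Field (R ⧸ maximalIdeal R) := Ideal.Quotient.field _
  let T : Submodule R M := ⊤
  let PT : Submodule R T := maximalIdeal R • (⊤ : Submodule R T)
  let P : Submodule R M := maximalIdeal R • (⊤ : Submodule R M)
  have hTfg : T.FG := (Module.Finite.fg_top : (⊤ : Submodule R M).FG)
  have h1 := IsLocalRing.spanFinrank_eq_finrank_quotient (R := R) T hTfg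
  haveI : Module.Finite (R ⧸ maximalIdeal R) (T ⧸ PT) :=
    Module.Finite.of_restrictScalars_finite R _ _
  have h2 := Module.length_eq_finrank (R ⧸ maximalIdeal R) (T ⧸ PT)
  have h3 : Module.length R (T ⧸ PT) = Module.length (R ⧸ maximalIdeal R) (T ⧸ PT) :=
    Module.length_eq_of_surjective Ideal.Quotient.mk_surjective
  have hmap : PT.map (Submodule.topEquiv : T ≃ₗ[R] M).toLinearMap = P := by
    show (maximalIdeal R • (⊤ : Submodule R T)).map _ = _
    rw [Submodule.map_smul'', Submodule.map_top, LinearMap.range_eq_top.mpr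
      (Submodule.topEquiv : T ≃ₗ[R] M).surjective]
  have h4 : Module.length R (T ⧸ PT) = Module.length R (M ⧸ P) :=
    (Submodule.Quotient.equiv PT P Submodule.topEquiv hmap).length_eq
  have hfin : IsFiniteLength R (M ⧸ P) := by
    rw [← Module.length_ne_top_iff, ← h4, h3, h2]
    exact ENat.coe_ne_top _
  have h5 := length_hom f hf (M ⧸ P) hfin
  have h6 := (homQuotEquivTorsion (R := R) (E := E) M).length_eq
  rw [← h6, h5, ← h4, h3, h2, h1]

end SocleDual

end Groth.Agent.H8.Matlis
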