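import Mathlib
import Groth.Prelude.Def_Wider
import Groth.Agent.Lib.helper8.MatlisC

/-!
# Matlis duality toolbox, part D (helper8): `End(E) ≃ R̂`.
-/

universe u

namespace Groth.Agent.H8.Matlis

open LocCoh InjHull IsLocalRing

section FiniteLength

variable {R : Type u} [CommRing R] [IsLocalRing R] [IsNoetherianRing R]

/-- `M/𝔪M` has finite length for finite `M`. -/
theorem isFiniteLength_quot_smul_top (M : Type u) [AddCommGroup M] [Module R M]
    [Module.Finite R M] :
    IsFiniteLength R (M ⧸ (maximalIdeal R • (⊤ : Submodule R M))) := by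
  letI : Field (R ⧸ maximalIdeal R) := Ideal.Quotient.field _
  let P : Submodule R M := maximalIdeal R • (⊤ : Submodule R M)
  haveI : Module.Finite (R ⧸ maximalIdeal R) (M ⧸ P) :=
    Module.Finite.of_restrictScalars_finite R _ _
  have h2 := Module.length_eq_finrank (R ⧸ maximalIdeal R) (M ⧸ P)
  have h3 : Module.length R (M ⧸ P) = Module.length (R ⧸ maximalIdeal R) (M ⧸ P) :=
    Module.length_eq_of_surjective Ideal.Quotient.mk_surjective
  rw [← Module.length_ne_top_iff, h3, h2]
  exact ENat.coe_ne_top _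

/-- a finite module killed by a power of `𝔪` has finite length. -/
theorem isFiniteLength_of_pow_smul_top_eq_bot (n : ℕ) :
    ∀ (M : Type u) [AddCommGroup M] [Module R M] [Module.Finite R M],
      (maximalIdeal R) ^ n • (⊤ : Submodule R M) = ⊥ → IsFiniteLength R M := by
  induction n with
  | zero =>
    intro M _ _ _ h
    rw [pow_zero, Ideal.one_eq_top, Submodule.top_smul] at h
    haveI : Subsingleton M := by
      rw [← Submodule.subsingleton_iff R]
      exact subsingleton_of_bot_eq_top h.symm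
    exact IsFiniteLength.of_subsingleton
  | succ n ih =>
    intro M _ _ _ h
    let P : Submodule R M := maximalIdeal R • (⊤ : Submodule R M)
    have hP : (maximalIdeal R) ^ n • (⊤ : Submodule R P) = ⊥ := by
      apply Submodule.map_injective_of_injective P.injective_subtype
      rw [Submodule.map_smul'', Submodule.map_top, Submodule.range_subtype, Submodule.map_bot]
      show (maximalIdeal R) ^ n • (maximalIdeal R • (⊤ : Submodule R M)) = ⊥
      rw [← Submodule.mul_smul, ← pow_succ]
      exact h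
    have h1 := ih P hP
    have h2 := isFiniteLength_quot_smul_top (R := R) M
    rw [← Module.length_ne_top_iff] at h1 h2 ⊢
    rw [Module.length_eq_add_of_exact P.subtype P.mkQ P.injective_subtype P.mkQ_surjective
      (LinearMap.exact_subtype_mkQ P)]
    exact WithTop.add_ne_top.mpr ⟨h1, h2⟩

theorem isFiniteLength_quot_pow (n : ℕ) : IsFiniteLength R (R ⧸ (maximalIdeal R) ^ n) := by
  apply isFiniteLength_of_pow_smul_top_eq_bot n
  rw [eq_bot_iff, Submodule.smul_le]
  intro r hr x _
  obtain ⟨a, rfl⟩ := Ideal.Quotient.mk_surjective x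
  rw [Submodule.mem_bot]
  show (Ideal.Quotient.mk ((maximalIdeal R) ^ n)) (r * a) = 0
  exact Ideal.Quotient.eq_zero_iff_mem.mpr (Ideal.mul_mem_right _ _ hr)

end FiniteLength

section HomQuot

variable {R : Type u} [CommRing R] {E : Type u} [AddCommGroup E] [Module R E]

/-- `Hom(R/I, E) ≃ E[I]`, `φ ↦ φ 1`. -/
noncomputable def homQuotIdealEquiv (I : Ideal R) :
    ((R ⧸ I) →ₗ[R] E) ≃ₗ[R] Submodule.torsionBySet R E (I : Set R) := by
  let F : ((R ⧸ I) →ₗ[R] E) →ₗ[R] Submodule.torsionBySet R E (I : Set R) :=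
    (LinearMap.applyₗ (1 : R ⧸ I)).codRestrict _ (by
      intro φ
      rw [Submodule.mem_torsionBySet_iff]
      intro a
      show (a : R) • φ 1 = 0
      rw [← map_smul]
      have : (a : R) • (1 : R ⧸ I) = 0 := by
        show Ideal.Quotient.mk I ((a : R) * 1) = 0
        rw [mul_one]; exact Ideal.Quotient.eq_zero_iff_mem.mpr a.2
      rw [this, map_zero])
  refine LinearEquiv.ofBijective F ⟨?_, ?_⟩
  · intro φ φ' h
    have h1 : φ 1 = φ' 1 := congrArg Subtype.val h
    ext
    simpa using h1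
  · rintro ⟨y, hy⟩
    rw [Submodule.mem_torsionBySet_iff] at hy
    have hle : I ≤ LinearMap.ker (LinearMap.toSpanSingleton R E y) := by
      intro a ha
      rw [LinearMap.mem_ker, LinearMap.toSpanSingleton_apply]
      exact hy ⟨a, ha⟩
    refine ⟨Submodule.liftQ I (LinearMap.toSpanSingleton R E y) hle, ?_⟩
    apply Subtype.ext
    show Submodule.liftQ I (LinearMap.toSpanSingleton R E y) hle (Submodule.Quotient.mk 1) = y
    rw [Submodule.liftQ_apply, LinearMap.toSpanSingleton_apply, one_smul]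

end HomQuot

section EndE

variable {R : Type u} [CommRing R] [IsLocalRing R] [IsNoetherianRing R]
  {E : Type u} [AddCommGroup E] [Module R E]
  (f : ResidueField R →ₗ[R] E)

variable (R E) in
/-- `E_n = E[𝔪^n]`. -/
abbrev En (n : ℕ) : Submodule R E :=
  Submodule.torsionBySet R E (((maximalIdeal R) ^ n : Ideal R) : Set R)

omit [IsNoetherianRing R] in
theorem mem_En_iff {n : ℕ} {x : E} :
    x ∈ En R E n ↔ ∀ a ∈ (maximalIdeal R) ^ n, a • x = 0 := by
  rw [Submodule.mem_torsionBySet_iff]
  exact ⟨fun h a ha => h ⟨a, ha⟩, fun h a => h a a.2⟩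

omit [IsNoetherianRing R] in
theorem En_mono {m n : ℕ} (h : m ≤ n) : En R E m ≤ En R E n := by
  intro x hx
  rw [mem_En_iff] at hx ⊢
  exact fun a ha => hx a (Ideal.pow_le_pow_right h ha)

omit [IsNoetherianRing R] in
theorem smul_one_quot (I : Ideal R) (r : R) : r • (1 : R ⧸ I) = Ideal.Quotient.mk I r := by
  show Ideal.Quotient.mk I (r * 1) = _
  rw [mul_one]

omit [IsNoetherianRing R] in
theorem mem_pow_of_forall_smul_eq_zero (hf : IsInjectiveHull f) (n : ℕ) (r : R)
    (h : ∀ x ∈ En R E n, r • x = 0) : r ∈ (maximalIdeal R) ^ n := by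
  by_contra hr
  have hne : (Ideal.Quotient.mk ((maximalIdeal R) ^ n) r : R ⧸ (maximalIdeal R) ^ n) ≠ 0 :=
    fun h0 => hr (Ideal.Quotient.eq_zero_iff_mem.mp h0)
  obtain ⟨g, hg⟩ := exists_hom_ne_zero f hf hne
  apply hg
  have hy : g 1 ∈ En R E n := ((homQuotIdealEquiv ((maximalIdeal R) ^ n)) g).2
  have h1 := h (g 1) hy
  rw [← map_smul, smul_one_quot] at h1
  exact h1

theorem length_En (hf : IsInjectiveHull f) (n : ℕ) :
    Module.length R (En R E n) = Module.length R (R ⧸ (maximalIdeal R) ^ n) :=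
  (homQuotIdealEquiv (E := E) ((maximalIdeal R) ^ n)).length_eq.symm.trans
    (length_hom f hf _ (isFiniteLength_quot_pow n))

theorem isFiniteLength_En (hf : IsInjectiveHull f) (n : ℕ) : IsFiniteLength R (En R E n) := by
  rw [← Module.length_ne_top_iff, length_En f hf n, Module.length_ne_top_iff]
  exact isFiniteLength_quot_pow n

/-- every map `E_n → E` is multiplication by a scalar. -/
theorem exists_smul_eq (hf : IsInjectiveHull f) (n : ℕ) (φ : En R E n →ₗ[R] E) :
    ∃ r : R, ∀ x : En R E n, φ x = r • (x : E) := by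
  let μ₀ : R →ₗ[R] (En R E n →ₗ[R] E) := LinearMap.toSpanSingleton R _ (En R E n).subtype
  have hker : (maximalIdeal R) ^ n ≤ LinearMap.ker μ₀ := by
    intro a ha
    rw [LinearMap.mem_ker]
    ext x
    show a • (x : E) = 0
    exact mem_En_iff.mp x.2 a ha
  let μ : (R ⧸ (maximalIdeal R) ^ n) →ₗ[R] (En R E n →ₗ[R] E) :=
    Submodule.liftQ ((maximalIdeal R) ^ n) μ₀ hker
  have hμ : ∀ r : R, ∀ x : En R E n, μ (Ideal.Quotient.mk _ r) x = r • (x : E) := by
    intro r x; rfl
  have hinj : Function.Injective μ := by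
    rw [← LinearMap.ker_eq_bot, LinearMap.ker_eq_bot']
    intro q hq
    obtain ⟨r, rfl⟩ := Ideal.Quotient.mk_surjective q
    apply Ideal.Quotient.eq_zero_iff_mem.mpr
    apply mem_pow_of_forall_smul_eq_zero f hf n r
    intro x hx
    have := congrArg (fun G : En R E n →ₗ[R] E => G ⟨x, hx⟩) hq
    simpa [hμ] using this
  have hsurj : Function.Surjective μ := by
    apply surjective_of_injective_of_length_le μ hinj
    · rw [Module.length_ne_top_iff]; exact isFiniteLength_quot_pow n
    · rw [length_hom f hf _ (isFiniteLength_En f hf n), length_En f hf n]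
  obtain ⟨q, hq⟩ := hsurj φ
  obtain ⟨r, rfl⟩ := Ideal.Quotient.mk_surjective q
  exact ⟨r, fun x => by rw [← hq, hμ]⟩

theorem exists_smul_eq_end (hf : IsInjectiveHull f) (n : ℕ) (φ : Module.End R E) :
    ∃ r : R, ∀ x ∈ En R E n, φ x = r • x := by
  obtain ⟨r, hr⟩ := exists_smul_eq f hf n (φ.comp (En R E n).subtype)
  exact ⟨r, fun x hx => hr ⟨x, hx⟩⟩

/-- the `n`-th component of `End(E) → R̂`. -/
noncomputable def rhoFun (hf : IsInjectiveHull f) (n : ℕ) (φ : Module.End R E) :
    R ⧸ (maximalIdeal R) ^ n :=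
  Ideal.Quotient.mk _ (Classical.choose (exists_smul_eq_end f hf n φ))

theorem rhoFun_eq (hf : IsInjectiveHull f) (n : ℕ) (φ : Module.End R E) (r : R)
    (h : ∀ x ∈ En R E n, φ x = r • x) : rhoFun f hf n φ = Ideal.Quotient.mk _ r := by
  have hc := Classical.choose_spec (exists_smul_eq_end f hf n φ)
  rw [rhoFun, Ideal.Quotient.eq]
  apply mem_pow_of_forall_smul_eq_zero f hf n
  intro x hx
  rw [sub_smul, ← hc x hx, ← h x hx, sub_self]

/-- the `n`-th component of `End(E) → R̂` as a ring hom. -/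
noncomputable def rho (hf : IsInjectiveHull f) (n : ℕ) :
    Module.End R E →+* R ⧸ (maximalIdeal R) ^ n where
  toFun := rhoFun f hf n
  map_one' := rhoFun_eq f hf n 1 1 (fun x _ => by simp)
  map_mul' φ ψ := by
    obtain ⟨r, hr⟩ := exists_smul_eq_end f hf n φ
    obtain ⟨s, hs⟩ := exists_smul_eq_end f hf n ψ
    rw [rhoFun_eq f hf n φ r hr, rhoFun_eq f hf n ψ s hs, ← map_mul]
    apply rhoFun_eq
    intro x hx
    rw [Module.End.mul_apply, hs x hx, map_smul, hr x hx, smul_smul, mul_comm]
  map_zero' := rhoFun_eq f hf n 0 0 (fun x _ => by simp)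
  map_add' φ ψ := by
    obtain ⟨r, hr⟩ := exists_smul_eq_end f hf n φ
    obtain ⟨s, hs⟩ := exists_smul_eq_end f hf n ψ
    rw [rhoFun_eq f hf n φ r hr, rhoFun_eq f hf n ψ s hs, ← map_add]
    apply rhoFun_eq
    intro x hx
    rw [LinearMap.add_apply, hs x hx, hr x hx, add_smul]

theorem rho_eq (hf : IsInjectiveHull f) (n : ℕ) (φ : Module.End R E) (r : R)
    (h : ∀ x ∈ En R E n, φ x = r • x) : rho f hf n φ = Ideal.Quotient.mk _ r :=
  rhoFun_eq f hf n φ r h

theorem rho_compat (hf : IsInjectiveHull f) {m n : ℕ} (hle : m ≤ n) :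
    (Ideal.Quotient.factorPow (maximalIdeal R) hle).comp (rho f hf n) = rho f hf m := by
  ext φ
  obtain ⟨r, hr⟩ := exists_smul_eq_end f hf n φ
  rw [RingHom.comp_apply, rho_eq f hf n φ r hr, Ideal.Quotient.factor_mk,
    rho_eq f hf m φ r (fun x hx => hr x (En_mono hle hx))]

/-- `End(E) → R̂`. -/
noncomputable def endToCompletion (hf : IsInjectiveHull f) :
    Module.End R E →+* AdicCompletion (maximalIdeal R) R :=
  AdicCompletion.liftRingHom (maximalIdeal R) (rho f hf) (fun hle => rho_compat f hf hle)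

@[simp] theorem evalₐ_endToCompletion (hf : IsInjectiveHull f) (n : ℕ) (φ : Module.End R E) :
    AdicCompletion.evalₐ (maximalIdeal R) n (endToCompletion f hf φ) = rho f hf n φ :=
  AdicCompletion.evalₐ_liftRingHom _ _ _ _ _

theorem endToCompletion_injective (hf : IsInjectiveHull f) :
    Function.Injective (endToCompletion f hf) := by
  rw [injective_iff_map_eq_zero]
  intro φ hφ
  ext x
  obtain ⟨n, hn⟩ := isPowerTorsion_of_essential f hf.toIsEssentialInj x
  have hx : x ∈ En R E n := mem_En_iff.mpr hn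
  obtain ⟨r, hr⟩ := exists_smul_eq_end f hf n φ
  have h1 : rho f hf n φ = 0 := by
    rw [← evalₐ_endToCompletion, hφ, map_zero]
  rw [rho_eq f hf n φ r hr] at h1
  have h2 : r ∈ (maximalIdeal R) ^ n := Ideal.Quotient.eq_zero_iff_mem.mp h1
  rw [hr x hx, hn r h2]
  rfl

end EndE

section Surj

variable {R : Type u} [CommRing R] [IsLocalRing R]
  {E : Type u} [AddCommGroup E] [Module R E]

/-- the endomorphism attached to a Cauchy sequence, as a function. -/
noncomputable def seqFun (s : ℕ → R) (hT : IsPowerTorsion (maximalIdeal R) E) (x : E) : E := by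
  classical
  exact s (Nat.find (hT x)) • x

theorem seqFun_eq (s : ℕ → R) (hs : ∀ m n, m ≤ n → s n - s m ∈ (maximalIdeal R) ^ m)
    (hT : IsPowerTorsion (maximalIdeal R) E) (x : E) (N : ℕ)
    (hN : ∀ a ∈ (maximalIdeal R) ^ N, a • x = 0) : seqFun s hT x = s N • x := by
  classical
  have hspec := Nat.find_spec (hT x)
  have hle : Nat.find (hT x) ≤ N := Nat.find_min' (hT x) hN
  have h1 := hspec _ (hs _ _ hle)
  rw [sub_smul, sub_eq_zero] at h1
  rw [h1]
  rfl

/-- the endomorphism attached to a Cauchy sequence. -/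
noncomputable def seqEnd (s : ℕ → R) (hs : ∀ m n, m ≤ n → s n - s m ∈ (maximalIdeal R) ^ m)
    (hT : IsPowerTorsion (maximalIdeal R) E) : Module.End R E where
  toFun := seqFun s hT
  map_add' x y := by
    obtain ⟨n₁, h₁⟩ := hT x
    obtain ⟨n₂, h₂⟩ := hT y
    have hx : ∀ a ∈ (maximalIdeal R) ^ (max n₁ n₂), a • x = 0 :=
      fun a ha => h₁ a (Ideal.pow_le_pow_right (le_max_left _ _) ha)
    have hy : ∀ a ∈ (maximalIdeal R) ^ (max n₁ n₂), a • y = 0 :=
      fun a ha => h₂ a (Ideal.pow_le_pow_right (le_max_right _ _) ha)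
    have hxy : ∀ a ∈ (maximalIdeal R) ^ (max n₁ n₂), a • (x + y) = 0 :=
      fun a ha => by rw [smul_add, hx a ha, hy a ha, add_zero]
    rw [seqFun_eq s hs hT x _ hx, seqFun_eq s hs hT y _ hy, seqFun_eq s hs hT (x + y) _ hxy,
      smul_add]
  map_smul' c x := by
    obtain ⟨n₁, h₁⟩ := hT x
    have hcx : ∀ a ∈ (maximalIdeal R) ^ n₁, a • (c • x) = 0 :=
      fun a ha => by rw [smul_comm, h₁ a ha, smul_zero]
    rw [seqFun_eq s hs hT x _ h₁, seqFun_eq s hs hT (c • x) _ hcx, smul_comm]
    rfl

theorem seqEnd_apply (s : ℕ → R) (hs : ∀ m n, m ≤ n → s n - s m ∈ (maximalIdeal R) ^ m)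
    (hT : IsPowerTorsion (maximalIdeal R) E) (x : E) (N : ℕ)
    (hN : ∀ a ∈ (maximalIdeal R) ^ N, a • x = 0) : seqEnd s hs hT x = s N • x :=
  seqFun_eq s hs hT x N hN

end Surj

section Final

variable {R : Type u} [CommRing R] [IsLocalRing R] [IsNoetherianRing R]
  {E : Type u} [AddCommGroup E] [Module R E]
  (f : ResidueField R →ₗ[R] E)

theorem endToCompletion_surjective (hf : IsInjectiveHull f) :
    Function.Surjective (endToCompletion f hf) := by
  intro a
  obtain ⟨s, rfl⟩ := AdicCompletion.mk_surjective (maximalIdeal R) R a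
  have hs : ∀ m n, m ≤ n → s n - s m ∈ (maximalIdeal R) ^ m := by
    intro m n hmn
    have h1 := AdicCompletion.AdicCauchySequence.mk_eq_mk hmn s
    have h2 := (Submodule.Quotient.eq _).mp h1
    simpa using h2
  have hT := isPowerTorsion_of_essential f hf.toIsEssentialInj
  refine ⟨seqEnd (fun n => s n) hs hT, ?_⟩
  apply AdicCompletion.ext_evalₐ
  intro n
  rw [evalₐ_endToCompletion, AdicCompletion.evalₐ_mk]
  apply rho_eq
  intro x hx
  exact seqEnd_apply _ hs hT x n (mem_En_iff.mp hx)

/-- `End(E) ≃ₐ R̂`. -/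
noncomputable def endEquivCompletion (hf : IsInjectiveHull f) :
    Module.End R E ≃ₐ[R] AdicCompletion (maximalIdeal R) R :=
  AlgEquiv.ofBijective
    ({ endToCompletion f hf with
       commutes' := fun r => by
        apply AdicCompletion.ext_evalₐ
        intro n
        show AdicCompletion.evalₐ (maximalIdeal R) n (endToCompletion f hf _) = _
        rw [evalₐ_endToCompletion, AlgHom.commutes]
        apply rho_eq
        intro x _
        rfl } : Module.End R E →ₐ[R] AdicCompletion (maximalIdeal R) R)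
    ⟨endToCompletion_injective f hf, endToCompletion_surjective f hf⟩

end Final

end Groth.Agent.H8.Matlis
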