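import Mathlib
import Groth.Prelude.Def_Wider
import Groth.Agent.Lib.helper8.MatlisD

/-!
# Matlis duality toolbox, part E (helper8): reflexivity, complete local rings.
-/

universe u

namespace Groth.Agent.H8.Matlis

open LocCoh InjHull IsLocalRing

section Reflexive

variable {R : Type u} [CommRing R] [IsLocalRing R]
  {E : Type u} [AddCommGroup E] [Module R E]
  (f : ResidueField R →ₗ[R] E)

/-- surjectivity of the evaluation map passes to quotients. -/
theorem applyₗ_surjective_of_surjective (hf : IsInjectiveHull f)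
    {M M' : Type u} [AddCommGroup M] [Module R M] [AddCommGroup M'] [Module R M']
    (g : M →ₗ[R] M') (hg : Function.Surjective g)
    (hM : Function.Surjective (LinearMap.applyₗ : M →ₗ[R] (M →ₗ[R] E) →ₗ[R] E)) :
    Function.Surjective (LinearMap.applyₗ : M' →ₗ[R] (M' →ₗ[R] E) →ₗ[R] E) := by
  intro ψ
  have hinj : Function.Injective (LinearMap.lcomp R E g) := by
    intro k k' h
    ext m'
    obtain ⟨m, rfl⟩ := hg m'
    exact congrArg (fun F : M →ₗ[R] E => F m) h
  haveI := hf.isInjective
  obtain ⟨ψ', hψ'⟩ := Module.Injective.extension_property R E _ _ (LinearMap.lcomp R E g) hinj ψ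
  obtain ⟨m, hm⟩ := hM ψ'
  refine ⟨g m, ?_⟩
  ext k
  have h1 := congrArg (fun F : (M' →ₗ[R] E) →ₗ[R] E => F k) hψ'
  have h2 := congrArg (fun F : (M →ₗ[R] E) →ₗ[R] E => F (k.comp g)) hm
  simp only [LinearMap.comp_apply] at h1
  simp only [LinearMap.applyₗ_apply_apply] at h2 ⊢
  rw [← h1]
  exact h2

/-- surjectivity of the evaluation map passes to submodules. -/
theorem applyₗ_surjective_of_injective (hf : IsInjectiveHull f)
    {M M' : Type u} [AddCommGroup M] [Module R M] [AddCommGroup M'] [Module R M']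
    (g : M' →ₗ[R] M) (hg : Function.Injective g)
    (hM : Function.Surjective (LinearMap.applyₗ : M →ₗ[R] (M →ₗ[R] E) →ₗ[R] E)) :
    Function.Surjective (LinearMap.applyₗ : M' →ₗ[R] (M' →ₗ[R] E) →ₗ[R] E) := by
  intro ψ
  obtain ⟨m, hm⟩ := hM (ψ.comp (LinearMap.lcomp R E g))
  have hm' : ∀ h : M →ₗ[R] E, h m = ψ (h.comp g) := by
    intro h
    exact congrArg (fun F : (M →ₗ[R] E) →ₗ[R] E => F h) hm
  have hmem : m ∈ LinearMap.range g := by
    by_contra hmem
    have hne : (LinearMap.range g).mkQ m ≠ 0 := by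
      rwa [Ne, Submodule.mkQ_apply, Submodule.Quotient.mk_eq_zero]
    obtain ⟨c, hc⟩ := exists_hom_ne_zero f hf hne
    apply hc
    have h0 : (c.comp (LinearMap.range g).mkQ).comp g = 0 := by
      ext m'
      show c ((LinearMap.range g).mkQ (g m')) = 0
      have : (LinearMap.range g).mkQ (g m') = 0 := by
        rw [Submodule.mkQ_apply, Submodule.Quotient.mk_eq_zero]; exact ⟨m', rfl⟩
      rw [this, map_zero]
    have := hm' (c.comp (LinearMap.range g).mkQ)
    rw [h0, map_zero] at this
    exact this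
  obtain ⟨m', rfl⟩ := hmem
  refine ⟨m', ?_⟩
  ext k
  haveI := hf.isInjective
  obtain ⟨h, hh⟩ := Module.Injective.extension_property R E _ _ g hg k
  rw [← hh, ← hm' h]
  rfl

/-- surjectivity of the evaluation map passes to finite products. -/
theorem applyₗ_surjective_pi {ι : Type u} [Fintype ι] [DecidableEq ι]
    {N : Type u} [AddCommGroup N] [Module R N]
    (hN : Function.Surjective (LinearMap.applyₗ : N →ₗ[R] (N →ₗ[R] E) →ₗ[R] E)) :
    Function.Surjective
      (LinearMap.applyₗ : (ι → N) →ₗ[R] ((ι → N) →ₗ[R] E) →ₗ[R] E) := by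
  intro ψ
  have key : ∀ i : ι, ∃ n : N, ∀ k : N →ₗ[R] E, ψ (k.comp (LinearMap.proj i)) = k n := by
    intro i
    obtain ⟨n, hn⟩ := hN (ψ.comp (LinearMap.lcomp R E (LinearMap.proj i : (ι → N) →ₗ[R] N)))
    refine ⟨n, fun k => ?_⟩
    exact (congrArg (fun F : (N →ₗ[R] E) →ₗ[R] E => F k) hn).symm
  choose n hn using key
  refine ⟨n, ?_⟩
  ext h
  have hsum : h = ∑ i, (h.comp (LinearMap.single R (fun _ : ι => N) i)).comp
      (LinearMap.proj i) := by
    ext v
    simp only [LinearMap.sum_apply, LinearMap.comp_apply, LinearMap.proj_apply,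
      LinearMap.single_apply]
    rw [← map_sum, Finset.univ_sum_single]
  show h n = ψ h
  conv_rhs => rw [hsum, map_sum]
  simp only [hn]
  simp only [LinearMap.comp_apply, LinearMap.single_apply]
  rw [← map_sum, Finset.univ_sum_single]

end Reflexive

section Complete

variable {R : Type u} [CommRing R] [IsLocalRing R] [IsNoetherianRing R]
  [IsAdicComplete (maximalIdeal R) R]
  {E : Type u} [AddCommGroup E] [Module R E]
  (f : ResidueField R →ₗ[R] E)

/-- over a complete local ring every endomorphism of `E` is a homothety. -/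
theorem end_eq_smul (hf : IsInjectiveHull f) (φ : Module.End R E) :
    ∃ r : R, ∀ x : E, φ x = r • x := by
  let e := endEquivCompletion f hf
  let c := AdicCompletion.ofAlgEquiv (maximalIdeal R) (S := R)
  refine ⟨c.symm (e φ), fun x => ?_⟩
  have h1 : e (algebraMap R (Module.End R E) (c.symm (e φ))) = e φ := by
    rw [e.commutes]
    have h2 := c.commutes (c.symm (e φ))
    rw [Algebra.algebraMap_self_apply, AlgEquiv.apply_symm_apply] at h2
    exact h2.symm
  have h3 := e.injective h1
  have h4 := congrArg (fun F : Module.End R E => F x) h3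
  exact h4.symm

/-- annihilators detect strict inclusions of submodules of `E`. -/
theorem annihilator_lt_of_lt (hf : IsInjectiveHull f) {N' N : Submodule R E} (h : N' < N) :
    Module.annihilator R N < Module.annihilator R N' := by
  have hle : Module.annihilator R N ≤ Module.annihilator R N' := by
    intro r hr
    rw [Module.mem_annihilator] at hr ⊢
    intro m
    have h1 := hr ⟨m.1, h.le m.2⟩
    apply Subtype.ext
    have h2 : r • (m : E) = 0 := congrArg Subtype.val h1
    exact h2
  refine lt_of_le_of_ne hle ?_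
  intro heq
  obtain ⟨x, hxN, hxN'⟩ := Set.exists_of_ssubset h
  have hne : N'.mkQ x ≠ 0 := by
    rwa [Ne, Submodule.mkQ_apply, Submodule.Quotient.mk_eq_zero]
  obtain ⟨g, hg⟩ := exists_hom_ne_zero f hf hne
  obtain ⟨r, hr⟩ := end_eq_smul f hf (g.comp N'.mkQ)
  have hr' : r ∈ Module.annihilator R N' := by
    rw [Module.mem_annihilator]
    intro m
    apply Subtype.ext
    show r • (m : E) = 0
    rw [← hr]
    show g (N'.mkQ (m : E)) = 0
    have : N'.mkQ (m : E) = 0 := by
      rw [Submodule.mkQ_apply, Submodule.Quotient.mk_eq_zero]; exact m.2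
    rw [this, map_zero]
  rw [← heq, Module.mem_annihilator] at hr'
  apply hg
  have h1 := congrArg Subtype.val (hr' ⟨x, hxN⟩)
  have h2 : r • x = 0 := h1
  rw [← hr] at h2
  exact h2

/-- over a complete local ring `E` is Artinian. -/
theorem isArtinian_hull (hf : IsInjectiveHull f) : IsArtinian R E := by
  have hanti : StrictAnti (fun N : Submodule R E => Module.annihilator R N) :=
    fun _ _ h => annihilator_lt_of_lt f hf h
  exact hanti.wellFoundedLT

theorem applyₗ_surjective_self (hf : IsInjectiveHull f) :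
    Function.Surjective (LinearMap.applyₗ : R →ₗ[R] (R →ₗ[R] E) →ₗ[R] E) := by
  intro ψ
  obtain ⟨r, hr⟩ := end_eq_smul f hf
    (ψ.comp (LinearMap.ringLmapEquivSelf R R E).symm.toLinearMap)
  refine ⟨r, ?_⟩
  ext h
  have h1 := hr (h 1)
  have h2 : (LinearMap.ringLmapEquivSelf R R E).symm (h 1) = h := by
    rw [LinearEquiv.symm_apply_eq]; rfl
  simp only [LinearMap.comp_apply, LinearEquiv.coe_coe, h2] at h1
  show h r = ψ h
  rw [h1, ← map_smul, smul_eq_mul, mul_one]

theorem applyₗ_surjective_hull (hf : IsInjectiveHull f) :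
    Function.Surjective (LinearMap.applyₗ : E →ₗ[R] (E →ₗ[R] E) →ₗ[R] E) := by
  intro ψ
  refine ⟨ψ 1, ?_⟩
  ext φ
  obtain ⟨r, hr⟩ := end_eq_smul f hf φ
  have h1 : φ = r • (1 : Module.End R E) := by
    ext x; rw [hr]; rfl
  show φ (ψ 1) = ψ φ
  rw [hr, h1, map_smul]

/-- Matlis duality for finite modules. -/
theorem duality_finite (hf : IsInjectiveHull f) (M : Type u) [AddCommGroup M] [Module R M]
    [Module.Finite R M] :
    IsArtinian R (M →ₗ[R] E) ∧
      Function.Bijective (LinearMap.applyₗ : M →ₗ[R] (M →ₗ[R] E) →ₗ[R] E) := by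
  classical
  obtain ⟨n, g, hg⟩ := Module.Finite.exists_fin' R M
  constructor
  · haveI := isArtinian_hull f hf
    haveI : IsArtinian R ((Fin n → R) →ₗ[R] E) :=
      isArtinian_of_injective (Module.piEquiv (Fin n) R E).symm.toLinearMap
        (Module.piEquiv (Fin n) R E).symm.injective
    have hinj : Function.Injective (LinearMap.lcomp R E g) := by
      intro k k' h
      ext m'
      obtain ⟨m, rfl⟩ := hg m'
      exact congrArg (fun F : (Fin n → R) →ₗ[R] E => F m) h
    exact isArtinian_of_injective _ hinj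
  · refine ⟨applyₗ_injective f hf M, ?_⟩
    have h1 : Function.Surjective
        (LinearMap.applyₗ : (ULift.{u} (Fin n) → R) →ₗ[R] ((ULift.{u} (Fin n) → R) →ₗ[R] E) →ₗ[R] E) :=
      applyₗ_surjective_pi (applyₗ_surjective_self f hf)
    let e : (ULift.{u} (Fin n) → R) ≃ₗ[R] (Fin n → R) :=
      LinearEquiv.funCongrLeft R R Equiv.ulift.symm
    exact applyₗ_surjective_of_surjective f hf (g.comp e.toLinearMap)
      (hg.comp e.surjective) h1

end Complete

section Artinian

variable {R : Type u} [CommRing R] [IsLocalRing R]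
  {E : Type u} [AddCommGroup E] [Module R E]
  (f : ResidueField R →ₗ[R] E)

/-- an Artinian module embeds into a finite power of `E`. -/
theorem exists_finset_ker_eq_bot (hf : IsInjectiveHull f) (M : Type u) [AddCommGroup M]
    [Module R M] [IsArtinian R M] :
    ∃ s : Finset (M →ₗ[R] E), ∀ m : M, (∀ g ∈ s, g m = 0) → m = 0 := by
  classical
  let S : Set (Submodule R M) :=
    {K | ∃ s : Finset (M →ₗ[R] E), K = ⨅ g ∈ s, LinearMap.ker g}
  have hS : S.Nonempty := ⟨_, ⟨∅, rfl⟩⟩
  obtain ⟨K, ⟨s, rfl⟩, hmin⟩ := IsArtinian.set_has_minimal S hS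
  refine ⟨s, fun m hm => ?_⟩
  by_contra hm0
  obtain ⟨h, hh⟩ := exists_hom_ne_zero f hf hm0
  have hmem : m ∈ ⨅ g ∈ s, LinearMap.ker g := by
    simp only [Submodule.mem_iInf, LinearMap.mem_ker]
    exact hm
  apply hmin (⨅ g ∈ insert h s, LinearMap.ker g) ⟨insert h s, rfl⟩
  rw [Finset.iInf_insert]
  refine lt_of_le_of_ne inf_le_right ?_
  intro heq
  have : m ∈ LinearMap.ker h ⊓ ⨅ g ∈ s, LinearMap.ker g := by rw [heq]; exact hmem
  exact hh this.1

end Artinian

section CompleteArtinian

variable {R : Type u} [CommRing R] [IsLocalRing R] [IsNoetherianRing R]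
  [IsAdicComplete (maximalIdeal R) R]
  {E : Type u} [AddCommGroup E] [Module R E]
  (f : ResidueField R →ₗ[R] E)

theorem finite_end (hf : IsInjectiveHull f) : Module.Finite R (Module.End R E) := by
  apply Module.Finite.of_surjective (LinearMap.toSpanSingleton R (Module.End R E) 1)
  intro φ
  obtain ⟨r, hr⟩ := end_eq_smul f hf φ
  refine ⟨r, ?_⟩
  ext x
  rw [hr]
  rfl

/-- Matlis duality for Artinian modules. -/
theorem duality_artinian (hf : IsInjectiveHull f) (M : Type u) [AddCommGroup M] [Module R M]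
    [IsArtinian R M] :
    Module.Finite R (M →ₗ[R] E) ∧
      Function.Bijective (LinearMap.applyₗ : M →ₗ[R] (M →ₗ[R] E) →ₗ[R] E) := by
  classical
  obtain ⟨s, hs⟩ := exists_finset_ker_eq_bot f hf M
  let ι : Type u := ↥s
  let G : M →ₗ[R] (ι → E) := LinearMap.pi (fun g : ι => g.1)
  have hG : Function.Injective G := by
    rw [← LinearMap.ker_eq_bot, LinearMap.ker_eq_bot']
    intro m hm
    apply hs m
    intro g hg
    exact congrFun hm ⟨g, hg⟩
  constructor
  · haveI := finite_end f hf
    haveI : Module.Finite R ((ι → E) →ₗ[R] E) :=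
      Module.Finite.equiv (LinearMap.lsum R (fun _ : ι => E) R)
    have hsurj : Function.Surjective (LinearMap.lcomp R E G) := by
      intro k
      haveI := hf.isInjective
      obtain ⟨h, hh⟩ := Module.Injective.extension_property R E _ _ G hG k
      exact ⟨h, hh⟩
    exact Module.Finite.of_surjective _ hsurj
  · refine ⟨applyₗ_injective f hf M, ?_⟩
    have h1 : Function.Surjective
        (LinearMap.applyₗ : (ι → E) →ₗ[R] ((ι → E) →ₗ[R] E) →ₗ[R] E) :=
      applyₗ_surjective_pi (applyₗ_surjective_hull f hf)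
    exact applyₗ_surjective_of_injective f hf G hG h1

end CompleteArtinian

end Groth.Agent.H8.Matlis
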