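import Mathlib
import Groth.Prelude.Def_Wider
import Groth.Agent.Lib.helper8.MatlisE
import Groth.Agent.S0543
import Groth.Agent.Lib.helper1.InjHull2

/-!
# Matlis duality toolbox, part G (helper8): `E` is Artinian over any Noetherian local ring
(uses that the completion is Noetherian, `Groth.Agent.S0543`).
-/

universe u

namespace Groth.Agent.H8.Matlis

open LocCoh InjHull IsLocalRing

section ArtinianHull

variable {R : Type u} [CommRing R] [IsLocalRing R] [IsNoetherianRing R]
  {E : Type u} [AddCommGroup E] [Module R E]
  (f : ResidueField R →ₗ[R] E)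

theorem isNoetherianRing_end (hf : IsInjectiveHull f) : IsNoetherianRing (Module.End R E) := by
  haveI : IsNoetherianRing (AdicCompletion (maximalIdeal R) R) :=
    Groth.Agent.S0543.result R (maximalIdeal R)
  exact isNoetherianRing_of_ringEquiv _ (endEquivCompletion f hf).symm.toRingEquiv

/-- the left ideal of endomorphisms killing a submodule. -/
def annEnd (N : Submodule R E) : Submodule (Module.End R E) (Module.End R E) where
  carrier := {φ | ∀ x ∈ N, φ x = 0}
  add_mem' := by
    intro φ ψ hφ hψ x hx
    rw [LinearMap.add_apply, hφ x hx, hψ x hx, add_zero]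
  zero_mem' := fun x _ => rfl
  smul_mem' := by
    intro ψ φ hφ x hx
    show ψ (φ x) = 0
    rw [hφ x hx, map_zero]

omit [IsNoetherianRing R] in
theorem annEnd_lt_of_lt (hf : IsInjectiveHull f) {N' N : Submodule R E} (h : N' < N) :
    annEnd N < annEnd N' := by
  have hle : annEnd N ≤ annEnd N' := fun φ hφ x hx => hφ x (h.le hx)
  refine lt_of_le_of_ne hle ?_
  intro heq
  obtain ⟨x, hxN, hxN'⟩ := Set.exists_of_ssubset h
  have hne : N'.mkQ x ≠ 0 := by
    rwa [Ne, Submodule.mkQ_apply, Submodule.Quotient.mk_eq_zero]
  obtain ⟨g, hg⟩ := exists_hom_ne_zero f hf hne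
  have hmem : g.comp N'.mkQ ∈ annEnd N' := by
    intro m hm
    show g (N'.mkQ m) = 0
    have : N'.mkQ m = 0 := by
      rw [Submodule.mkQ_apply, Submodule.Quotient.mk_eq_zero]; exact hm
    rw [this, map_zero]
  rw [← heq] at hmem
  exact hg (hmem x hxN)

/-- over a Noetherian local ring `E` is Artinian. -/
theorem isArtinian_hull' (hf : IsInjectiveHull f) : IsArtinian R E := by
  haveI := isNoetherianRing_end f hf
  have hanti : StrictAnti (fun N : Submodule R E => annEnd N) :=
    fun _ _ h => annEnd_lt_of_lt f hf h
  exact hanti.wellFoundedLT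

/-- duals of finite modules are Artinian. -/
theorem isArtinian_dual_of_finite (hf : IsInjectiveHull f) (M : Type u) [AddCommGroup M]
    [Module R M] [Module.Finite R M] : IsArtinian R (M →ₗ[R] E) := by
  obtain ⟨n, g, hg⟩ := Module.Finite.exists_fin' R M
  haveI := isArtinian_hull' f hf
  haveI : IsArtinian R ((Fin n → R) →ₗ[R] E) :=
    isArtinian_of_injective (Module.piEquiv (Fin n) R E).symm.toLinearMap
      (Module.piEquiv (Fin n) R E).symm.injective
  have hinj : Function.Injective (LinearMap.lcomp R E g) := by
    intro k k' h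
    ext m'
    obtain ⟨m, rfl⟩ := hg m'
    exact congrArg (fun F : (Fin n → R) →ₗ[R] E => F m) h
  exact isArtinian_of_injective _ hinj

omit [IsNoetherianRing R] in
theorem annihilator_dual (hf : IsInjectiveHull f) (G : Type u) [AddCommGroup G] [Module R G] :
    Module.annihilator R G = Module.annihilator R (G →ₗ[R] E) := by
  ext r
  rw [Module.mem_annihilator, Module.mem_annihilator]
  constructor
  · intro h φ
    ext g
    show r • φ g = 0
    rw [← map_smul, h g, map_zero]
  · intro h g
    by_contra hg
    obtain ⟨φ, hφ⟩ := exists_hom_ne_zero f hf hg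
    apply hφ
    have := congrArg (fun F : G →ₗ[R] E => F g) (h φ)
    simpa using this

end ArtinianHull

section ArtinianIff

variable {R : Type u} [CommRing R] [IsLocalRing R] [IsNoetherianRing R]

/-- Artinian modules over a Noetherian local ring are power torsion. -/
theorem isPowerTorsion_of_isArtinian (M : Type u) [AddCommGroup M] [Module R M] [IsArtinian R M] :
    IsPowerTorsion (maximalIdeal R) M := by
  intro x
  let F : ℕ →o (Submodule R M)ᵒᵈ :=
    ⟨fun n => OrderDual.toDual ((maximalIdeal R) ^ n • Submodule.span R {x}), by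
      intro m n hmn
      show (maximalIdeal R) ^ n • Submodule.span R {x} ≤ (maximalIdeal R) ^ m • Submodule.span R {x}
      exact Submodule.smul_mono_left (Ideal.pow_le_pow_right hmn)⟩
  obtain ⟨n, hn⟩ := IsArtinian.monotone_stabilizes F
  have h1 : (maximalIdeal R) ^ n • Submodule.span R {x}
      = (maximalIdeal R) ^ (n + 1) • Submodule.span R {x} := hn (n + 1) (Nat.le_succ n)
  have hfg : ((maximalIdeal R) ^ n • Submodule.span R {x}).FG :=
    Submodule.FG.smul (IsNoetherian.noetherian _) (Submodule.fg_span_singleton x)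
  have h2 : (maximalIdeal R) ^ n • Submodule.span R {x} = ⊥ := by
    apply Submodule.eq_bot_of_le_smul_of_le_jacobson_bot (maximalIdeal R) _ hfg
    · conv_lhs => rw [h1]
      rw [pow_succ', Submodule.mul_smul]
    · exact IsLocalRing.maximalIdeal_le_jacobson _
  refine ⟨n, fun a ha => ?_⟩
  have : a • x ∈ (maximalIdeal R) ^ n • Submodule.span R {x} :=
    Submodule.smul_mem_smul ha (Submodule.mem_span_singleton_self x)
  rw [h2] at this
  exact (Submodule.mem_bot R).mp this

theorem finite_socle_of_isArtinian (M : Type u) [AddCommGroup M] [Module R M] [IsArtinian R M] :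
    Module.Finite (R ⧸ maximalIdeal R) ↥(torsionBy (maximalIdeal R) M) := by
  letI : Field (R ⧸ maximalIdeal R) := Ideal.Quotient.field _
  have h1 : IsArtinian (R ⧸ maximalIdeal R) ↥(torsionBy (maximalIdeal R) M) :=
    isArtinian_of_tower R inferInstance
  exact (IsSemisimpleModule.finite_tfae.out 0 2).mpr h1

theorem isArtinian_iff (M : Type u) [AddCommGroup M] [Module R M] :
    IsArtinian R M ↔ (IsPowerTorsion (maximalIdeal R) M ∧
      Module.Finite (R ⧸ maximalIdeal R) ↥(torsionBy (maximalIdeal R) M)) := by
  constructor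
  · intro h
    exact ⟨isPowerTorsion_of_isArtinian M, finite_socle_of_isArtinian M⟩
  · rintro ⟨hT, hF⟩
    obtain ⟨E, _, _, f, hf⟩ :=
      Groth.Agent.Lib.helper1.InjHullLib.exists_injective_hull (R := R) (ResidueField R)
    obtain ⟨g, hg⟩ := exists_embedding f hf M hT _ rfl
    haveI := isArtinian_hull' f hf
    exact isArtinian_of_injective g hg

end ArtinianIff

end Groth.Agent.H8.Matlis
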