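import Mathlib
import Groth.Prelude.Def_Wider
import Groth.Agent.Lib.helper8.MatlisD
import Groth.Agent.Lib.helper1.InjHull2

/-!
# Matlis duality toolbox, part H (helper8): flat local base change of the hull.
-/

universe u

namespace Groth.Agent.H8.Matlis

open LocCoh InjHull IsLocalRing
open scoped TensorProduct

section Transport

variable {R : Type u} [CommRing R] {M E E' : Type u} [AddCommGroup M] [Module R M]
  [AddCommGroup E] [Module R E] [AddCommGroup E'] [Module R E']

/-- injective hulls can be transported along linear equivalences. -/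
theorem isInjectiveHull_of_equiv (f : M →ₗ[R] E) (hf : IsInjectiveHull f) (e : E ≃ₗ[R] E') :
    IsInjectiveHull (e.toLinearMap.comp f) := by
  refine ⟨⟨e.injective.comp hf.injective, fun N hN => ?_⟩, ?_⟩
  · have hN' : N.comap e.toLinearMap ≠ ⊥ := by
      intro h
      apply hN
      rw [eq_bot_iff]
      intro x hx
      have h1 : e.symm x ∈ N.comap e.toLinearMap := by
        show e (e.symm x) ∈ N
        rwa [e.apply_symm_apply]
      rw [h, Submodule.mem_bot] at h1
      rw [Submodule.mem_bot, ← e.apply_symm_apply x, h1, map_zero]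
    obtain ⟨y, ⟨hy1, hy2⟩, hy0⟩ := Submodule.exists_mem_ne_zero_of_ne_bot (hf.essential _ hN')
    intro hbot
    have hmem : e y ∈ N ⊓ LinearMap.range (e.toLinearMap.comp f) := by
      refine ⟨hy1, ?_⟩
      obtain ⟨m, rfl⟩ := hy2
      exact ⟨m, rfl⟩
    rw [hbot, Submodule.mem_bot] at hmem
    exact hy0 (e.injective (hmem.trans (map_zero e).symm))
  · exact Module.Baer.injective (Module.Baer.of_equiv e (Module.Baer.of_injective hf.isInjective))

end Transport

section BaseChange

variable {A : Type u} [CommRing A] [IsLocalRing A] [IsNoetherianRing A]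
  {B : Type u} [CommRing B] [IsLocalRing B] [Algebra A B]
  {E : Type u} [AddCommGroup E] [Module A E] (f : ResidueField A →ₗ[A] E)

omit [IsLocalRing A] [IsNoetherianRing A] [IsLocalRing B] in
/-- elements of `I.map` kill `t` if elements of `I` do. -/
theorem map_smul_eq_zero {I : Ideal A} {T : Type*} [AddCommGroup T] [Module A T] [Module B T]
    [IsScalarTower A B T] {t : T} (h : ∀ a ∈ I, a • t = 0) :
    ∀ c ∈ I.map (algebraMap A B), c • t = 0 := by
  intro c hc
  refine Submodule.span_induction ?_ ?_ ?_ ?_ hc
  · rintro _ ⟨a, ha, rfl⟩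
    rw [algebraMap_smul]; exact h a ha
  · exact zero_smul _ _
  · intro x y _ _ hx hy
    rw [add_smul, hx, hy, add_zero]
  · intro b x _ hx
    rw [smul_eq_mul, mul_smul, hx, smul_zero]

variable (hm : (maximalIdeal A).map (algebraMap A B) = maximalIdeal B)

include hm in
omit [IsNoetherianRing A] in
theorem isPowerTorsion_baseChange (hE : IsPowerTorsion (maximalIdeal A) E) :
    IsPowerTorsion (maximalIdeal B) (B ⊗[A] E) := by
  intro t
  induction t using TensorProduct.induction_on with
  | zero => exact ⟨0, fun a _ => smul_zero a⟩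
  | tmul b e =>
    obtain ⟨n, hn⟩ := hE e
    refine ⟨n, ?_⟩
    rw [← hm, ← Ideal.map_pow]
    refine map_smul_eq_zero (B := B) (T := B ⊗[A] E) ?_
    intro a ha
    rw [TensorProduct.smul_tmul', TensorProduct.smul_tmul, hn a ha, TensorProduct.tmul_zero]
  | add t t' ht ht' =>
    obtain ⟨n, hn⟩ := ht
    obtain ⟨n', hn'⟩ := ht'
    refine ⟨max n n', fun a ha => ?_⟩
    rw [smul_add, hn a (Ideal.pow_le_pow_right (le_max_left _ _) ha),
      hn' a (Ideal.pow_le_pow_right (le_max_right _ _) ha), add_zero]

include hm in
omit [IsNoetherianRing A] in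
theorem one_tmul_mem_socle : ∀ c ∈ maximalIdeal B, c • ((1 : B) ⊗ₜ[A] f 1) = 0 := by
  rw [← hm]
  refine map_smul_eq_zero (B := B) (T := B ⊗[A] E) (I := maximalIdeal A) ?_
  intro a ha
  rw [TensorProduct.smul_tmul', TensorProduct.smul_tmul, smul_range_eq_zero f ha ⟨1, rfl⟩,
    TensorProduct.tmul_zero]

/-- the hull map `k_B → B ⊗ E`. -/
noncomputable def bcHullMap : ResidueField B →ₗ[B] (B ⊗[A] E) :=
  socleHom ((1 : B) ⊗ₜ[A] f 1) (one_tmul_mem_socle f hm)

omit [IsNoetherianRing A] in
theorem bcHullMap_one : bcHullMap f hm 1 = (1 : B) ⊗ₜ[A] f 1 := socleHom_one _ _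

omit [IsNoetherianRing A] in
theorem lTensor_mem_range_bcHullMap (u : B ⊗[A] ResidueField A) :
    (f.lTensor B) u ∈ LinearMap.range (bcHullMap f hm) := by
  induction u using TensorProduct.induction_on with
  | zero => rw [map_zero]; exact zero_mem _
  | tmul b z =>
    obtain ⟨a', rfl⟩ := IsLocalRing.residue_surjective z
    have hs : f (IsLocalRing.residue A a') = a' • f 1 := by
      rw [← map_smul, smul_residue, mul_one]
    refine ⟨(a' • b) • 1, ?_⟩
    rw [map_smul, bcHullMap_one, LinearMap.lTensor_tmul, hs, TensorProduct.smul_tmul',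
      smul_eq_mul, mul_one, TensorProduct.smul_tmul]
  | add u u' hu hu' =>
    rw [map_add]; exact Submodule.add_mem _ hu hu'

theorem mem_range_bcHullMap [Module.Flat A B] (hf : IsEssentialInj f) (t : B ⊗[A] E)
    (ht : ∀ c ∈ maximalIdeal B, c • t = 0) : t ∈ LinearMap.range (bcHullMap f hm) := by
  classical
  obtain ⟨s, hs⟩ := (maximalIdeal A).fg_of_isNoetherianRing
  let φ : E →ₗ[A] (s → E) := LinearMap.pi (fun a => (a : A) • LinearMap.id)
  have hex : Function.Exact f φ := by
    intro x
    constructor
    · intro hx
      apply mem_range_of_smul_eq_zero f hf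
      intro a ha
      rw [← hs] at ha
      refine Submodule.span_induction ?_ ?_ ?_ ?_ ha
      · intro a has
        exact congrFun hx ⟨a, has⟩
      · exact zero_smul _ _
      · intro p q _ _ hp hq
        rw [add_smul, hp, hq, add_zero]
      · intro p q _ hq
        rw [smul_eq_mul, mul_smul, hq, smul_zero]
    · rintro ⟨z, rfl⟩
      funext a
      show (a : A) • f z = 0
      apply smul_range_eq_zero f _ ⟨z, rfl⟩
      rw [← hs]
      exact Submodule.subset_span a.2
  have hexB := Module.Flat.lTensor_exact B hex
  have key : ∀ t : B ⊗[A] E,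
      TensorProduct.piRightHom A A B (fun _ : s => E) ((φ.lTensor B) t)
        = fun a : s => ((a : A) • t : B ⊗[A] E) := by
    intro t
    induction t using TensorProduct.induction_on with
    | zero =>
      rw [map_zero, map_zero]
      funext a
      exact (smul_zero _).symm
    | tmul b e =>
      funext a
      rw [LinearMap.lTensor_tmul, TensorProduct.piRightHom_tmul]
      show b ⊗ₜ[A] ((a : A) • e) = _
      rw [TensorProduct.tmul_smul]
    | add t t' ht ht' =>
      rw [map_add, map_add, ht, ht']
      funext a
      simp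
  have hzero : (φ.lTensor B) t = 0 := by
    apply (TensorProduct.piRight A A B (fun _ : s => E)).injective
    rw [TensorProduct.piRight_apply, key, map_zero]
    funext a
    show (a : A) • t = 0
    rw [← algebraMap_smul B (a : A) t]
    apply ht
    rw [← hm]
    apply Ideal.mem_map_of_mem
    rw [← hs]
    exact Submodule.subset_span a.2
  obtain ⟨u, rfl⟩ := (hexB t).mp hzero
  exact lTensor_mem_range_bcHullMap f hm u

end BaseChange

section BaseChange2

variable {A : Type u} [CommRing A] [IsLocalRing A] [IsNoetherianRing A]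
  {B : Type u} [CommRing B] [IsLocalRing B] [IsNoetherianRing B] [Algebra A B]
  [IsLocalHom (algebraMap A B)] [Module.Flat A B]
  (hm : (maximalIdeal A).map (algebraMap A B) = maximalIdeal B)
  {E : Type u} [AddCommGroup E] [Module A E] (f : ResidueField A →ₗ[A] E)

omit [IsNoetherianRing A] [IsNoetherianRing B] in
theorem bcHullMap_injective (hf : IsEssentialInj f) : Function.Injective (bcHullMap f hm) := by
  haveI := isSimpleModule_residueField B
  refine (LinearMap.injective_or_eq_zero _).resolve_right ?_
  intro h0
  have h1 := bcHullMap_one f hm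
  rw [h0] at h1
  have hff : Module.FaithfullyFlat A B := Module.FaithfullyFlat.of_flat_of_isLocalHom
  have hinj := Module.FaithfullyFlat.tensorProduct_mk_injective (A := A) (B := B) E
  have h2 : TensorProduct.mk A B E 1 (f 1) = TensorProduct.mk A B E 1 0 := by
    rw [map_zero]
    exact h1.symm
  have h3 : f 1 = 0 := hinj h2
  exact one_ne_zero (hf.injective (h3.trans (map_zero f).symm))

include hm in
omit [IsNoetherianRing A] [IsNoetherianRing B] in
theorem length_baseChange_eq (M : Type u) [AddCommGroup M] [Module A M] :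
    Module.length B (B ⊗[A] M) = Module.length A M := by
  rw [IsLocalRing.length_baseChange A B M, hm]
  have : Module.length B (B ⧸ maximalIdeal B) = 1 := by
    haveI : IsSimpleModule B (B ⧸ maximalIdeal B) := isSimpleModule_residueField B
    exact Module.length_eq_one B _
  rw [this, mul_one]

include hm in
omit [IsNoetherianRing A] [IsNoetherianRing B] in
theorem length_quot_pow_eq (n : ℕ) :
    Module.length B (B ⧸ (maximalIdeal B) ^ n) = Module.length A (A ⧸ (maximalIdeal A) ^ n) := by
  rw [← length_baseChange_eq hm (A ⧸ (maximalIdeal A) ^ n)]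
  have e := Algebra.TensorProduct.quotIdealMapEquivTensorQuot B ((maximalIdeal A) ^ n)
  rw [← e.toLinearEquiv.length_eq, Ideal.map_pow, hm]

include hm in
omit [IsNoetherianRing A] [IsNoetherianRing B] [IsLocalHom (algebraMap A B)] [Module.Flat A B] in
theorem smul_baseChange_En_eq_zero (n : ℕ) (u : B ⊗[A] (En A E n)) :
    ∀ c ∈ (maximalIdeal B) ^ n, c • (LinearMap.baseChange B (En A E n).subtype u) = 0 := by
  induction u using TensorProduct.induction_on with
  | zero => intro c _; rw [map_zero, smul_zero]
  | tmul b e =>
    rw [← hm, ← Ideal.map_pow, LinearMap.baseChange_tmul]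
    refine map_smul_eq_zero (B := B) (T := B ⊗[A] E) ?_
    intro a ha
    rw [TensorProduct.smul_tmul', TensorProduct.smul_tmul]
    have : a • ((En A E n).subtype e) = 0 := mem_En_iff.mp e.2 a ha
    rw [this, TensorProduct.tmul_zero]
  | add u u' hu hu' =>
    intro c hc
    rw [map_add, smul_add, hu c hc, hu' c hc, add_zero]

include hm in
/-- flat local base change of the injective hull of the residue field. -/
theorem exists_hull_baseChange (hf : IsInjectiveHull f) :
    ∃ g : ResidueField B →ₗ[B] (B ⊗[A] E), IsInjectiveHull g := by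
  obtain ⟨E', _, _, f', hf'⟩ :=
    Groth.Agent.Lib.helper1.InjHullLib.exists_injective_hull (R := B) (ResidueField B)
  have hT : IsPowerTorsion (maximalIdeal B) (B ⊗[A] E) :=
    isPowerTorsion_baseChange hm (isPowerTorsion_of_essential f hf.toIsEssentialInj)
  have hginj := bcHullMap_injective hm f hf.toIsEssentialInj
  haveI := hf'.isInjective
  obtain ⟨ι, hι⟩ := Module.Injective.extension_property B E' _ _ (bcHullMap f hm) hginj f'
  have hιinj : Function.Injective ι := by
    rw [← LinearMap.ker_eq_bot, LinearMap.ker_eq_bot']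
    intro t ht
    by_contra ht0
    obtain ⟨b, hb0, hb⟩ := exists_socle_mem hT ht0
    obtain ⟨z, hz⟩ := mem_range_bcHullMap f hm hf.toIsEssentialInj (b • t) hb
    have h1 : ι (b • t) = 0 := by rw [map_smul, ht, smul_zero]
    rw [← hz] at h1
    have h2 : f' z = 0 := by
      rw [← hι]; exact h1
    have h3 : z = 0 := hf'.injective (h2.trans (map_zero f').symm)
    apply hb0
    rw [← hz, h3, map_zero]
  have hιsurj : Function.Surjective ι := by
    intro y
    obtain ⟨n, hn⟩ := isPowerTorsion_of_essential f' hf'.toIsEssentialInj y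
    let j : B ⊗[A] (En A E n) →ₗ[B] B ⊗[A] E := LinearMap.baseChange B (En A E n).subtype
    have hj : Function.Injective j :=
      Module.Flat.lTensor_preserves_injective_linearMap _ (Submodule.injective_subtype _)
    have hmem : ∀ u, ι (j u) ∈ En B E' n := by
      intro u
      rw [mem_En_iff]
      intro c hc
      rw [← map_smul, smul_baseChange_En_eq_zero hm n u c hc, map_zero]
    let ιn : B ⊗[A] (En A E n) →ₗ[B] En B E' n := (ι.comp j).codRestrict _ hmem
    have hιn_inj : Function.Injective ιn := by
      intro u u' h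
      have h1 : ι (j u) = ι (j u') := congrArg Subtype.val h
      exact hj (hιinj h1)
    have hlen : Module.length B (En B E' n) ≤ Module.length B (B ⊗[A] (En A E n)) := by
      rw [length_En f' hf' n, length_baseChange_eq hm, length_En f hf n, length_quot_pow_eq hm]
    have hfin : Module.length B (B ⊗[A] (En A E n)) ≠ ⊤ := by
      rw [length_baseChange_eq hm, Module.length_ne_top_iff]
      exact isFiniteLength_En f hf n
    have hsurj := surjective_of_injective_of_length_le ιn hιn_inj hfin hlen
    obtain ⟨u, hu⟩ := hsurj ⟨y, mem_En_iff.mpr hn⟩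
    exact ⟨j u, congrArg Subtype.val hu⟩
  let e : (B ⊗[A] E) ≃ₗ[B] E' := LinearEquiv.ofBijective ι ⟨hιinj, hιsurj⟩
  exact ⟨e.symm.toLinearMap.comp f', isInjectiveHull_of_equiv f' hf' e.symm⟩

end BaseChange2

end Groth.Agent.H8.Matlis
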