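import Mathlib
import Groth.Prelude.Def_Wider
import Groth.Agent.Lib.helper8.MatlisH

/-!
# Matlis duality toolbox, part I (helper8): hulls over quotient rings (general), length criterion.
-/

universe u

namespace Groth.Agent.H8.Matlis

open LocCoh InjHull IsLocalRing

section QuotGeneral

variable {R : Type u} [CommRing R] (b : Ideal R)
  {E : Type u} [AddCommGroup E] [Module R E]

/-- `E[b]` is Baer (hence injective) over `R ⧸ b` (no locality needed). -/
theorem baer_torsionBy' (hE : Module.Injective R E) :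
    Module.Baer (R ⧸ b) (torsionBy b E) := by
  intro I h
  let J : Ideal R := I.comap (Ideal.Quotient.mk b)
  let h₀ : J →ₗ[R] E :=
    { toFun := fun x => (h ⟨Ideal.Quotient.mk b x.1, x.2⟩).1
      map_add' := fun x y => by
        have : (⟨Ideal.Quotient.mk b (x + y : J).1, (x + y : J).2⟩ : I)
            = ⟨Ideal.Quotient.mk b x.1, x.2⟩ + ⟨Ideal.Quotient.mk b y.1, y.2⟩ := by
          apply Subtype.ext; simp
        rw [this, map_add]; rfl
      map_smul' := fun r x => by
        have : (⟨Ideal.Quotient.mk b (r • x : J).1, (r • x : J).2⟩ : I)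
            = (Ideal.Quotient.mk b r) • ⟨Ideal.Quotient.mk b x.1, x.2⟩ := by
          apply Subtype.ext; simp
        rw [this, map_smul]; rfl }
  obtain ⟨h₁, hh₁⟩ := Module.Baer.of_injective hE J h₀
  have he : h₁ 1 ∈ torsionBy b E := by
    rw [Submodule.mem_torsionBySet_iff]
    intro x
    have hxJ : (x : R) ∈ J := by
      show Ideal.Quotient.mk b x ∈ I
      rw [Ideal.Quotient.eq_zero_iff_mem.mpr x.2]; exact I.zero_mem
    have h2 : (x : R) • h₁ 1 = h₁ (x : R) := by rw [← map_smul, smul_eq_mul, mul_one]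
    rw [h2, hh₁ x hxJ]
    show (h ⟨Ideal.Quotient.mk b (x : R), _⟩).1 = 0
    have : (⟨Ideal.Quotient.mk b (x : R), hxJ⟩ : I) = 0 := by
      apply Subtype.ext
      exact Ideal.Quotient.eq_zero_iff_mem.mpr x.2
    rw [this, map_zero]; rfl
  refine ⟨LinearMap.toSpanSingleton (R ⧸ b) (torsionBy b E) ⟨h₁ 1, he⟩, fun c hc => ?_⟩
  obtain ⟨x, rfl⟩ := Ideal.Quotient.mk_surjective c
  apply Subtype.ext
  rw [LinearMap.toSpanSingleton_apply]
  show x • h₁ 1 = _
  have h2 : x • h₁ 1 = h₁ x := by rw [← map_smul, smul_eq_mul, mul_one]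
  rw [h2, hh₁ x hc]
  rfl

variable {M : Type u} [AddCommGroup M] [Module R M] [Module (R ⧸ b) M] [IsScalarTower R (R ⧸ b) M]
  (f : M →ₗ[R] E)

theorem smul_eq_mk_smul (r : R) (m : M) : r • m = (Ideal.Quotient.mk b r) • m := by
  have := smul_assoc r (1 : R ⧸ b) m
  rw [one_smul] at this
  rw [← this]
  congr 1
  rw [Algebra.smul_def, mul_one]
  rfl

theorem map_mem_torsionBy (m : M) : f m ∈ torsionBy b E := by
  rw [Submodule.mem_torsionBySet_iff]
  intro x
  rw [← map_smul, smul_eq_mk_smul b, Ideal.Quotient.eq_zero_iff_mem.mpr x.2, zero_smul, map_zero]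

/-- the hull map `M → E[b]` over `R ⧸ b`. -/
noncomputable def quotHullMap' : M →ₗ[R ⧸ b] (torsionBy b E) where
  toFun m := ⟨f m, map_mem_torsionBy b f m⟩
  map_add' x y := Subtype.ext (map_add f x y)
  map_smul' c m := by
    obtain ⟨r, rfl⟩ := Ideal.Quotient.mk_surjective c
    apply Subtype.ext
    show f ((Ideal.Quotient.mk b r) • m) = r • f m
    rw [← smul_eq_mk_smul b, map_smul]

theorem isInjectiveHull_quotHullMap' (hf : IsInjectiveHull f) :
    IsInjectiveHull (quotHullMap' b f) := by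
  refine ⟨⟨?_, ?_⟩, Module.Baer.injective (baer_torsionBy' b hf.isInjective)⟩
  · intro x y h
    exact hf.injective (congrArg Subtype.val h)
  · intro N hN
    obtain ⟨y, hyN, hy0⟩ := Submodule.exists_mem_ne_zero_of_ne_bot hN
    have hy0' : (y : E) ≠ 0 := fun h => hy0 (Subtype.ext h)
    have hne : Submodule.span R {(y : E)} ≠ ⊥ := by
      rwa [Ne, Submodule.span_singleton_eq_bot]
    obtain ⟨w, ⟨hw1, hw2⟩, hw0⟩ := Submodule.exists_mem_ne_zero_of_ne_bot (hf.essential _ hne)
    obtain ⟨r, rfl⟩ := Submodule.mem_span_singleton.mp hw1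
    obtain ⟨m, hm⟩ := hw2
    have key : (Ideal.Quotient.mk b r) • y = quotHullMap' b f m := by
      apply Subtype.ext
      show r • (y : E) = f m
      exact hm.symm
    intro hbot
    have hmem : (Ideal.Quotient.mk b r) • y ∈ N ⊓ LinearMap.range (quotHullMap' b f) :=
      ⟨N.smul_mem _ hyN, ⟨_, key.symm⟩⟩
    rw [hbot, Submodule.mem_bot] at hmem
    exact hw0 (congrArg Subtype.val hmem)

end QuotGeneral

section LengthCriterion

variable {A : Type u} [CommRing A] [IsLocalRing A] [IsNoetherianRing A]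
  {I : Type u} [AddCommGroup I] [Module A I]

theorem isFiniteLength_quot_of_pow_le {J : Ideal A} {N : ℕ} (h : (maximalIdeal A) ^ N ≤ J) :
    IsFiniteLength A (A ⧸ J) := by
  rw [← Module.length_ne_top_iff]
  have h1 : Module.length A (A ⧸ J) ≤ Module.length A (A ⧸ (maximalIdeal A) ^ N) :=
    Module.length_le_of_surjective (Submodule.mapQ ((maximalIdeal A) ^ N) J LinearMap.id h)
      (by
        intro x
        obtain ⟨r, rfl⟩ := Ideal.Quotient.mk_surjective x
        exact ⟨Ideal.Quotient.mk _ r, rfl⟩)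
  have h2 : Module.length A (A ⧸ (maximalIdeal A) ^ N) ≠ ⊤ := by
    rw [Module.length_ne_top_iff]; exact isFiniteLength_quot_pow N
  exact ne_top_of_le_ne_top h2 h1

/-- a power-torsion module with socle `k` and the right lengths is an injective hull of `k`. -/
theorem exists_hull_of_length (ha : IsPowerTorsion (maximalIdeal A) I)
    (hb : Nonempty ((ResidueField A →ₗ[A] I) ≃ₗ[A] ResidueField A)) (a : ℕ → Ideal A)
    (hcof : ∀ n : ℕ, ∃ N : ℕ, (maximalIdeal A) ^ N ≤ a n)
    (hcof' : ∀ N : ℕ, ∃ n : ℕ, a n ≤ (maximalIdeal A) ^ N)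
    (hlen : ∀ n : ℕ, Module.length A (A ⧸ a n) = Module.length A ((A ⧸ a n) →ₗ[A] I)) :
    ∃ f : ResidueField A →ₗ[A] I, IsInjectiveHull f := by
  obtain ⟨E, _, _, f, hf⟩ :=
    Groth.Agent.Lib.helper1.InjHullLib.exists_injective_hull (R := A) (ResidueField A)
  obtain ⟨eb⟩ := hb
  haveI := isSimpleModule_residueField A
  haveI : IsSimpleModule A (ResidueField A →ₗ[A] I) := IsSimpleModule.congr eb
  let φ₀ : ResidueField A →ₗ[A] I := eb.symm 1
  have hφ₀ : φ₀ ≠ 0 := by
    intro h
    have : (1 : ResidueField A) = 0 := eb.symm.injective (h.trans (map_zero eb.symm).symm)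
    exact one_ne_zero this
  have hφ₀inj : Function.Injective φ₀ := (LinearMap.injective_or_eq_zero φ₀).resolve_right hφ₀
  haveI := hf.isInjective
  obtain ⟨g, hg⟩ := Module.Injective.extension_property A E _ _ φ₀ hφ₀inj f
  have hg' : ∀ z, g (φ₀ z) = f z := fun z => congrArg (fun F : ResidueField A →ₗ[A] E => F z) hg
  have hginj : Function.Injective g := by
    rw [← LinearMap.ker_eq_bot, LinearMap.ker_eq_bot']
    intro x hx
    by_contra hx0
    obtain ⟨r, hr0, hr⟩ := exists_socle_mem ha hx0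
    obtain ⟨c, hc⟩ := IsSimpleModule.toSpanSingleton_surjective A hφ₀ (socleHom (r • x) hr)
    have h1 : r • x = φ₀ (c • 1) := by
      have := congrArg (fun F : ResidueField A →ₗ[A] I => F 1) hc
      simp only [LinearMap.toSpanSingleton_apply, LinearMap.smul_apply] at this
      rw [map_smul, this, socleHom_one]
    have h2 : f (c • 1) = 0 := by
      rw [← hg', ← h1, map_smul, hx, smul_zero]
    have h3 : c • (1 : ResidueField A) = 0 := hf.injective (h2.trans (map_zero f).symm)
    apply hr0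
    rw [h1, h3, map_zero]
  have hgsurj : Function.Surjective g := by
    intro y
    obtain ⟨N, hN⟩ := isPowerTorsion_of_essential f hf.toIsEssentialInj y
    obtain ⟨n, hn⟩ := hcof' N
    have hy : y ∈ Submodule.torsionBySet A E (a n : Set A) := by
      rw [Submodule.mem_torsionBySet_iff]
      intro x
      exact hN x (hn x.2)
    let ψy : (A ⧸ a n) →ₗ[A] E := (homQuotIdealEquiv (a n)).symm ⟨y, hy⟩
    have hψy : ψy 1 = y := by
      have h1 : homQuotIdealEquiv (a n) ψy = ⟨y, hy⟩ := LinearEquiv.apply_symm_apply _ _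
      exact congrArg Subtype.val h1
    let G : ((A ⧸ a n) →ₗ[A] I) →ₗ[A] ((A ⧸ a n) →ₗ[A] E) := LinearMap.llcomp A _ I E g
    have hG : Function.Injective G := by
      intro p q hpq
      apply LinearMap.ext
      intro x
      apply hginj
      exact congrArg (fun F : (A ⧸ a n) →ₗ[A] E => F x) hpq
    obtain ⟨N', hN'⟩ := hcof n
    have hfl : IsFiniteLength A (A ⧸ a n) := isFiniteLength_quot_of_pow_le hN'
    have hsurj : Function.Surjective G := by
      apply surjective_of_injective_of_length_le G hG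
      · rw [← hlen n, Module.length_ne_top_iff]; exact hfl
      · rw [length_hom f hf _ hfl, hlen n]
    obtain ⟨ψ', hψ'⟩ := hsurj ψy
    refine ⟨ψ' 1, ?_⟩
    rw [← hψy, ← hψ']
    rfl
  let e : I ≃ₗ[A] E := LinearEquiv.ofBijective g ⟨hginj, hgsurj⟩
  exact ⟨e.symm.toLinearMap.comp f, isInjectiveHull_of_equiv f hf e.symm⟩

end LengthCriterion

end Groth.Agent.H8.Matlis
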