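import Mathlib
import Groth.Prelude.Def_Wider
import Groth.Agent.Lib.helper8.MatlisI
import Groth.Agent.Lib.helper8.MatlisG

/-!
# Matlis duality toolbox, part J (helper8): localization of the hull of `R ⧸ p`.
-/

universe u

namespace Groth.Agent.H8.Matlis

open LocCoh InjHull IsLocalRing

section TorsionGeneral

variable {R : Type u} [CommRing R] [IsNoetherianRing R]
  {M E : Type u} [AddCommGroup M] [Module R M] [AddCommGroup E] [Module R E]

/-- the target of an essential injection is power torsion for any ideal killing the source. -/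
theorem isPowerTorsion_of_essential' (g : M →ₗ[R] E) (hg : IsEssentialInj g) (I : Ideal R)
    (hI : ∀ a ∈ I, ∀ y ∈ LinearMap.range g, a • y = 0) : IsPowerTorsion I E := by
  intro x
  let S : Submodule R E := Submodule.span R {x}
  haveI : Module.Finite R S := Module.Finite.span_singleton R x
  let N' : Submodule R S := (LinearMap.range g).comap S.subtype
  obtain ⟨c, hc⟩ := Ideal.exists_pow_inf_eq_pow_smul I N'
  refine ⟨c + 1, fun a ha => ?_⟩
  by_contra hax
  have hne : Submodule.span R {a • x} ≠ ⊥ := by
    rwa [Ne, Submodule.span_singleton_eq_bot]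
  obtain ⟨w, ⟨hw1, hw2⟩, hw0⟩ := Submodule.exists_mem_ne_zero_of_ne_bot (hg.essential _ hne)
  obtain ⟨r, rfl⟩ := Submodule.mem_span_singleton.mp hw1
  let xs : S := ⟨x, Submodule.mem_span_singleton_self x⟩
  have hmem : (r * a) • xs ∈ I ^ (c + 1) • (⊤ : Submodule R S) ⊓ N' := by
    refine ⟨?_, ?_⟩
    · exact Submodule.smul_mem_smul (Ideal.mul_mem_left _ r ha) trivial
    · show S.subtype ((r * a) • xs) ∈ LinearMap.range g
      have : S.subtype ((r * a) • xs) = r • a • x := by
        simp [xs, mul_smul]
      rw [this]; exact hw2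
  rw [hc (c + 1) (Nat.le_succ c), Nat.add_sub_cancel_left] at hmem
  have hle : I ^ 1 • (I ^ c • (⊤ : Submodule R S) ⊓ N') ≤ ⊥ := by
    rw [Submodule.smul_le]
    intro b hb n hn
    rw [pow_one] at hb
    rw [Submodule.mem_bot]
    apply Subtype.ext
    show b • (n : E) = 0
    exact hI b hb _ hn.2
  have h1 := hle hmem
  rw [Submodule.mem_bot] at h1
  apply hw0
  have h2 := congrArg Subtype.val h1
  simpa [xs, mul_smul] using h2

end TorsionGeneral

section LocHull

variable {R : Type u} [CommRing R] (S : Submonoid R) (p : Ideal R) [p.IsPrime]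
  {E : Type u} [AddCommGroup E] [Module R E] (f : (R ⧸ p) →ₗ[R] E)

omit [p.IsPrime] in
theorem smul_range_eq_zero' {a : R} (ha : a ∈ p) {y : E} (hy : y ∈ LinearMap.range f) :
    a • y = 0 := by
  obtain ⟨z, rfl⟩ := hy
  obtain ⟨r, rfl⟩ := Ideal.Quotient.mk_surjective z
  rw [← map_smul]
  have : a • (Ideal.Quotient.mk p r) = 0 := by
    show Ideal.Quotient.mk p (a * r) = 0
    exact Ideal.Quotient.eq_zero_iff_mem.mpr (Ideal.mul_mem_right _ _ ha)
  rw [this, map_zero]

theorem subsingleton_localizedModule [IsNoetherianRing R] (hf : IsInjectiveHull f)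
    (h : ((p : Set R) ∩ S).Nonempty) : Subsingleton (LocalizedModule S E) := by
  obtain ⟨s, hsp, hsS⟩ := h
  have hT := isPowerTorsion_of_essential' f hf.toIsEssentialInj p
    (fun a ha y hy => smul_range_eq_zero' p f ha hy)
  apply subsingleton_of_forall_eq 0
  intro y
  induction y using LocalizedModule.induction_on with
  | h x t =>
    obtain ⟨n, hn⟩ := hT x
    rw [← LocalizedModule.zero_mk (1 : S), LocalizedModule.mk_eq]
    refine ⟨⟨s ^ n, S.pow_mem hsS n⟩, ?_⟩
    rw [smul_zero, smul_zero, one_smul]
    exact hn _ (Ideal.pow_mem_pow hsp n)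

theorem smul_injective_of_not_mem (hf : IsEssentialInj f) {a : R} (ha : a ∉ p) :
    Function.Injective (LinearMap.lsmul R E a) := by
  rw [← LinearMap.ker_eq_bot]
  by_contra hne
  apply hf.essential _ hne
  rw [eq_bot_iff]
  rintro x ⟨hx, ⟨z, rfl⟩⟩
  have hx' : a • f z = 0 := hx
  rw [← map_smul] at hx'
  have h1 : a • z = 0 := hf.injective (hx'.trans (map_zero f).symm)
  obtain ⟨r, rfl⟩ := Ideal.Quotient.mk_surjective z
  have h2 : Ideal.Quotient.mk p (a * r) = 0 := h1
  rw [Ideal.Quotient.eq_zero_iff_mem] at h2
  have h3 : r ∈ p := (Ideal.IsPrime.mem_or_mem ‹p.IsPrime› h2).resolve_left ha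
  rw [Submodule.mem_bot, Ideal.Quotient.eq_zero_iff_mem.mpr h3, map_zero]

theorem smul_surjective_of_not_mem (hf : IsInjectiveHull f) {a : R} (ha : a ∉ p) :
    Function.Surjective (LinearMap.lsmul R E a) := by
  have hinj := smul_injective_of_not_mem p f hf.toIsEssentialInj ha
  obtain ⟨r, hr⟩ := Groth.Agent.Lib.helper1.InjHullLib.exists_retraction hf.isInjective
    (LinearMap.lsmul R E a) hinj
  have hC := Groth.Agent.Lib.helper1.InjHullLib.isCompl_range_ker (LinearMap.lsmul R E a) r hr
  have hind := Groth.Agent.Lib.helper1.InjHullLib.indecomposable_of_hull_quotient_prime p f hf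
  haveI := hind.1
  rcases hind.2 _ _ hC with h | h
  · exfalso
    obtain ⟨x, hx⟩ := exists_ne (0 : E)
    have h1 : LinearMap.lsmul R E a x ∈ LinearMap.range (LinearMap.lsmul R E a) := ⟨x, rfl⟩
    rw [h, Submodule.mem_bot] at h1
    exact hx (hinj (h1.trans (map_zero _).symm))
  · have h2 := hC.sup_eq_top
    rw [h, sup_bot_eq] at h2
    exact LinearMap.range_eq_top.mp h2

end LocHull

section LocHull2

variable {R : Type u} [CommRing R] (S : Submonoid R) (p : Ideal R) [p.IsPrime]
  {E : Type u} [AddCommGroup E] [Module R E] (f : (R ⧸ p) →ₗ[R] E)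
  (hd : Disjoint (p : Set R) S)

include hd in
omit [p.IsPrime] in
theorem not_mem_of_mem_submonoid {s : R} (hs : s ∈ S) : s ∉ p :=
  fun h => Set.disjoint_left.mp hd h hs

include hd in
theorem mkLinearMap_bijective (hf : IsInjectiveHull f) :
    Function.Bijective (LocalizedModule.mkLinearMap S E) := by
  constructor
  · intro x y hxy
    have h1 : LocalizedModule.mk x (1 : S) = LocalizedModule.mk y (1 : S) := hxy
    rw [LocalizedModule.mk_eq] at h1
    obtain ⟨u, hu⟩ := h1
    rw [one_smul, one_smul] at hu
    exact smul_injective_of_not_mem p f hf.toIsEssentialInj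
      (not_mem_of_mem_submonoid S p hd u.2) hu
  · intro y
    induction y using LocalizedModule.induction_on with
    | h x t =>
      obtain ⟨x', hx'⟩ := smul_surjective_of_not_mem p f hf
        (not_mem_of_mem_submonoid S p hd t.2) x
      refine ⟨x', ?_⟩
      show LocalizedModule.mk x' (1 : S) = LocalizedModule.mk x t
      rw [LocalizedModule.mk_eq]
      refine ⟨1, ?_⟩
      rw [one_smul, one_smul, one_smul]
      exact hx'

/-- the `R`-linear equivalence `E ≃ S⁻¹E`. -/
noncomputable def locEquiv (hf : IsInjectiveHull f) : E ≃ₗ[R] LocalizedModule S E :=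
  LinearEquiv.ofBijective _ (mkLinearMap_bijective S p f hd hf)

omit [p.IsPrime] in
theorem smul_left_cancel_of_mem {s : R} (hs : s ∈ S) {x y : LocalizedModule S E}
    (h : algebraMap R (Localization S) s • x = algebraMap R (Localization S) s • y) : x = y := by
  have hu : IsUnit (algebraMap R (Localization S) s) := IsLocalization.map_units _ ⟨s, hs⟩
  exact hu.smul_left_cancel.mp h

include hd in
theorem baer_localizedModule (hf : IsInjectiveHull f) :
    Module.Baer (Localization S) (LocalizedModule S E) := by
  intro J' h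
  let ι := locEquiv S p f hd hf
  let J : Ideal R := J'.comap (algebraMap R (Localization S))
  let h₀ : J →ₗ[R] E :=
    { toFun := fun x => ι.symm (h ⟨algebraMap R (Localization S) x.1, x.2⟩)
      map_add' := fun x y => by
        have : (⟨algebraMap R (Localization S) (x + y : J).1, (x + y : J).2⟩ : J')
            = ⟨algebraMap R (Localization S) x.1, x.2⟩
              + ⟨algebraMap R (Localization S) y.1, y.2⟩ := by
          apply Subtype.ext; simp
        rw [this, map_add, map_add]
      map_smul' := fun r x => by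
        have : (⟨algebraMap R (Localization S) (r • x : J).1, (r • x : J).2⟩ : J')
            = (algebraMap R (Localization S) r) • ⟨algebraMap R (Localization S) x.1, x.2⟩ := by
          apply Subtype.ext
          show algebraMap R (Localization S) (r • (x : R))
            = algebraMap R (Localization S) r * algebraMap R (Localization S) (x : R)
          rw [smul_eq_mul, map_mul]
        rw [this, map_smul, algebraMap_smul, map_smul]; rfl }
  obtain ⟨h₁, hh₁⟩ := Module.Baer.of_injective hf.isInjective J h₀
  refine ⟨LinearMap.toSpanSingleton (Localization S) (LocalizedModule S E) (ι (h₁ 1)),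
    fun c hc => ?_⟩
  obtain ⟨a, s, rfl⟩ := IsLocalization.exists_mk'_eq S c
  have haJ : a ∈ J := by
    show algebraMap R (Localization S) a ∈ J'
    rw [← IsLocalization.mk'_spec (Localization S) a s]
    exact J'.mul_mem_right _ hc
  apply smul_left_cancel_of_mem S s.2
  have h1 : (algebraMap R (Localization S) (s : R)) •
      (⟨IsLocalization.mk' (Localization S) a s, hc⟩ : J')
      = ⟨algebraMap R (Localization S) a, haJ⟩ := by
    apply Subtype.ext
    show algebraMap R (Localization S) (s : R) * IsLocalization.mk' (Localization S) a s = _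
    rw [mul_comm, IsLocalization.mk'_spec]
  have h2 : a • h₁ 1 = h₁ a := by rw [← map_smul, smul_eq_mul, mul_one]
  have h3 : ι (h₁ a) = h ⟨algebraMap R (Localization S) a, haJ⟩ := by
    rw [hh₁ a haJ]
    show ι (ι.symm (h ⟨algebraMap R (Localization S) a, haJ⟩)) = _
    rw [LinearEquiv.apply_symm_apply]
  calc algebraMap R (Localization S) (s : R) •
        (LinearMap.toSpanSingleton (Localization S) (LocalizedModule S E) (ι (h₁ 1)))
          (IsLocalization.mk' (Localization S) a s)
      = (algebraMap R (Localization S) (s : R) * IsLocalization.mk' (Localization S) a s)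
          • ι (h₁ 1) := by rw [LinearMap.toSpanSingleton_apply, mul_smul]
    _ = algebraMap R (Localization S) a • ι (h₁ 1) := by
        rw [mul_comm, IsLocalization.mk'_spec]
    _ = a • ι (h₁ 1) := algebraMap_smul _ _ _
    _ = ι (a • h₁ 1) := (map_smul ι a (h₁ 1)).symm
    _ = h ⟨algebraMap R (Localization S) a, haJ⟩ := by rw [h2, h3]
    _ = h ((algebraMap R (Localization S) (s : R)) •
          (⟨IsLocalization.mk' (Localization S) a s, hc⟩ : J')) := by rw [h1]
    _ = algebraMap R (Localization S) (s : R) •
          h ⟨IsLocalization.mk' (Localization S) a s, hc⟩ := map_smul h _ _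

end LocHull2

section LocHull3

variable {R : Type u} [CommRing R] (S : Submonoid R) (p : Ideal R) [p.IsPrime]
  {E : Type u} [AddCommGroup E] [Module R E] (f : (R ⧸ p) →ₗ[R] E)
  (hd : Disjoint (p : Set R) S)

omit [p.IsPrime] in
theorem f_mk_eq (a : R) : f (Ideal.Quotient.mk p a) = a • f 1 := by
  rw [← map_smul]
  congr 1
  show _ = Ideal.Quotient.mk p (a * 1)
  rw [mul_one]

omit [p.IsPrime] in
theorem map_le_ker_toSpanSingleton :
    p.map (algebraMap R (Localization S)) ≤ LinearMap.ker
      (LinearMap.toSpanSingleton (Localization S) (LocalizedModule S E)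
        (LocalizedModule.mkLinearMap S E (f 1))) := by
  intro c hc
  rw [LinearMap.mem_ker, LinearMap.toSpanSingleton_apply]
  refine map_smul_eq_zero (A := R) (B := Localization S) (T := LocalizedModule S E) (I := p)
    ?_ c hc
  intro a ha
  rw [← map_smul, smul_range_eq_zero' p f ha ⟨1, rfl⟩, map_zero]

/-- the hull map over the localization. -/
noncomputable def locHullMap :
    (Localization S ⧸ p.map (algebraMap R (Localization S))) →ₗ[Localization S]
      LocalizedModule S E :=
  Submodule.liftQ _ _ (map_le_ker_toSpanSingleton S p f)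

omit [p.IsPrime] in
theorem locHullMap_mk (c : Localization S) :
    locHullMap S p f (Ideal.Quotient.mk _ c) = c • LocalizedModule.mkLinearMap S E (f 1) := by
  show Submodule.liftQ _ _ _ (Submodule.Quotient.mk c) = _
  rw [Submodule.liftQ_apply, LinearMap.toSpanSingleton_apply]

include hd in
theorem isInjectiveHull_locHullMap (hf : IsInjectiveHull f) :
    IsInjectiveHull (locHullMap S p f) := by
  let ι := locEquiv S p f hd hf
  have hι : ∀ x, ι x = LocalizedModule.mkLinearMap S E x := fun x => rfl
  refine ⟨⟨?_, ?_⟩, Module.Baer.injective (baer_localizedModule S p f hd hf)⟩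
  · rw [← LinearMap.ker_eq_bot, LinearMap.ker_eq_bot']
    intro x hx
    obtain ⟨c, rfl⟩ := Ideal.Quotient.mk_surjective x
    obtain ⟨a, s, rfl⟩ := IsLocalization.exists_mk'_eq S c
    rw [locHullMap_mk] at hx
    have h1 : algebraMap R (Localization S) (s : R) •
        (IsLocalization.mk' (Localization S) a s • LocalizedModule.mkLinearMap S E (f 1)) = 0 := by
      rw [hx, smul_zero]
    rw [← mul_smul, mul_comm, IsLocalization.mk'_spec, algebraMap_smul, ← map_smul,
      ← f_mk_eq, ← hι] at h1
    have h2 : f (Ideal.Quotient.mk p a) = 0 := ι.injective (h1.trans (map_zero ι).symm)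
    have h3 : Ideal.Quotient.mk p a = 0 := hf.injective (h2.trans (map_zero f).symm)
    rw [Ideal.Quotient.eq_zero_iff_mem] at h3 ⊢
    rw [IsLocalization.mk'_mem_iff]
    exact Ideal.mem_map_of_mem _ h3
  · intro N' hN'
    obtain ⟨y', hy'N, hy'0⟩ := Submodule.exists_mem_ne_zero_of_ne_bot hN'
    have hy0 : ι.symm y' ≠ 0 := by
      intro h
      apply hy'0
      rw [← ι.apply_symm_apply y', h, map_zero]
    have hne : Submodule.span R {ι.symm y'} ≠ ⊥ := by
      rwa [Ne, Submodule.span_singleton_eq_bot]
    obtain ⟨w, ⟨hw1, hw2⟩, hw0⟩ := Submodule.exists_mem_ne_zero_of_ne_bot (hf.essential _ hne)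
    obtain ⟨r, rfl⟩ := Submodule.mem_span_singleton.mp hw1
    obtain ⟨z, hz⟩ := hw2
    obtain ⟨a, rfl⟩ := Ideal.Quotient.mk_surjective z
    have key : algebraMap R (Localization S) r • y'
        = locHullMap S p f (Ideal.Quotient.mk _ (algebraMap R (Localization S) a)) := by
      rw [locHullMap_mk, algebraMap_smul, algebraMap_smul, ← map_smul, ← f_mk_eq, hz, ← hι,
        map_smul, LinearEquiv.apply_symm_apply]
    intro hbot
    have hmem : algebraMap R (Localization S) r • y' ∈ N' ⊓ LinearMap.range (locHullMap S p f) :=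
      ⟨N'.smul_mem _ hy'N, ⟨_, key.symm⟩⟩
    rw [hbot, Submodule.mem_bot, algebraMap_smul] at hmem
    apply hw0
    have h4 : ι (r • ι.symm y') = 0 := by
      rw [map_smul, LinearEquiv.apply_symm_apply]; exact hmem
    exact ι.injective (h4.trans (map_zero ι).symm)

end LocHull3

section MaxArtinian

variable {R : Type u} [CommRing R] [IsNoetherianRing R] (m : Ideal R) [hmax : m.IsMaximal]
  {E : Type u} [AddCommGroup E] [Module R E] (f : (R ⧸ m) →ₗ[R] E)

/-- precomposing a hull with an equivalence of the source. -/
theorem isInjectiveHull_comp_equiv {A : Type u} [CommRing A] {M M' F : Type u} [AddCommGroup M]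
    [Module A M] [AddCommGroup M'] [Module A M'] [AddCommGroup F] [Module A F]
    (g : M →ₗ[A] F) (hg : IsInjectiveHull g) (e : M' ≃ₗ[A] M) :
    IsInjectiveHull (g.comp e.toLinearMap) := by
  refine ⟨⟨hg.injective.comp e.injective, fun N hN => ?_⟩, hg.isInjective⟩
  have : LinearMap.range (g.comp e.toLinearMap) = LinearMap.range g := by
    rw [LinearMap.range_comp, LinearEquiv.range, Submodule.map_top]
  rw [this]
  exact hg.essential N hN

/-- `R`-submodules of the localized hull are `R_m`-submodules. -/
theorem smul_mem_of_torsion {N : Submodule R (LocalizedModule m.primeCompl E)}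
    (hT : IsPowerTorsion m (LocalizedModule m.primeCompl E))
    (c : Localization m.primeCompl) {y : LocalizedModule m.primeCompl E} (hy : y ∈ N) :
    c • y ∈ N := by
  obtain ⟨a, s, rfl⟩ := IsLocalization.exists_mk'_eq m.primeCompl c
  obtain ⟨n, hn⟩ := hT y
  have hs : (s : R) ∉ m := s.2
  have h1 : Ideal.span {(s : R)} ⊔ m = ⊤ := by
    apply hmax.1.2
    apply lt_of_le_of_ne le_sup_right
    intro h
    apply hs
    exact h.symm.le (Ideal.mem_sup_left (Ideal.subset_span rfl))
  have h2 : Ideal.span {(s : R)} ⊔ m ^ n = ⊤ := Ideal.sup_pow_eq_top h1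
  have h3 : (1 : R) ∈ Ideal.span {(s : R)} ⊔ m ^ n := by rw [h2]; trivial
  obtain ⟨u', hu', w, hw, huw⟩ := Submodule.mem_sup.mp h3
  obtain ⟨u, rfl⟩ := Ideal.mem_span_singleton'.mp hu'
  have h4 : y = (u * s) • y := by
    conv_lhs => rw [← one_smul R y, ← huw, add_smul, hn w hw, add_zero]
  have h5 : IsLocalization.mk' (Localization m.primeCompl) a s • y = (a * u) • y := by
    have hu : IsUnit (algebraMap R (Localization m.primeCompl) (s : R)) :=
      IsLocalization.map_units _ s
    apply hu.smul_left_cancel.mp
    rw [← mul_smul, mul_comm, IsLocalization.mk'_spec, algebraMap_smul, algebraMap_smul,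
      ← mul_smul]
    conv_lhs => rw [h4, ← mul_smul]
    congr 1
    ring
  rw [h5]
  exact N.smul_mem _ hy

theorem isArtinian_hull_of_isMaximal (hf : IsInjectiveHull f) : IsArtinian R E := by
  have hd : Disjoint (m : Set R) (m.primeCompl : Set R) := by
    rw [Set.disjoint_left]
    intro x hx hx'
    exact hx' hx
  let S := m.primeCompl
  let E' := LocalizedModule S E
  let ι : E ≃ₗ[R] E' := locEquiv S m f hd hf
  have hg := isInjectiveHull_locHullMap S m f hd hf
  have hmap : m.map (algebraMap R (Localization S)) = maximalIdeal (Localization.AtPrime m) :=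
    Localization.AtPrime.map_eq_maximalIdeal
  let eq : (Localization.AtPrime m ⧸ maximalIdeal (Localization.AtPrime m)) ≃ₗ[Localization S]
      (Localization S ⧸ m.map (algebraMap R (Localization S))) :=
    Submodule.quotEquivOfEq _ _ hmap.symm
  have hg' := isInjectiveHull_comp_equiv _ hg eq
  haveI : IsNoetherianRing (Localization.AtPrime m) :=
    IsLocalization.isNoetherianRing m.primeCompl _ inferInstance
  have hArt : IsArtinian (Localization.AtPrime m) E' :=
    isArtinian_hull' (R := Localization.AtPrime m) _ hg'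
  -- torsion over `R`
  have hT : IsPowerTorsion m E := isPowerTorsion_of_essential' f hf.toIsEssentialInj m
    (fun a ha y hy => smul_range_eq_zero' m f ha hy)
  have hT' : IsPowerTorsion m E' := by
    intro y
    obtain ⟨n, hn⟩ := hT (ι.symm y)
    refine ⟨n, fun a ha => ?_⟩
    have := hn a ha
    rw [← map_smul] at this
    exact ι.symm.injective (this.trans (map_zero ι.symm).symm)
  let Φ : Submodule R E' → Submodule (Localization.AtPrime m) E' := fun N =>
    { carrier := N
      add_mem' := N.add_mem
      zero_mem' := N.zero_mem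
      smul_mem' := fun c y hy => smul_mem_of_torsion m hT' c hy }
  have hΦ : StrictMono Φ := fun N N' h => h
  haveI : IsArtinian R E' := hΦ.wellFoundedLT
  exact isArtinian_of_injective ι.toLinearMap ι.injective

end MaxArtinian

end Groth.Agent.H8.Matlis
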