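import Mathlib
import Groth.Prelude.Def_Wider
import Groth.Agent.Lib.helper8.MatlisH

/-!
# Matlis duality toolbox, part K (helper8): restriction of the hull along a flat local map with
trivial residue field extension.
-/

universe u

namespace Groth.Agent.H8.Matlis

open LocCoh InjHull IsLocalRing
open scoped TensorProduct

section RestrictFlat

variable {R S : Type u} [CommRing R] [CommRing S] [Algebra R S] [Module.Flat R S]
  {E : Type u} [AddCommGroup E] [Module S E] [Module R E] [IsScalarTower R S E]

/-- the multiplication map `S ⊗ J → S`. -/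
noncomputable def idealMulMap (J : Ideal R) : S ⊗[R] J →ₗ[S] S :=
  LinearMap.liftBaseChange S ((Algebra.linearMap R S).comp J.subtype)

omit [Module.Flat R S] in
theorem idealMulMap_eq (J : Ideal R) (t : S ⊗[R] J) :
    idealMulMap (S := S) J t = TensorProduct.rid R S ((J.subtype.lTensor S) t) := by
  induction t using TensorProduct.induction_on with
  | zero => simp
  | tmul b j =>
    rw [idealMulMap, LinearMap.liftBaseChange_tmul, LinearMap.lTensor_tmul, TensorProduct.rid_tmul]
    simp [Algebra.smul_def, mul_comm]
  | add t t' ht ht' => rw [map_add, map_add, map_add, ht, ht']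

theorem idealMulMap_injective (J : Ideal R) : Function.Injective (idealMulMap (S := S) J) := by
  have h1 : Function.Injective (J.subtype.lTensor S) :=
    Module.Flat.lTensor_preserves_injective_linearMap _ (Submodule.injective_subtype _)
  intro t t' h
  rw [idealMulMap_eq, idealMulMap_eq] at h
  exact h1 ((TensorProduct.rid R S).injective h)

/-- restriction of scalars of an injective module along a flat map is injective. -/
theorem baer_restrictScalars_of_flat (hE : Module.Injective S E) : Module.Baer R E := by
  intro J g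
  let G : S ⊗[R] J →ₗ[S] E := LinearMap.liftBaseChange S g
  haveI := hE
  obtain ⟨H, hH⟩ := Module.Injective.extension_property S E _ _ (idealMulMap (S := S) J)
    (idealMulMap_injective J) G
  refine ⟨(H.restrictScalars R).comp (Algebra.linearMap R S), fun x hx => ?_⟩
  have h1 := congrArg (fun F : S ⊗[R] J →ₗ[S] E => F ((1 : S) ⊗ₜ[R] (⟨x, hx⟩ : J))) hH
  simp only [LinearMap.comp_apply, G, LinearMap.liftBaseChange_tmul, one_smul] at h1
  rw [← h1]
  show H (algebraMap R S x) = H (idealMulMap J ((1 : S) ⊗ₜ[R] (⟨x, hx⟩ : J)))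
  congr 1
  rw [idealMulMap, LinearMap.liftBaseChange_tmul, one_smul]
  rfl

end RestrictFlat

section RestrictHull

variable {R S : Type u} [CommRing R] [CommRing S] [IsLocalRing R] [IsLocalRing S]
  [IsNoetherianRing S] [Algebra R S] [IsLocalHom (algebraMap R S)] [Module.Flat R S]
  (hm : (maximalIdeal R).map (algebraMap R S) = maximalIdeal S)
  (hk : Function.Bijective (IsLocalRing.ResidueField.map (algebraMap R S)))
  {E : Type u} [AddCommGroup E] [Module S E] [Module R E] [IsScalarTower R S E]
  (f : ResidueField S →ₗ[S] E)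

include hm in
omit [IsNoetherianRing S] [IsLocalHom (algebraMap R S)] [Module.Flat R S] in
theorem f_one_socle_R : ∀ a ∈ maximalIdeal R, a • f 1 = 0 := by
  intro a ha
  rw [← algebraMap_smul S a (f 1)]
  apply smul_range_eq_zero f _ ⟨1, rfl⟩
  rw [← hm]
  exact Ideal.mem_map_of_mem _ ha

include hm hk in
theorem exists_hull_restrictScalars (hf : IsInjectiveHull f) :
    ∃ g : ResidueField R →ₗ[R] E, IsInjectiveHull g := by
  have hf1 : f 1 ≠ 0 := by
    intro h0
    exact one_ne_zero (hf.injective (h0.trans (map_zero f).symm))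
  let g₀ : ResidueField R →ₗ[R] E := socleHom (f 1) (f_one_socle_R hm f)
  have hg₀1 : g₀ 1 = f 1 := socleHom_one _ _
  have hTS := isPowerTorsion_of_essential f hf.toIsEssentialInj
  have hTR : IsPowerTorsion (maximalIdeal R) E := by
    intro x
    obtain ⟨n, hn⟩ := hTS x
    refine ⟨n, fun a ha => ?_⟩
    rw [← algebraMap_smul S a x]
    apply hn
    rw [← hm, ← Ideal.map_pow]
    exact Ideal.mem_map_of_mem _ ha
  refine ⟨g₀, ⟨⟨?_, ?_⟩, Module.Baer.injective (baer_restrictScalars_of_flat hf.isInjective)⟩⟩
  · haveI := isSimpleModule_residueField R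
    refine (LinearMap.injective_or_eq_zero g₀).resolve_right ?_
    intro h0
    rw [h0] at hg₀1
    exact hf1 hg₀1.symm
  · intro N hN
    obtain ⟨x, hxN, hx0⟩ := Submodule.exists_mem_ne_zero_of_ne_bot hN
    obtain ⟨r, hr0, hr⟩ := exists_socle_mem hTR hx0
    have hS : ∀ c ∈ maximalIdeal S, c • (r • x) = 0 := by
      rw [← hm]
      exact map_smul_eq_zero (B := S) (T := E) hr
    obtain ⟨z, hz⟩ := mem_range_of_smul_eq_zero f hf.toIsEssentialInj hS
    obtain ⟨z', rfl⟩ := hk.2 z
    obtain ⟨a, rfl⟩ := IsLocalRing.residue_surjective z'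
    rw [IsLocalRing.ResidueField.map_residue] at hz
    have h1 : f (IsLocalRing.residue S (algebraMap R S a)) = a • f 1 := by
      rw [← algebraMap_smul S a (f 1), ← map_smul, smul_residue, mul_one]
    have hmem : r • x ∈ LinearMap.range g₀ := by
      refine ⟨a • 1, ?_⟩
      rw [map_smul, hg₀1, ← h1, hz]
    intro hbot
    have : r • x ∈ N ⊓ LinearMap.range g₀ := ⟨N.smul_mem r hxN, hmem⟩
    rw [hbot] at this
    exact hr0 ((Submodule.mem_bot R).mp this)

end RestrictHull

end Groth.Agent.H8.Matlis
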