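import Mathlib
import Groth.Prelude.Def_Wider
import Groth.Agent.Lib.helper8.MatlisK

/-!
# Matlis duality toolbox, part L (helper8): coextension of scalars `Hom_K(A, V)`.
-/

universe u

namespace Groth.Agent.H8.Matlis

open LocCoh InjHull IsLocalRing

section Coext

variable (K A : Type u) [CommRing K] [CommRing A] [Algebra K A]
  (V : Type u) [AddCommGroup V] [Module K V]

/-- the coextension `Hom_K(A, V)` as an `A`-module. -/
abbrev Coext : Type u :=
  ((ModuleCat.coextendScalars (algebraMap K A)).obj (ModuleCat.of K V))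

variable {K A V}

/-- the underlying `K`-linear map `A → V`. -/
noncomputable def ofC (c : Coext K A V) : A →ₗ[K] V where
  toFun b := c b
  map_add' x y := map_add (ModuleCat.CoextendScalars.equiv (algebraMap K A) (ModuleCat.of K V) c) x y
  map_smul' r b := by
    have := (ModuleCat.CoextendScalars.equiv (algebraMap K A) (ModuleCat.of K V) c).map_smul r b
    rw [RingHom.id_apply]
    rw [Algebra.smul_def]
    exact this

/-- the element of the coextension attached to a `K`-linear map `A → V`. -/
noncomputable def toC (φ : A →ₗ[K] V) : Coext K A V :=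
  (ModuleCat.CoextendScalars.equiv (algebraMap K A) (ModuleCat.of K V)).symm
    { toFun := fun b => φ b
      map_add' := fun x y => φ.map_add x y
      map_smul' := fun r b => by
        let b' : A := b
        show φ (algebraMap K A r * b') = r • φ b'
        rw [← Algebra.smul_def, map_smul] }

theorem ofC_toC (φ : A →ₗ[K] V) : ofC (toC φ) = φ := LinearMap.ext fun _ => rfl

theorem ofC_toC_apply (φ : A →ₗ[K] V) (b : A) : ofC (toC φ) b = φ b := rfl

theorem coext_ext {c c' : Coext K A V} (h : ∀ b : A, ofC c b = ofC c' b) : c = c' := by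
  apply ModuleCat.CoextendScalars.ext
  apply LinearMap.ext
  exact h

theorem ofC_smul (a : A) (c : Coext K A V) (b : A) : ofC (a • c) b = ofC c (b * a) := rfl

theorem ofC_add (c c' : Coext K A V) (b : A) : ofC (c + c') b = ofC c b + ofC c' b := rfl

theorem ofC_zero (b : A) : ofC (0 : Coext K A V) b = 0 := rfl

end Coext

section CoextInjective

variable {K A : Type u} [CommRing K] [CommRing A] [Algebra K A]
  {V : Type u} [AddCommGroup V] [Module K V]


/-- coextension preserves injectivity (Baer form). -/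
theorem baer_coext (hV : Module.Injective K V) : Module.Baer A (Coext K A V) := by
  intro J g
  let g₀ : J →ₗ[K] V :=
    { toFun := fun x => ofC (g x) 1
      map_add' := fun x y => by rw [map_add]; rfl
      map_smul' := fun r x => by
        have h1 : r • x = (algebraMap K A r) • x := (algebraMap_smul A r x).symm
        rw [h1, map_smul, ofC_smul, one_mul, RingHom.id_apply,
          Algebra.algebraMap_eq_smul_one, map_smul] }
  haveI := hV
  obtain ⟨φ, hφ⟩ := Module.Injective.extension_property K V J A (J.subtype.restrictScalars K)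
    (fun x y h => Subtype.ext h) g₀
  refine ⟨LinearMap.toSpanSingleton A (Coext K A V) (toC φ), fun x hx => ?_⟩
  rw [LinearMap.toSpanSingleton_apply]
  apply coext_ext
  intro b
  rw [ofC_smul, ofC_toC_apply]
  have h1 := congrArg (fun F : J →ₗ[K] V => F ⟨b * x, J.mul_mem_left b hx⟩) hφ
  simp only [LinearMap.comp_apply] at h1
  have h2 : φ (b * x) = ofC (g ⟨b * x, J.mul_mem_left b hx⟩) 1 := h1
  rw [h2]
  have h3 : (⟨b * x, J.mul_mem_left b hx⟩ : J) = b • ⟨x, hx⟩ := rfl
  rw [h3, map_smul, ofC_smul, one_mul]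

end CoextInjective

section TorsionPart

variable {A : Type u} [CommRing A] [IsNoetherianRing A] (J : Ideal A)
  {C : Type u} [AddCommGroup C] [Module A C]

/-- the `J`-power torsion part. -/
abbrev Gam : Submodule A C := ⨆ n : ℕ, Submodule.torsionBySet A C ((J ^ n : Ideal A) : Set A)

omit [IsNoetherianRing A] in
theorem mem_Gam_iff {x : C} : x ∈ Gam J (C := C) ↔ ∃ n : ℕ, ∀ a ∈ J ^ n, a • x = 0 := by
  have hdir : Directed (· ≤ ·) fun n : ℕ =>
      Submodule.torsionBySet A C ((J ^ n : Ideal A) : Set A) := by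
    apply Monotone.directed_le
    intro m n hmn x hx
    rw [Submodule.mem_torsionBySet_iff] at hx ⊢
    intro a
    exact hx ⟨a, Ideal.pow_le_pow_right hmn a.2⟩
  rw [Submodule.mem_iSup_of_directed _ hdir]
  constructor
  · rintro ⟨n, hn⟩
    rw [Submodule.mem_torsionBySet_iff] at hn
    exact ⟨n, fun a ha => hn ⟨a, ha⟩⟩
  · rintro ⟨n, hn⟩
    refine ⟨n, ?_⟩
    rw [Submodule.mem_torsionBySet_iff]
    exact fun a => hn a a.2

omit [IsNoetherianRing A] in
theorem isPowerTorsion_Gam : IsPowerTorsion J (Gam J (C := C)) := by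
  intro x
  obtain ⟨n, hn⟩ := (mem_Gam_iff J).mp x.2
  exact ⟨n, fun a ha => Subtype.ext (hn a ha)⟩

/-- the torsion part of an injective module over a Noetherian ring is injective. -/
theorem baer_Gam (hC : Module.Injective A C) : Module.Baer A (Gam J (C := C)) := by
  apply baer_of_extension J (isPowerTorsion_Gam J)
  intro M _ _ _ hk N g
  obtain ⟨k, hk⟩ := hk
  haveI := hC
  obtain ⟨G, hG⟩ := Module.Injective.extension_property A C N M N.subtype N.injective_subtype
    ((Gam J (C := C)).subtype.comp g)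
  have hmem : ∀ m : M, G m ∈ Gam J (C := C) := by
    intro m
    rw [mem_Gam_iff]
    refine ⟨k, fun a ha => ?_⟩
    rw [← map_smul]
    have : a • m ∈ J ^ k • (⊤ : Submodule A M) := Submodule.smul_mem_smul ha trivial
    rw [hk, Submodule.mem_bot] at this
    rw [this, map_zero]
  refine ⟨G.codRestrict _ hmem, ?_⟩
  ext n
  have := congrArg (fun F : N →ₗ[A] C => F n) hG
  exact this

end TorsionPart

section DualField

variable {k₀ A : Type u} [Field k₀] [CommRing A] [IsLocalRing A] [Algebra k₀ A]
  [Module.Finite k₀ (A ⧸ maximalIdeal A)]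

/-- functionals killing the maximal ideal form a one-dimensional space over the residue field. -/
theorem exists_mul_eq (φ₁ φ₂ : A →ₗ[k₀] k₀) (h1 : ∀ a ∈ maximalIdeal A, φ₁ a = 0)
    (h2 : ∀ a ∈ maximalIdeal A, φ₂ a = 0) (hne : φ₁ ≠ 0) :
    ∃ a : A, ∀ b : A, φ₂ b = φ₁ (b * a) := by
  let W : Submodule k₀ A := (maximalIdeal A).restrictScalars k₀
  let U : Submodule k₀ (Module.Dual k₀ A) := W.dualAnnihilator
  haveI : Module.Finite k₀ (A ⧸ W) :=
    Module.Finite.equiv (Submodule.Quotient.restrictScalarsEquiv k₀ (maximalIdeal A)).symm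
  haveI : Module.Finite k₀ U := Module.Finite.equiv (Submodule.dualQuotEquivDualAnnihilator W)
  let Λ : A →ₗ[k₀] Module.Dual k₀ A := (LinearMap.mul k₀ A).compr₂ φ₁
  have hΛ : ∀ a b, Λ a b = φ₁ (a * b) := fun a b => rfl
  have hrange : LinearMap.range Λ ≤ U := by
    rintro _ ⟨a, rfl⟩
    rw [Submodule.mem_dualAnnihilator]
    intro w hw
    rw [hΛ]
    exact h1 _ (Ideal.mul_mem_left _ a hw)
  have hker : LinearMap.ker Λ = W := by
    ext a
    rw [LinearMap.mem_ker]
    constructor
    · intro ha
      by_contra hna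
      have hu : IsUnit a := by
        by_contra hu
        exact hna ((IsLocalRing.mem_maximalIdeal a).mpr hu)
      obtain ⟨u, rfl⟩ := hu
      apply hne
      ext c
      have := congrArg (fun F : Module.Dual k₀ A => F ((↑u⁻¹ : A) * c)) ha
      simp only [hΛ, ← mul_assoc, Units.mul_inv, one_mul] at this
      simpa using this
    · intro ha
      ext b
      rw [hΛ]
      exact h1 _ (Ideal.mul_mem_right _ _ ha)
  have hfin1 : Module.finrank k₀ (LinearMap.range Λ) = Module.finrank k₀ (A ⧸ W) := by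
    rw [← (LinearMap.quotKerEquivRange Λ).finrank_eq, hker]
  have hfin2 : Module.finrank k₀ U = Module.finrank k₀ (A ⧸ W) := by
    rw [← (Submodule.dualQuotEquivDualAnnihilator W).finrank_eq, Subspace.dual_finrank_eq]
  have heq : LinearMap.range Λ = U :=
    Submodule.eq_of_le_of_finrank_eq hrange (hfin1.trans hfin2.symm)
  have hmem : φ₂ ∈ U := by
    rw [Submodule.mem_dualAnnihilator]
    exact fun w hw => h2 w hw
  rw [← heq] at hmem
  obtain ⟨a, ha⟩ := hmem
  refine ⟨a, fun b => ?_⟩
  rw [← ha, hΛ, mul_comm]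

/-- a nonzero functional killing the maximal ideal. -/
theorem exists_functional_ne_zero :
    ∃ φ : A →ₗ[k₀] k₀, φ ≠ 0 ∧ ∀ a ∈ maximalIdeal A, φ a = 0 := by
  let W : Submodule k₀ A := (maximalIdeal A).restrictScalars k₀
  have hne : ∃ x : A ⧸ W, x ≠ 0 := by
    refine ⟨W.mkQ 1, ?_⟩
    rw [Ne, Submodule.mkQ_apply, Submodule.Quotient.mk_eq_zero]
    intro h
    exact (IsLocalRing.mem_maximalIdeal (1 : A)).mp h isUnit_one
  obtain ⟨x, hx⟩ := hne
  obtain ⟨θ, hθ⟩ := Module.Projective.exists_dual_eq_one k₀ hx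
  refine ⟨θ.comp W.mkQ, ?_, ?_⟩
  · intro h0
    obtain ⟨b, rfl⟩ := W.mkQ_surjective x
    have := congrArg (fun F : A →ₗ[k₀] k₀ => F b) h0
    simp only [LinearMap.comp_apply, LinearMap.zero_apply] at this
    rw [this] at hθ
    exact zero_ne_one hθ
  · intro a ha
    rw [LinearMap.comp_apply]
    have : W.mkQ a = 0 := by
      rw [Submodule.mkQ_apply, Submodule.Quotient.mk_eq_zero]; exact ha
    rw [this, map_zero]

end DualField

section TopDual

variable (k₀ A : Type u) [Field k₀] [CommRing A] [IsLocalRing A] [Algebra k₀ A]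
  [Module.Finite k₀ (A ⧸ maximalIdeal A)]

theorem residue_eq_smul_one (r : A) : IsLocalRing.residue A r = r • (1 : ResidueField A) := by
  rw [smul_residue, mul_one]

theorem isSimpleModule_hom_topDual :
    IsSimpleModule A
      (ResidueField A →ₗ[A] ↥(Gam (maximalIdeal A) (C := Coext k₀ A k₀))) := by
  rw [isSimpleModule_iff_toSpanSingleton_surjective]
  have hext : ∀ ψ : ResidueField A →ₗ[A] ↥(Gam (maximalIdeal A) (C := Coext k₀ A k₀)),
      ψ 1 = 0 → ψ = 0 := by
    intro ψ h1
    apply LinearMap.ext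
    intro z
    obtain ⟨r, rfl⟩ := IsLocalRing.residue_surjective z
    rw [residue_eq_smul_one, map_smul, h1, smul_zero, LinearMap.zero_apply]
  constructor
  · obtain ⟨φ₀, hφ₀, hφ₀m⟩ := exists_functional_ne_zero (k₀ := k₀) (A := A)
    have hkill : ∀ a ∈ maximalIdeal A, a • (toC φ₀ : Coext k₀ A k₀) = 0 := by
      intro a ha
      apply coext_ext
      intro b
      rw [ofC_smul, ofC_toC_apply, ofC_zero]
      exact hφ₀m _ (Ideal.mul_mem_left _ b ha)
    have hmem : (toC φ₀ : Coext k₀ A k₀) ∈ Gam (maximalIdeal A) (C := Coext k₀ A k₀) :=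
      (mem_Gam_iff _).mpr ⟨1, fun a ha => hkill a (by simpa using ha)⟩
    let x₀ : ↥(Gam (maximalIdeal A) (C := Coext k₀ A k₀)) := ⟨toC φ₀, hmem⟩
    let ψ₀ := socleHom x₀ (fun a ha => Subtype.ext (hkill a ha))
    refine ⟨⟨ψ₀, 0, ?_⟩⟩
    intro h
    have h1 : ψ₀ 1 = 0 := by rw [h]; rfl
    rw [socleHom_one] at h1
    have h2 : (toC φ₀ : Coext k₀ A k₀) = 0 := congrArg Subtype.val h1
    apply hφ₀
    rw [← ofC_toC φ₀, h2]
    rfl
  · intro ψ₁ hψ₁ ψ₂
    have key : ∀ ψ : ResidueField A →ₗ[A] ↥(Gam (maximalIdeal A) (C := Coext k₀ A k₀)),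
        ∀ a ∈ maximalIdeal A, ofC (ψ 1).1 a = 0 := by
      intro ψ a ha
      have h1 : a • ψ 1 = 0 := by rw [← map_smul, smul_residueField_eq_zero ha, map_zero]
      have h2 : ofC (a • (ψ 1).1) 1 = 0 := by
        have : a • (ψ 1).1 = (a • ψ 1).1 := rfl
        rw [this, h1]; rfl
      rwa [ofC_smul, one_mul] at h2
    have hne : ofC (ψ₁ 1).1 ≠ 0 := by
      intro h0
      apply hψ₁
      apply hext
      apply Subtype.ext
      apply coext_ext
      intro b
      rw [h0]; rfl
    obtain ⟨a, ha⟩ := exists_mul_eq (ofC (ψ₁ 1).1) (ofC (ψ₂ 1).1) (key ψ₁) (key ψ₂) hne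
    refine ⟨a, ?_⟩
    have h1 : ψ₂ 1 = a • ψ₁ 1 := by
      apply Subtype.ext
      apply coext_ext
      intro b
      rw [ha b]; rfl
    have h3 : ψ₂ - a • ψ₁ = 0 := by
      apply hext
      rw [LinearMap.sub_apply, LinearMap.smul_apply, h1, sub_self]
    rw [LinearMap.toSpanSingleton_apply]
    exact (sub_eq_zero.mp h3).symm

/-- the topological dual is an injective hull of the residue field. -/
theorem exists_hull_topDual [IsNoetherianRing A] :
    ∃ f : ResidueField A →ₗ[A] ↥(Gam (maximalIdeal A) (C := Coext k₀ A k₀)),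
      IsInjectiveHull f := by
  have hC : Module.Injective A (Coext k₀ A k₀) :=
    Module.Baer.injective (baer_coext (Module.injective_of_isSemisimpleRing k₀ k₀))
  have hD : Module.Injective A ↥(Gam (maximalIdeal A) (C := Coext k₀ A k₀)) :=
    Module.Baer.injective (baer_Gam (maximalIdeal A) hC)
  exact isInjectiveHull_of_simple hD (isPowerTorsion_Gam (maximalIdeal A))
    (isSimpleModule_hom_topDual k₀ A)

end TopDual

end Groth.Agent.H8.Matlis
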