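import Mathlib
import Groth.Prelude.Def_Wider
import Groth.Agent.Lib.helper8.MatlisL
import Groth.Agent.Lib.helper8.MatlisG

/-!
# Matlis duality toolbox, part M (helper8): `Hom_A(B, E)` for a finite local `A`-algebra `B`.
-/

universe u

namespace Groth.Agent.H8.Matlis

open LocCoh InjHull IsLocalRing

section FiniteLocal

variable {A B : Type u} [CommRing A] [IsLocalRing A] [IsNoetherianRing A]
  [CommRing B] [IsLocalRing B] [IsNoetherianRing B] [Algebra A B] [Module.Finite A B]

/-- a finite algebra map between local rings is local. -/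
theorem map_maximalIdeal_le : (maximalIdeal A).map (algebraMap A B) ≤ maximalIdeal B := by
  apply IsLocalRing.le_maximalIdeal
  intro htop
  have h1 : (⊤ : Submodule A B) ≤ maximalIdeal A • (⊤ : Submodule A B) := by
    rw [Ideal.smul_top_eq_map, htop]
    exact le_of_eq rfl
  have h2 : (⊤ : Submodule A B) = ⊥ :=
    Submodule.eq_bot_of_le_smul_of_le_jacobson_bot (maximalIdeal A) ⊤ Module.Finite.fg_top h1
      (IsLocalRing.maximalIdeal_le_jacobson _)
  have h3 : (1 : B) ∈ (⊥ : Submodule A B) := by rw [← h2]; trivial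
  exact one_ne_zero ((Submodule.mem_bot A).mp h3)

theorem algebraMap_mem_maximalIdeal {a : A} (ha : a ∈ maximalIdeal A) :
    algebraMap A B a ∈ maximalIdeal B :=
  map_maximalIdeal_le (Ideal.mem_map_of_mem _ ha)

/-- some power of `𝔪_B` lies in `𝔪_A B`. -/
theorem exists_pow_maximalIdeal_le :
    ∃ m : ℕ, (maximalIdeal B) ^ m ≤ (maximalIdeal A).map (algebraMap A B) := by
  let I : Ideal B := (maximalIdeal A).map (algebraMap A B)
  -- `B ⧸ I` has finite length over `A`
  have hkill : (maximalIdeal A) ^ 1 • (⊤ : Submodule A (B ⧸ I)) = ⊥ := by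
    rw [eq_bot_iff, Submodule.smul_le]
    intro r hr x _
    rw [pow_one] at hr
    obtain ⟨b, rfl⟩ := Ideal.Quotient.mk_surjective x
    rw [Submodule.mem_bot]
    show Ideal.Quotient.mk I (r • b) = 0
    rw [Ideal.Quotient.eq_zero_iff_mem, Algebra.smul_def]
    exact Ideal.mul_mem_right _ _ (Ideal.mem_map_of_mem _ hr)
  have hfl : IsFiniteLength A (B ⧸ I) := isFiniteLength_of_pow_smul_top_eq_bot 1 _ hkill
  have hArtA : IsArtinian A (B ⧸ I) := (isFiniteLength_iff_isNoetherian_isArtinian.mp hfl).2
  haveI : IsArtinian B (B ⧸ I) := isArtinian_of_tower A hArtA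
  obtain ⟨m, hm⟩ := isPowerTorsion_of_isArtinian (R := B) (B ⧸ I) (Ideal.Quotient.mk I 1)
  refine ⟨m, fun c hc => ?_⟩
  have h1 := hm c hc
  have h2 : c • (Ideal.Quotient.mk I 1) = Ideal.Quotient.mk I c := by
    show Ideal.Quotient.mk I (c * 1) = _
    rw [mul_one]
  rw [h2] at h1
  exact Ideal.Quotient.eq_zero_iff_mem.mp h1

end FiniteLocal

section CoextFinite

variable {A B : Type u} [CommRing A] [IsLocalRing A] [IsNoetherianRing A]
  [CommRing B] [IsLocalRing B] [IsNoetherianRing B] [Algebra A B] [Module.Finite A B]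
  {E : Type u} [AddCommGroup E] [Module A E]

omit [IsLocalRing A] [IsNoetherianRing A] [IsLocalRing B] [IsNoetherianRing B]
  [Module.Finite A B] in
theorem ofC_eq_zero_of_mem_map (c : Coext A B E) (I : Ideal A)
    (h : ∀ b : B, ∀ a ∈ I, a • ofC c b = 0) :
    ∀ y ∈ I.map (algebraMap A B), ∀ b' : B, ofC c (b' * y) = 0 := by
  intro y hy
  refine Submodule.span_induction ?_ ?_ ?_ ?_ hy
  · rintro _ ⟨a, ha, rfl⟩ b'
    rw [mul_comm, ← Algebra.smul_def, map_smul]
    exact h b' a ha
  · intro b'; rw [mul_zero, map_zero]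
  · intro x y _ _ hx hy b'
    rw [mul_add, map_add, hx, hy, add_zero]
  · intro b'' x _ hx b'
    rw [smul_eq_mul, ← mul_assoc]
    exact hx _

theorem isPowerTorsion_coext (hE : IsPowerTorsion (maximalIdeal A) E) :
    IsPowerTorsion (maximalIdeal B) (Coext A B E) := by
  classical
  intro c
  obtain ⟨s, hs⟩ := (Module.Finite.fg_top : (⊤ : Submodule A B).FG)
  choose e he using fun b : B => hE (ofC c b)
  let n := s.sup e
  have h1 : ∀ b : B, ∀ a ∈ (maximalIdeal A) ^ n, a • ofC c b = 0 := by
    intro b
    have hb : b ∈ Submodule.span A (s : Set B) := by rw [hs]; trivial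
    induction hb using Submodule.span_induction with
    | mem z hz =>
      intro a ha
      exact he z a (Ideal.pow_le_pow_right (Finset.le_sup (f := e) hz) ha)
    | zero => intro a _; rw [map_zero, smul_zero]
    | add y z _ _ hy hz => intro a ha; rw [map_add, smul_add, hy a ha, hz a ha, add_zero]
    | smul r y _ hy => intro a ha; rw [map_smul, smul_comm, hy a ha, smul_zero]
  obtain ⟨m, hm⟩ := exists_pow_maximalIdeal_le (A := A) (B := B)
  refine ⟨m * n, fun x hx => ?_⟩
  have hx' : x ∈ ((maximalIdeal A) ^ n).map (algebraMap A B) := by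
    rw [Ideal.map_pow]
    rw [pow_mul] at hx
    exact Ideal.pow_right_mono hm n hx
  apply coext_ext
  intro b
  rw [ofC_smul, ofC_zero]
  exact ofC_eq_zero_of_mem_map c _ h1 x hx' b

end CoextFinite

section CoextSocle

variable {A B : Type u} [CommRing A] [IsLocalRing A] [IsNoetherianRing A]
  [CommRing B] [IsLocalRing B] [IsNoetherianRing B] [Algebra A B] [Module.Finite A B]
  {E : Type u} [AddCommGroup E] [Module A E] (f : ResidueField A →ₗ[A] E)

theorem isLocalHom_algebraMap_of_finite : IsLocalHom (algebraMap A B) :=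
  ((IsLocalRing.local_hom_TFAE (algebraMap A B)).out 0 2).mpr map_maximalIdeal_le

/-- ENat cancellation. -/
theorem enat_le_one_of_mul_le {x d : ℕ∞} (hd0 : d ≠ 0) (hdt : d ≠ ⊤) (h : x * d ≤ d) : x ≤ 1 := by
  lift d to ℕ using hdt
  rcases eq_or_ne x ⊤ with rfl | hx
  · rw [ENat.top_mul hd0] at h
    exact absurd (top_le_iff.mp h) (ENat.coe_ne_top d)
  · lift x to ℕ using hx
    have h' : x * d ≤ d := by exact_mod_cast h
    have hd0' : d ≠ 0 := by exact_mod_cast hd0
    have : x ≤ 1 := by
      by_contra hx
      push Not at hx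
      have : 2 * d ≤ x * d := Nat.mul_le_mul_right d hx
      omega
    exact_mod_cast this

theorem isSimpleModule_hom_coext (hf : IsInjectiveHull f) :
    IsSimpleModule B (ResidueField B →ₗ[B] Coext A B E) := by
  haveI : IsLocalHom (algebraMap A B) := isLocalHom_algebraMap_of_finite
  letI : Module A (ResidueField B →ₗ[B] Coext A B E) :=
    Module.compHom _ (algebraMap A B)
  haveI : IsScalarTower A B (ResidueField B →ₗ[B] Coext A B E) :=
    IsScalarTower.of_algebraMap_smul (fun _ _ => rfl)
  -- the comparison map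
  let Φ : (ResidueField B →ₗ[B] Coext A B E) →ₗ[A] (ResidueField B →ₗ[A] E) :=
    { toFun := fun ψ =>
        { toFun := fun z => ofC (ψ z) 1
          map_add' := fun z z' => by rw [map_add]; rfl
          map_smul' := fun a z => by
            rw [← algebraMap_smul B a z, map_smul, ofC_smul, one_mul, RingHom.id_apply,
              Algebra.algebraMap_eq_smul_one, map_smul] }
      map_add' := fun ψ ψ' => by
        apply LinearMap.ext; intro z; rfl
      map_smul' := fun a ψ => by
        apply LinearMap.ext
        intro z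
        show ofC ((algebraMap A B a • ψ) z) 1 = a • ofC (ψ z) 1
        rw [LinearMap.smul_apply, ofC_smul, one_mul, Algebra.algebraMap_eq_smul_one, map_smul] }
  have hΦ : Function.Injective Φ := by
    rw [← LinearMap.ker_eq_bot, LinearMap.ker_eq_bot']
    intro ψ hψ
    apply LinearMap.ext
    intro z
    apply coext_ext
    intro b
    have h1 : ofC (ψ (b • z)) 1 = 0 :=
      congrArg (fun F : ResidueField B →ₗ[A] E => F (b • z)) hψ
    rw [map_smul, ofC_smul, one_mul] at h1
    rw [h1]; rfl
  -- lengths
  have hflB : IsFiniteLength A (ResidueField B) := by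
    apply isFiniteLength_of_pow_smul_top_eq_bot 1
    rw [eq_bot_iff, Submodule.smul_le]
    intro r hr x _
    rw [pow_one] at hr
    rw [Submodule.mem_bot, ← algebraMap_smul B r x]
    exact smul_residueField_eq_zero (algebraMap_mem_maximalIdeal hr) x
  have h1 := IsLocalRing.length_restrictScalars A B (ResidueField B →ₗ[B] Coext A B E)
  have h2 := IsLocalRing.length_restrictScalars A B (ResidueField B)
  haveI := isSimpleModule_residueField B
  rw [Module.length_eq_one B (ResidueField B), one_mul] at h2
  have h3 : Module.length A (ResidueField B →ₗ[B] Coext A B E)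
      ≤ Module.length A (ResidueField B →ₗ[A] E) := Module.length_le_of_injective Φ hΦ
  rw [length_hom f hf _ hflB, h1, h2] at h3
  have hd0 : Module.length (ResidueField A) (ResidueField B) ≠ 0 := by
    rw [Ne, Module.length_eq_zero_iff]
    exact not_subsingleton _
  have hdt : Module.length (ResidueField A) (ResidueField B) ≠ ⊤ := by
    rw [← h2, Module.length_ne_top_iff]; exact hflB
  have hle := enat_le_one_of_mul_le hd0 hdt h3
  -- nontriviality
  have hne1 : (1 : ResidueField B) ≠ 0 := one_ne_zero
  obtain ⟨θ₀, hθ₀⟩ := exists_hom_ne_zero f hf hne1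
  let π : B →ₗ[A] ResidueField B := (Algebra.linearMap B (ResidueField B)).restrictScalars A
  have hkill : ∀ x ∈ maximalIdeal B, x • (toC (θ₀.comp π) : Coext A B E) = 0 := by
    intro x hx
    apply coext_ext
    intro b
    rw [ofC_smul, ofC_toC_apply, ofC_zero, LinearMap.comp_apply]
    have : π (b * x) = 0 :=
      (IsLocalRing.residue_eq_zero_iff _).mpr (Ideal.mul_mem_left _ b hx)
    rw [this, map_zero]
  let ψ₀ : ResidueField B →ₗ[B] Coext A B E := socleHom (toC (θ₀.comp π)) hkill
  have hψ₀ : ψ₀ ≠ 0 := by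
    intro h
    have h4 : ψ₀ 1 = 0 := by rw [h]; rfl
    rw [socleHom_one] at h4
    apply hθ₀
    have h5 : ofC (toC (θ₀.comp π) : Coext A B E) 1 = 0 := by rw [h4]; rfl
    rw [ofC_toC_apply, LinearMap.comp_apply] at h5
    have h6 : π 1 = 1 := map_one (algebraMap B (ResidueField B))
    rwa [h6] at h5
  haveI : Nontrivial (ResidueField B →ₗ[B] Coext A B E) := ⟨⟨ψ₀, 0, hψ₀⟩⟩
  have hge : 1 ≤ Module.length B (ResidueField B →ₗ[B] Coext A B E) :=
    Order.one_le_iff_pos.mpr Module.length_pos
  exact Module.length_eq_one_iff.mp (le_antisymm hle hge)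

/-- `Hom_A(B, E)` is an injective hull of the residue field of `B`. -/
theorem exists_hull_coext (hf : IsInjectiveHull f) :
    ∃ g : ResidueField B →ₗ[B] Coext A B E, IsInjectiveHull g := by
  have hC : Module.Injective B (Coext A B E) := Module.Baer.injective (baer_coext hf.isInjective)
  exact isInjectiveHull_of_simple hC
    (isPowerTorsion_coext (isPowerTorsion_of_essential f hf.toIsEssentialInj))
    (isSimpleModule_hom_coext f hf)

end CoextSocle

end Groth.Agent.H8.Matlis
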