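import Mathlib
import Groth.Prelude.Def_Wider
import Groth.Agent.Lib.helper8.MatlisM

/-!
# Matlis duality toolbox, part N (helper8): `Hom_A(B, E)` for a finite (semilocal) `A`-algebra `B`.
-/

universe u

namespace Groth.Agent.H8.Matlis

open LocCoh InjHull IsLocalRing

section General

variable {R : Type u} [CommRing R] {C : Type u} [AddCommGroup C] [Module R C]

/-- a nonzero element of an `I`-power-torsion module has a nonzero multiple killed by `I`. -/
theorem exists_socle_mem' (I : Ideal R)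
    (hM : IsPowerTorsion I C) {x : C} (hx : x ≠ 0) :
    ∃ r : R, r • x ≠ 0 ∧ ∀ b ∈ I, b • (r • x) = 0 := by
  classical
  have hspec := Nat.find_spec (hM x)
  have hmin := fun m (h : m < Nat.find (hM x)) => Nat.find_min (hM x) h
  rcases Nat.eq_zero_or_eq_succ_pred (Nat.find (hM x)) with h0 | hs
  · exfalso
    apply hx
    have := hspec 1 (by rw [h0, pow_zero, Ideal.one_eq_top]; trivial)
    simpa using this
  · set m := (Nat.find (hM x)).pred with hm
    have h1 := hmin m (by rw [hs]; exact Nat.lt_succ_self _)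
    push Not at h1
    obtain ⟨a, ha, hax⟩ := h1
    refine ⟨a, hax, fun b hb => ?_⟩
    rw [smul_smul]
    apply hspec
    rw [hs, pow_succ, mul_comm b a]
    exact Ideal.mul_mem_mul ha hb

/-- injective + `𝔫`-power torsion + one-dimensional `𝔫`-socle gives a hull of `R ⧸ 𝔫`. -/
theorem isInjectiveHull_of_socle (𝔫 : Ideal R) [h𝔫 : 𝔫.IsMaximal] (hC : Module.Injective R C)
    (hT : IsPowerTorsion 𝔫 C) (y₀ : C) (hy₀ : y₀ ≠ 0) (hk : ∀ a ∈ 𝔫, a • y₀ = 0)
    (hs : ∀ x : C, (∀ a ∈ 𝔫, a • x = 0) → ∃ b : R, x = b • y₀) :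
    ∃ g : (R ⧸ 𝔫) →ₗ[R] C, IsInjectiveHull g := by
  let g : (R ⧸ 𝔫) →ₗ[R] C := Submodule.liftQ 𝔫 (LinearMap.toSpanSingleton R C y₀) (by
    intro b hb
    rw [LinearMap.mem_ker, LinearMap.toSpanSingleton_apply]
    exact hk b hb)
  have hg : ∀ r : R, g (Submodule.Quotient.mk r) = r • y₀ := fun r => by
    show Submodule.liftQ 𝔫 (LinearMap.toSpanSingleton R C y₀) _ (Submodule.Quotient.mk r) = _
    rw [Submodule.liftQ_apply, LinearMap.toSpanSingleton_apply]
  have hnot : ∀ r : R, r • y₀ = 0 → r ∈ 𝔫 := by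
    intro r hr
    by_contra hrn
    obtain ⟨s, i, hi, hsi⟩ := h𝔫.exists_inv hrn
    apply hy₀
    calc y₀ = (s * r + i) • y₀ := by rw [hsi, one_smul]
      _ = 0 := by rw [add_smul, mul_smul, hr, smul_zero, hk i hi, add_zero]
  refine ⟨g, ⟨⟨?_, fun N hN => ?_⟩, hC⟩⟩
  · rw [← LinearMap.ker_eq_bot, LinearMap.ker_eq_bot']
    intro z hz
    obtain ⟨r, rfl⟩ := Submodule.Quotient.mk_surjective _ z
    rw [hg] at hz
    exact (Submodule.Quotient.mk_eq_zero _).mpr (hnot r hz)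
  · obtain ⟨x, hxN, hx0⟩ := Submodule.exists_mem_ne_zero_of_ne_bot hN
    obtain ⟨r, hr0, hr⟩ := exists_socle_mem' 𝔫 hT hx0
    obtain ⟨b, hb⟩ := hs (r • x) hr
    have hbn : b ∉ 𝔫 := by
      intro hbn
      apply hr0
      rw [hb]; exact hk b hbn
    obtain ⟨s, i, hi, hsi⟩ := h𝔫.exists_inv hbn
    have hy : y₀ = s • (r • x) := by
      calc y₀ = (s * b + i) • y₀ := by rw [hsi, one_smul]
        _ = s • (r • x) := by rw [add_smul, mul_smul, ← hb, hk i hi, add_zero]
    intro hbot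
    apply hy₀
    have : y₀ ∈ N ⊓ LinearMap.range g := by
      refine ⟨?_, ⟨Submodule.Quotient.mk 1, by rw [hg, one_smul]⟩⟩
      rw [hy]
      exact N.smul_mem s (N.smul_mem r hxN)
    rw [hbot] at this
    exact (Submodule.mem_bot R).mp this

/-- the kernel of localization at a prime, as a submodule. -/
def locKer (𝔫 : Ideal R) [h𝔫 : 𝔫.IsPrime] : Submodule R C where
  carrier := {y | ∃ a : R, a ∉ 𝔫 ∧ a • y = 0}
  add_mem' := by
    rintro y₁ y₂ ⟨a₁, h₁, e₁⟩ ⟨a₂, h₂, e₂⟩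
    refine ⟨a₁ * a₂, fun h => ?_, ?_⟩
    · rcases h𝔫.mem_or_mem h with h | h
      · exact h₁ h
      · exact h₂ h
    · rw [smul_add, mul_smul, mul_smul, smul_comm a₁ a₂ y₁, e₁, e₂, smul_zero, smul_zero, add_zero]
  zero_mem' := ⟨1, (Ideal.ne_top_iff_one 𝔫).mp h𝔫.ne_top, smul_zero _⟩
  smul_mem' := by
    rintro c y ⟨a, h, e⟩
    exact ⟨a, h, by rw [smul_comm, e, smul_zero]⟩

theorem Gam_le_locKer {𝔫 𝔧 : Ideal R} [h𝔫 : 𝔫.IsMaximal] [h𝔧 : 𝔧.IsMaximal] (hne : 𝔧 ≠ 𝔫) :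
    Gam 𝔧 (C := C) ≤ locKer (C := C) 𝔫 := by
  intro y hy
  obtain ⟨K, hK⟩ := (mem_Gam_iff 𝔧).mp hy
  have hnle : ¬ (𝔧 ^ K ≤ 𝔫) := by
    intro hle
    have h1 : 𝔧 ≤ 𝔫 := h𝔫.isPrime.le_of_pow_le hle
    exact hne (h𝔧.eq_of_le h𝔫.ne_top h1)
  obtain ⟨a, haj, han⟩ := SetLike.not_le_iff_exists.mp hnle
  exact ⟨a, han, hK a haj⟩

theorem disjoint_Gam_locKer (𝔫 : Ideal R) [h𝔫 : 𝔫.IsMaximal] :
    Disjoint (Gam 𝔫 (C := C)) (locKer (C := C) 𝔫) := by
  rw [Submodule.disjoint_def]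
  rintro x hx ⟨a, han, hax⟩
  obtain ⟨K, hK⟩ := (mem_Gam_iff 𝔫).mp hx
  obtain ⟨s, i, hi, hsi⟩ := h𝔫.exists_inv han
  have h1 : i • x = x := by
    calc i • x = (s * a + i) • x := by rw [add_smul, mul_smul, hax, smul_zero, zero_add]
      _ = x := by rw [hsi, one_smul]
  have h2 : ∀ k : ℕ, i ^ k • x = x := by
    intro k
    induction k with
    | zero => rw [pow_zero, one_smul]
    | succ k ih => rw [pow_succ, mul_smul, h1, ih]
  rw [← h2 K]
  exact hK _ (Ideal.pow_mem_pow hi K)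

/-- the torsion parts at distinct maximal ideals are independent. -/
theorem iSupIndep_Gam :
    iSupIndep fun n : MaximalSpectrum R => Gam n.asIdeal (C := C) := by
  intro n
  haveI := n.isMaximal
  refine (disjoint_Gam_locKer (C := C) n.asIdeal).mono_right ?_
  refine iSup_le fun j => iSup_le fun hj => ?_
  haveI := j.isMaximal
  apply Gam_le_locKer
  intro h
  exact hj (MaximalSpectrum.ext h)

/-- an element killed by an ideal with Artinian quotient lies in the sum of the torsion parts. -/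
theorem mem_iSup_Gam_of_isArtinianRing (I : Ideal R) [IsArtinianRing (R ⧸ I)] (x : C)
    (hx : ∀ a ∈ I, a • x = 0) :
    x ∈ ⨆ n : MaximalSpectrum R, Gam n.asIdeal (C := C) := by
  classical
  obtain ⟨K, hK⟩ := IsArtinianRing.isNilpotent_jacobson_bot (R := R ⧸ I)
  haveI : Fintype (MaximalSpectrum (R ⧸ I)) := Fintype.ofFinite _
  let q : MaximalSpectrum (R ⧸ I) → MaximalSpectrum R := fun p =>
    ⟨p.asIdeal.comap (Ideal.Quotient.mk I),
      haveI := p.isMaximal
      Ideal.comap_isMaximal_of_surjective _ Ideal.Quotient.mk_surjective⟩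
  let S : Finset (MaximalSpectrum R) := Finset.univ.image q
  have hcop : (S : Set (MaximalSpectrum R)).Pairwise
      fun i j => i.asIdeal ^ K ⊔ j.asIdeal ^ K = ⊤ := by
    intro i _ j _ hij
    apply Ideal.pow_sup_pow_eq_top
    haveI := i.isMaximal
    haveI := j.isMaximal
    apply Ideal.IsMaximal.coprime_of_ne i.isMaximal j.isMaximal
    intro h
    exact hij (MaximalSpectrum.ext h)
  have hle : (⨅ n ∈ S, n.asIdeal ^ K) ≤ I := by
    rw [← Ideal.prod_eq_iInf_of_pairwise_isCoprime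
      (hcop.mono' fun i j h => (Ideal.isCoprime_iff_sup_eq).mpr h), Finset.prod_pow]
    have h1 : (∏ n ∈ S, n.asIdeal) ≤ (Ideal.jacobson (⊥ : Ideal (R ⧸ I))).comap
        (Ideal.Quotient.mk I) := by
      intro a ha
      rw [Ideal.mem_comap, Ideal.jacobson, Ideal.mem_sInf]
      rintro p ⟨_, hp⟩
      have h2 : q ⟨p, hp⟩ ∈ S := Finset.mem_image_of_mem q (Finset.mem_univ _)
      have h3 : a ∈ (q ⟨p, hp⟩).asIdeal :=
        (Ideal.prod_le_inf.trans (Finset.inf_le h2)) ha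
      exact h3
    intro a ha
    have h4 : a ∈ ((Ideal.jacobson (⊥ : Ideal (R ⧸ I))) ^ K).comap (Ideal.Quotient.mk I) :=
      Ideal.le_comap_pow _ K (Ideal.pow_right_mono h1 K ha)
    rw [hK, Ideal.mem_comap, Ideal.zero_eq_bot, Ideal.mem_bot] at h4
    exact Ideal.Quotient.eq_zero_iff_mem.mp h4
  have hmem : x ∈ Submodule.torsionBySet R C ((⨅ n ∈ S, n.asIdeal ^ K : Ideal R) : Set R) := by
    rw [Submodule.mem_torsionBySet_iff]
    intro a
    exact hx a (hle a.2)
  rw [← Submodule.iSup_torsionBySet_ideal_eq_torsionBySet_iInf hcop] at hmem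
  refine (iSup_le fun n => iSup_le fun _ => ?_ :
    (⨆ n ∈ S, Submodule.torsionBySet R C ((n.asIdeal ^ K : Ideal R) : Set R))
      ≤ ⨆ n : MaximalSpectrum R, Gam n.asIdeal (C := C)) hmem
  exact (le_iSup (fun k : ℕ => Submodule.torsionBySet R C ((n.asIdeal ^ k : Ideal R) : Set R)) K).trans
    (le_iSup (fun n : MaximalSpectrum R => Gam n.asIdeal (C := C)) n)

end General

section CoextSemilocal

variable {A B : Type u} [CommRing A] [IsLocalRing A] [IsNoetherianRing A]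
  [CommRing B] [Algebra A B] [Module.Finite A B]
  {E : Type u} [AddCommGroup E] [Module A E] (f : ResidueField A →ₗ[A] E)

omit [IsNoetherianRing A] in
/-- each element of `Hom_A(B, E)` is killed by the extension of a power of `𝔪_A`. -/
theorem exists_pow_map_smul_eq_zero (hE : IsPowerTorsion (maximalIdeal A) E) (c : Coext A B E) :
    ∃ k : ℕ, ∀ y ∈ ((maximalIdeal A) ^ k).map (algebraMap A B), y • c = 0 := by
  classical
  obtain ⟨s, hs⟩ := (Module.Finite.fg_top : (⊤ : Submodule A B).FG)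
  choose e he using fun b : B => hE (ofC c b)
  let n := s.sup e
  have h1 : ∀ b : B, ∀ a ∈ (maximalIdeal A) ^ n, a • ofC c b = 0 := by
    intro b
    have hb : b ∈ Submodule.span A (s : Set B) := by rw [hs]; trivial
    induction hb using Submodule.span_induction with
    | mem z hz =>
      intro a ha
      exact he z a (Ideal.pow_le_pow_right (Finset.le_sup (f := e) hz) ha)
    | zero => intro a _; rw [map_zero, smul_zero]
    | add y z _ _ hy hz => intro a ha; rw [map_add, smul_add, hy a ha, hz a ha, add_zero]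
    | smul r y _ hy => intro a ha; rw [map_smul, smul_comm, hy a ha, smul_zero]
  refine ⟨n, fun x hx => ?_⟩
  apply coext_ext
  intro b
  rw [ofC_smul, ofC_zero]
  exact ofC_eq_zero_of_mem_map c _ h1 x hx b

/-- the quotient of `B` by the extension of a power of `𝔪_A` is Artinian. -/
theorem isArtinianRing_quot_map_pow (k : ℕ) :
    IsArtinianRing (B ⧸ ((maximalIdeal A) ^ k).map (algebraMap A B)) := by
  set I : Ideal B := ((maximalIdeal A) ^ k).map (algebraMap A B) with hI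
  have hkill : (maximalIdeal A) ^ k • (⊤ : Submodule A (B ⧸ I)) = ⊥ := by
    rw [eq_bot_iff, Submodule.smul_le]
    intro r hr x _
    obtain ⟨b, rfl⟩ := Ideal.Quotient.mk_surjective x
    rw [Submodule.mem_bot]
    show Ideal.Quotient.mk I (r • b) = 0
    rw [Ideal.Quotient.eq_zero_iff_mem, Algebra.smul_def]
    exact Ideal.mul_mem_right _ _ (Ideal.mem_map_of_mem _ hr)
  have hfl : IsFiniteLength A (B ⧸ I) := isFiniteLength_of_pow_smul_top_eq_bot k _ hkill
  have hArtA : IsArtinian A (B ⧸ I) := (isFiniteLength_iff_isNoetherian_isArtinian.mp hfl).2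
  exact isArtinian_of_tower A hArtA

/-- `Hom_A(B, E)` is the sum of its torsion parts at the maximal ideals of `B`. -/
theorem iSup_Gam_coext (hE : IsPowerTorsion (maximalIdeal A) E) :
    (⨆ n : MaximalSpectrum B, Gam n.asIdeal (C := Coext A B E)) = ⊤ := by
  rw [eq_top_iff]
  intro c _
  obtain ⟨k, hk⟩ := exists_pow_map_smul_eq_zero hE c
  haveI := isArtinianRing_quot_map_pow (A := A) (B := B) k
  exact mem_iSup_Gam_of_isArtinianRing _ c hk

omit [IsNoetherianRing A] in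
theorem algebraMap_mem_of_isMaximal (𝔫 : Ideal B) [h𝔫 : 𝔫.IsMaximal] {a : A}
    (ha : a ∈ maximalIdeal A) : algebraMap A B a ∈ 𝔫 := by
  haveI : (𝔫.comap (algebraMap A B)).IsMaximal :=
    Ideal.isMaximal_comap_of_isIntegral_of_isMaximal 𝔫
  have h1 : 𝔫.comap (algebraMap A B) = maximalIdeal A := IsLocalRing.eq_maximalIdeal this
  have h2 : a ∈ 𝔫.comap (algebraMap A B) := by rw [h1]; exact ha
  exact h2

theorem isFiniteLength_quot_isMaximal (𝔫 : Ideal B) [h𝔫 : 𝔫.IsMaximal] :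
    IsFiniteLength A (B ⧸ 𝔫) := by
  apply isFiniteLength_of_pow_smul_top_eq_bot 1
  rw [eq_bot_iff, Submodule.smul_le]
  intro r hr x _
  rw [pow_one] at hr
  obtain ⟨b, rfl⟩ := Ideal.Quotient.mk_surjective x
  rw [Submodule.mem_bot]
  show Ideal.Quotient.mk 𝔫 (r • b) = 0
  rw [Ideal.Quotient.eq_zero_iff_mem, Algebra.smul_def]
  exact Ideal.mul_mem_right _ _ (algebraMap_mem_of_isMaximal 𝔫 hr)

/-- the `𝔫`-socle of `Hom_A(B, E)` is one-dimensional over `B ⧸ 𝔫`. -/
theorem exists_socle_generator_coext (hf : IsInjectiveHull f) (𝔫 : Ideal B) [h𝔫 : 𝔫.IsMaximal] :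
    ∃ y₀ : Coext A B E, y₀ ≠ 0 ∧ (∀ a ∈ 𝔫, a • y₀ = 0) ∧
      ∀ c : Coext A B E, (∀ a ∈ 𝔫, a • c = 0) → ∃ b : B, c = b • y₀ := by
  letI := Ideal.Quotient.field 𝔫
  have hfl : IsFiniteLength A (B ⧸ 𝔫) := isFiniteLength_quot_isMaximal 𝔫
  have hne1 : (1 : B ⧸ 𝔫) ≠ 0 := one_ne_zero
  obtain ⟨θ₀, hθ₀⟩ := exists_hom_ne_zero f hf hne1
  let π : B →ₗ[A] (B ⧸ 𝔫) := (Ideal.Quotient.mkₐ A 𝔫).toLinearMap
  have hπ : ∀ b : B, π b = Ideal.Quotient.mk 𝔫 b := fun _ => rfl
  have hπ0 : ∀ b ∈ 𝔫, π b = 0 := fun b hb => Ideal.Quotient.eq_zero_iff_mem.mpr hb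
  refine ⟨toC (θ₀.comp π), ?_, ?_, ?_⟩
  · intro h
    apply hθ₀
    have h5 : ofC (toC (θ₀.comp π) : Coext A B E) 1 = 0 := by rw [h]; rfl
    rw [ofC_toC_apply, LinearMap.comp_apply] at h5
    have h6 : π 1 = 1 := map_one (Ideal.Quotient.mk 𝔫)
    rwa [h6] at h5
  · intro x hx
    apply coext_ext
    intro b
    rw [ofC_smul, ofC_toC_apply, ofC_zero, LinearMap.comp_apply, hπ0 _ (Ideal.mul_mem_left _ b hx),
      map_zero]
  · intro c hc
    -- the comparison map
    let Ψ : (B ⧸ 𝔫) →ₗ[A] ((B ⧸ 𝔫) →ₗ[A] E) := (LinearMap.mul A (B ⧸ 𝔫)).compr₂ θ₀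
    have hΨ : ∀ l l' : B ⧸ 𝔫, Ψ l l' = θ₀ (l * l') := fun _ _ => rfl
    have hΨinj : Function.Injective Ψ := by
      rw [← LinearMap.ker_eq_bot, LinearMap.ker_eq_bot']
      intro l hl
      by_contra hl0
      apply hθ₀
      have := congrArg (fun F : (B ⧸ 𝔫) →ₗ[A] E => F l⁻¹) hl
      simp only [hΨ, LinearMap.zero_apply] at this
      rwa [mul_inv_cancel₀ hl0] at this
    have hΨsurj : Function.Surjective Ψ := by
      apply surjective_of_injective_of_length_le Ψ hΨinj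
      · rw [Module.length_ne_top_iff]; exact hfl
      · rw [length_hom f hf _ hfl]
    -- the functional attached to `c`
    let θc : (B ⧸ 𝔫) →ₗ[A] E := Submodule.liftQ (𝔫.restrictScalars A) (ofC c) (by
      intro x hx
      rw [LinearMap.mem_ker]
      have h1 : ofC (x • c) 1 = 0 := by rw [hc x hx]; rfl
      rwa [ofC_smul, one_mul] at h1)
    have hθc : ∀ b : B, θc (Ideal.Quotient.mk 𝔫 b) = ofC c b := fun b => rfl
    obtain ⟨l, hl⟩ := hΨsurj θc
    obtain ⟨b, rfl⟩ := Ideal.Quotient.mk_surjective l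
    refine ⟨b, ?_⟩
    apply coext_ext
    intro b'
    rw [ofC_smul, ofC_toC_apply, LinearMap.comp_apply, hπ, map_mul, mul_comm, ← hΨ, hl, hθc]

/-- the `𝔫`-power-torsion part of `Hom_A(B, E)` is an injective hull of `B ⧸ 𝔫`. -/
theorem exists_hull_Gam_coext (hf : IsInjectiveHull f) (𝔫 : Ideal B) [h𝔫 : 𝔫.IsMaximal] :
    ∃ g : (B ⧸ 𝔫) →ₗ[B] (Gam 𝔫 (C := Coext A B E)), IsInjectiveHull g := by
  haveI : IsNoetherianRing B := IsNoetherianRing.of_finite A B
  have hC : Module.Injective B (Coext A B E) := Module.Baer.injective (baer_coext hf.isInjective)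
  have hG : Module.Injective B (Gam 𝔫 (C := Coext A B E)) :=
    Module.Baer.injective (baer_Gam 𝔫 hC)
  obtain ⟨y₀, hy0, hyk, hys⟩ := exists_socle_generator_coext f hf 𝔫
  have hmem : y₀ ∈ Gam 𝔫 (C := Coext A B E) := by
    rw [mem_Gam_iff]
    exact ⟨1, fun a ha => hyk a (by rwa [pow_one] at ha)⟩
  refine isInjectiveHull_of_socle 𝔫 hG (isPowerTorsion_Gam 𝔫) ⟨y₀, hmem⟩ ?_ ?_ ?_
  · intro h
    exact hy0 (congrArg Subtype.val h)
  · intro a ha
    exact Subtype.ext (hyk a ha)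
  · intro x hx
    obtain ⟨b, hb⟩ := hys x.1 (fun a ha => congrArg Subtype.val (hx a ha))
    exact ⟨b, Subtype.ext hb⟩

/-- `Hom_A(B, E)` is the direct sum of injective hulls of the residue fields of `B`. -/
theorem exists_decomposition_coext (hf : IsInjectiveHull f) :
    ∃ J : MaximalSpectrum B → Submodule B (Coext A B E),
      iSupIndep J ∧ iSup J = ⊤ ∧
      ∀ n : MaximalSpectrum B, ∃ g : (B ⧸ n.asIdeal) →ₗ[B] J n, IsInjectiveHull g := by
  refine ⟨fun n => Gam n.asIdeal (C := Coext A B E), iSupIndep_Gam,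
    iSup_Gam_coext (isPowerTorsion_of_essential f hf.toIsEssentialInj), fun n => ?_⟩
  haveI := n.isMaximal
  exact exists_hull_Gam_coext f hf n.asIdeal

end CoextSemilocal

end Groth.Agent.H8.Matlis
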