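import Mathlib
import Groth.Prelude.Def_GrLC
import Groth.Prelude.Def_GrSeg
import Groth.Prelude.Def_Wider
import Groth.Agent.Lib.helper1.InjHull3
import Groth.Agent.Lib.helper8.MatlisN
import Groth.Agent.Lib.helper8.MatlisJ
import Groth.Agent.Lib.helper8.GDualF

/-!
# Graded `k`-duals, part G (helper8): Artinian criterion for a maximal ideal; the graded dual of a
finitely generated graded module is Artinian.
-/

universe u

set_option linter.unusedSectionVars false

namespace Groth.Agent.H8.GDual

open DirectSum GrSeg GrLC LocCoh InjHull Groth.Agent.H8.Matlis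

section ArtinianCrit

variable {R : Type u} [CommRing R] [IsNoetherianRing R] (m : Ideal R) [hm : m.IsMaximal]

/-- a power torsion module with finite socle embeds into a finite power of any injective module
containing `R ⧸ m`. -/
theorem exists_embedding_of_isMaximal {E : Type u} [AddCommGroup E] [Module R E]
    [Module.Injective R E] (f : (R ⧸ m) →ₗ[R] E) (hf : Function.Injective f)
    (M : Type u) [AddCommGroup M] [Module R M] (hM : IsPowerTorsion m M)
    [Module.Finite (R ⧸ m) ↥(torsionBy m M)] :
    ∃ (n : ℕ) (g : M →ₗ[R] (Fin n → E)), Function.Injective g := by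
  classical
  letI : Field (R ⧸ m) := Ideal.Quotient.field _
  let V : Submodule R M := torsionBy m M
  let n := Module.finrank (R ⧸ m) V
  let b : Module.Basis (Fin n) (R ⧸ m) V := Module.finBasis (R ⧸ m) V
  let φ : V →ₗ[R] (Fin n → E) :=
    LinearMap.pi (fun i => f.comp ((b.coord i).restrictScalars R))
  have hφ : Function.Injective φ := by
    rw [← LinearMap.ker_eq_bot, LinearMap.ker_eq_bot']
    intro v hv
    apply b.repr.injective
    ext i
    have h1 := congrFun hv i
    have h2 : f (b.repr v i) = 0 := h1
    have h3 := hf (h2.trans (map_zero f).symm)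
    have h4 : (b.repr v) i = (0 : R ⧸ m) := h3
    rw [h4]; simp
  obtain ⟨g, hg⟩ := Module.Injective.extension_property R (Fin n → E) V M V.subtype
    V.injective_subtype φ
  refine ⟨n, g, ?_⟩
  rw [← LinearMap.ker_eq_bot, LinearMap.ker_eq_bot']
  intro x hx
  by_contra hx0
  obtain ⟨r, hr0, hr⟩ := exists_socle_mem' m hM hx0
  have hmem : r • x ∈ V := by
    rw [Submodule.mem_torsionBySet_iff]
    intro a
    exact hr a a.2
  have h1 : φ ⟨r • x, hmem⟩ = 0 := by
    have := congrArg (fun F : V →ₗ[R] (Fin n → E) => F ⟨r • x, hmem⟩) hg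
    simp only [LinearMap.comp_apply, Submodule.subtype_apply] at this
    rw [← this, map_smul, hx, smul_zero]
  have h2 := hφ (h1.trans (map_zero φ).symm)
  exact hr0 (congrArg Subtype.val h2)

theorem isArtinian_of_isPowerTorsion_of_finite_socle (M : Type u) [AddCommGroup M] [Module R M]
    (hM : IsPowerTorsion m M) [Module.Finite (R ⧸ m) ↥(torsionBy m M)] : IsArtinian R M := by
  obtain ⟨E, _, _, f, hf⟩ :=
    Groth.Agent.Lib.helper1.InjHullLib.exists_injective_hull (R := R) (R ⧸ m)
  haveI := hf.isInjective
  obtain ⟨n, g, hg⟩ := exists_embedding_of_isMaximal m f hf.injective M hM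
  haveI : IsArtinian R E := isArtinian_hull_of_isMaximal m f hf
  exact isArtinian_of_injective g hg

end ArtinianCrit

end Groth.Agent.H8.GDual
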