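import Mathlib
import Groth.Prelude.Def_GrLC
import Groth.Prelude.Def_Wider

/-!
# Graded modules toolkit, part A (helper8): components, homogeneous submodules, *essential maps.
-/

universe u

namespace Groth.Agent.H8.Gr

open DirectSum GrLC

variable {ι : Type} [AddCommGroup ι] [DecidableEq ι]
variable {R : Type u} [CommRing R] (𝒜 : ι → AddSubgroup R) [GradedRing 𝒜]

section Basic

variable {M : Type u} [AddCommGroup M] [Module R M] (ℳ : ι → AddSubgroup M)
  [DirectSum.Decomposition ℳ] [SetLike.GradedSMul 𝒜 ℳ]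

omit [DirectSum.Decomposition ℳ] in
theorem smul_mem_piece {r : R} {h : ι} (hr : r ∈ 𝒜 h) {x : M} {g : ι} (hx : x ∈ ℳ g) :
    r • x ∈ ℳ (h + g) := by
  have := SetLike.GradedSMul.smul_mem (A := 𝒜) (B := ℳ) hr hx
  rwa [vadd_eq_add] at this

/-- component of `r • x` for homogeneous `r`. -/
theorem coe_decompose_smul_of_mem {r : R} {h : ι} (hr : r ∈ 𝒜 h) (x : M) (g : ι) :
    (decompose ℳ (r • x) (h + g) : M) = r • (decompose ℳ x g : M) := by
  induction x using Decomposition.inductionOn ℳ with
  | zero => simp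
  | @homogeneous i m =>
    have hm : r • (m : M) ∈ ℳ (h + i) := smul_mem_piece 𝒜 ℳ hr m.2
    by_cases hgi : i = g
    · subst hgi
      rw [decompose_of_mem_same ℳ hm, decompose_of_mem_same ℳ m.2]
    · have h1 : h + i ≠ h + g := fun e => hgi (add_left_cancel e)
      rw [decompose_of_mem_ne ℳ hm h1, decompose_of_mem_ne ℳ m.2 hgi, smul_zero]
  | add m m' hm hm' =>
    rw [smul_add, decompose_add, decompose_add, DirectSum.add_apply, DirectSum.add_apply,
      AddSubgroup.coe_add, AddSubgroup.coe_add, hm, hm', smul_add]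

/-- components of `r • x` in degrees not of the form `h + g` vanish... stated via subtraction. -/
theorem coe_decompose_smul_of_mem' {r : R} {h : ι} (hr : r ∈ 𝒜 h) (x : M) (k : ι) :
    (decompose ℳ (r • x) k : M) = r • (decompose ℳ x (k - h) : M) := by
  have := coe_decompose_smul_of_mem 𝒜 ℳ hr x (k - h)
  rwa [add_sub_cancel] at this

variable {ℳ} in
/-- a nonzero element has a nonzero component. -/
theorem exists_decompose_ne_zero {x : M} (hx : x ≠ 0) : ∃ g, (decompose ℳ x g : M) ≠ 0 := by
  classical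
  by_contra h
  push Not at h
  apply hx
  rw [← sum_support_decompose ℳ x]
  apply Finset.sum_eq_zero
  intro g _
  exact h g

variable {ℳ} in
theorem decompose_mem_piece (x : M) (g : ι) : (decompose ℳ x g : M) ∈ ℳ g := (decompose ℳ x g).2

/-- a nonzero homogeneous submodule contains a nonzero homogeneous element. -/
theorem exists_homogeneous_mem_ne_zero {P : Submodule R M} (hP : P.IsHomogeneous ℳ) (hne : P ≠ ⊥) :
    ∃ g, ∃ x ∈ P, x ∈ ℳ g ∧ x ≠ 0 := by
  obtain ⟨y, hyP, hy0⟩ := Submodule.exists_mem_ne_zero_of_ne_bot hne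
  obtain ⟨g, hg⟩ := exists_decompose_ne_zero (ℳ := ℳ) hy0
  exact ⟨g, _, hP g hyP, decompose_mem_piece y g, hg⟩

include 𝒜 in
/-- the submodule generated by a homogeneous element is homogeneous. -/
theorem isHomogeneous_span_singleton {x : M} {g : ι} (hx : x ∈ ℳ g) :
    (Submodule.span R {x}).IsHomogeneous ℳ := by
  intro k y hy
  obtain ⟨r, rfl⟩ := Submodule.mem_span_singleton.mp hy
  induction r using Decomposition.inductionOn 𝒜 with
  | zero => simp
  | @homogeneous h r =>
    have hm : (r : R) • x ∈ ℳ (h + g) := smul_mem_piece 𝒜 ℳ r.2 hx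
    by_cases hk : h + g = k
    · subst hk
      rw [decompose_of_mem_same ℳ hm]
      exact Submodule.smul_mem _ _ (Submodule.mem_span_singleton_self x)
    · rw [decompose_of_mem_ne ℳ hm hk]
      exact zero_mem _
  | add r r' hr hr' =>
    rw [add_smul, decompose_add, DirectSum.add_apply, AddSubgroup.coe_add]
    exact add_mem (hr (Submodule.smul_mem _ _ (Submodule.mem_span_singleton_self x)))
      (hr' (Submodule.smul_mem _ _ (Submodule.mem_span_singleton_self x)))

omit [SetLike.GradedSMul 𝒜 ℳ] in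
theorem isHomogeneous_inf {P Q : Submodule R M} (hP : P.IsHomogeneous ℳ) (hQ : Q.IsHomogeneous ℳ) :
    (P ⊓ Q).IsHomogeneous ℳ := fun g _ hx => ⟨hP g hx.1, hQ g hx.2⟩

/-- in a homogeneous submodule `Q`, a nonzero homogeneous element of `span {x} ⊓ Q` can be taken of the
form `r • x` with `r` homogeneous. -/
theorem exists_homogeneous_smul_mem {x : M} {g : ι} (hx : x ∈ ℳ g) {Q : Submodule R M}
    (hQ : Q.IsHomogeneous ℳ) (hne : Submodule.span R {x} ⊓ Q ≠ ⊥) :
    ∃ h, ∃ r ∈ 𝒜 h, r • x ≠ 0 ∧ r • x ∈ Q := by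
  obtain ⟨y, ⟨hy1, hy2⟩, hy0⟩ := Submodule.exists_mem_ne_zero_of_ne_bot hne
  obtain ⟨r, rfl⟩ := Submodule.mem_span_singleton.mp hy1
  obtain ⟨k, hk⟩ := exists_decompose_ne_zero (ℳ := ℳ) hy0
  -- the component of `r • x` in degree `k` is `r_{k-g} • x`
  have hcomp : ∀ (r : R) (k : ι), (decompose ℳ (r • x) k : M) = (decompose 𝒜 r (k - g) : R) • x := by
    intro r k
    induction r using Decomposition.inductionOn 𝒜 with
    | zero => simp
    | @homogeneous h r =>
      have hm : (r : R) • x ∈ ℳ (h + g) := smul_mem_piece 𝒜 ℳ r.2 hx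
      by_cases hk : h + g = k
      · subst hk
        rw [decompose_of_mem_same ℳ hm, add_sub_cancel_right, decompose_of_mem_same 𝒜 r.2]
      · have h2 : h ≠ k - g := fun e => hk (by rw [e, sub_add_cancel])
        rw [decompose_of_mem_ne ℳ hm hk, decompose_of_mem_ne 𝒜 r.2 h2, zero_smul]
    | add r r' hr hr' =>
      rw [add_smul, decompose_add, DirectSum.add_apply, AddSubgroup.coe_add, hr, hr',
        decompose_add, DirectSum.add_apply, AddSubgroup.coe_add, add_smul]
  refine ⟨k - g, (decompose 𝒜 r (k - g) : R), (decompose 𝒜 r (k - g)).2, ?_, ?_⟩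
  · rw [← hcomp]; exact hk
  · rw [← hcomp]; exact hQ k hy2

end Basic

section Maps

variable {M : Type u} [AddCommGroup M] [Module R M] (ℳ : ι → AddSubgroup M)
  [DirectSum.Decomposition ℳ]
variable {N : Type u} [AddCommGroup N] [Module R N] (𝒩 : ι → AddSubgroup N)
  [DirectSum.Decomposition 𝒩]

/-- a homogeneous map commutes with taking components. -/
theorem decompose_map {f : M →ₗ[R] N} (hf : IsGrHom ℳ 𝒩 f) (x : M) (g : ι) :
    (decompose 𝒩 (f x) g : N) = f (decompose ℳ x g : M) := by
  induction x using Decomposition.inductionOn ℳ with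
  | zero => simp
  | @homogeneous i m =>
    have hm : f (m : M) ∈ 𝒩 i := hf i m m.2
    by_cases hgi : i = g
    · subst hgi
      rw [decompose_of_mem_same 𝒩 hm, decompose_of_mem_same ℳ m.2]
    · rw [decompose_of_mem_ne 𝒩 hm hgi, decompose_of_mem_ne ℳ m.2 hgi, map_zero]
  | add m m' hm hm' =>
    rw [map_add, decompose_add, decompose_add, DirectSum.add_apply, DirectSum.add_apply,
      AddSubgroup.coe_add, AddSubgroup.coe_add, hm, hm', map_add]

theorem isHomogeneous_range {f : M →ₗ[R] N} (hf : IsGrHom ℳ 𝒩 f) :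
    (LinearMap.range f).IsHomogeneous 𝒩 := by
  rintro g _ ⟨x, rfl⟩
  exact ⟨_, (decompose_map ℳ 𝒩 hf x g).symm⟩

theorem isHomogeneous_ker {f : M →ₗ[R] N} (hf : IsGrHom ℳ 𝒩 f) :
    (LinearMap.ker f).IsHomogeneous ℳ := by
  intro g x hx
  rw [LinearMap.mem_ker] at hx ⊢
  rw [← decompose_map ℳ 𝒩 hf, hx, decompose_zero]
  rfl

end Maps

section Ess

variable {M : Type u} [AddCommGroup M] [Module R M] (ℳ : ι → AddSubgroup M)
variable {N : Type u} [AddCommGroup N] [Module R N] (𝒩 : ι → AddSubgroup N)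
  [DirectSum.Decomposition 𝒩] [SetLike.GradedSMul 𝒜 𝒩]

/-- for a *essential map with homogeneous range, a nonzero homogeneous element has a nonzero
homogeneous multiple in the range. -/
theorem exists_smul_mem_of_isStarEss {f : M →ₗ[R] N} (hf : IsStarEss ℳ 𝒩 f)
    (hrange : (LinearMap.range f).IsHomogeneous 𝒩) {x : N} {g : ι} (hx : x ∈ 𝒩 g) (hx0 : x ≠ 0) :
    ∃ h, ∃ r ∈ 𝒜 h, r • x ≠ 0 ∧ r • x ∈ LinearMap.range f := by
  apply exists_homogeneous_smul_mem 𝒜 𝒩 hx hrange
  apply hf.essential _ (isHomogeneous_span_singleton 𝒜 𝒩 hx)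
  rwa [Ne, Submodule.span_singleton_eq_bot]

include 𝒜 in
/-- **`*`essential implies essential** (given the range is homogeneous). -/
theorem exists_smul_mem_of_isStarEss_of_ne_zero {f : M →ₗ[R] N} (hf : IsStarEss ℳ 𝒩 f)
    (hrange : (LinearMap.range f).IsHomogeneous 𝒩) :
    ∀ x : N, x ≠ 0 → ∃ r : R, r • x ≠ 0 ∧ r • x ∈ LinearMap.range f := by
  classical
  -- induction on the size of the support
  suffices H : ∀ n : ℕ, ∀ x : N, (decompose 𝒩 x).support.card = n → x ≠ 0 →
      ∃ h, ∃ r ∈ 𝒜 h, r • x ≠ 0 ∧ r • x ∈ LinearMap.range f by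
    intro x hx
    obtain ⟨h, r, _, h1, h2⟩ := H _ x rfl hx
    exact ⟨r, h1, h2⟩
  intro n
  induction n using Nat.strong_induction_on with
  | _ n ih =>
    intro x hn hx0
    obtain ⟨g, hg⟩ := exists_decompose_ne_zero (ℳ := 𝒩) hx0
    set xg : N := (decompose 𝒩 x g : N) with hxg
    have hxgm : xg ∈ 𝒩 g := decompose_mem_piece x g
    set x' : N := x - xg with hx'
    -- components of `x'`
    have hx'g : (decompose 𝒩 x' g : N) = 0 := by
      rw [hx', decompose_sub, DirectSum.sub_apply, AddSubgroup.coe_sub,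
        decompose_of_mem_same 𝒩 hxgm, sub_self]
    have hx'k : ∀ k, k ≠ g → (decompose 𝒩 x' k : N) = (decompose 𝒩 x k : N) := by
      intro k hk
      rw [hx', decompose_sub, DirectSum.sub_apply, AddSubgroup.coe_sub,
        decompose_of_mem_ne 𝒩 hxgm (Ne.symm hk), sub_zero]
    by_cases hx'0 : x' = 0
    · -- `x` is homogeneous
      have hxeq : x = xg := sub_eq_zero.mp hx'0
      rw [hxeq]
      exact exists_smul_mem_of_isStarEss 𝒜 ℳ 𝒩 hf hrange hxgm hg
    · -- fewer components
      have hcard : (decompose 𝒩 x').support.card < n := by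
        rw [← hn]
        apply Finset.card_lt_card
        constructor
        · intro k hk
          rw [DFinsupp.mem_support_iff] at hk ⊢
          have hkg : k ≠ g := by
            rintro rfl
            apply hk
            exact Subtype.ext hx'g
          intro h0
          apply hk
          apply Subtype.ext
          rw [hx'k k hkg, h0]
        · intro hsub
          have hgs : g ∈ (decompose 𝒩 x).support := by
            rw [DFinsupp.mem_support_iff]
            intro h0
            apply hg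
            rw [hxg, h0]; rfl
          have := hsub hgs
          rw [DFinsupp.mem_support_iff] at this
          exact this (Subtype.ext hx'g)
      obtain ⟨h', r', hr', hr'0, hr'm⟩ := ih _ hcard x' rfl hx'0
      by_cases hr'g : r' • xg = 0
      · refine ⟨h', r', hr', ?_, ?_⟩
        · have : r' • x = r' • x' := by rw [hx', smul_sub, hr'g, sub_zero]
          rw [this]; exact hr'0
        · have : r' • x = r' • x' := by rw [hx', smul_sub, hr'g, sub_zero]
          rw [this]; exact hr'm
      · have hmem : r' • xg ∈ 𝒩 (h' + g) := smul_mem_piece 𝒜 𝒩 hr' hxgm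
        obtain ⟨h'', r'', hr'', hr''0, hr''m⟩ := exists_smul_mem_of_isStarEss 𝒜 ℳ 𝒩 hf hrange hmem hr'g
        refine ⟨h'' + h', r'' * r', SetLike.GradedMul.mul_mem hr'' hr', ?_, ?_⟩
        · -- the component in degree `h'' + h' + g` is nonzero
          intro h0
          apply hr''0
          have h1 := coe_decompose_smul_of_mem 𝒜 𝒩 (SetLike.GradedMul.mul_mem hr'' hr') x g
          rw [h0, decompose_zero] at h1
          rw [← mul_smul]
          exact h1.symm
        · have : (r'' * r') • x = r'' • (r' • xg) + r'' • (r' • x') := by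
            rw [hx', smul_sub, smul_sub, mul_smul]; abel
          rw [this]
          exact add_mem hr''m (Submodule.smul_mem _ _ hr'm)

include 𝒜 in
/-- `*`essential implies essential, in the Prelude's form. -/
theorem isEssentialInj_of_isStarEss' {f : M →ₗ[R] N} (hf : IsStarEss ℳ 𝒩 f)
    (hrange : (LinearMap.range f).IsHomogeneous 𝒩) : InjHull.IsEssentialInj f := by
  refine ⟨hf.injective, fun P hP hbot => ?_⟩
  obtain ⟨x, hxP, hx0⟩ := Submodule.exists_mem_ne_zero_of_ne_bot hP
  obtain ⟨r, hr0, hr⟩ := exists_smul_mem_of_isStarEss_of_ne_zero 𝒜 ℳ 𝒩 hf hrange x hx0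
  apply hr0
  have : r • x ∈ P ⊓ LinearMap.range f := ⟨P.smul_mem r hxP, hr⟩
  rw [hbot] at this
  exact (Submodule.mem_bot R).mp this

include 𝒜 in
theorem isEssentialInj_of_isStarEss [DirectSum.Decomposition ℳ] {f : M →ₗ[R] N}
    (hf : IsStarEss ℳ 𝒩 f) : InjHull.IsEssentialInj f :=
  isEssentialInj_of_isStarEss' 𝒜 ℳ 𝒩 hf (isHomogeneous_range ℳ 𝒩 hf.grHom)

end Ess

end Groth.Agent.H8.Gr
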