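import Mathlib
import Groth.Prelude.Def_GrLC
import Groth.Prelude.Def_Wider
import Groth.Agent.Lib.helper8.GrA

/-!
# Graded modules toolkit, part B (helper8): internal direct sums of subgroups, shifts, quotients,
homogeneous submodules as graded modules.
-/

universe u

namespace Groth.Agent.H8.Gr

open DirectSum GrLC

section Internal

variable {ι : Type*} [DecidableEq ι] {G : Type*} [AddCommGroup G]

theorem isInternal_of_iSupIndep_of_iSup_eq_top (A : ι → AddSubgroup G) (hi : iSupIndep A)
    (hs : iSup A = ⊤) : DirectSum.IsInternal A := by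
  refine ⟨hi.dfinsuppSumAddHom_injective, fun x => ?_⟩
  have hx : x ∈ iSup A := by rw [hs]; trivial
  have hle : iSup A ≤ (DirectSum.coeAddMonoidHom A).range := by
    refine iSup_le fun i y hy => ⟨DirectSum.of (fun i => A i) i ⟨y, hy⟩, ?_⟩
    simp
  exact hle hx

theorem iSup_eq_top_of_isInternal (A : ι → AddSubgroup G) (h : DirectSum.IsInternal A) :
    iSup A = ⊤ := by
  rw [eq_top_iff]
  rintro x -
  obtain ⟨d, rfl⟩ := h.surjective x
  induction d using DirectSum.induction_on with
  | zero => rw [map_zero]; exact zero_mem _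
  | of i y =>
    rw [DirectSum.coeAddMonoidHom_of]
    exact (le_iSup A i) y.2
  | add a b ha hb => rw [map_add]; exact add_mem ha hb

theorem isInternal_comp_equiv (A : ι → AddSubgroup G) (h : DirectSum.IsInternal A) (σ : ι ≃ ι) :
    DirectSum.IsInternal (fun j => A (σ j)) := by
  apply isInternal_of_iSupIndep_of_iSup_eq_top
  · exact h.addSubgroup_iSupIndep.comp σ.injective
  · rw [σ.iSup_comp (g := A)]
    exact iSup_eq_top_of_isInternal A h

end Internal

variable {ι : Type} [AddCommGroup ι] [DecidableEq ι]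
variable {R : Type u} [CommRing R] {𝒜 : ι → AddSubgroup R} [GradedRing 𝒜]

section Shift

/-- the shifted graded module `X(g)`: same module, pieces `X(g)_j = X_{g+j}`. -/
noncomputable def shiftGMod (X : GMod.{u} 𝒜) (g : ι) : GMod.{u} 𝒜 :=
  letI : DirectSum.Decomposition (fun j => X.gr (g + j)) :=
    (isInternal_comp_equiv X.gr (DirectSum.Decomposition.isInternal X.gr)
      (Equiv.addLeft g)).chooseDecomposition
  letI : SetLike.GradedSMul 𝒜 (fun j => X.gr (g + j)) :=
    ⟨fun {i j} {r x} hr hx => by
      have h1 : r • x ∈ X.gr (i + (g + j)) := smul_mem_piece 𝒜 X.gr hr hx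
      have h2 : i + (g + j) = g + (i + j) := by abel
      rw [h2] at h1
      rw [vadd_eq_add]
      exact h1⟩
  { carrier := X.carrier, gr := fun j => X.gr (g + j) }

theorem shiftGMod_carrier (X : GMod.{u} 𝒜) (g : ι) : (shiftGMod X g).carrier = X.carrier := rfl

theorem shiftGMod_gr (X : GMod.{u} 𝒜) (g j : ι) : (shiftGMod X g).gr j = X.gr (g + j) := rfl

end Shift

section Quot

variable (X : GMod.{u} 𝒜) (P : Submodule R X.carrier) (hP : P.IsHomogeneous X.gr)

/-- pieces of the quotient. -/
def quotPieces : ι → AddSubgroup (X.carrier ⧸ P) :=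
  fun g => (X.gr g).map (P.mkQ : X.carrier →ₗ[R] X.carrier ⧸ P).toAddMonoidHom

theorem mem_quotPieces {g : ι} {y : X.carrier ⧸ P} :
    y ∈ quotPieces X P g ↔ ∃ x ∈ X.gr g, P.mkQ x = y := Iff.rfl

include hP in
theorem isInternal_quotPieces : DirectSum.IsInternal (quotPieces X P) := by
  classical
  apply isInternal_of_iSupIndep_of_iSup_eq_top
  · -- independence
    intro g
    rw [disjoint_iff, eq_bot_iff]
    rintro y ⟨hy1, hy2⟩
    obtain ⟨x, hx, rfl⟩ := hy1
    -- `y` is the image of an element without `g`-component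
    have hmem : ∀ z ∈ (⨆ (j) (_ : j ≠ g), quotPieces X P j),
        ∃ w : X.carrier, (decompose X.gr w g : X.carrier) = 0 ∧ P.mkQ w = z := by
      intro z hz
      refine AddSubgroup.iSup_induction (fun j => ⨆ (_ : j ≠ g), quotPieces X P j)
        (C := fun z => ∃ w : X.carrier, (decompose X.gr w g : X.carrier) = 0 ∧ P.mkQ w = z)
        hz ?_ ?_ ?_
      · intro j z hz
        by_cases hj : j = g
        · subst hj
          simp only [ne_eq, not_true_eq_false, iSup_false] at hz
          rw [AddSubgroup.mem_bot] at hz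
          exact ⟨0, by simp, by rw [hz, map_zero]⟩
        · simp only [ne_eq, hj, not_false_eq_true, iSup_pos] at hz
          obtain ⟨w, hw, rfl⟩ := hz
          exact ⟨w, by rw [decompose_of_mem_ne X.gr hw hj], rfl⟩
      · exact ⟨0, by simp, map_zero _⟩
      · rintro a b ⟨wa, hwa, rfl⟩ ⟨wb, hwb, rfl⟩
        exact ⟨wa + wb, by rw [decompose_add, DirectSum.add_apply, AddSubgroup.coe_add, hwa, hwb,
          add_zero], map_add _ _ _⟩
    obtain ⟨w, hw0, hw⟩ := hmem _ hy2
    have hxw : x - w ∈ P := by
      rw [← Submodule.Quotient.mk_eq_zero, Submodule.Quotient.mk_sub, sub_eq_zero]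
      exact hw.symm
    have hcomp := hP g hxw
    rw [decompose_sub, DirectSum.sub_apply, AddSubgroup.coe_sub, decompose_of_mem_same X.gr hx, hw0,
      sub_zero] at hcomp
    rw [AddSubgroup.mem_bot]
    exact (Submodule.Quotient.mk_eq_zero P).mpr hcomp
  · -- spanning
    rw [eq_top_iff]
    intro y _
    obtain ⟨x, rfl⟩ := P.mkQ_surjective y
    rw [← sum_support_decompose X.gr x, map_sum]
    apply sum_mem
    intro g _
    exact (le_iSup (quotPieces X P) g) ⟨_, (decompose X.gr x g).2, rfl⟩

/-- the graded quotient module `X ⧸ P` for homogeneous `P`. -/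
noncomputable def quotGMod : GMod.{u} 𝒜 :=
  letI : DirectSum.Decomposition (quotPieces X P) :=
    (isInternal_quotPieces X P hP).chooseDecomposition
  letI : SetLike.GradedSMul 𝒜 (quotPieces X P) :=
    ⟨fun {i j} {r y} hr hy => by
      obtain ⟨x, hx, rfl⟩ := hy
      rw [vadd_eq_add]
      exact ⟨r • x, smul_mem_piece 𝒜 X.gr hr hx, (P.mkQ).map_smul r x⟩⟩
  { carrier := X.carrier ⧸ P, gr := quotPieces X P }

theorem quotGMod_carrier : (quotGMod X P hP).carrier = (X.carrier ⧸ P) := rfl

theorem quotGMod_gr : (quotGMod X P hP).gr = quotPieces X P := rfl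

theorem isGrHom_mkQ : IsGrHom X.gr (quotGMod X P hP).gr (P.mkQ : X.carrier →ₗ[R] X.carrier ⧸ P) :=
  fun _ x hx => ⟨x, hx, rfl⟩

end Quot

section Sub

variable (X : GMod.{u} 𝒜) (P : Submodule R X.carrier) (hP : P.IsHomogeneous X.gr)

/-- pieces of a homogeneous submodule. -/
def subPieces : ι → AddSubgroup P :=
  fun g => (X.gr g).comap (P.subtype : P →ₗ[R] X.carrier).toAddMonoidHom

theorem mem_subPieces {g : ι} {y : P} : y ∈ subPieces X P g ↔ (y : X.carrier) ∈ X.gr g := Iff.rfl

include hP in
theorem isInternal_subPieces : DirectSum.IsInternal (subPieces X P) := by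
  classical
  apply isInternal_of_iSupIndep_of_iSup_eq_top
  · -- independence, by mapping to `X`
    have hind := (DirectSum.Decomposition.isInternal X.gr).addSubgroup_iSupIndep
    intro g
    rw [disjoint_iff, eq_bot_iff]
    rintro y ⟨hy1, hy2⟩
    have h1 : (y : X.carrier) ∈ X.gr g := hy1
    have h2 : (y : X.carrier) ∈ ⨆ (j) (_ : j ≠ g), X.gr j := by
      have hle : (⨆ (j) (_ : j ≠ g), subPieces X P j) ≤
          (⨆ (j) (_ : j ≠ g), X.gr j).comap (P.subtype : P →ₗ[R] X.carrier).toAddMonoidHom := by
        refine iSup_le fun j => iSup_le fun hj z hz => ?_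
        exact (le_iSup₂ (f := fun (j : ι) (_ : j ≠ g) => X.gr j) j hj) hz
      exact hle hy2
    have h3 := (disjoint_iff.mp (hind g)).le ⟨h1, h2⟩
    rw [AddSubgroup.mem_bot] at h3 ⊢
    exact Subtype.ext h3
  · rw [eq_top_iff]
    intro y _
    have hy : y = ∑ g ∈ (decompose X.gr (y : X.carrier)).support,
        (⟨(decompose X.gr (y : X.carrier) g : X.carrier), hP g y.2⟩ : P) := by
      apply Subtype.ext
      rw [AddSubmonoidClass.coe_finsetSum]
      exact (sum_support_decompose X.gr (y : X.carrier)).symm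
    rw [hy]
    apply sum_mem
    intro g _
    exact (le_iSup (subPieces X P) g) (decompose X.gr (y : X.carrier) g).2

/-- a homogeneous submodule as a graded module. -/
noncomputable def subGMod : GMod.{u} 𝒜 :=
  letI : DirectSum.Decomposition (subPieces X P) :=
    (isInternal_subPieces X P hP).chooseDecomposition
  letI : SetLike.GradedSMul 𝒜 (subPieces X P) :=
    ⟨fun {i j} {r y} hr hy => by
      rw [vadd_eq_add]
      exact smul_mem_piece 𝒜 X.gr hr hy⟩
  { carrier := P, gr := subPieces X P }

theorem isGrHom_subtype : IsGrHom (subGMod X P hP).gr X.gr (P.subtype : P →ₗ[R] X.carrier) :=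
  fun _ _ hx => hx

/-- the inclusion of a graded submodule, typed on the bundled carrier. -/
def subIncl : (subGMod X P hP).carrier →ₗ[R] X.carrier := P.subtype

theorem subIncl_mem (y : (subGMod X P hP).carrier) : subIncl X P hP y ∈ P := Subtype.property (p := (· ∈ P)) y

theorem subIncl_injective : Function.Injective (subIncl X P hP) := Subtype.val_injective

theorem isGrHom_subIncl : IsGrHom (subGMod X P hP).gr X.gr (subIncl X P hP) := fun _ _ hx => hx

theorem mem_subGMod_gr {g : ι} {y : (subGMod X P hP).carrier} :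
    y ∈ (subGMod X P hP).gr g ↔ subIncl X P hP y ∈ X.gr g := Iff.rfl

theorem range_subIncl : LinearMap.range (subIncl X P hP) = P := Submodule.range_subtype P

/-- corestriction to a graded submodule, typed on the bundled carrier. -/
def subCod {M : Type u} [AddCommGroup M] [Module R M] (f : M →ₗ[R] X.carrier) (h : ∀ m, f m ∈ P) :
    M →ₗ[R] (subGMod X P hP).carrier := f.codRestrict P h

theorem subIncl_subCod {M : Type u} [AddCommGroup M] [Module R M] (f : M →ₗ[R] X.carrier)
    (h : ∀ m, f m ∈ P) (m : M) : subIncl X P hP (subCod X P hP f h m) = f m := rfl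

end Sub

end Groth.Agent.H8.Gr
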