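import Mathlib
import Groth.Prelude.Def_GrLC
import Groth.Prelude.Def_Wider
import Groth.Agent.Lib.helper8.GrB
import Groth.Agent.Lib.helper8.MatlisJ

/-!
# Graded modules toolkit, part C (helper8): *injective modules and *injective envelopes, first results.
-/

universe u

set_option linter.unusedSectionVars false

namespace Groth.Agent.H8.Gr

open DirectSum GrLC

variable {ι : Type} [AddCommGroup ι] [DecidableEq ι]
variable {R : Type u} [CommRing R] (𝒜 : ι → AddSubgroup R) [GradedRing 𝒜]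

section StarInj

variable {M : Type u} [AddCommGroup M] [Module R M] (ℳ : ι → AddSubgroup M)
  [DirectSum.Decomposition ℳ] [SetLike.GradedSMul 𝒜 ℳ]

/-- a *essential homogeneous submodule-free criterion: if a homogeneous submodule misses the range of a
*essential map, it is zero. -/
theorem eq_bot_of_isStarEss {N : Type u} [AddCommGroup N] [Module R N] (𝒩 : ι → AddSubgroup N)
    [DirectSum.Decomposition 𝒩] {M' : Type u} [AddCommGroup M'] [Module R M']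
    (ℳ' : ι → AddSubgroup M') {f : M' →ₗ[R] N}
    (hf : IsStarEss ℳ' 𝒩 f) {P : Submodule R N} (hP : P.IsHomogeneous 𝒩)
    (hdisj : ∀ x ∈ P, x ∈ LinearMap.range f → x = 0) : P = ⊥ := by
  by_contra hne
  apply hf.essential P hP hne
  rw [eq_bot_iff]
  rintro x ⟨h1, h2⟩
  rw [Submodule.mem_bot]
  exact hdisj x h1 h2

/-- a *injective module has no proper *essential extension. -/
theorem surjective_of_isStarInj_of_isStarEss (hI : IsStarInj 𝒜 ℳ) (N : GMod.{u} 𝒜)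
    (f : M →ₗ[R] N.carrier) (hf : IsStarEss ℳ N.gr f) : Function.Surjective f := by
  obtain ⟨h, hh, hhf⟩ : ∃ h : N.carrier →ₗ[R] M, IsGrHom N.gr ℳ h ∧ h ∘ₗ f = LinearMap.id :=
    hI (GMod.of 𝒜 M ℳ) N f hf.grHom hf.injective LinearMap.id (fun _ _ hm => hm)
  have hhf' : ∀ x, h (f x) = x := fun x => congrArg (fun F : M →ₗ[R] M => F x) hhf
  have hker : LinearMap.ker h = ⊥ := by
    apply eq_bot_of_isStarEss N.gr ℳ hf (isHomogeneous_ker N.gr ℳ hh)
    rintro _ hx ⟨m, rfl⟩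
    rw [LinearMap.mem_ker, hhf'] at hx
    rw [hx, map_zero]
  intro y
  refine ⟨h y, ?_⟩
  apply LinearMap.ker_eq_bot.mp hker
  rw [hhf']

/-- uniqueness of *injective envelopes. -/
theorem isStarInjHull_unique
    {E₁ : Type u} [AddCommGroup E₁] [Module R E₁] (𝓔₁ : ι → AddSubgroup E₁)
    [DirectSum.Decomposition 𝓔₁] [SetLike.GradedSMul 𝒜 𝓔₁]
    {E₂ : Type u} [AddCommGroup E₂] [Module R E₂] (𝓔₂ : ι → AddSubgroup E₂)
    [DirectSum.Decomposition 𝓔₂] [SetLike.GradedSMul 𝒜 𝓔₂]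
    (f₁ : M →ₗ[R] E₁) (f₂ : M →ₗ[R] E₂)
    (h₁ : IsStarInjHull 𝒜 ℳ 𝓔₁ f₁) (h₂ : IsStarInjHull 𝒜 ℳ 𝓔₂ f₂) :
    ∃ β : E₁ ≃ₗ[R] E₂, IsGrHom 𝓔₁ 𝓔₂ β.toLinearMap ∧ β.toLinearMap ∘ₗ f₁ = f₂ := by
  obtain ⟨β, hβ, hβf⟩ : ∃ β : E₁ →ₗ[R] E₂, IsGrHom 𝓔₁ 𝓔₂ β ∧ β ∘ₗ f₁ = f₂ :=
    h₂.starInj (GMod.of 𝒜 M ℳ) (GMod.of 𝒜 E₁ 𝓔₁) f₁ h₁.grHom h₁.injective f₂ h₂.grHom
  have hβf' : ∀ x, β (f₁ x) = f₂ x := fun x => congrArg (fun F : M →ₗ[R] E₂ => F x) hβf
  have hker : LinearMap.ker β = ⊥ := by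
    apply eq_bot_of_isStarEss 𝓔₁ ℳ h₁.toIsStarEss (isHomogeneous_ker 𝓔₁ 𝓔₂ hβ)
    rintro _ hx ⟨m, rfl⟩
    rw [LinearMap.mem_ker, hβf'] at hx
    have : m = 0 := h₂.injective (hx.trans (map_zero f₂).symm)
    rw [this, map_zero]
  have hβinj : Function.Injective β := LinearMap.ker_eq_bot.mp hker
  -- a homogeneous retraction
  obtain ⟨γ, hγ, hγβ⟩ : ∃ γ : E₂ →ₗ[R] E₁, IsGrHom 𝓔₂ 𝓔₁ γ ∧ γ ∘ₗ β = LinearMap.id :=
    h₁.starInj (GMod.of 𝒜 E₁ 𝓔₁) (GMod.of 𝒜 E₂ 𝓔₂) β hβ hβinj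
      LinearMap.id (fun _ _ hm => hm)
  have hγβ' : ∀ x, γ (β x) = x := fun x => congrArg (fun F : E₁ →ₗ[R] E₁ => F x) hγβ
  have hkerγ : LinearMap.ker γ = ⊥ := by
    apply eq_bot_of_isStarEss 𝓔₂ ℳ h₂.toIsStarEss (isHomogeneous_ker 𝓔₂ 𝓔₁ hγ)
    rintro _ hx ⟨m, rfl⟩
    rw [LinearMap.mem_ker, ← hβf', hγβ'] at hx
    have : m = 0 := h₁.injective (hx.trans (map_zero f₁).symm)
    rw [this, map_zero]
  have hβsurj : Function.Surjective β := by
    intro y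
    refine ⟨γ y, ?_⟩
    apply LinearMap.ker_eq_bot.mp hkerγ
    rw [hγβ']
  exact ⟨LinearEquiv.ofBijective β ⟨hβinj, hβsurj⟩, hβ, hβf⟩

end StarInj

section QuotPrime

variable (p : HomogeneousIdeal 𝒜)
  {E : Type u} [AddCommGroup E] [Module R E] (𝓔 : ι → AddSubgroup E)
  [DirectSum.Decomposition 𝓔] [SetLike.GradedSMul 𝒜 𝓔]
  (e : (R ⧸ p.toIdeal) →ₗ[R] E)

theorem e_mk (r : R) : e (Ideal.Quotient.mk p.toIdeal r) = r • e 1 := by
  rw [← map_smul]
  congr 1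
  show _ = Ideal.Quotient.mk p.toIdeal (r * 1)
  rw [mul_one]

theorem e_one_mem (he : IsGrHom (quotGr 𝒜 p) 𝓔 e) : e 1 ∈ 𝓔 0 := by
  apply he 0
  exact ⟨1, (show (1 : R) ∈ 𝒜 0 from SetLike.GradedOne.one_mem), rfl⟩

theorem range_e_eq : LinearMap.range e = Submodule.span R {e 1} := by
  apply le_antisymm
  · rintro _ ⟨z, rfl⟩
    obtain ⟨r, rfl⟩ := Ideal.Quotient.mk_surjective z
    rw [e_mk]
    exact Submodule.smul_mem _ _ (Submodule.mem_span_singleton_self _)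
  · rw [Submodule.span_le]
    rintro _ rfl
    exact ⟨1, rfl⟩

theorem isHomogeneous_range_e (he : IsGrHom (quotGr 𝒜 p) 𝓔 e) :
    (LinearMap.range e).IsHomogeneous 𝓔 := by
  rw [range_e_eq]
  exact isHomogeneous_span_singleton 𝒜 𝓔 (e_one_mem 𝒜 p 𝓔 e he)

variable [hp : p.toIdeal.IsPrime]

/-- the *injective envelope of `R ⧸ p` is *indecomposable. -/
theorem isStarIndec_of_isStarEss (he : IsStarEss (quotGr 𝒜 p) 𝓔 e) : IsStarIndec R 𝓔 := by
  haveI : Nontrivial (R ⧸ p.toIdeal) := Ideal.Quotient.nontrivial_iff.mpr hp.ne_top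
  refine ⟨he.injective.nontrivial, fun P Q hP hQ hPQ => ?_⟩
  by_contra hne
  push Not at hne
  obtain ⟨x, ⟨hxP, ⟨a, rfl⟩⟩, hx0⟩ :=
    Submodule.exists_mem_ne_zero_of_ne_bot (he.essential P hP hne.1)
  obtain ⟨y, ⟨hyQ, ⟨b, rfl⟩⟩, hy0⟩ :=
    Submodule.exists_mem_ne_zero_of_ne_bot (he.essential Q hQ hne.2)
  obtain ⟨a', rfl⟩ := Ideal.Quotient.mk_surjective a
  obtain ⟨b', rfl⟩ := Ideal.Quotient.mk_surjective b
  have h1 : e (Ideal.Quotient.mk p.toIdeal (a' * b')) ∈ P := by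
    have : e (Ideal.Quotient.mk p.toIdeal (a' * b')) = b' • e (Ideal.Quotient.mk p.toIdeal a') := by
      rw [← map_smul]; congr 1
      show _ = Ideal.Quotient.mk p.toIdeal (b' * a')
      rw [mul_comm]
    rw [this]; exact P.smul_mem _ hxP
  have h2 : e (Ideal.Quotient.mk p.toIdeal (a' * b')) ∈ Q := by
    have : e (Ideal.Quotient.mk p.toIdeal (a' * b')) = a' • e (Ideal.Quotient.mk p.toIdeal b') := by
      rw [← map_smul]; rfl
    rw [this]; exact Q.smul_mem _ hyQ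
  have h3 : e (Ideal.Quotient.mk p.toIdeal (a' * b')) = 0 := by
    have := hPQ.disjoint.le_bot ⟨h1, h2⟩
    exact (Submodule.mem_bot R).mp this
  have h4 : Ideal.Quotient.mk p.toIdeal (a' * b') = 0 := he.injective (h3.trans (map_zero e).symm)
  rw [Ideal.Quotient.eq_zero_iff_mem] at h4
  rcases hp.mem_or_mem h4 with h | h
  · apply hx0
    rw [Ideal.Quotient.eq_zero_iff_mem.mpr h, map_zero]
  · apply hy0
    rw [Ideal.Quotient.eq_zero_iff_mem.mpr h, map_zero]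

/-- multiplication by a homogeneous element outside `p` is injective on `*E(R ⧸ p)`. -/
theorem smul_injective_of_isStarEss (he : IsStarEss (quotGr 𝒜 p) 𝓔 e) {g : ι} {r : R}
    (hr : r ∈ 𝒜 g) (hrp : r ∉ p.toIdeal) : Function.Injective (fun x : E => r • x) := by
  have hker : LinearMap.ker (LinearMap.lsmul R E r) = ⊥ := by
    apply eq_bot_of_isStarEss 𝓔 (quotGr 𝒜 p) he
    · intro k x hx
      rw [LinearMap.mem_ker, LinearMap.lsmul_apply] at hx ⊢
      have := coe_decompose_smul_of_mem 𝒜 𝓔 hr x k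
      rw [hx, decompose_zero] at this
      exact this.symm
    · rintro _ hx ⟨a, rfl⟩
      rw [LinearMap.mem_ker, LinearMap.lsmul_apply, ← map_smul] at hx
      have h1 : r • a = 0 := he.injective (hx.trans (map_zero e).symm)
      obtain ⟨a', rfl⟩ := Ideal.Quotient.mk_surjective a
      have h2 : Ideal.Quotient.mk p.toIdeal (r * a') = 0 := h1
      rw [Ideal.Quotient.eq_zero_iff_mem] at h2
      have h3 : a' ∈ p.toIdeal := (hp.mem_or_mem h2).resolve_left hrp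
      rw [Ideal.Quotient.eq_zero_iff_mem.mpr h3, map_zero]
  exact LinearMap.ker_eq_bot.mp hker

/-- multiplication by a homogeneous element outside `p` is bijective on `*E(R ⧸ p)`. -/
theorem smul_bijective_of_isStarInjHull (he : IsStarInjHull 𝒜 (quotGr 𝒜 p) 𝓔 e) {g : ι} {r : R}
    (hr : r ∈ 𝒜 g) (hrp : r ∉ p.toIdeal) : Function.Bijective (fun x : E => r • x) := by
  have hinj := smul_injective_of_isStarEss 𝒜 p 𝓔 e he.toIsStarEss hr hrp
  refine ⟨hinj, ?_⟩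
  let X : GMod.{u} 𝒜 := GMod.of 𝒜 E 𝓔
  let f : X.carrier →ₗ[R] (shiftGMod X g).carrier := LinearMap.lsmul R E r
  have hf : IsGrHom X.gr (shiftGMod X g).gr f := fun j x hx => smul_mem_piece 𝒜 𝓔 hr hx
  obtain ⟨h, _, hhf⟩ : ∃ h : E →ₗ[R] E, IsGrHom (shiftGMod X g).gr 𝓔 h ∧ h ∘ₗ f = LinearMap.id :=
    he.starInj X (shiftGMod X g) f hf hinj LinearMap.id (fun _ _ hm => hm)
  intro y
  refine ⟨h y, ?_⟩
  have h1 : h (f y) = y := congrArg (fun F : E →ₗ[R] E => F y) hhf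
  show r • h y = y
  rw [← map_smul]
  exact h1

/-- `*E(R ⧸ p)` is `p`-torsion. -/
theorem gam_eq_top_of_isStarEss [IsNoetherianRing R] (he : IsStarEss (quotGr 𝒜 p) 𝓔 e) :
    gam p.toIdeal E = ⊤ := by
  have hess : InjHull.IsEssentialInj e :=
    isEssentialInj_of_isStarEss' 𝒜 (quotGr 𝒜 p) 𝓔 he (isHomogeneous_range_e 𝒜 p 𝓔 e he.grHom)
  have hpt := Groth.Agent.H8.Matlis.isPowerTorsion_of_essential' e hess p.toIdeal
    (fun a ha y hy => Groth.Agent.H8.Matlis.smul_range_eq_zero' p.toIdeal e ha hy)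
  rw [eq_top_iff]
  intro x _
  exact hpt x

/-- homogeneous elements of `p` are exactly those not acting injectively on `*E(R ⧸ p)`. -/
theorem mem_iff_not_injective (he : IsStarEss (quotGr 𝒜 p) 𝓔 e) {g : ι} {r : R} (hr : r ∈ 𝒜 g) :
    r ∈ p.toIdeal ↔ ¬ Function.Injective (fun x : E => r • x) := by
  haveI : Nontrivial (R ⧸ p.toIdeal) := Ideal.Quotient.nontrivial_iff.mpr hp.ne_top
  constructor
  · intro hrp hinj
    have h1 : r • e 1 = r • (0 : E) := by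
      rw [← e_mk, Ideal.Quotient.eq_zero_iff_mem.mpr hrp, map_zero, smul_zero]
    have h2 : e 1 = 0 := hinj h1
    exact one_ne_zero (he.injective (h2.trans (map_zero e).symm))
  · intro hninj
    by_contra hrp
    exact hninj (smul_injective_of_isStarEss 𝒜 p 𝓔 e he hr hrp)

end QuotPrime

section TwoPrimes

variable (p q : HomogeneousIdeal 𝒜) [hp : p.toIdeal.IsPrime] [hq : q.toIdeal.IsPrime]
  {E : Type u} [AddCommGroup E] [Module R E] (𝓔 : ι → AddSubgroup E)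
  [DirectSum.Decomposition 𝓔] [SetLike.GradedSMul 𝒜 𝓔]
  (e : (R ⧸ p.toIdeal) →ₗ[R] E)
  {F : Type u} [AddCommGroup F] [Module R F] (𝓕 : ι → AddSubgroup F)
  [DirectSum.Decomposition 𝓕] [SetLike.GradedSMul 𝒜 𝓕]
  (f : (R ⧸ q.toIdeal) →ₗ[R] F)

theorem eq_of_linearEquiv (he : IsStarEss (quotGr 𝒜 p) 𝓔 e) (hf : IsStarEss (quotGr 𝒜 q) 𝓕 f)
    (φ : E ≃ₗ[R] F) : p = q := by
  have key : ∀ (g : ι) (r : R), r ∈ 𝒜 g → (r ∈ p.toIdeal ↔ r ∈ q.toIdeal) := by
    intro g r hr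
    rw [mem_iff_not_injective 𝒜 p 𝓔 e he hr, mem_iff_not_injective 𝒜 q 𝓕 f hf hr]
    apply not_congr
    constructor
    · intro h x y hxy
      have h1 : r • φ.symm x = r • φ.symm y := by
        rw [← map_smul, ← map_smul]; exact congrArg φ.symm hxy
      exact φ.symm.injective (h h1)
    · intro h x y hxy
      have h1 : r • φ x = r • φ y := by
        rw [← map_smul, ← map_smul]; exact congrArg φ hxy
      exact φ.injective (h h1)
  apply HomogeneousIdeal.toIdeal_injective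
  ext x
  rw [p.isHomogeneous.mem_iff, q.isHomogeneous.mem_iff]
  exact forall_congr' fun i => key i _ (decompose 𝒜 x i).2

end TwoPrimes

end Groth.Agent.H8.Gr
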