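import Mathlib
import Groth.Prelude.Def_GrLC
import Groth.Prelude.Def_Wider
import Groth.Agent.Lib.helper8.GrC

/-!
# Graded modules toolkit, part D (helper8): *essential extensions inside a *injective module.
-/

universe u

set_option linter.unusedSectionVars false

namespace Groth.Agent.H8.Gr

open DirectSum GrLC

variable {ι : Type} [AddCommGroup ι] [DecidableEq ι]
variable {R : Type u} [CommRing R] (𝒜 : ι → AddSubgroup R) [GradedRing 𝒜]

section Homog

variable {M : Type u} [AddCommGroup M] [Module R M] (ℳ : ι → AddSubgroup M)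
  [DirectSum.Decomposition ℳ] [SetLike.GradedSMul 𝒜 ℳ]

theorem isHomogeneous_sup {P Q : Submodule R M} (hP : P.IsHomogeneous ℳ) (hQ : Q.IsHomogeneous ℳ) :
    (P ⊔ Q).IsHomogeneous ℳ := by
  intro g x hx
  obtain ⟨a, ha, b, hb, rfl⟩ := Submodule.mem_sup.mp hx
  rw [decompose_add, DirectSum.add_apply, AddSubgroup.coe_add]
  exact Submodule.add_mem_sup (hP g ha) (hQ g hb)

theorem isHomogeneous_sSup_of_directedOn {c : Set (Submodule R M)} (hne : c.Nonempty)
    (hdir : DirectedOn (· ≤ ·) c) (hc : ∀ P ∈ c, P.IsHomogeneous ℳ) :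
    (sSup c).IsHomogeneous ℳ := by
  intro g x hx
  rw [Submodule.mem_sSup_of_directed hne hdir] at hx ⊢
  obtain ⟨P, hPc, hxP⟩ := hx
  exact ⟨P, hPc, hc P hPc g hxP⟩

theorem isHomogeneous_bot : (⊥ : Submodule R M).IsHomogeneous ℳ := by
  intro g x hx
  rw [Submodule.mem_bot] at hx
  rw [hx, decompose_zero]
  exact zero_mem _

theorem isHomogeneous_top : (⊤ : Submodule R M).IsHomogeneous ℳ := fun _ _ _ => trivial

/-- a bijective homogeneous map has a homogeneous inverse. -/
theorem isGrHom_symm {N : Type u} [AddCommGroup N] [Module R N] (𝒩 : ι → AddSubgroup N)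
    [DirectSum.Decomposition 𝒩] (φ : M ≃ₗ[R] N) (hφ : IsGrHom ℳ 𝒩 φ.toLinearMap) :
    IsGrHom 𝒩 ℳ φ.symm.toLinearMap := by
  intro g y hy
  have h1 : φ.symm y = (decompose ℳ (φ.symm y) g : M) := by
    apply φ.injective
    have := decompose_map ℳ 𝒩 hφ (φ.symm y) g
    simp only [LinearEquiv.coe_coe, LinearEquiv.apply_symm_apply] at this
    rw [← this, decompose_of_mem_same 𝒩 hy, LinearEquiv.apply_symm_apply]
  show φ.symm y ∈ ℳ g
  rw [h1]
  exact (decompose ℳ (φ.symm y) g).2

/-- *injectivity transfers along homogeneous isomorphisms. -/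
theorem isStarInj_of_equiv {N : Type u} [AddCommGroup N] [Module R N] (𝒩 : ι → AddSubgroup N)
    [DirectSum.Decomposition 𝒩] [SetLike.GradedSMul 𝒜 𝒩] (φ : M ≃ₗ[R] N)
    (hφ : IsGrHom ℳ 𝒩 φ.toLinearMap) (hM : IsStarInj 𝒜 ℳ) : IsStarInj 𝒜 𝒩 := by
  intro A B f hf hinj g hg
  have hφ' := isGrHom_symm ℳ 𝒩 φ hφ
  obtain ⟨h, hh, hhf⟩ := hM A B f hf hinj (φ.symm.toLinearMap ∘ₗ g)
    (fun k a ha => hφ' k _ (hg k a ha))
  refine ⟨φ.toLinearMap ∘ₗ h, fun k b hb => hφ k _ (hh k b hb), ?_⟩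
  rw [LinearMap.comp_assoc, hhf, ← LinearMap.comp_assoc]
  ext a
  simp

end Homog

section Inside

variable (I : GMod.{u} 𝒜)

/-- `H` is a homogeneous *essential extension of `N` inside `I`. -/
def GEss (N H : Submodule R I.carrier) : Prop :=
  N ≤ H ∧ H.IsHomogeneous I.gr ∧
    ∀ g, ∀ x ∈ H, x ∈ I.gr g → x ≠ 0 → ∃ r : R, r • x ≠ 0 ∧ r • x ∈ N

theorem exists_maximal_gess (N : Submodule R I.carrier) (hN : N.IsHomogeneous I.gr) :
    ∃ H, Maximal (GEss 𝒜 I N) H := by
  apply zorn_le₀ {H | GEss 𝒜 I N H}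
  intro c hc hchain
  by_cases hne : c.Nonempty
  · refine ⟨sSup c, ⟨?_, ?_, ?_⟩, fun z hz => le_sSup hz⟩
    · obtain ⟨H0, hH0⟩ := hne; exact (hc hH0).1.trans (le_sSup hH0)
    · exact isHomogeneous_sSup_of_directedOn I.gr hne hchain.directedOn (fun P hP => (hc hP).2.1)
    · intro g x hx hxg hx0
      rw [Submodule.mem_sSup_of_directed hne hchain.directedOn] at hx
      obtain ⟨H, hHc, hxH⟩ := hx
      exact (hc hHc).2.2 g x hxH hxg hx0
  · refine ⟨N, ⟨le_rfl, hN, fun g x hx _ hx0 => ⟨1, by simpa, by simpa⟩⟩,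
      fun z hz => (hne ⟨z, hz⟩).elim⟩

theorem exists_maximal_disjoint_homogeneous (H : Submodule R I.carrier) :
    ∃ C, Maximal (fun C : Submodule R I.carrier => C.IsHomogeneous I.gr ∧ Disjoint C H) C := by
  apply zorn_le₀ {C : Submodule R I.carrier | C.IsHomogeneous I.gr ∧ Disjoint C H}
  intro c hc hchain
  by_cases hne : c.Nonempty
  · refine ⟨sSup c, ⟨?_, ?_⟩, fun z hz => le_sSup hz⟩
    · exact isHomogeneous_sSup_of_directedOn I.gr hne hchain.directedOn (fun P hP => (hc hP).1)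
    · rw [Submodule.disjoint_def]
      intro x hx hxH
      rw [Submodule.mem_sSup_of_directed hne hchain.directedOn] at hx
      obtain ⟨C, hCc, hxC⟩ := hx
      exact (Submodule.disjoint_def.mp (hc hCc).2) x hxC hxH
  · exact ⟨⊥, ⟨isHomogeneous_bot I.gr, disjoint_bot_left⟩, fun z hz => (hne ⟨z, hz⟩).elim⟩

/-- inside a *injective module, every homogeneous submodule has a maximal homogeneous *essential
extension, and it is a direct summand with a homogeneous complement. -/
theorem exists_gess_isCompl (hI : IsStarInj 𝒜 I.gr) (N : Submodule R I.carrier)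
    (hN : N.IsHomogeneous I.gr) :
    ∃ H : Submodule R I.carrier, GEss 𝒜 I N H ∧
      ∃ C : Submodule R I.carrier, C.IsHomogeneous I.gr ∧ IsCompl H C := by
  obtain ⟨H, hH⟩ := exists_maximal_gess 𝒜 I N hN
  obtain ⟨C, hC⟩ := exists_maximal_disjoint_homogeneous 𝒜 I H
  have hHh : H.IsHomogeneous I.gr := hH.prop.2.1
  have hCh : C.IsHomogeneous I.gr := hC.prop.1
  refine ⟨H, hH.prop, C, hCh, ?_⟩
  let Q : GMod.{u} 𝒜 := quotGMod I C hCh
  let HH : GMod.{u} 𝒜 := subGMod I H hHh
  let j : HH.carrier →ₗ[R] Q.carrier := C.mkQ ∘ₗ H.subtype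
  have hjgr : IsGrHom HH.gr Q.gr j := fun g x hx =>
    isGrHom_mkQ I C hCh g _ (isGrHom_subtype I H hHh g x hx)
  have hj0 : ∀ h : H, j h = 0 → h = 0 := by
    intro ⟨h, hh⟩ hk
    have h1 : h ∈ C := (Submodule.Quotient.mk_eq_zero C).mp hk
    have := Submodule.disjoint_def.mp hC.prop.2 h h1 hh
    exact Subtype.ext this
  have hj : Function.Injective j := by
    rw [← LinearMap.ker_eq_bot, eq_bot_iff]
    intro h hk
    rw [Submodule.mem_bot]
    exact hj0 h hk
  -- every nonzero homogeneous class has a homogeneous multiple in `j H`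
  have hess : ∀ g, ∀ y ∈ Q.gr g, y ≠ 0 →
      ∃ (k : ι) (r : R) (h : H), r ∈ 𝒜 k ∧ (h : I.carrier) ∈ I.gr (k + g) ∧
        (h : I.carrier) ≠ 0 ∧ r • y = j h := by
    intro g y hy hy0
    obtain ⟨x, hxg, rfl⟩ := hy
    have hxC : x ∉ C := by
      intro h; apply hy0; exact (Submodule.Quotient.mk_eq_zero C).mpr h
    have hnd : ¬ Disjoint (C ⊔ Submodule.span R {x}) H := fun hd => by
      have := hC.le_of_ge ⟨isHomogeneous_sup I.gr hCh (isHomogeneous_span_singleton 𝒜 I.gr hxg), hd⟩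
        le_sup_left
      exact hxC (this (Submodule.mem_sup_right (Submodule.mem_span_singleton_self x)))
    rw [Submodule.disjoint_def] at hnd
    push Not at hnd
    obtain ⟨h, hmem, hhH, hh0⟩ := hnd
    obtain ⟨c, hc, z, hz, rfl⟩ := Submodule.mem_sup.mp hmem
    obtain ⟨r, rfl⟩ := Submodule.mem_span_singleton.mp hz
    -- pass to a nonzero component
    obtain ⟨k, hk⟩ := exists_decompose_ne_zero (ℳ := I.gr) hh0
    have hcomp : (decompose I.gr (c + r • x) k : I.carrier)
        = (decompose I.gr c k : I.carrier) + (decompose 𝒜 r (k - g) : R) • x := by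
      rw [decompose_add, DirectSum.add_apply, AddSubgroup.coe_add]
      congr 1
      -- component of `r • x`
      have : ∀ (r : R), (decompose I.gr (r • x) k : I.carrier) = (decompose 𝒜 r (k - g) : R) • x := by
        intro r
        induction r using Decomposition.inductionOn 𝒜 with
        | zero => simp
        | @homogeneous h r =>
          have hm : (r : R) • x ∈ I.gr (h + g) := smul_mem_piece 𝒜 I.gr r.2 hxg
          by_cases hk : h + g = k
          · subst hk
            rw [decompose_of_mem_same I.gr hm, add_sub_cancel_right, decompose_of_mem_same 𝒜 r.2]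
          · have h2 : h ≠ k - g := fun e => hk (by rw [e, sub_add_cancel])
            rw [decompose_of_mem_ne I.gr hm hk, decompose_of_mem_ne 𝒜 r.2 h2, zero_smul]
        | add r r' hr hr' =>
          rw [add_smul, decompose_add, DirectSum.add_apply, AddSubgroup.coe_add, hr, hr',
            decompose_add, DirectSum.add_apply, AddSubgroup.coe_add, add_smul]
      exact this r
    refine ⟨k - g, (decompose 𝒜 r (k - g) : R),
      ⟨(decompose I.gr (c + r • x) k : I.carrier), hHh k hhH⟩, (decompose 𝒜 r (k - g)).2, ?_, hk, ?_⟩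
    · rw [sub_add_cancel]; exact (decompose I.gr (c + r • x) k).2
    · show _ = C.mkQ (decompose I.gr (c + r • x) k : I.carrier)
      rw [hcomp, map_add, map_smul]
      have : C.mkQ (decompose I.gr c k : I.carrier) = 0 :=
        (Submodule.Quotient.mk_eq_zero C).mpr (hCh k hc)
      rw [this, zero_add]
      rfl
  obtain ⟨φ, hφgr, hφ⟩ : ∃ φ : Q.carrier →ₗ[R] I.carrier, IsGrHom Q.gr I.gr φ ∧
      φ ∘ₗ j = H.subtype := hI HH Q j hjgr hj H.subtype (isGrHom_subtype I H hHh)
  have hφ' : ∀ h : H, φ (j h) = h := fun h => congrArg (fun F : H →ₗ[R] I.carrier => F h) hφ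
  have hkerφ : LinearMap.ker φ = ⊥ := by
    by_contra hne
    obtain ⟨g, y, hyk, hyg, hy0⟩ :=
      exists_homogeneous_mem_ne_zero Q.gr (isHomogeneous_ker Q.gr I.gr hφgr) hne
    obtain ⟨k, r, h, _, _, hh0, hr⟩ := hess g y hyg hy0
    apply hh0
    have := hφ' h
    rw [← hr, map_smul, LinearMap.mem_ker.mp hyk, smul_zero] at this
    exact this.symm
  have hφinj : Function.Injective φ := LinearMap.ker_eq_bot.mp hkerφ
  have hHle : H ≤ LinearMap.range φ := fun h hh => ⟨j ⟨h, hh⟩, hφ' ⟨h, hh⟩⟩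
  have hEss' : GEss 𝒜 I N (LinearMap.range φ) := by
    refine ⟨hH.prop.1.trans hHle, isHomogeneous_range Q.gr I.gr hφgr, ?_⟩
    rintro g z ⟨y, rfl⟩ hzg hz0
    -- replace `y` by its `g`-component
    have hyg : φ y = φ (decompose Q.gr y g : Q.carrier) := by
      rw [← decompose_map Q.gr I.gr hφgr, decompose_of_mem_same I.gr hzg]
    set y' : Q.carrier := (decompose Q.gr y g : Q.carrier) with hy'
    have hy'g : y' ∈ Q.gr g := (decompose Q.gr y g).2
    have hy'0 : y' ≠ 0 := fun h => hz0 (by rw [hyg, h, map_zero])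
    obtain ⟨k, r, h, hr, hhk, hh0, hrj⟩ := hess g y' hy'g hy'0
    obtain ⟨s, hs0, hsN⟩ := hH.prop.2.2 (k + g) h h.2 hhk hh0
    have hrz : r • φ y = h := by rw [hyg, ← map_smul, hrj, hφ']
    refine ⟨s * r, ?_, ?_⟩ <;> rw [mul_smul, hrz]
    · exact hs0
    · exact hsN
  have hrange : LinearMap.range φ ≤ H := hH.le_of_ge hEss' hHle
  refine ⟨hC.prop.2.symm, codisjoint_iff.mpr (eq_top_iff.mpr fun x _ => ?_)⟩
  have hh : φ (C.mkQ x) ∈ H := hrange ⟨_, rfl⟩
  have h2 : j ⟨φ (C.mkQ x), hh⟩ = C.mkQ x := hφinj (by rw [hφ'])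
  have h3 : φ (C.mkQ x) - x ∈ C := by
    have : C.mkQ (φ (C.mkQ x) - x) = 0 := by
      rw [map_sub]
      have : C.mkQ (φ (C.mkQ x)) = C.mkQ x := h2
      rw [this, sub_self]
    exact (Submodule.Quotient.mk_eq_zero C).mp this
  have : x = φ (C.mkQ x) + -(φ (C.mkQ x) - x) := by abel
  rw [this]
  exact Submodule.add_mem_sup hh (C.neg_mem h3)

end Inside

end Groth.Agent.H8.Gr
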