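import Mathlib
import Groth.Prelude.Def_GrLC
import Groth.Prelude.Def_Wider
import Groth.Agent.Lib.helper8.GrD

/-!
# Graded modules toolkit, part E (helper8): *injective envelopes inside a *injective module.
-/

universe u

set_option linter.unusedSectionVars false

namespace Groth.Agent.H8.Gr

open DirectSum GrLC

variable {ι : Type} [AddCommGroup ι] [DecidableEq ι]
variable {R : Type u} [CommRing R] (𝒜 : ι → AddSubgroup R) [GradedRing 𝒜]

section Summand

variable (I : GMod.{u} 𝒜) (H C : Submodule R I.carrier) (hH : H.IsHomogeneous I.gr)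
  (hC : C.IsHomogeneous I.gr) (hHC : IsCompl H C)

/-- the projection onto a homogeneous summand, typed on the bundled carrier. -/
noncomputable def subProj : I.carrier →ₗ[R] (subGMod I H hH).carrier := Submodule.projectionOnto H C hHC

theorem subProj_subIncl (y : (subGMod I H hH).carrier) :
    subProj 𝒜 I H C hH hHC (subIncl I H hH y) = y :=
  Submodule.projectionOnto_apply_left hHC y

include hC in
/-- the projection onto a homogeneous summand along a homogeneous complement is homogeneous. -/
theorem isGrHom_subProj : IsGrHom I.gr (subGMod I H hH).gr (subProj 𝒜 I H C hH hHC) := by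
  intro g x hx
  set h : H := Submodule.projectionOnto H C hHC x with hh
  show (h : I.carrier) ∈ I.gr g
  have hc : x - (h : I.carrier) ∈ C := by
    have h1 : Submodule.projectionOnto H C hHC (x - (h : I.carrier)) = 0 := by
      rw [map_sub, Submodule.projectionOnto_apply_left hHC h, hh, sub_self]
    exact (Submodule.projectionOnto_apply_eq_zero_iff hHC).mp h1
  -- compare `g`-components
  have h1 : (decompose I.gr (h : I.carrier) g : I.carrier) - h ∈ H :=
    H.sub_mem (hH g h.2) h.2
  have h2 : (decompose I.gr (h : I.carrier) g : I.carrier) - h ∈ C := by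
    have h3 : (decompose I.gr (x - (h : I.carrier)) g : I.carrier) ∈ C := hC g hc
    rw [decompose_sub, DirectSum.sub_apply, AddSubgroup.coe_sub, decompose_of_mem_same I.gr hx] at h3
    have : (decompose I.gr (h : I.carrier) g : I.carrier) - h
        = (x - (h : I.carrier)) - (x - (decompose I.gr (h : I.carrier) g : I.carrier)) := by abel
    rw [this]
    exact C.sub_mem hc h3
  have h4 := Submodule.disjoint_def.mp hHC.disjoint _ h1 h2
  rw [← sub_eq_zero.mp h4]
  exact (decompose I.gr (h : I.carrier) g).2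

include hC hHC in
/-- a homogeneous direct summand of a *injective module is *injective. -/
theorem isStarInj_subGMod_of_isCompl (hI : IsStarInj 𝒜 I.gr) :
    IsStarInj 𝒜 (subGMod I H hH).gr := by
  intro A B f hf hinj g hg
  obtain ⟨k, hk, hkf⟩ : ∃ k : B.carrier →ₗ[R] I.carrier, IsGrHom B.gr I.gr k ∧
      k ∘ₗ f = subIncl I H hH ∘ₗ g :=
    hI A B f hf hinj (subIncl I H hH ∘ₗ g) (fun j a ha => isGrHom_subIncl I H hH j _ (hg j a ha))
  refine ⟨subProj 𝒜 I H C hH hHC ∘ₗ k,
    fun j b hb => isGrHom_subProj 𝒜 I H C hH hC hHC j _ (hk j b hb), ?_⟩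
  ext a
  have h1 : k (f a) = subIncl I H hH (g a) :=
    congrArg (fun F : A.carrier →ₗ[R] I.carrier => F a) hkf
  show subProj 𝒜 I H C hH hHC (k (f a)) = g a
  rw [h1, subProj_subIncl]

end Summand

section Hull

variable (I : GMod.{u} 𝒜)
variable {M : Type u} [AddCommGroup M] [Module R M] (ℳ : ι → AddSubgroup M)

/-- a `GEss` extension gives a *essential map into the corresponding graded submodule. -/
theorem isStarEss_subCod_of_gess (f : M →ₗ[R] I.carrier) (hf : IsGrHom ℳ I.gr f)
    (hinj : Function.Injective f) (H : Submodule R I.carrier)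
    (hess : GEss 𝒜 I (LinearMap.range f) H) :
    IsStarEss ℳ (subGMod I H hess.2.1).gr
      (subCod I H hess.2.1 f (fun m => hess.1 ⟨m, rfl⟩)) := by
  refine ⟨fun a b hab => hinj (congrArg (subIncl I H hess.2.1) hab),
    fun g m hm => hf g m hm, fun P hP hne => ?_⟩
  obtain ⟨g, x, hxP, hxg, hx0⟩ := exists_homogeneous_mem_ne_zero (subGMod I H hess.2.1).gr hP hne
  obtain ⟨r, hr0, ⟨m, hm⟩⟩ := hess.2.2 g (subIncl I H hess.2.1 x) (subIncl_mem I H hess.2.1 x) hxg
    (fun h => hx0 (subIncl_injective I H hess.2.1 (h.trans (map_zero _).symm)))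
  intro hbot
  apply hr0
  have hmem : r • x ∈ P ⊓ LinearMap.range (subCod I H hess.2.1 f (fun m => hess.1 ⟨m, rfl⟩)) := by
    refine ⟨P.smul_mem r hxP, ⟨m, ?_⟩⟩
    apply subIncl_injective I H hess.2.1
    rw [subIncl_subCod, hm, map_smul]
  rw [hbot, Submodule.mem_bot] at hmem
  rw [← map_smul, hmem, map_zero]

/-- *injective envelopes exist inside any *injective module containing the given module. -/
theorem exists_isStarInjHull_in (hI : IsStarInj 𝒜 I.gr) (f : M →ₗ[R] I.carrier)
    (hf : IsGrHom ℳ I.gr f) (hinj : Function.Injective f)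
    (hrange : (LinearMap.range f).IsHomogeneous I.gr) :
    ∃ (H C : Submodule R I.carrier) (hH : H.IsHomogeneous I.gr) (hle : LinearMap.range f ≤ H),
      C.IsHomogeneous I.gr ∧ IsCompl H C ∧
      IsStarInjHull 𝒜 ℳ (subGMod I H hH).gr (subCod I H hH f (fun m => hle ⟨m, rfl⟩)) := by
  obtain ⟨H, hess, C, hC, hHC⟩ := exists_gess_isCompl 𝒜 I hI (LinearMap.range f) hrange
  exact ⟨H, C, hess.2.1, hess.1, hC, hHC,
    ⟨isStarEss_subCod_of_gess 𝒜 I ℳ f hf hinj H hess,
      isStarInj_subGMod_of_isCompl 𝒜 I H C hess.2.1 hC hHC hI⟩⟩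

end Hull

end Groth.Agent.H8.Gr
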