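import Mathlib
import Groth.Prelude.Def_GrLC
import Groth.Prelude.Def_Wider
import Groth.Agent.Lib.helper8.GrE

/-!
# Graded modules toolkit, part F (helper8): structure of *indecomposable *injective modules.
-/

universe u

set_option linter.unusedSectionVars false

namespace Groth.Agent.H8.Gr

open DirectSum GrLC

section Order

variable (ι : Type) [AddCommGroup ι] [Module.Free ℤ ι] [Module.Finite ℤ ι]

/-- a free finitely generated abelian group carries a translation-invariant linear order. -/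
theorem exists_linearOrder :
    ∃ lo : LinearOrder ι, @IsOrderedCancelAddMonoid ι _ lo.toPartialOrder.toPreorder := by
  classical
  let b := Module.Free.chooseBasis ℤ ι
  let n := Fintype.card (Module.Free.ChooseBasisIndex ℤ ι)
  let e : ι ≃ₗ[ℤ] (Fin n → ℤ) :=
    b.equivFun.trans (LinearEquiv.funCongrLeft ℤ ℤ (Fintype.equivFin _).symm)
  let φ : ι → Lex (Fin n → ℤ) := fun x => toLex (e x)
  have hφ : Function.Injective φ := fun x y h => e.injective (toLex.injective h)
  let lo : LinearOrder ι := LinearOrder.lift' φ hφ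
  refine ⟨lo, ?_⟩
  letI := lo
  exact Function.Injective.isOrderedCancelAddMonoid φ
    (fun x y => by show toLex (e (x + y)) = toLex (e x) + toLex (e y); rw [map_add]; rfl)
    Iff.rfl

end Order

variable {ι : Type} [AddCommGroup ι] [DecidableEq ι] [Module.Free ℤ ι] [Module.Finite ℤ ι]
variable {R : Type u} [CommRing R] (𝒜 : ι → AddSubgroup R) [GradedRing 𝒜]

/-- the homogeneous primality test, for a free finitely generated grading group. -/
theorem isPrime_of_homogeneous_mem_or_mem {I : Ideal R} (hI : I.IsHomogeneous 𝒜) (hne : I ≠ ⊤)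
    (h : ∀ {x y : R}, SetLike.IsHomogeneousElem 𝒜 x → SetLike.IsHomogeneousElem 𝒜 y →
      x * y ∈ I → x ∈ I ∨ y ∈ I) : I.IsPrime := by
  obtain ⟨lo, hlo⟩ := exists_linearOrder ι
  have hdec : ‹DecidableEq ι› = lo.toDecidableEq := Subsingleton.elim _ _
  subst hdec
  exact Ideal.IsHomogeneous.isPrime_of_homogeneous_mem_or_mem hI hne h

section Ann

variable [IsNoetherianRing R] {M : Type u} [AddCommGroup M] [Module R M] (ℳ : ι → AddSubgroup M)
  [DirectSum.Decomposition ℳ] [SetLike.GradedSMul 𝒜 ℳ]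

/-- the annihilator of a homogeneous element is a homogeneous ideal. -/
theorem isHomogeneous_annihilator_span_singleton {m : M} {g : ι} (hm : m ∈ ℳ g) :
    (Submodule.span R {m}).annihilator.IsHomogeneous 𝒜 := by
  intro k r hr
  rw [Submodule.mem_annihilator_span_singleton] at hr ⊢
  -- component of `r • m` in degree `k + g`
  have hcomp : ∀ (r : R), (decompose ℳ (r • m) (k + g) : M) = (decompose 𝒜 r k : R) • m := by
    intro r
    induction r using Decomposition.inductionOn 𝒜 with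
    | zero => simp
    | @homogeneous h r =>
      have hmem : (r : R) • m ∈ ℳ (h + g) := smul_mem_piece 𝒜 ℳ r.2 hm
      by_cases hk : h = k
      · subst hk
        rw [decompose_of_mem_same ℳ hmem, decompose_of_mem_same 𝒜 r.2]
      · have h2 : h + g ≠ k + g := fun e => hk (add_right_cancel e)
        rw [decompose_of_mem_ne ℳ hmem h2, decompose_of_mem_ne 𝒜 r.2 hk, zero_smul]
    | add r r' hr hr' =>
      rw [add_smul, decompose_add, DirectSum.add_apply, AddSubgroup.coe_add, hr, hr',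
        decompose_add, DirectSum.add_apply, AddSubgroup.coe_add, add_smul]
  rw [← hcomp, hr, decompose_zero]
  rfl

/-- a nonzero graded module over a Noetherian graded ring has a homogeneous element whose annihilator
is a homogeneous prime. -/
theorem exists_homogeneous_prime_annihilator [Nontrivial M] :
    ∃ (g₀ : ι) (m : M) (q : HomogeneousIdeal 𝒜), m ∈ ℳ g₀ ∧ m ≠ 0 ∧ q.toIdeal.IsPrime ∧
      (Submodule.span R {m}).annihilator = q.toIdeal := by
  let 𝒮 : Set (Ideal R) := {J | ∃ (g : ι) (m : M), m ∈ ℳ g ∧ m ≠ 0 ∧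
    J = (Submodule.span R {m}).annihilator}
  have hne : 𝒮.Nonempty := by
    obtain ⟨x, hx⟩ := exists_ne (0 : M)
    obtain ⟨g, hg⟩ := exists_decompose_ne_zero (ℳ := ℳ) hx
    exact ⟨_, g, _, decompose_mem_piece x g, hg, rfl⟩
  obtain ⟨J, ⟨g₀, m, hm, hm0, rfl⟩, hmax⟩ := set_has_maximal_iff_noetherian.mpr inferInstance 𝒮 hne
  have hhom := isHomogeneous_annihilator_span_singleton 𝒜 ℳ hm
  have hnetop : (Submodule.span R {m}).annihilator ≠ ⊤ := by
    intro h
    apply hm0
    have : (1 : R) ∈ (Submodule.span R {m}).annihilator := by rw [h]; trivial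
    rw [Submodule.mem_annihilator_span_singleton, one_smul] at this
    exact this
  have hprime : (Submodule.span R {m}).annihilator.IsPrime := by
    apply isPrime_of_homogeneous_mem_or_mem 𝒜 hhom hnetop
    rintro a b ⟨ga, ha⟩ ⟨gb, hb⟩ hab
    by_contra hcon
    push Not at hcon
    obtain ⟨ha', hb'⟩ := hcon
    rw [Submodule.mem_annihilator_span_singleton] at ha' hb' hab
    have hbm : b • m ∈ ℳ (gb + g₀) := smul_mem_piece 𝒜 ℳ hb hm
    have hle : (Submodule.span R {m}).annihilator ≤ (Submodule.span R {b • m}).annihilator := by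
      intro r hr
      rw [Submodule.mem_annihilator_span_singleton] at hr ⊢
      rw [smul_comm, hr, smul_zero]
    have hnlt := hmax _ ⟨gb + g₀, b • m, hbm, hb', rfl⟩
    have heq : (Submodule.span R {m}).annihilator = (Submodule.span R {b • m}).annihilator := by
      by_contra hne'
      exact hnlt (lt_of_le_of_ne hle hne')
    apply ha'
    have : a ∈ (Submodule.span R {b • m}).annihilator := by
      rw [Submodule.mem_annihilator_span_singleton, ← mul_smul]
      exact hab
    rw [← heq, Submodule.mem_annihilator_span_singleton] at this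
    exact this
  exact ⟨g₀, m, ⟨_, hhom⟩, hm, hm0, hprime, rfl⟩

end Ann

section Structure

variable (𝓘 : GMod.{u} 𝒜)

/-- a homogeneous element with prime annihilator `q` spans a copy of `(R/q)(-g₀)` whose *injective
envelope is a graded direct summand. -/
theorem exists_summand_starInjHull (hI : IsStarInj 𝒜 𝓘.gr) (q : HomogeneousIdeal 𝒜) (g₀ : ι)
    (m : 𝓘.carrier)
    (hm : m ∈ 𝓘.gr g₀) (hann : (Submodule.span R {m}).annihilator = q.toIdeal) :
    ∃ (X : GMod.{u} 𝒜) (f : (R ⧸ q.toIdeal) →ₗ[R] X.carrier) (ψ : X.carrier →ₗ[R] 𝓘.carrier)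
      (Q : Submodule R 𝓘.carrier),
      IsStarInjHull 𝒜 (fun j : ι => quotGr 𝒜 q (j - g₀)) X.gr f ∧ Function.Injective ψ ∧
        IsGrHom X.gr 𝓘.gr ψ ∧ ψ (f 1) = m ∧ Q.IsHomogeneous 𝓘.gr ∧
        IsCompl (LinearMap.range ψ) Q := by
  have hker : q.toIdeal ≤ LinearMap.ker (LinearMap.toSpanSingleton R 𝓘.carrier m) := by
    intro r hr
    rw [← hann, Submodule.mem_annihilator_span_singleton] at hr
    rw [LinearMap.mem_ker, LinearMap.toSpanSingleton_apply]
    exact hr
  let f₀ : (R ⧸ q.toIdeal) →ₗ[R] 𝓘.carrier :=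
    Submodule.liftQ q.toIdeal (LinearMap.toSpanSingleton R 𝓘.carrier m) hker
  have hf₀ : ∀ r : R, f₀ (Ideal.Quotient.mk q.toIdeal r) = r • m := fun r => by
    show Submodule.liftQ q.toIdeal (LinearMap.toSpanSingleton R 𝓘.carrier m) hker
      (Submodule.Quotient.mk r) = _
    rw [Submodule.liftQ_apply, LinearMap.toSpanSingleton_apply]
  have hinj : Function.Injective f₀ := by
    rw [← LinearMap.ker_eq_bot, LinearMap.ker_eq_bot']
    intro z hz
    obtain ⟨r, rfl⟩ := Ideal.Quotient.mk_surjective z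
    rw [hf₀] at hz
    rw [Ideal.Quotient.eq_zero_iff_mem, ← hann, Submodule.mem_annihilator_span_singleton]
    exact hz
  have hgr : IsGrHom (fun j : ι => quotGr 𝒜 q (j - g₀)) 𝓘.gr f₀ := by
    rintro j _ ⟨r, hr, rfl⟩
    show f₀ (Ideal.Quotient.mk q.toIdeal r) ∈ 𝓘.gr j
    rw [hf₀]
    have := smul_mem_piece 𝒜 𝓘.gr (show r ∈ 𝒜 (j - g₀) from hr) hm
    rwa [sub_add_cancel] at this
  have hrange : (LinearMap.range f₀).IsHomogeneous 𝓘.gr := by
    have : LinearMap.range f₀ = Submodule.span R {m} := by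
      apply le_antisymm
      · rintro _ ⟨z, rfl⟩
        obtain ⟨r, rfl⟩ := Ideal.Quotient.mk_surjective z
        rw [hf₀]
        exact Submodule.smul_mem _ _ (Submodule.mem_span_singleton_self _)
      · rw [Submodule.span_le]
        rintro _ rfl
        exact ⟨1, by rw [← map_one (Ideal.Quotient.mk q.toIdeal), hf₀, one_smul]⟩
    rw [this]
    exact isHomogeneous_span_singleton 𝒜 𝓘.gr hm
  obtain ⟨H, C, hH, hle, hC, hHC, hhull⟩ :=
    exists_isStarInjHull_in 𝒜 𝓘 (fun j : ι => quotGr 𝒜 q (j - g₀)) hI f₀ hgr hinj hrange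
  refine ⟨subGMod 𝓘 H hH, subCod 𝓘 H hH f₀ (fun z => hle ⟨z, rfl⟩), subIncl 𝓘 H hH, C, hhull,
    subIncl_injective 𝓘 H hH, isGrHom_subIncl 𝓘 H hH, ?_, hC, ?_⟩
  · rw [subIncl_subCod, ← map_one (Ideal.Quotient.mk q.toIdeal), hf₀, one_smul]
  · rw [range_subIncl]
    exact hHC

/-- a *indecomposable *injective module is a shifted *injective envelope of `R/q`. -/
theorem exists_starInjHull_of_isStarIndec [IsNoetherianRing R] (hI : IsStarInj 𝒜 𝓘.gr)
    (hind : IsStarIndec R 𝓘.gr) :
    ∃ (q : HomogeneousIdeal 𝒜) (g₀ : ι) (f : (R ⧸ q.toIdeal) →ₗ[R] 𝓘.carrier), q.toIdeal.IsPrime ∧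
      IsStarInjHull 𝒜 (fun j : ι => quotGr 𝒜 q (j - g₀)) 𝓘.gr f := by
  haveI := hind.1
  obtain ⟨g₀, m, q, hm, hm0, hq, hann⟩ := exists_homogeneous_prime_annihilator 𝒜 𝓘.gr
  obtain ⟨X, f, ψ, Q, hhull, hψinj, hψgr, hψf, hQ, hcompl⟩ :=
    exists_summand_starInjHull 𝒜 𝓘 hI q g₀ m hm hann
  have hrange : (LinearMap.range ψ).IsHomogeneous 𝓘.gr := isHomogeneous_range X.gr 𝓘.gr hψgr
  have hQbot : Q = ⊥ := by
    rcases hind.2 _ _ hrange hQ hcompl with h | h
    · exfalso
      apply hm0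
      have : m ∈ LinearMap.range ψ := ⟨f 1, hψf⟩
      rw [h, Submodule.mem_bot] at this
      exact this
    · exact h
  have hsurj : Function.Surjective ψ := by
    have := hcompl.sup_eq_top
    rw [hQbot, sup_bot_eq] at this
    exact LinearMap.range_eq_top.mp this
  let Ψ : X.carrier ≃ₗ[R] 𝓘.carrier := LinearEquiv.ofBijective ψ ⟨hψinj, hsurj⟩
  have hΨgr : IsGrHom X.gr 𝓘.gr Ψ.toLinearMap := hψgr
  have hΨsymm : IsGrHom 𝓘.gr X.gr Ψ.symm.toLinearMap := isGrHom_symm X.gr 𝓘.gr Ψ hΨgr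
  refine ⟨q, g₀, ψ ∘ₗ f, hq, ⟨⟨hψinj.comp hhull.injective,
    fun j z hz => hψgr j _ (hhull.grHom j z hz), fun P hP hne => ?_⟩,
    isStarInj_of_equiv 𝒜 X.gr 𝓘.gr Ψ hΨgr hhull.starInj⟩⟩
  -- pull `P` back to `X`
  have hP' : (P.comap ψ).IsHomogeneous X.gr := by
    intro k x hx
    rw [Submodule.mem_comap] at hx ⊢
    rw [← decompose_map X.gr 𝓘.gr hψgr]
    exact hP k hx
  have hne' : P.comap ψ ≠ ⊥ := by
    intro h
    apply hne
    rw [eq_bot_iff]
    intro y hy
    obtain ⟨x, rfl⟩ := hsurj y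
    have : x ∈ P.comap ψ := hy
    rw [h, Submodule.mem_bot] at this
    rw [this, map_zero]
    exact zero_mem _
  obtain ⟨x, ⟨hx1, ⟨z, rfl⟩⟩, hx0⟩ :=
    Submodule.exists_mem_ne_zero_of_ne_bot (hhull.essential _ hP' hne')
  intro hbot
  apply hx0
  have : ψ (f z) ∈ P ⊓ LinearMap.range (ψ ∘ₗ f) := ⟨hx1, ⟨z, rfl⟩⟩
  rw [hbot, Submodule.mem_bot] at this
  exact hψinj (this.trans (map_zero ψ).symm)

end Structure

end Groth.Agent.H8.Gr
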