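import Mathlib
import Groth.Prelude.Def_GrLC
import Groth.Prelude.Def_Wider
import Groth.Agent.Lib.helper8.GrF

/-!
# Graded modules toolkit, part G (helper8): the cofree graded module on an `R`-module, and enough
*injectives.
-/

universe u

set_option linter.unusedSectionVars false

namespace Groth.Agent.H8.Gr

open DirectSum GrLC

variable {ι : Type} [AddCommGroup ι] [DecidableEq ι]
variable {R : Type u} [CommRing R] (𝒜 : ι → AddSubgroup R) [GradedRing 𝒜]

/-- the cofree graded module on `J`: finitely supported functions `ι → J`, with `r ∈ R_h` acting by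
`r • (x t^g) = (r x) t^{h+g}`. -/
@[nolint unusedArguments]
def Co {ι : Type} {R : Type u} [CommRing R] (_𝒜 : ι → AddSubgroup R) (J : Type u)
    [AddCommGroup J] : Type u := ι →₀ J

variable (J : Type u) [AddCommGroup J] [Module R J]

namespace Co

noncomputable instance : AddCommGroup (Co 𝒜 J) := inferInstanceAs (AddCommGroup (ι →₀ J))

variable {J}

/-- the action of a homogeneous element. -/
noncomputable def actHom (h : ι) : 𝒜 h →+ ((ι →₀ J) →+ (ι →₀ J)) where
  toFun r := (Finsupp.mapDomain.addMonoidHom (fun j => h + j)).comp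
    (DistribSMul.toAddMonoidHom (ι →₀ J) (r : R))
  map_zero' := by
    apply AddMonoidHom.ext; intro y
    show Finsupp.mapDomain (fun j => h + j) (((0 : 𝒜 h) : R) • y) = 0
    rw [ZeroMemClass.coe_zero, zero_smul, Finsupp.mapDomain_zero]
  map_add' r s := by
    apply AddMonoidHom.ext; intro y
    show Finsupp.mapDomain (fun j => h + j) (((r + s : 𝒜 h) : R) • y)
      = Finsupp.mapDomain (fun j => h + j) ((r : R) • y)
        + Finsupp.mapDomain (fun j => h + j) ((s : R) • y)
    rw [AddMemClass.coe_add, add_smul, Finsupp.mapDomain_add]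

/-- the twisted action. -/
noncomputable def act : R →+ ((ι →₀ J) →+ (ι →₀ J)) :=
  (DirectSum.toAddMonoid (actHom 𝒜 (J := J))).comp (DirectSum.decomposeAddEquiv 𝒜).toAddMonoidHom

theorem act_of_mem {r : R} {h : ι} (hr : r ∈ 𝒜 h) (y : ι →₀ J) :
    act 𝒜 r y = Finsupp.mapDomain (fun j => h + j) (r • y) := by
  unfold act
  rw [AddMonoidHom.comp_apply]
  show (DirectSum.toAddMonoid (actHom 𝒜 (J := J))) (decompose 𝒜 r) y = _
  rw [decompose_of_mem 𝒜 hr, DirectSum.toAddMonoid_of]
  rfl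

theorem act_one (y : ι →₀ J) : act 𝒜 (1 : R) y = y := by
  rw [act_of_mem 𝒜 (show (1 : R) ∈ 𝒜 0 from SetLike.GradedOne.one_mem), one_smul]
  have : (fun j : ι => 0 + j) = id := by funext j; simp
  rw [this, Finsupp.mapDomain_id]

theorem act_mul (r s : R) (y : ι →₀ J) : act 𝒜 (r * s) y = act 𝒜 r (act 𝒜 s y) := by
  induction r using Decomposition.inductionOn 𝒜 with
  | zero => simp
  | @homogeneous h r =>
    induction s using Decomposition.inductionOn 𝒜 with
    | zero => simp
    | @homogeneous k s =>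
      rw [act_of_mem 𝒜 (SetLike.GradedMul.mul_mem r.2 s.2), act_of_mem 𝒜 s.2, act_of_mem 𝒜 r.2,
        ← Finsupp.mapDomain_smul, ← Finsupp.mapDomain_comp, mul_smul]
      congr 1
      funext j
      simp [add_assoc]
    | add s s' hs hs' =>
      rw [mul_add, map_add, AddMonoidHom.add_apply, hs, hs', map_add, AddMonoidHom.add_apply,
        map_add]
  | add r r' hr hr' =>
    rw [add_mul, map_add, AddMonoidHom.add_apply, hr, hr', map_add, AddMonoidHom.add_apply]

noncomputable instance : Module R (Co 𝒜 J) where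
  smul r y := act 𝒜 r (y : ι →₀ J)
  one_smul y := act_one 𝒜 y
  mul_smul r s y := act_mul 𝒜 r s y
  smul_zero r := map_zero (act 𝒜 r)
  smul_add r y z := map_add (act 𝒜 r) y z
  add_smul r s y := by
    show act 𝒜 (r + s) y = act 𝒜 r y + act 𝒜 s y
    rw [map_add, AddMonoidHom.add_apply]
  zero_smul y := by
    show act 𝒜 0 y = 0
    rw [map_zero, AddMonoidHom.zero_apply]

theorem smul_def (r : R) (y : Co 𝒜 J) : r • y = act 𝒜 r (y : ι →₀ J) := rfl

/-- the element `x t^g`. -/
noncomputable def single (g : ι) : J →+ Co 𝒜 J := Finsupp.singleAddHom g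

/-- evaluation at `g`. -/
noncomputable def coord (g : ι) : Co 𝒜 J →+ J := Finsupp.applyAddHom g

@[simp] theorem coord_single_same (g : ι) (x : J) : coord 𝒜 g (single 𝒜 g x) = x := by
  show (Finsupp.single g x) g = x
  exact Finsupp.single_eq_same

theorem coord_single_ne {g k : ι} (h : g ≠ k) (x : J) : coord 𝒜 k (single 𝒜 g x) = 0 := by
  show (Finsupp.single g x) k = 0
  exact Finsupp.single_eq_of_ne (Ne.symm h)

theorem ext_coord {y z : Co 𝒜 J} (h : ∀ g, coord 𝒜 g y = coord 𝒜 g z) : y = z :=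
  Finsupp.ext h

theorem smul_single {r : R} {h : ι} (hr : r ∈ 𝒜 h) (g : ι) (x : J) :
    r • single 𝒜 g x = single 𝒜 (h + g) (r • x) := by
  rw [smul_def, act_of_mem 𝒜 hr]
  show Finsupp.mapDomain (fun j => h + j) (r • Finsupp.single g x) = Finsupp.single (h + g) (r • x)
  rw [Finsupp.smul_single, Finsupp.mapDomain_single]

/-- the pieces. -/
noncomputable def pieces : ι → AddSubgroup (Co 𝒜 J) := fun g => (single 𝒜 (J := J) g).range

theorem mem_pieces {g : ι} {y : Co 𝒜 J} : y ∈ pieces 𝒜 g ↔ ∃ x : J, single 𝒜 g x = y := Iff.rfl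

theorem sum_single_coord (y : Co 𝒜 J) :
    y = ∑ g ∈ (y : ι →₀ J).support, single 𝒜 g (coord 𝒜 g y) := by
  have := (Finsupp.sum_single (y : ι →₀ J)).symm
  exact this

theorem isInternal_pieces : DirectSum.IsInternal (pieces 𝒜 (J := J)) := by
  apply isInternal_of_iSupIndep_of_iSup_eq_top
  · intro g
    rw [disjoint_iff, eq_bot_iff]
    rintro y ⟨⟨x, rfl⟩, hy2⟩
    have hle : (⨆ (k) (_ : k ≠ g), pieces 𝒜 (J := J) k) ≤ (coord 𝒜 (J := J) g).ker := by
      refine iSup_le fun k => iSup_le fun hk => ?_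
      rintro _ ⟨x', rfl⟩
      rw [AddMonoidHom.mem_ker]
      exact coord_single_ne 𝒜 hk x'
    have h1 := hle hy2
    rw [AddMonoidHom.mem_ker, coord_single_same] at h1
    rw [AddSubgroup.mem_bot, h1, map_zero]
  · rw [eq_top_iff]
    intro y _
    rw [sum_single_coord 𝒜 y]
    apply sum_mem
    intro g _
    exact (le_iSup (pieces 𝒜 (J := J)) g) ⟨_, rfl⟩

noncomputable instance : DirectSum.Decomposition (pieces 𝒜 (J := J)) :=
  (isInternal_pieces 𝒜).chooseDecomposition

instance : SetLike.GradedSMul 𝒜 (pieces 𝒜 (J := J)) :=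
  ⟨fun {i j} {r y} hr hy => by
    obtain ⟨x, rfl⟩ := hy
    rw [vadd_eq_add]
    exact ⟨r • x, (smul_single 𝒜 hr j x).symm⟩⟩

variable (J) in
/-- the cofree graded module, bundled. -/
noncomputable def gmod : GMod.{u} 𝒜 := GMod.of 𝒜 (Co 𝒜 J) (pieces 𝒜)

/-- the sum-of-coordinates map. -/
noncomputable def sumHom : Co 𝒜 J →+ J := Finsupp.liftAddHom (fun _ : ι => AddMonoidHom.id J)

@[simp] theorem sumHom_single (g : ι) (x : J) : sumHom 𝒜 (single 𝒜 g x) = x := by
  show Finsupp.liftAddHom (fun _ : ι => AddMonoidHom.id J) (Finsupp.single g x) = x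
  simp

theorem sumHom_smul (r : R) (y : Co 𝒜 J) : sumHom 𝒜 (r • y) = r • sumHom 𝒜 y := by
  induction r using Decomposition.inductionOn 𝒜 with
  | zero => simp
  | @homogeneous h r =>
    rw [sum_single_coord 𝒜 y, Finset.smul_sum, map_sum, map_sum, Finset.smul_sum]
    apply Finset.sum_congr rfl
    intro g _
    rw [smul_single 𝒜 r.2, sumHom_single, sumHom_single]
  | add r r' hr hr' => rw [add_smul, map_add, hr, hr', add_smul]

/-- the sum-of-coordinates map as a linear map. -/
noncomputable def sumLin : Co 𝒜 J →ₗ[R] J where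
  toFun := sumHom 𝒜
  map_add' := map_add _
  map_smul' := sumHom_smul 𝒜

end Co

section CoLift

variable {J} (B : GMod.{u} 𝒜) (ψ : B.carrier →ₗ[R] J)

/-- the homogeneous map `B → Co J` attached to a linear map `ψ : B → J`: `b ↦ Σ ψ(b_g) t^g`. -/
noncomputable def coLiftHom : B.carrier →+ Co 𝒜 J :=
  (DirectSum.toAddMonoid (fun g => (Co.single 𝒜 (J := J) g).comp
    (ψ.toAddMonoidHom.comp (B.gr g).subtype))).comp (DirectSum.decomposeAddEquiv B.gr).toAddMonoidHom

theorem coLiftHom_of_mem {b : B.carrier} {g : ι} (hb : b ∈ B.gr g) :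
    coLiftHom 𝒜 B ψ b = Co.single 𝒜 g (ψ b) := by
  unfold coLiftHom
  rw [AddMonoidHom.comp_apply]
  show (DirectSum.toAddMonoid _) (decompose B.gr b) = _
  rw [decompose_of_mem B.gr hb, DirectSum.toAddMonoid_of]
  rfl

theorem coLiftHom_smul (r : R) (b : B.carrier) :
    coLiftHom 𝒜 B ψ (r • b) = r • coLiftHom 𝒜 B ψ b := by
  induction r using Decomposition.inductionOn 𝒜 with
  | zero => simp
  | @homogeneous h r =>
    induction b using Decomposition.inductionOn B.gr with
    | zero => simp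
    | @homogeneous g b =>
      rw [coLiftHom_of_mem 𝒜 B ψ (smul_mem_piece 𝒜 B.gr r.2 b.2), coLiftHom_of_mem 𝒜 B ψ b.2,
        Co.smul_single 𝒜 r.2, map_smul]
    | add b b' hb hb' => rw [smul_add, map_add, hb, hb', map_add, smul_add]
  | add r r' hr hr' => rw [add_smul, map_add, hr, hr', add_smul]

/-- the homogeneous map `B → Co J` attached to `ψ`, as a linear map. -/
noncomputable def coLift : B.carrier →ₗ[R] (Co.gmod 𝒜 J).carrier where
  toFun := coLiftHom 𝒜 B ψ
  map_add' := map_add _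
  map_smul' := coLiftHom_smul 𝒜 B ψ

theorem coLift_of_mem {b : B.carrier} {g : ι} (hb : b ∈ B.gr g) :
    coLift 𝒜 B ψ b = Co.single 𝒜 g (ψ b) := coLiftHom_of_mem 𝒜 B ψ hb

theorem isGrHom_coLift : IsGrHom B.gr (Co.gmod 𝒜 J).gr (coLift 𝒜 B ψ) := by
  intro g b hb
  rw [coLift_of_mem 𝒜 B ψ hb]
  exact ⟨_, rfl⟩

theorem coLift_injective (hψ : Function.Injective ψ) : Function.Injective (coLift 𝒜 B ψ) := by
  rw [← LinearMap.ker_eq_bot, LinearMap.ker_eq_bot']
  intro b hb
  -- each component vanishes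
  have hcomp : ∀ g, (decompose B.gr b g : B.carrier) = 0 := by
    intro g
    have h1 := decompose_map B.gr (Co.gmod 𝒜 J).gr (isGrHom_coLift 𝒜 B ψ) b g
    rw [hb, decompose_zero] at h1
    have h2 : coLift 𝒜 B ψ (decompose B.gr b g : B.carrier) = 0 := h1.symm
    rw [coLift_of_mem 𝒜 B ψ (decompose B.gr b g).2] at h2
    have h3 : Co.coord 𝒜 g (Co.single 𝒜 g (ψ (decompose B.gr b g : B.carrier)))
        = Co.coord 𝒜 g (0 : Co 𝒜 J) := congrArg (Co.coord 𝒜 g) h2
    rw [Co.coord_single_same, map_zero] at h3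
    exact hψ (h3.trans (map_zero ψ).symm)
  by_contra hb0
  obtain ⟨g, hg⟩ := exists_decompose_ne_zero (ℳ := B.gr) hb0
  exact hg (hcomp g)

end CoLift

section StarInj

variable {J}

/-- the cofree graded module on an injective module is *injective. -/
theorem isStarInj_co (hJ : Module.Injective R J) : IsStarInj 𝒜 (Co.gmod 𝒜 J).gr := by
  intro A B f hf hinj g hg
  obtain ⟨ψ, hψ⟩ := hJ.out f hinj (Co.sumLin 𝒜 ∘ₗ g)
  refine ⟨coLift 𝒜 B ψ, isGrHom_coLift 𝒜 B ψ, ?_⟩
  ext a
  show coLift 𝒜 B ψ (f a) = g a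
  induction a using Decomposition.inductionOn A.gr with
  | zero => simp
  | @homogeneous k a =>
    rw [coLift_of_mem 𝒜 B ψ (hf k a a.2), hψ]
    obtain ⟨x, hx⟩ := hg k a a.2
    show Co.single 𝒜 k (Co.sumHom 𝒜 (g a)) = g a
    rw [← hx, Co.sumHom_single]
  | add a a' ha ha' => rw [map_add, map_add, ha, ha', map_add]

/-- every graded module embeds homogeneously into a *injective graded module. -/
theorem exists_starInj_embedding (B : GMod.{u} 𝒜) :
    ∃ (X : GMod.{u} 𝒜) (ε : B.carrier →ₗ[R] X.carrier), IsStarInj 𝒜 X.gr ∧ IsGrHom B.gr X.gr ε ∧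
      Function.Injective ε := by
  obtain ⟨Q, _, _, ψ, hψ⟩ :=
    Groth.Agent.Lib.helper1.InjHullLib.exists_injective_hull (R := R) B.carrier
  exact ⟨Co.gmod 𝒜 Q, coLift 𝒜 B ψ, isStarInj_co 𝒜 hψ.isInjective, isGrHom_coLift 𝒜 B ψ,
    coLift_injective 𝒜 B ψ hψ.injective⟩

end StarInj

end Groth.Agent.H8.Gr
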