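import Mathlib
import Groth.Prelude.Def_GrLC
import Groth.Prelude.Def_Wider
import Groth.Agent.Lib.helper8.GrG

/-!
# Graded modules toolkit, part H (helper8): existence of *injective envelopes and resolutions.
-/

universe u

set_option linter.unusedSectionVars false

namespace Groth.Agent.H8.Gr

open DirectSum GrLC

variable {ι : Type} [AddCommGroup ι] [DecidableEq ι]
variable {R : Type u} [CommRing R] (𝒜 : ι → AddSubgroup R) [GradedRing 𝒜]

/-- *injective envelopes exist. -/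
theorem exists_isStarInjHull (B : GMod.{u} 𝒜) :
    ∃ (E : GMod.{u} 𝒜) (f : B.carrier →ₗ[R] E.carrier), IsStarInjHull 𝒜 B.gr E.gr f := by
  obtain ⟨X, ε, hX, hε, hinj⟩ := exists_starInj_embedding 𝒜 B
  obtain ⟨H, C, hH, hle, _, _, hhull⟩ :=
    exists_isStarInjHull_in 𝒜 X B.gr hX ε hε hinj (isHomogeneous_range B.gr X.gr hε)
  exact ⟨subGMod X H hH, _, hhull⟩

section Unbundled

variable {M : Type u} [AddCommGroup M] [Module R M] (ℳ : ι → AddSubgroup M)
  [DirectSum.Decomposition ℳ] [SetLike.GradedSMul 𝒜 ℳ]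

/-- a graded module without proper *essential extensions is *injective. -/
theorem isStarInj_of_forall_isStarEss_surjective
    (h : ∀ (N : GMod.{u} 𝒜) (f : M →ₗ[R] N.carrier), IsStarEss ℳ N.gr f → Function.Surjective f) :
    IsStarInj 𝒜 ℳ := by
  obtain ⟨E, f, hf⟩ : ∃ (E : GMod.{u} 𝒜) (f : M →ₗ[R] E.carrier), IsStarInjHull 𝒜 ℳ E.gr f :=
    exists_isStarInjHull 𝒜 (GMod.of 𝒜 M ℳ)
  have hsurj := h E f hf.toIsStarEss
  let Φ : M ≃ₗ[R] E.carrier := LinearEquiv.ofBijective f ⟨hf.injective, hsurj⟩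
  have hΦ : IsGrHom ℳ E.gr Φ.toLinearMap := hf.grHom
  have hΦ' : IsGrHom E.gr ℳ Φ.symm.toLinearMap := isGrHom_symm ℳ E.gr Φ hΦ
  exact isStarInj_of_equiv 𝒜 E.gr ℳ Φ.symm hΦ' hf.starInj

theorem isStarInj_iff_forall_isStarEss_surjective :
    IsStarInj 𝒜 ℳ ↔
      ∀ (N : GMod.{u} 𝒜) (f : M →ₗ[R] N.carrier), IsStarEss ℳ N.gr f → Function.Surjective f :=
  ⟨fun hI N f hf => surjective_of_isStarInj_of_isStarEss 𝒜 ℳ hI N f hf,
    isStarInj_of_forall_isStarEss_surjective 𝒜 ℳ⟩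

/-- a *injective envelope sits inside any injective module containing `M`. -/
theorem exists_isStarInjHull_sub_injective (I : Type u) [AddCommGroup I] [Module R I]
    [hI : Module.Injective R I] (e : M →ₗ[R] I) (he : Function.Injective e) :
    ∃ (E : GMod.{u} 𝒜) (f : M →ₗ[R] E.carrier), IsStarInjHull 𝒜 ℳ E.gr f ∧
      ∃ j : E.carrier →ₗ[R] I, Function.Injective j ∧ j ∘ₗ f = e := by
  obtain ⟨E, f, hf⟩ : ∃ (E : GMod.{u} 𝒜) (f : M →ₗ[R] E.carrier), IsStarInjHull 𝒜 ℳ E.gr f :=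
    exists_isStarInjHull 𝒜 (GMod.of 𝒜 M ℳ)
  refine ⟨E, f, hf, ?_⟩
  have hess : InjHull.IsEssentialInj f := isEssentialInj_of_isStarEss 𝒜 ℳ E.gr hf.toIsStarEss
  obtain ⟨j, hj⟩ := hI.out f hf.injective e
  have hjf : j ∘ₗ f = e := LinearMap.ext hj
  refine ⟨j, ?_, hjf⟩
  apply Groth.Agent.Lib.helper1.InjHullLib.injective_of_essential hess j
  rw [hjf]
  exact he

end Unbundled

section Resolution

/-- one stage of a resolution: a graded module embedded in a *injective one. -/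
structure Stage where
  /-- the module to be embedded -/
  Z : GMod.{u} 𝒜
  /-- the *injective module -/
  X : GMod.{u} 𝒜
  /-- the embedding -/
  e : Z.carrier →ₗ[R] X.carrier
  gr : IsGrHom Z.gr X.gr e
  inj : Function.Injective e
  sinj : IsStarInj 𝒜 X.gr

/-- a chosen embedding. -/
noncomputable def stageOf (Z : GMod.{u} 𝒜) : Stage 𝒜 where
  Z := Z
  X := (exists_starInj_embedding 𝒜 Z).choose
  e := (exists_starInj_embedding 𝒜 Z).choose_spec.choose
  gr := (exists_starInj_embedding 𝒜 Z).choose_spec.choose_spec.2.1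
  inj := (exists_starInj_embedding 𝒜 Z).choose_spec.choose_spec.2.2
  sinj := (exists_starInj_embedding 𝒜 Z).choose_spec.choose_spec.1

/-- the cokernel of a stage. -/
noncomputable def Stage.coker (s : Stage 𝒜) : GMod.{u} 𝒜 :=
  quotGMod s.X (LinearMap.range s.e) (isHomogeneous_range s.Z.gr s.X.gr s.gr)

/-- the next stage. -/
noncomputable def Stage.next (s : Stage 𝒜) : Stage 𝒜 := stageOf 𝒜 (s.coker 𝒜)

/-- the projection to the cokernel. -/
noncomputable def Stage.proj (s : Stage 𝒜) : s.X.carrier →ₗ[R] (s.coker 𝒜).carrier :=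
  (LinearMap.range s.e).mkQ

theorem Stage.proj_surjective (s : Stage 𝒜) : Function.Surjective (s.proj 𝒜) :=
  Submodule.mkQ_surjective _

theorem Stage.ker_proj (s : Stage 𝒜) : LinearMap.ker (s.proj 𝒜) = LinearMap.range s.e :=
  Submodule.ker_mkQ _

theorem Stage.isGrHom_proj (s : Stage 𝒜) : IsGrHom s.X.gr (s.coker 𝒜).gr (s.proj 𝒜) :=
  isGrHom_mkQ s.X _ _

/-- the differential from a stage to the next one. -/
noncomputable def Stage.diff (s : Stage 𝒜) : s.X.carrier →ₗ[R] (s.next 𝒜).X.carrier :=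
  (s.next 𝒜).e ∘ₗ s.proj 𝒜

theorem Stage.ker_diff (s : Stage 𝒜) : LinearMap.ker (s.diff 𝒜) = LinearMap.range s.e := by
  ext x
  constructor
  · intro hx
    have h1 : (s.next 𝒜).e (s.proj 𝒜 x) = 0 := hx
    have h2 : s.proj 𝒜 x = 0 := (s.next 𝒜).inj (h1.trans (map_zero (s.next 𝒜).e).symm)
    exact (Submodule.Quotient.mk_eq_zero _).mp h2
  · rintro ⟨z, rfl⟩
    have h2 : s.proj 𝒜 (s.e z) = 0 := (Submodule.Quotient.mk_eq_zero _).mpr ⟨z, rfl⟩
    exact (congrArg (s.next 𝒜).e h2).trans (map_zero (s.next 𝒜).e)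

theorem Stage.range_diff (s : Stage 𝒜) :
    LinearMap.range (s.diff 𝒜) = LinearMap.range (s.next 𝒜).e := by
  ext y
  constructor
  · rintro ⟨x, rfl⟩
    exact ⟨s.proj 𝒜 x, rfl⟩
  · rintro ⟨z, rfl⟩
    obtain ⟨x, hx⟩ := s.proj_surjective 𝒜 z
    exact ⟨x, congrArg (s.next 𝒜).e hx⟩

theorem Stage.isGrHom_diff (s : Stage 𝒜) : IsGrHom s.X.gr (s.next 𝒜).X.gr (s.diff 𝒜) :=
  fun g x hx => (s.next 𝒜).gr g _ (s.isGrHom_proj 𝒜 g x hx)

variable {M : Type u} [AddCommGroup M] [Module R M] (ℳ : ι → AddSubgroup M)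
  [DirectSum.Decomposition ℳ] [SetLike.GradedSMul 𝒜 ℳ]

/-- the sequence of stages. -/
noncomputable def stageSeq : ℕ → Stage 𝒜
  | 0 => stageOf 𝒜 (GMod.of 𝒜 M ℳ)
  | n + 1 => (stageSeq n).next 𝒜

/-- *injective resolutions exist. -/
theorem nonempty_starInjRes : Nonempty (StarInjRes 𝒜 ℳ) := by
  refine ⟨{
    X := fun n => (stageSeq 𝒜 ℳ n).X
    d := fun n => (stageSeq 𝒜 ℳ n).diff 𝒜
    ε := (stageSeq 𝒜 ℳ 0).e
    d_grHom := fun n => (stageSeq 𝒜 ℳ n).isGrHom_diff 𝒜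
    ε_grHom := (stageSeq 𝒜 ℳ 0).gr
    ε_injective := (stageSeq 𝒜 ℳ 0).inj
    exact_zero := (stageSeq 𝒜 ℳ 0).ker_diff 𝒜
    exact_succ := fun n =>
      ((stageSeq 𝒜 ℳ (n + 1)).ker_diff 𝒜).trans ((stageSeq 𝒜 ℳ n).range_diff 𝒜).symm
    starInj := fun n => (stageSeq 𝒜 ℳ n).sinj }⟩

end Resolution

end Groth.Agent.H8.Gr
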