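import Mathlib
import Groth.Prelude.Def_GrLC
import Groth.Prelude.Def_Wider
import Groth.Agent.Lib.helper8.GrH

/-!
# Graded modules toolkit, part I (helper8): the grading of `*H^i_a(M)`.
-/

universe u

set_option linter.unusedSectionVars false

namespace Groth.Agent.H8.Gr

open DirectSum GrLC

variable {ι : Type} [AddCommGroup ι] [DecidableEq ι]
variable {R : Type u} [CommRing R] (𝒜 : ι → AddSubgroup R) [GradedRing 𝒜]

theorem isHomogeneous_pow {a : Ideal R} (ha : a.IsHomogeneous 𝒜) (n : ℕ) :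
    (a ^ n).IsHomogeneous 𝒜 := by
  induction n with
  | zero => rw [pow_zero, Ideal.one_eq_top]; exact Ideal.IsHomogeneous.top 𝒜
  | succ n ih => rw [pow_succ]; exact ih.mul ha

section Gam

variable (X : GMod.{u} 𝒜)

/-- the torsion submodule of a graded module with respect to a homogeneous ideal is homogeneous. -/
theorem isHomogeneous_gam {a : Ideal R} (ha : a.IsHomogeneous 𝒜) :
    (gam a X.carrier).IsHomogeneous X.gr := by
  classical
  intro g x hx
  obtain ⟨n, hn⟩ := hx
  refine ⟨n, fun r hr => ?_⟩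
  have hpow := isHomogeneous_pow 𝒜 ha n
  -- `r = Σ r_h`, each `r_h ∈ a^n` kills `x`, hence kills `x_g`
  rw [← sum_support_decompose 𝒜 r, Finset.sum_smul]
  apply Finset.sum_eq_zero
  intro h _
  have h1 : ((decompose 𝒜 r h : R)) • x = 0 := hn _ (hpow h hr)
  have h2 := coe_decompose_smul_of_mem 𝒜 X.gr (decompose 𝒜 r h).2 x g
  rw [h1, decompose_zero] at h2
  exact h2.symm

theorem isHomogeneous_map {Y : GMod.{u} 𝒜} (f : X.carrier →ₗ[R] Y.carrier)
    (hf : IsGrHom X.gr Y.gr f) {P : Submodule R X.carrier} (hP : P.IsHomogeneous X.gr) :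
    (P.map f).IsHomogeneous Y.gr := by
  rintro g _ ⟨x, hx, rfl⟩
  exact ⟨_, hP g hx, (decompose_map X.gr Y.gr hf x g).symm⟩

/-- the comap to a graded submodule of a homogeneous submodule is homogeneous. -/
theorem isHomogeneous_comap_subIncl (P Q : Submodule R X.carrier) (hP : P.IsHomogeneous X.gr)
    (hQ : Q.IsHomogeneous X.gr) :
    (Q.comap (subIncl X P hP)).IsHomogeneous (subGMod X P hP).gr := by
  intro g z hz
  rw [Submodule.mem_comap] at hz ⊢
  rw [← decompose_map (subGMod X P hP).gr X.gr (isGrHom_subIncl X P hP)]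
  exact hQ g hz

end Gam

section Coh

variable {M : Type u} [AddCommGroup M] [Module R M] (ℳ : ι → AddSubgroup M)
  [DirectSum.Decomposition ℳ] [SetLike.GradedSMul 𝒜 ℳ] (E : StarInjRes 𝒜 ℳ)
  (a : HomogeneousIdeal 𝒜)

theorem isHomogeneous_cocyc (i : ℕ) : (E.cocyc a i).IsHomogeneous (E.X i).gr :=
  isHomogeneous_inf (E.X i).gr (isHomogeneous_gam 𝒜 (E.X i) a.isHomogeneous)
    (isHomogeneous_ker (E.X i).gr (E.X (i + 1)).gr (E.d_grHom i))

theorem isHomogeneous_cobdy (i : ℕ) : (E.cobdy a i).IsHomogeneous (E.X i).gr := by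
  cases i with
  | zero => exact isHomogeneous_bot (E.X 0).gr
  | succ n =>
    exact isHomogeneous_map 𝒜 (E.X n) (E.d n) (E.d_grHom n)
      (isHomogeneous_gam 𝒜 (E.X n) a.isHomogeneous)

/-- the graded local cohomology computed from a *injective resolution is the internal direct sum of
its homogeneous pieces. -/
theorem isInternal_Hgr (i : ℕ) : DirectSum.IsInternal (E.Hgr a i) := by
  have hP := isHomogeneous_cocyc 𝒜 ℳ E a i
  have hQ := isHomogeneous_comap_subIncl 𝒜 (E.X i) (E.cocyc a i) (E.cobdy a i) hP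
    (isHomogeneous_cobdy 𝒜 ℳ E a i)
  have key := isInternal_quotPieces (subGMod (E.X i) (E.cocyc a i) hP)
    ((E.cobdy a i).comap (subIncl (E.X i) (E.cocyc a i) hP)) hQ
  have heq : E.Hgr a i = quotPieces (subGMod (E.X i) (E.cocyc a i) hP)
      ((E.cobdy a i).comap (subIncl (E.X i) (E.cocyc a i) hP)) := by
    funext g
    ext x
    constructor
    · rintro ⟨z, hz, rfl⟩
      exact ⟨z, hz, rfl⟩
    · rintro ⟨z, hz, rfl⟩
      exact ⟨z, hz, rfl⟩
  rw [heq]
  exact key

end Coh

end Groth.Agent.H8.Gr
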