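import Mathlib

/-!
# D-modules supported at the origin, part A (helper8): vanishing of the Koszul `H¹`.

`x : Fin d → A` and additive operators `D i` on an `A`-module `M` with `[D i, x j] = δ_ij`.
If every element of `M` is killed by iterated multiplication by the `x j` and the positive
integers are invertible in `A`, then every Koszul 1-cocycle `(z j)` is a coboundary.
-/

universe u v

namespace Groth.Agent.H8.DMod

open Finset

variable {A : Type u} [CommRing A] {M : Type v} [AddCommGroup M] [Module A M] {d : ℕ}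
  (x : Fin d → A) (D : Fin d → M →+ M)

/-- the filtration: `Fil 0 = 0`, `Fil (n+1) = {z | ∀ j, x j • z ∈ Fil n}`. -/
def Fil : ℕ → Submodule A M
  | 0 => ⊥
  | n + 1 => ⨅ j : Fin d, (Fil n).comap (LinearMap.lsmul A M (x j))

theorem mem_Fil_zero {z : M} : z ∈ Fil x (M := M) 0 ↔ z = 0 := by
  show z ∈ (⊥ : Submodule A M) ↔ _
  exact Submodule.mem_bot A

theorem mem_Fil_succ {n : ℕ} {z : M} :
    z ∈ Fil x (M := M) (n + 1) ↔ ∀ j, x j • z ∈ Fil x (M := M) n := by
  show z ∈ (⨅ j : Fin d, (Fil x n).comap (LinearMap.lsmul A M (x j))) ↔ _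
  rw [Submodule.mem_iInf]
  rfl

/-- the Euler-type operator `Θ' z = Σ D i (x i • z)`. -/
def Eu (z : M) : M := ∑ i, D i (x i • z)

theorem Eu_zero : Eu x D 0 = 0 := by
  unfold Eu
  simp

theorem Eu_add (z w : M) : Eu x D (z + w) = Eu x D z + Eu x D w := by
  unfold Eu
  rw [← Finset.sum_add_distrib]
  apply Finset.sum_congr rfl
  intro i _
  rw [smul_add, map_add]

theorem Eu_neg (z : M) : Eu x D (-z) = -Eu x D z := by
  unfold Eu
  rw [← Finset.sum_neg_distrib]
  apply Finset.sum_congr rfl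
  intro i _
  rw [smul_neg, map_neg]

theorem Eu_sub (z w : M) : Eu x D (z - w) = Eu x D z - Eu x D w := by
  rw [sub_eq_add_neg, Eu_add, Eu_neg, ← sub_eq_add_neg]

theorem Eu_nsmul (n : ℕ) (z : M) : Eu x D (n • z) = n • Eu x D z := by
  unfold Eu
  rw [Finset.smul_sum]
  apply Finset.sum_congr rfl
  intro i _
  rw [smul_comm, map_nsmul]

variable (hD : ∀ (i j : Fin d) (z : M), D i (x j • z) = (if i = j then z else 0) + x j • D i z)

include hD in
theorem Eu_smul (j : Fin d) (z : M) : Eu x D (x j • z) = x j • Eu x D z + x j • z := by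
  unfold Eu
  have h1 : ∀ i, D i (x i • x j • z) = (if i = j then x i • z else 0) + x j • D i (x i • z) := by
    intro i
    rw [smul_comm, hD]
  rw [Finset.sum_congr rfl (fun i _ => h1 i), Finset.sum_add_distrib, Finset.smul_sum,
    Finset.sum_ite_eq' Finset.univ j (fun i => x i • z)]
  simp only [Finset.mem_univ, if_true]
  rw [add_comm]

theorem Eu_of_mem_Fil_one {z : M} (hz : z ∈ Fil x (M := M) 1) : Eu x D z = 0 := by
  unfold Eu
  apply Finset.sum_eq_zero
  intro i _
  have := (mem_Fil_succ x).mp hz i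
  rw [mem_Fil_zero] at this
  rw [this, map_zero]

include hD in
/-- `Θ' + n` maps `Fil (n+1)` into `Fil n`. -/
theorem Eu_add_nsmul_mem (n : ℕ) : ∀ z : M, z ∈ Fil x (M := M) (n + 1) →
    Eu x D z + n • z ∈ Fil x (M := M) n := by
  induction n with
  | zero =>
    intro z hz
    rw [Eu_of_mem_Fil_one x D hz, zero_smul, add_zero]
    exact zero_mem _
  | succ n ih =>
    intro z hz
    rw [mem_Fil_succ]
    intro j
    have h1 := ih (x j • z) ((mem_Fil_succ x).mp hz j)
    have h2 : Eu x D (x j • z) + n • x j • z = x j • (Eu x D z + (n + 1) • z) := by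
      rw [Eu_smul x D hD, smul_add, add_smul, one_smul, smul_add, smul_comm (x j) n z]
      abel
    rw [h2] at h1
    exact h1

variable (hu : ∀ n : ℕ, n ≠ 0 → IsUnit (n : A))

include hD hu in
/-- `Θ' - e` is injective for `e ≥ 1`. -/
theorem eq_zero_of_Eu_eq (e : ℕ) (he : e ≠ 0) (n : ℕ) : ∀ z : M, z ∈ Fil x (M := M) n →
    Eu x D z = e • z → z = 0 := by
  induction n with
  | zero =>
    intro z hz _
    exact (mem_Fil_zero x).mp hz
  | succ n ih =>
    intro z hz hEu
    have h1 := Eu_add_nsmul_mem x D hD n z hz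
    rw [hEu, ← add_smul] at h1
    obtain ⟨u, hu'⟩ := hu (e + n) (by omega)
    have h2 : z = (↑u⁻¹ : A) • ((e + n) • z) := by
      rw [← Nat.cast_smul_eq_nsmul A (e + n) z, smul_smul, ← hu', Units.inv_mul, one_smul]
    apply ih z _ hEu
    rw [h2]
    exact Submodule.smul_mem _ _ h1

include hu in
theorem Eu_inv_smul (n : ℕ) (hn : n ≠ 0) (u : Aˣ) (hu' : (u : A) = (n : A)) (z : M) :
    Eu x D ((↑u⁻¹ : A) • z) = (↑u⁻¹ : A) • Eu x D z := by
  have h1 : Eu x D (n • ((↑u⁻¹ : A) • z)) = Eu x D z := by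
    rw [← Nat.cast_smul_eq_nsmul A n, smul_smul, ← hu', Units.mul_inv, one_smul]
  rw [Eu_nsmul] at h1
  rw [← h1, ← Nat.cast_smul_eq_nsmul A n (Eu x D _), smul_smul, ← hu', Units.inv_mul, one_smul]

include hD hu in
/-- `Θ' - 1` is surjective. -/
theorem exists_Eu_eq (n : ℕ) : ∀ w : M, w ∈ Fil x (M := M) n →
    ∃ z : M, Eu x D z = z + w := by
  induction n with
  | zero =>
    intro w hw
    rw [mem_Fil_zero] at hw
    exact ⟨0, by rw [Eu_zero, hw, add_zero]⟩
  | succ n ih =>
    intro w hw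
    obtain ⟨z', hz'⟩ := ih _ (Eu_add_nsmul_mem x D hD n w hw)
    obtain ⟨u, hu'⟩ := hu (n + 1) (by omega)
    refine ⟨(↑u⁻¹ : A) • (z' - w), ?_⟩
    rw [Eu_inv_smul x D hu (n + 1) (by omega) u hu', Eu_sub, hz']
    have h3 : z' + (Eu x D w + n • w) - Eu x D w = (z' - w) + (n + 1) • w := by
      rw [add_smul, one_smul]; abel
    rw [h3, smul_add, ← Nat.cast_smul_eq_nsmul A (n + 1) w, smul_smul, ← hu', Units.inv_mul,
      one_smul]

include hD hu in
/-- **Koszul `H¹` vanishes**: a cocycle `(z j)` is of the form `(x j • m)`. -/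
theorem exists_smul_eq_of_cocycle (hT : ∀ z : M, ∃ n, z ∈ Fil x (M := M) n)
    (z : Fin d → M) (hz : ∀ i j, x j • z i = x i • z j) :
    ∃ m : M, ∀ j, x j • m = z j := by
  choose y hy using fun i => (hT (z i)).elim fun n hn => exists_Eu_eq x D hD hu n (z i) hn
  have hsymm : ∀ i j, x j • y i = x i • y j := by
    intro i j
    obtain ⟨n, hn⟩ := hT (x j • y i - x i • y j)
    have h1 : Eu x D (x j • y i - x i • y j) = 2 • (x j • y i - x i • y j) := by
      rw [Eu_sub, Eu_smul x D hD, Eu_smul x D hD, hy, hy, smul_add, smul_add, hz i j, two_smul]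
      abel
    exact sub_eq_zero.mp (eq_zero_of_Eu_eq x D hD hu 2 (by norm_num) n _ hn h1)
  refine ⟨∑ i, D i (y i), fun j => ?_⟩
  rw [Finset.smul_sum]
  have h2 : ∀ i, x j • D i (y i) = D i (x i • y j) - (if i = j then y i else 0) := by
    intro i
    rw [← hsymm i j, hD]
    abel
  rw [Finset.sum_congr rfl (fun i _ => h2 i), Finset.sum_sub_distrib,
    Finset.sum_ite_eq' Finset.univ j (fun i => y i)]
  simp only [Finset.mem_univ, if_true]
  have h3 : ∑ i, D i (x i • y j) = Eu x D (y j) := rfl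
  rw [h3, hy]
  abel

end Groth.Agent.H8.DMod
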