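import Mathlib
import Groth.Prelude.Def_Wider
import Groth.Agent.Lib.helper1.InjHull3
import Groth.Agent.Lib.helper8.MatlisN
import Groth.Agent.Lib.helper8.DModA

/-!
# D-modules supported at the origin, part B (helper8): injectivity and structure.
-/

universe u

namespace Groth.Agent.H8.DMod

open LocCoh InjHull IsLocalRing Groth.Agent.H8.Matlis

section TorsionGeneral

variable {R : Type u} [CommRing R] [IsNoetherianRing R]
  {M E : Type u} [AddCommGroup M] [Module R M] [AddCommGroup E] [Module R E]

/-- an essential extension of an `I`-power-torsion module is `I`-power torsion. -/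
theorem isPowerTorsion_of_essential_of_isPowerTorsion (g : M →ₗ[R] E) (hg : IsEssentialInj g)
    (I : Ideal R) (hM : IsPowerTorsion I M) : IsPowerTorsion I E := by
  classical
  intro x
  let S : Submodule R E := Submodule.span R {x}
  haveI : Module.Finite R S := Module.Finite.span_singleton R x
  let N' : Submodule R S := (LinearMap.range g).comap S.subtype
  obtain ⟨c, hc⟩ := Ideal.exists_pow_inf_eq_pow_smul I N'
  -- a uniform exponent for `N'`
  obtain ⟨s, hs⟩ := (IsNoetherian.noetherian N' : N'.FG)
  have hpt : ∀ n : S, n ∈ N' → ∃ k : ℕ, ∀ a ∈ I ^ k, a • n = 0 := by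
    rintro n ⟨m, hm⟩
    obtain ⟨k, hk⟩ := hM m
    refine ⟨k, fun a ha => ?_⟩
    apply Subtype.ext
    show a • (S.subtype n) = 0
    rw [← hm, ← map_smul, hk a ha, map_zero]
  have hsN : ∀ n ∈ s, n ∈ N' := fun n hn => hs ▸ Submodule.subset_span hn
  let e : S → ℕ := fun n => if h : n ∈ N' then (hpt n h).choose else 0
  have he : ∀ n ∈ s, ∀ a ∈ I ^ (e n), a • n = 0 := by
    intro n hn a ha
    have h := hsN n hn
    simp only [e, dif_pos h] at ha
    exact (hpt n h).choose_spec a ha
  let K := s.sup e
  have hK : ∀ n ∈ N', ∀ a ∈ I ^ K, a • n = 0 := by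
    intro n hn
    rw [← hs] at hn
    induction hn using Submodule.span_induction with
    | mem z hz =>
      intro a ha
      exact he z hz a (Ideal.pow_le_pow_right (Finset.le_sup (f := e) hz) ha)
    | zero => intro a _; rw [smul_zero]
    | add y z _ _ hy hz => intro a ha; rw [smul_add, hy a ha, hz a ha, add_zero]
    | smul r y _ hy => intro a ha; rw [smul_comm, hy a ha, smul_zero]
  refine ⟨c + K, fun a ha => ?_⟩
  by_contra hax
  have hne : Submodule.span R {a • x} ≠ ⊥ := by
    rwa [Ne, Submodule.span_singleton_eq_bot]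
  obtain ⟨w, ⟨hw1, hw2⟩, hw0⟩ := Submodule.exists_mem_ne_zero_of_ne_bot (hg.essential _ hne)
  obtain ⟨r, rfl⟩ := Submodule.mem_span_singleton.mp hw1
  let xs : S := ⟨x, Submodule.mem_span_singleton_self x⟩
  have hmem : (r * a) • xs ∈ I ^ (c + K) • (⊤ : Submodule R S) ⊓ N' := by
    refine ⟨?_, ?_⟩
    · exact Submodule.smul_mem_smul (Ideal.mul_mem_left _ r ha) trivial
    · show S.subtype ((r * a) • xs) ∈ LinearMap.range g
      have : S.subtype ((r * a) • xs) = r • a • x := by
        simp [xs, mul_smul]
      rw [this]; exact hw2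
  rw [hc (c + K) (Nat.le_add_right c K), Nat.add_sub_cancel_left] at hmem
  have hle : I ^ K • (I ^ c • (⊤ : Submodule R S) ⊓ N') ≤ ⊥ := by
    rw [Submodule.smul_le]
    intro b hb n hn
    rw [Submodule.mem_bot]
    exact hK n hn.2 b hb
  have h1 := hle hmem
  rw [Submodule.mem_bot] at h1
  apply hw0
  have h2 := congrArg Subtype.val h1
  simpa [xs, mul_smul] using h2

end TorsionGeneral

section Local

variable {A : Type u} [CommRing A] [IsLocalRing A] [IsNoetherianRing A]
  {M : Type u} [AddCommGroup M] [Module A M] {d : ℕ} (x : Fin d → A)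

omit [IsLocalRing A] [IsNoetherianRing A] in
theorem smul_eq_zero_of_mem_span {z : M} (hz : ∀ j, x j • z = 0) :
    ∀ a ∈ Ideal.span (Set.range x), a • z = 0 := by
  intro a ha
  induction ha using Submodule.span_induction with
  | mem b hb => obtain ⟨j, rfl⟩ := hb; exact hz j
  | zero => rw [zero_smul]
  | add b c _ _ hb hc => rw [add_smul, hb, hc, add_zero]
  | smul r b _ hb => rw [smul_eq_mul, mul_smul, hb, smul_zero]

omit [IsLocalRing A] [IsNoetherianRing A] in
theorem mem_Fil_of_pow_smul (n : ℕ) : ∀ z : M,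
    (∀ a ∈ (Ideal.span (Set.range x)) ^ n, a • z = 0) → z ∈ Fil x (M := M) n := by
  induction n with
  | zero =>
    intro z hz
    rw [mem_Fil_zero]
    have := hz 1 (by rw [pow_zero, Ideal.one_eq_top]; trivial)
    rwa [one_smul] at this
  | succ n ih =>
    intro z hz
    rw [mem_Fil_succ]
    intro j
    apply ih
    intro a ha
    rw [smul_smul]
    apply hz
    rw [pow_succ]
    exact Ideal.mul_mem_mul ha (Ideal.subset_span ⟨j, rfl⟩)

/-- a power-torsion module with vanishing Koszul `H¹` on generators of `𝔪` is injective. -/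
theorem injective_of_koszul (hx : maximalIdeal A = Ideal.span (Set.range x))
    (hM : IsPowerTorsion (maximalIdeal A) M)
    (hK : ∀ z : Fin d → M, (∀ i j, x j • z i = x i • z j) → ∃ m : M, ∀ j, x j • m = z j) :
    Module.Injective A M := by
  obtain ⟨Q, _, _, ι, hι⟩ := Groth.Agent.Lib.helper1.InjHullLib.exists_injective_hull (R := A) M
  have hQ : IsPowerTorsion (maximalIdeal A) Q :=
    isPowerTorsion_of_essential_of_isPowerTorsion ι hι.toIsEssentialInj _ hM
  have hsurj : Function.Surjective ι := by
    by_contra hns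
    have hne : ∃ q : Q, q ∉ LinearMap.range ι := by
      by_contra h
      push Not at h
      exact hns fun q => h q
    obtain ⟨q, hq⟩ := hne
    -- the quotient is power torsion
    have hQq : IsPowerTorsion (maximalIdeal A) (Q ⧸ LinearMap.range ι) := by
      intro y
      obtain ⟨q', rfl⟩ := Submodule.Quotient.mk_surjective _ y
      obtain ⟨k, hk⟩ := hQ q'
      refine ⟨k, fun a ha => ?_⟩
      rw [← Submodule.Quotient.mk_smul, hk a ha, Submodule.Quotient.mk_zero]
    have hq0 : (Submodule.Quotient.mk q : Q ⧸ LinearMap.range ι) ≠ 0 := by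
      rwa [Ne, Submodule.Quotient.mk_eq_zero]
    obtain ⟨r, hr0, hr⟩ := exists_socle_mem' (maximalIdeal A) hQq hq0
    rw [← Submodule.Quotient.mk_smul, Ne, Submodule.Quotient.mk_eq_zero] at hr0
    have hr' : ∀ b ∈ maximalIdeal A, b • (r • q) ∈ LinearMap.range ι := by
      intro b hb
      have := hr b hb
      rwa [← Submodule.Quotient.mk_smul, ← Submodule.Quotient.mk_smul,
        Submodule.Quotient.mk_eq_zero] at this
    have hxm : ∀ j, x j ∈ maximalIdeal A := fun j => by
      rw [hx]; exact Ideal.subset_span ⟨j, rfl⟩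
    choose z hz using fun j => hr' (x j) (hxm j)
    have hcoc : ∀ i j, x j • z i = x i • z j := by
      intro i j
      apply hι.injective
      rw [map_smul, map_smul, hz, hz, smul_comm]
    obtain ⟨m, hm⟩ := hK z hcoc
    set w : Q := r • q - ι m with hw
    have hwk : ∀ a ∈ maximalIdeal A, a • w = 0 := by
      rw [hx]
      apply smul_eq_zero_of_mem_span
      intro j
      rw [hw, smul_sub, ← map_smul, hm, hz, sub_self]
    by_cases hw0 : w = 0
    · apply hr0
      have : r • q = ι m := sub_eq_zero.mp hw0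
      rw [this]; exact ⟨m, rfl⟩
    · have hne : Submodule.span A {w} ≠ ⊥ := by
        rwa [Ne, Submodule.span_singleton_eq_bot]
      obtain ⟨v, ⟨hv1, hv2⟩, hv0⟩ :=
        Submodule.exists_mem_ne_zero_of_ne_bot (hι.essential _ hne)
      obtain ⟨a, rfl⟩ := Submodule.mem_span_singleton.mp hv1
      have ha : IsUnit a := by
        by_contra hna
        exact hv0 (hwk a ((IsLocalRing.mem_maximalIdeal a).mpr hna))
      obtain ⟨u, rfl⟩ := ha
      have hwr : w ∈ LinearMap.range ι := by
        have : w = (↑u⁻¹ : A) • ((u : A) • w) := by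
          rw [smul_smul, Units.inv_mul, one_smul]
        rw [this]
        exact Submodule.smul_mem _ _ hv2
      apply hr0
      have : r • q = w + ι m := by rw [hw]; abel
      rw [this]
      exact Submodule.add_mem _ hwr ⟨m, rfl⟩
  let e : M ≃ₗ[A] Q := LinearEquiv.ofBijective ι ⟨hι.injective, hsurj⟩
  exact Module.Baer.injective (Module.Baer.of_equiv e.symm (Module.Baer.of_injective hι.isInjective))

variable {E : Type u} [AddCommGroup E] [Module A E] (f : ResidueField A →ₗ[A] E)

/-- the socle. -/
abbrev Soc (A M : Type u) [CommRing A] [IsLocalRing A] [AddCommGroup M] [Module A M] :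
    Submodule A M := Submodule.torsionBySet A M ((maximalIdeal A : Ideal A) : Set A)

/-- an injective `𝔪`-power-torsion module is a direct sum of copies of the hull of `k`. -/
theorem exists_equiv_finsupp_of_injective (hf : IsInjectiveHull f)
    (hinj : Module.Injective A M) (hM : IsPowerTorsion (maximalIdeal A) M) :
    ∃ J : Type u, Nonempty (M ≃ₗ[A] (J →₀ E)) := by
  classical
  letI : Field (A ⧸ maximalIdeal A) := Ideal.Quotient.field _
  let J : Type u := Module.Basis.ofVectorSpaceIndex (A ⧸ maximalIdeal A) (Soc A M)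
  let b : Module.Basis J (A ⧸ maximalIdeal A) (Soc A M) :=
    Module.Basis.ofVectorSpace (A ⧸ maximalIdeal A) (Soc A M)
  refine ⟨J, ?_⟩
  -- the map from `J →₀ k` to `M`
  let φ : (J →₀ ResidueField A) →ₗ[A] M :=
    (Soc A M).subtype ∘ₗ ((b.repr.symm.restrictScalars A).toLinearMap)
  have hφinj : Function.Injective φ :=
    (Soc A M).injective_subtype.comp (b.repr.symm.restrictScalars A).injective
  have hφrange : ∀ y : M, (∀ a ∈ (maximalIdeal A), a • y = 0) → y ∈ LinearMap.range φ := by
    intro y hy
    have hyS : y ∈ Soc A M := by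
      rw [Submodule.mem_torsionBySet_iff]
      exact fun a => hy a a.2
    refine ⟨b.repr ⟨y, hyS⟩, ?_⟩
    show (Soc A M).subtype ((b.repr.symm.restrictScalars A) (b.repr ⟨y, hyS⟩)) = y
    rw [LinearEquiv.restrictScalars_apply, LinearEquiv.symm_apply_apply]
    rfl
  have hφ : IsInjectiveHull φ := by
    refine ⟨⟨hφinj, fun N hN => ?_⟩, hinj⟩
    obtain ⟨y, hyN, hy0⟩ := Submodule.exists_mem_ne_zero_of_ne_bot hN
    obtain ⟨r, hr0, hr⟩ := exists_socle_mem' (maximalIdeal A) hM hy0
    intro hbot
    apply hr0
    have : r • y ∈ N ⊓ LinearMap.range φ := ⟨N.smul_mem r hyN, hφrange _ hr⟩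
    rw [hbot] at this
    exact (Submodule.mem_bot A).mp this
  -- the map from `J →₀ k` to `J →₀ E`
  let ψ : (J →₀ ResidueField A) →ₗ[A] (J →₀ E) := Finsupp.mapRange.linearMap f
  have hψinj : Function.Injective ψ :=
    Finsupp.mapRange_injective f (map_zero f) hf.injective
  have hEpt : IsPowerTorsion (maximalIdeal A) E := isPowerTorsion_of_essential f hf.toIsEssentialInj
  have hFpt : IsPowerTorsion (maximalIdeal A) (J →₀ E) := by
    intro y
    choose e he using fun j : J => hEpt (y j)
    refine ⟨y.support.sup e, fun a ha => ?_⟩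
    ext j
    rw [Finsupp.smul_apply, Finsupp.zero_apply]
    by_cases hj : j ∈ y.support
    · exact he j a (Ideal.pow_le_pow_right (Finset.le_sup (f := e) hj) ha)
    · rw [Finsupp.notMem_support_iff.mp hj, smul_zero]
  have hψrange : ∀ y : J →₀ E, (∀ a ∈ (maximalIdeal A), a • y = 0) → y ∈ LinearMap.range ψ := by
    intro y hy
    rw [← Finsupp.sum_single y]
    apply Submodule.sum_mem
    intro j _
    have hyj : y j ∈ LinearMap.range f := by
      apply mem_range_of_smul_eq_zero f hf.toIsEssentialInj
      intro a ha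
      have := congrArg (fun g : J →₀ E => g j) (hy a ha)
      simpa using this
    obtain ⟨c, hc⟩ := hyj
    refine ⟨Finsupp.single j c, ?_⟩
    show Finsupp.mapRange f (map_zero f) (Finsupp.single j c) = _
    rw [Finsupp.mapRange_single, hc]
  have hFinj : Module.Injective A (J →₀ E) := by
    have h1 : Module.Injective A (DirectSum J fun _ : J => E) :=
      Groth.Agent.Lib.helper1.InjHullLib.injective_directSum (fun _ : J => E)
        (fun _ => hf.isInjective)
    exact Module.Baer.injective
      (Module.Baer.of_equiv (finsuppLEquivDirectSum A E J).symm (Module.Baer.of_injective h1))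
  have hψ : IsInjectiveHull ψ := by
    refine ⟨⟨hψinj, fun N hN => ?_⟩, hFinj⟩
    obtain ⟨y, hyN, hy0⟩ := Submodule.exists_mem_ne_zero_of_ne_bot hN
    obtain ⟨r, hr0, hr⟩ := exists_socle_mem' (maximalIdeal A) hFpt hy0
    intro hbot
    apply hr0
    have : r • y ∈ N ⊓ LinearMap.range ψ := ⟨N.smul_mem r hyN, hψrange _ hr⟩
    rw [hbot] at this
    exact (Submodule.mem_bot A).mp this
  obtain ⟨e, _⟩ := Groth.Agent.Lib.helper1.InjHullLib.unique φ hφ ψ hψ
  exact ⟨e⟩

end Local

end Groth.Agent.H8.DMod
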