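import Mathlib
import Groth.Prelude.Def_GrLC
import Groth.Prelude.Def_Wider
import Groth.Agent.Lib.helper8.GrI

/-!
# Graded modules toolkit, part J (helper8): arbitrary linear maps from finitely generated graded
modules into *injective modules extend.
-/

universe u

set_option linter.unusedSectionVars false

namespace Groth.Agent.H8.Gr

open DirectSum GrLC

variable {ι : Type} [AddCommGroup ι] [DecidableEq ι]
variable {R : Type u} [CommRing R] (𝒜 : ι → AddSubgroup R) [GradedRing 𝒜]

section Shift

/-- shifts of *injective modules are *injective. -/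
theorem isStarInj_shiftGMod (X : GMod.{u} 𝒜) (hX : IsStarInj 𝒜 X.gr) (d : ι) :
    IsStarInj 𝒜 (shiftGMod X d).gr := by
  intro A B f hf hinj g hg
  have hf' : IsGrHom (shiftGMod A (-d)).gr (shiftGMod B (-d)).gr f := fun j a ha => hf _ a ha
  have hg' : IsGrHom (shiftGMod A (-d)).gr X.gr g := by
    intro j a ha
    have h1 : g a ∈ X.gr (d + (-d + j)) := hg (-d + j) a ha
    rwa [add_neg_cancel_left] at h1
  obtain ⟨h, hh, hhf⟩ : ∃ h : B.carrier →ₗ[R] X.carrier,
      IsGrHom (shiftGMod B (-d)).gr X.gr h ∧ h ∘ₗ f = g :=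
    hX (shiftGMod A (-d)) (shiftGMod B (-d)) f hf' hinj g hg'
  refine ⟨h, ?_, hhf⟩
  intro j b hb
  have hb' : b ∈ (shiftGMod B (-d)).gr (d + j) := by
    show b ∈ B.gr (-d + (d + j))
    rwa [neg_add_cancel_left]
  exact hh (d + j) b hb'

end Shift

section DegPart

variable (A X : GMod.{u} 𝒜) (φ : A.carrier →ₗ[R] X.carrier)

/-- the `k`-th component, as an additive map. -/
noncomputable def compHom (k : ι) : X.carrier →+ X.carrier where
  toFun x := (decompose X.gr x k : X.carrier)
  map_zero' := by rw [decompose_zero]; rfl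
  map_add' x y := by rw [decompose_add, DirectSum.add_apply, AddSubgroup.coe_add]

/-- the degree-`d` part of a linear map, as an additive map. -/
noncomputable def degPartHom (d : ι) : A.carrier →+ X.carrier :=
  (DirectSum.toAddMonoid (fun g => ((compHom 𝒜 X (d + g)).comp φ.toAddMonoidHom).comp
    (A.gr g).subtype)).comp (DirectSum.decomposeAddEquiv A.gr).toAddMonoidHom

theorem degPartHom_of_mem (d : ι) {x : A.carrier} {g : ι} (hx : x ∈ A.gr g) :
    degPartHom 𝒜 A X φ d x = (decompose X.gr (φ x) (d + g) : X.carrier) := by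
  unfold degPartHom
  rw [AddMonoidHom.comp_apply]
  show (DirectSum.toAddMonoid _) (decompose A.gr x) = _
  rw [decompose_of_mem A.gr hx, DirectSum.toAddMonoid_of]
  rfl

theorem degPartHom_smul (d : ι) (r : R) (x : A.carrier) :
    degPartHom 𝒜 A X φ d (r • x) = r • degPartHom 𝒜 A X φ d x := by
  induction r using Decomposition.inductionOn 𝒜 with
  | zero => simp
  | @homogeneous h r =>
    induction x using Decomposition.inductionOn A.gr with
    | zero => simp
    | @homogeneous g x =>
      rw [degPartHom_of_mem 𝒜 A X φ d (smul_mem_piece 𝒜 A.gr r.2 x.2),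
        degPartHom_of_mem 𝒜 A X φ d x.2, map_smul]
      have h1 : d + (h + g) = h + (d + g) := by abel
      rw [h1]
      exact coe_decompose_smul_of_mem 𝒜 X.gr r.2 (φ x) (d + g)
    | add x x' hx hx' => rw [smul_add, map_add, hx, hx', map_add, smul_add]
  | add r r' hr hr' => rw [add_smul, map_add, hr, hr', add_smul]

/-- the degree-`d` part of a linear map. -/
noncomputable def degPart (d : ι) : A.carrier →ₗ[R] (shiftGMod X d).carrier where
  toFun := degPartHom 𝒜 A X φ d
  map_add' := map_add _
  map_smul' := degPartHom_smul 𝒜 A X φ d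

theorem degPart_of_mem (d : ι) {x : A.carrier} {g : ι} (hx : x ∈ A.gr g) :
    degPart 𝒜 A X φ d x = (decompose X.gr (φ x) (d + g) : X.carrier) :=
  degPartHom_of_mem 𝒜 A X φ d hx

theorem isGrHom_degPart (d : ι) : IsGrHom A.gr (shiftGMod X d).gr (degPart 𝒜 A X φ d) := by
  intro g x hx
  rw [degPart_of_mem 𝒜 A X φ d hx]
  exact (decompose X.gr (φ x) (d + g)).2

/-- the degree parts sum to the map, over any large enough finite set of degrees. -/
theorem exists_finset_sum_degPart (x : A.carrier) :
    ∃ T₀ : Finset ι, ∀ T : Finset ι, T₀ ⊆ T →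
      ∑ d ∈ T, degPartHom 𝒜 A X φ d x = φ x := by
  classical
  induction x using Decomposition.inductionOn A.gr with
  | zero => exact ⟨∅, fun T _ => by simp⟩
  | @homogeneous g x =>
    refine ⟨(decompose X.gr (φ x)).support.image (fun k => k - g), fun T hT => ?_⟩
    have h1 : ∀ d, degPartHom 𝒜 A X φ d (x : A.carrier)
        = (decompose X.gr (φ x) (d + g) : X.carrier) := fun d => degPartHom_of_mem 𝒜 A X φ d x.2
    rw [Finset.sum_congr rfl (fun d _ => h1 d)]
    -- reindex by `k = d + g`
    have h2 : ∑ d ∈ T, (decompose X.gr (φ x) (d + g) : X.carrier)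
        = ∑ k ∈ T.image (fun d => d + g), (decompose X.gr (φ x) k : X.carrier) := by
      rw [Finset.sum_image]
      intro a _ b _ hab
      exact add_right_cancel hab
    rw [h2]
    have hsub : (decompose X.gr (φ x)).support ⊆ T.image (fun d => d + g) := by
      intro k hk
      rw [Finset.mem_image]
      refine ⟨k - g, hT (Finset.mem_image_of_mem _ hk), sub_add_cancel k g⟩
    rw [← Finset.sum_subset hsub]
    · exact sum_support_decompose X.gr (φ x)
    · intro k _ hk
      rw [DFinsupp.notMem_support_iff] at hk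
      rw [hk]; rfl
  | add x y hx hy =>
    obtain ⟨Tx, hTx⟩ := hx
    obtain ⟨Ty, hTy⟩ := hy
    refine ⟨Tx ∪ Ty, fun T hT => ?_⟩
    simp only [map_add]
    rw [Finset.sum_add_distrib, hTx T (Finset.union_subset_left hT),
      hTy T (Finset.union_subset_right hT)]

end DegPart

section Extend

variable (B X : GMod.{u} 𝒜) (P : Submodule R B.carrier) (hP : P.IsHomogeneous B.gr)

/-- **extension of arbitrary linear maps**: a linear map from a finitely generated homogeneous
submodule of a graded module into a *injective graded module extends to the whole module. -/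
theorem exists_extension_of_fg (hX : IsStarInj 𝒜 X.gr) (hfg : P.FG)
    (φ : (subGMod B P hP).carrier →ₗ[R] X.carrier) :
    ∃ ψ : B.carrier →ₗ[R] X.carrier, ψ ∘ₗ subIncl B P hP = φ := by
  classical
  let N : GMod.{u} 𝒜 := subGMod B P hP
  -- generators of `N`
  have hfgN : (⊤ : Submodule R N.carrier).FG := by
    have hfin : Module.Finite R P := Module.Finite.iff_fg.mpr hfg
    exact (hfin.fg_top : (⊤ : Submodule R P).FG)
  obtain ⟨S, hS⟩ := hfgN
  choose T₀ hT₀ using fun x : N.carrier => exists_finset_sum_degPart 𝒜 N X φ x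
  let T : Finset ι := S.biUnion T₀
  -- outside `T` the degree parts vanish
  have hvan : ∀ d, d ∉ T → ∀ x : N.carrier, degPartHom 𝒜 N X φ d x = 0 := by
    intro d hd
    have hgen : ∀ s ∈ S, degPartHom 𝒜 N X φ d s = 0 := by
      intro s hs
      have hd' : d ∉ T₀ s := fun h => hd (Finset.mem_biUnion.mpr ⟨s, hs, h⟩)
      have h1 := hT₀ s (T₀ s) (Finset.Subset.refl _)
      have h2 := hT₀ s (insert d (T₀ s)) (Finset.subset_insert _ _)
      rw [Finset.sum_insert hd', h1] at h2
      exact add_eq_right.mp h2
    intro x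
    have hx : x ∈ Submodule.span R (S : Set N.carrier) := by rw [hS]; trivial
    induction hx using Submodule.span_induction with
    | mem s hs => exact hgen s hs
    | zero => exact map_zero _
    | add a b _ _ ha hb => rw [map_add, ha, hb, add_zero]
    | smul r a _ ha => rw [degPartHom_smul, ha, smul_zero]
  -- extend each degree part
  have hext : ∀ d : ι, ∃ ψ : B.carrier →ₗ[R] X.carrier,
      ∀ x : N.carrier, ψ (subIncl B P hP x) = degPartHom 𝒜 N X φ d x := by
    intro d
    obtain ⟨ψ, _, hψ⟩ : ∃ ψ : B.carrier →ₗ[R] (shiftGMod X d).carrier,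
        IsGrHom B.gr (shiftGMod X d).gr ψ ∧ ψ ∘ₗ subIncl B P hP = degPart 𝒜 N X φ d :=
      isStarInj_shiftGMod 𝒜 X hX d N B (subIncl B P hP) (isGrHom_subIncl B P hP)
        (subIncl_injective B P hP) (degPart 𝒜 N X φ d) (isGrHom_degPart 𝒜 N X φ d)
    exact ⟨ψ, fun x => congrArg (fun F : N.carrier →ₗ[R] (shiftGMod X d).carrier => F x) hψ⟩
  choose ψ hψ using hext
  refine ⟨∑ d ∈ T, ψ d, ?_⟩
  ext x
  show (∑ d ∈ T, ψ d) (subIncl B P hP x) = φ x
  rw [LinearMap.sum_apply, Finset.sum_congr rfl (fun d _ => hψ d x)]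
  rw [← hT₀ x (T ∪ T₀ x) Finset.subset_union_right]
  apply Finset.sum_subset Finset.subset_union_left
  intro d _ hd
  exact hvan d hd x

end Extend

end Groth.Agent.H8.Gr
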