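import Mathlib
import Groth.Prelude.Def_GrLC
import Groth.Prelude.Def_Wider
import Groth.Agent.Lib.helper1.InjHull3
import Groth.Agent.Lib.helper8.GrJ
import Groth.Agent.Lib.helper8.DModB

/-!
# Graded modules toolkit, part K (helper8): the *injective envelope of `R ⧸ m` for a graded maximal
ideal `m` is an (ungraded) injective hull.
-/

universe u

set_option linter.unusedSectionVars false

namespace Groth.Agent.H8.Gr

open DirectSum GrLC LocCoh InjHull Groth.Agent.H8.Matlis Groth.Agent.H8.DMod

section Ungraded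

variable {R : Type u} [CommRing R] [IsNoetherianRing R] (m : Ideal R) [hm : m.IsMaximal]
  {E : Type u} [AddCommGroup E] [Module R E]

/-- an essential extension `E` of `R ⧸ m` (`m` maximal, `R` Noetherian) such that every linear map
`m → E` is multiplication by an element of `E` is injective. -/
theorem injective_of_isMaximal_ext (e : (R ⧸ m) →ₗ[R] E) (he : IsEssentialInj e)
    (hext : ∀ φ : m →ₗ[R] E, ∃ y : E, ∀ a : m, φ a = (a : R) • y) : Module.Injective R E := by
  obtain ⟨Q, _, _, ι, hι⟩ := Groth.Agent.Lib.helper1.InjHullLib.exists_injective_hull (R := R) E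
  have hE : IsPowerTorsion m E := by
    apply isPowerTorsion_of_essential' e he m
    rintro a ha _ ⟨z, rfl⟩
    obtain ⟨r, rfl⟩ := Ideal.Quotient.mk_surjective z
    rw [← map_smul]
    have : a • (Ideal.Quotient.mk m r) = 0 := by
      show Ideal.Quotient.mk m (a * r) = 0
      exact Ideal.Quotient.eq_zero_iff_mem.mpr (m.mul_mem_right r ha)
    rw [this, map_zero]
  have hQ : IsPowerTorsion m Q :=
    isPowerTorsion_of_essential_of_isPowerTorsion ι hι.toIsEssentialInj _ hE
  have hsurj : Function.Surjective ι := by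
    by_contra hns
    have hne : ∃ q : Q, q ∉ LinearMap.range ι := by
      by_contra h
      push Not at h
      exact hns fun q => h q
    obtain ⟨q, hq⟩ := hne
    have hQq : IsPowerTorsion m (Q ⧸ LinearMap.range ι) := by
      intro y
      obtain ⟨q', rfl⟩ := Submodule.Quotient.mk_surjective _ y
      obtain ⟨k, hk⟩ := hQ q'
      refine ⟨k, fun a ha => ?_⟩
      rw [← Submodule.Quotient.mk_smul, hk a ha, Submodule.Quotient.mk_zero]
    have hq0 : (Submodule.Quotient.mk q : Q ⧸ LinearMap.range ι) ≠ 0 := by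
      rwa [Ne, Submodule.Quotient.mk_eq_zero]
    obtain ⟨r, hr0, hr⟩ := exists_socle_mem' m hQq hq0
    rw [← Submodule.Quotient.mk_smul, Ne, Submodule.Quotient.mk_eq_zero] at hr0
    have hr' : ∀ b ∈ m, b • (r • q) ∈ LinearMap.range ι := by
      intro b hb
      have := hr b hb
      rwa [← Submodule.Quotient.mk_smul, ← Submodule.Quotient.mk_smul,
        Submodule.Quotient.mk_eq_zero] at this
    -- the linear map `m → E`
    let φ₀ : m →ₗ[R] LinearMap.range ι :=
      LinearMap.codRestrict (LinearMap.range ι)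
        ((LinearMap.toSpanSingleton R Q (r • q)) ∘ₗ m.subtype) (fun b => by
          show (b : R) • (r • q) ∈ LinearMap.range ι
          exact hr' b b.2)
    let φ : m →ₗ[R] E := (LinearEquiv.ofInjective ι hι.injective).symm.toLinearMap ∘ₗ φ₀
    have hφ : ∀ b : m, ι (φ b) = (b : R) • (r • q) := by
      intro b
      have h1 : (LinearEquiv.ofInjective ι hι.injective) (φ b) = φ₀ b :=
        LinearEquiv.apply_symm_apply _ _
      have h2 := congrArg (Subtype.val) h1
      exact h2
    obtain ⟨y, hy⟩ := hext φ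
    set w : Q := r • q - ι y with hw
    have hwk : ∀ a ∈ m, a • w = 0 := by
      intro a ha
      have h1 := hφ ⟨a, ha⟩
      rw [hy ⟨a, ha⟩, map_smul] at h1
      rw [hw, smul_sub, ← h1, sub_self]
    by_cases hw0 : w = 0
    · apply hr0
      have : r • q = ι y := sub_eq_zero.mp hw0
      rw [this]; exact ⟨y, rfl⟩
    · have hne : Submodule.span R {w} ≠ ⊥ := by
        rwa [Ne, Submodule.span_singleton_eq_bot]
      obtain ⟨v, ⟨hv1, hv2⟩, hv0⟩ :=
        Submodule.exists_mem_ne_zero_of_ne_bot (hι.essential _ hne)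
      obtain ⟨a, rfl⟩ := Submodule.mem_span_singleton.mp hv1
      have ha : a ∉ m := fun ham => hv0 (hwk a ham)
      obtain ⟨b, c, hc, hbc⟩ := hm.exists_inv ha
      have hwr : w ∈ LinearMap.range ι := by
        have : w = b • (a • w) := by
          have h3 : (b * a + c) • w = w := by rw [hbc, one_smul]
          rw [add_smul, hwk c hc, add_zero, mul_smul] at h3
          exact h3.symm
        rw [this]
        exact Submodule.smul_mem _ _ hv2
      apply hr0
      have : r • q = w + ι y := by rw [hw]; abel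
      rw [this]
      exact Submodule.add_mem _ hwr ⟨y, rfl⟩
  let eq : E ≃ₗ[R] Q := LinearEquiv.ofBijective ι ⟨hι.injective, hsurj⟩
  exact Module.Baer.injective (Module.Baer.of_equiv eq.symm (Module.Baer.of_injective hι.isInjective))

end Ungraded

section Graded

variable {ι : Type} [AddCommGroup ι] [DecidableEq ι]
variable {R : Type u} [CommRing R] [IsNoetherianRing R] (𝒜 : ι → AddSubgroup R) [GradedRing 𝒜]

/-- restatement of `exists_extension_of_fg` with plain submodule coercions. -/
theorem exists_extension_of_fg' (B X : GMod.{u} 𝒜) (hX : IsStarInj 𝒜 X.gr)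
    (P : Submodule R B.carrier) (hP : P.IsHomogeneous B.gr) (hfg : P.FG)
    (φ : P →ₗ[R] X.carrier) : ∃ ψ : B.carrier →ₗ[R] X.carrier, ∀ a : P, ψ a = φ a := by
  obtain ⟨ψ, hψ⟩ := exists_extension_of_fg 𝒜 B X P hP hX hfg φ
  refine ⟨ψ, fun a => ?_⟩
  exact congrArg (fun F : (subGMod B P hP).carrier →ₗ[R] X.carrier => F a) hψ

/-- every linear map from a homogeneous ideal of a Noetherian graded ring into a *injective module
is multiplication by an element. -/
theorem exists_smul_of_isStarInj (X : GMod.{u} 𝒜) (hX : IsStarInj 𝒜 X.gr) (m : HomogeneousIdeal 𝒜)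
    (φ : m.toIdeal →ₗ[R] X.carrier) : ∃ y : X.carrier, ∀ a : m.toIdeal, φ a = (a : R) • y := by
  obtain ⟨ψ, hψ⟩ : ∃ ψ : R →ₗ[R] X.carrier, ∀ a : m.toIdeal, ψ a = φ a :=
    exists_extension_of_fg' 𝒜 (GMod.of 𝒜 R 𝒜) X hX m.toIdeal m.isHomogeneous
      (IsNoetherian.noetherian (M := R) m.toIdeal : (m.toIdeal).FG) φ
  refine ⟨ψ 1, fun a => ?_⟩
  rw [← hψ a, ← map_smul, smul_eq_mul, mul_one]

/-- the *injective envelope of `R ⧸ m`, `m` a graded maximal ideal, is an injective hull. -/
theorem isInjectiveHull_of_isStarInjHull_quot (m : HomogeneousIdeal 𝒜) [m.toIdeal.IsMaximal]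
    (X : GMod.{u} 𝒜) (e : (R ⧸ m.toIdeal) →ₗ[R] X.carrier)
    (he : IsStarInjHull 𝒜 (quotGr 𝒜 m) X.gr e) : IsInjectiveHull e := by
  have hess : IsEssentialInj e :=
    isEssentialInj_of_isStarEss' 𝒜 (quotGr 𝒜 m) X.gr he.toIsStarEss
      (isHomogeneous_range_e 𝒜 m X.gr e he.grHom)
  exact ⟨hess, injective_of_isMaximal_ext m.toIdeal e hess
    (exists_smul_of_isStarInj 𝒜 X he.starInj m)⟩

end Graded

end Groth.Agent.H8.Gr
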