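import Mathlib
import Groth.Prelude.Def_GrLC
import Groth.Prelude.Def_Wider
import Groth.Agent.Lib.helper8.GrK

/-!
# Graded modules toolkit, part L (helper8): `Ext^i_R(M, I) = 0` for `M` finitely generated graded,
`I` *injective, `i ≥ 1`.
-/

universe u

set_option linter.unusedSectionVars false

namespace Groth.Agent.H8.Gr

open DirectSum GrLC CategoryTheory

section ExtGeneral

variable {R : Type u} [CommRing R]

/-- two out of three for the vanishing of `Ext` in the first variable. -/
theorem subsingleton_ext_of_sub_quot {X : Type u} [AddCommGroup X] [Module R X] (P : Submodule R X)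
    (Y : ModuleCat.{u} R) (k : ℕ)
    (h1 : Subsingleton (Abelian.Ext (ModuleCat.of R P) Y k))
    (h3 : Subsingleton (Abelian.Ext (ModuleCat.of R (X ⧸ P)) Y k)) :
    Subsingleton (Abelian.Ext (ModuleCat.of R X) Y k) := by
  let S : ShortComplex (ModuleCat.{u} R) :=
    ModuleCat.shortComplexOfCompEqZero (P.subtype) (P.mkQ)
      (LinearMap.exact_subtype_mkQ P).linearMap_comp_eq_zero
  have hS : S.ShortExact := ModuleCat.shortComplex_shortExact S
    (LinearMap.exact_subtype_mkQ P) (Submodule.injective_subtype P) (Submodule.mkQ_surjective P)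
  have key : ∀ x : Abelian.Ext (ModuleCat.of R X) Y k, x = 0 := by
    intro x
    have h1' : Subsingleton (Abelian.Ext S.X₁ Y k) := h1
    have h3' : Subsingleton (Abelian.Ext S.X₃ Y k) := h3
    obtain ⟨x₁, hx₁⟩ := Abelian.Ext.contravariant_sequence_exact₂ hS Y (x : Abelian.Ext S.X₂ Y k)
      (Subsingleton.elim _ _)
    rw [← hx₁, Subsingleton.elim x₁ 0, Abelian.Ext.comp_zero]
  exact ⟨fun x y => by rw [key x, key y]⟩

end ExtGeneral

variable {ι : Type} [AddCommGroup ι] [DecidableEq ι]
variable {R : Type u} [CommRing R] [IsNoetherianRing R] (𝒜 : ι → AddSubgroup R) [GradedRing 𝒜]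

section Ann

variable {M : Type u} [AddCommGroup M] [Module R M] (ℳ : ι → AddSubgroup M)
  [DirectSum.Decomposition ℳ] [SetLike.GradedSMul 𝒜 ℳ]

/-- the annihilator of a homogeneous element is a homogeneous ideal (no hypothesis on `ι`). -/
theorem isHomogeneous_annihilator_span_singleton' {m : M} {g : ι} (hm : m ∈ ℳ g) :
    (Submodule.span R {m}).annihilator.IsHomogeneous 𝒜 := by
  intro k r hr
  rw [Submodule.mem_annihilator_span_singleton] at hr ⊢
  have hcomp : ∀ (r : R), (decompose ℳ (r • m) (k + g) : M) = (decompose 𝒜 r k : R) • m := by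
    intro r
    induction r using Decomposition.inductionOn 𝒜 with
    | zero => simp
    | @homogeneous h r =>
      have hmem : (r : R) • m ∈ ℳ (h + g) := smul_mem_piece 𝒜 ℳ r.2 hm
      by_cases hk : h = k
      · subst hk
        rw [decompose_of_mem_same ℳ hmem, decompose_of_mem_same 𝒜 r.2]
      · have h2 : h + g ≠ k + g := fun e => hk (add_right_cancel e)
        rw [decompose_of_mem_ne ℳ hmem h2, decompose_of_mem_ne 𝒜 r.2 hk, zero_smul]
    | add r r' hr hr' =>
      rw [add_smul, decompose_add, DirectSum.add_apply, AddSubgroup.coe_add, hr, hr',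
        decompose_add, DirectSum.add_apply, AddSubgroup.coe_add, add_smul]
  rw [← hcomp, hr, decompose_zero]
  rfl

end Ann

section Cyclic

/-- the cyclic case, by dimension shifting along `0 → ann b → R → B → 0`. -/
theorem subsingleton_ext_cyclic (X : GMod.{u} 𝒜) (hX : IsStarInj 𝒜 X.gr) (k : ℕ)
    (ih : k ≠ 0 → ∀ B : GMod.{u} 𝒜, Module.Finite R B.carrier →
      Subsingleton (Abelian.Ext (ModuleCat.of R B.carrier) (ModuleCat.of R X.carrier) k))
    (B : GMod.{u} 𝒜) (b : B.carrier) (d : ι) (hb : b ∈ B.gr d)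
    (hspan : Submodule.span R {b} = ⊤) :
    Subsingleton (Abelian.Ext (ModuleCat.of R B.carrier) (ModuleCat.of R X.carrier) (k + 1)) := by
  let φ : R →ₗ[R] B.carrier := LinearMap.toSpanSingleton R B.carrier b
  have hφ : Function.Surjective φ := by
    intro y
    have : y ∈ Submodule.span R {b} := hspan ▸ Submodule.mem_top
    obtain ⟨r, rfl⟩ := Submodule.mem_span_singleton.mp this
    exact ⟨r, rfl⟩
  let J : Ideal R := LinearMap.ker φ
  have hJ : J.IsHomogeneous 𝒜 := by
    have := isHomogeneous_annihilator_span_singleton' 𝒜 B.gr hb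
    rwa [Submodule.annihilator_span_singleton] at this
  have hexact : Function.Exact (J.subtype : J →ₗ[R] R) φ := by
    intro r
    constructor
    · intro hr
      exact ⟨⟨r, hr⟩, rfl⟩
    · rintro ⟨a, rfl⟩
      exact a.2
  let S : ShortComplex (ModuleCat.{u} R) :=
    ModuleCat.shortComplexOfCompEqZero (J.subtype : J →ₗ[R] R) φ hexact.linearMap_comp_eq_zero
  have hS : S.ShortExact := ModuleCat.shortComplex_shortExact S hexact
    (Submodule.injective_subtype J) hφ
  let Y : ModuleCat.{u} R := ModuleCat.of R X.carrier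
  have key : ∀ x : Abelian.Ext S.X₃ Y (k + 1), x = 0 := by
    intro x
    have : Projective S.X₂ := by
      show Projective (ModuleCat.of R R)
      infer_instance
    have h2 : (Abelian.Ext.mk₀ S.g).comp x (zero_add (k + 1)) = 0 :=
      Abelian.Ext.eq_zero_of_projective _
    obtain ⟨x₁, rfl⟩ := Abelian.Ext.contravariant_sequence_exact₃ hS Y x h2
      (show 1 + k = k + 1 from add_comm 1 k)
    by_cases hk : k = 0
    · subst hk
      obtain ⟨f, rfl⟩ := (Abelian.Ext.mk₀_bijective _ _).2 x₁
      obtain ⟨y, hy⟩ := exists_smul_of_isStarInj 𝒜 X hX ⟨J, hJ⟩ f.hom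
      let ψ : S.X₂ ⟶ Y := ModuleCat.ofHom (LinearMap.toSpanSingleton R X.carrier y)
      have hfψ : f = S.f ≫ ψ := by
        ext a
        exact hy a
      rw [hfψ, ← Abelian.Ext.mk₀_comp_mk₀]
      exact hS.extClass_comp_assoc _
    · have hfin : Module.Finite R (subGMod (GMod.of 𝒜 R 𝒜) J hJ).carrier :=
        (Module.Finite.iff_fg.mpr (IsNoetherian.noetherian (M := R) J) : Module.Finite R J)
      have hsub : Subsingleton (Abelian.Ext S.X₁ Y k) :=
        ih hk (subGMod (GMod.of 𝒜 R 𝒜) J hJ) hfin
      rw [Subsingleton.elim x₁ 0, Abelian.Ext.comp_zero]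
  exact ⟨fun x y => (key x).trans (key y).symm⟩

end Cyclic

section Generators

/-- a finitely generated graded module has a finite set of homogeneous generators. -/
theorem exists_homogeneous_generators (B : GMod.{u} 𝒜) [Module.Finite R B.carrier] :
    ∃ S : Finset B.carrier, (∀ x ∈ S, ∃ d, x ∈ B.gr d) ∧
      Submodule.span R (S : Set B.carrier) = ⊤ := by
  classical
  obtain ⟨s, hs⟩ := (Module.Finite.fg_top : (⊤ : Submodule R B.carrier).FG)
  let T : Finset B.carrier :=
    s.biUnion fun x => (DFinsupp.support (decompose B.gr x)).image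
      fun g => ((decompose B.gr x g : B.gr g) : B.carrier)
  refine ⟨T, ?_, ?_⟩
  · intro x hx
    obtain ⟨y, _, hy⟩ := Finset.mem_biUnion.mp hx
    obtain ⟨g, _, rfl⟩ := Finset.mem_image.mp hy
    exact ⟨g, (decompose B.gr y g).2⟩
  · rw [eq_top_iff, ← hs, Submodule.span_le]
    intro x hx
    rw [← DirectSum.sum_support_decompose B.gr x]
    apply Submodule.sum_mem
    intro g hg
    apply Submodule.subset_span
    exact Finset.mem_biUnion.mpr ⟨x, hx, Finset.mem_image.mpr ⟨g, hg, rfl⟩⟩

/-- induction on the number of homogeneous generators. -/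
theorem subsingleton_ext_of_generators (X : GMod.{u} 𝒜) (hX : IsStarInj 𝒜 X.gr) (k : ℕ)
    (ih : k ≠ 0 → ∀ B : GMod.{u} 𝒜, Module.Finite R B.carrier →
      Subsingleton (Abelian.Ext (ModuleCat.of R B.carrier) (ModuleCat.of R X.carrier) k)) :
    ∀ (n : ℕ) (B : GMod.{u} 𝒜) (S : Finset B.carrier), S.card ≤ n →
      (∀ x ∈ S, ∃ d, x ∈ B.gr d) → Submodule.span R (S : Set B.carrier) = ⊤ →
      Subsingleton (Abelian.Ext (ModuleCat.of R B.carrier) (ModuleCat.of R X.carrier) (k + 1)) := by
  classical
  intro n
  induction n with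
  | zero =>
    intro B S hcard _ hspan
    have hS : S = ∅ := Finset.card_eq_zero.mp (Nat.le_zero.mp hcard)
    rw [hS, Finset.coe_empty, Submodule.span_empty] at hspan
    apply subsingleton_ext_cyclic 𝒜 X hX k ih B 0 0 (zero_mem _)
    rw [← hspan]
    exact Submodule.span_zero_singleton R
  | succ n ihn =>
    intro B S hcard hhom hspan
    by_cases hS : S = ∅
    · exact ihn B S (by rw [hS]; simp) hhom hspan
    obtain ⟨x, hx⟩ := Finset.nonempty_iff_ne_empty.mpr hS
    obtain ⟨d, hd⟩ := hhom x hx
    let P : Submodule R B.carrier := Submodule.span R {x}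
    have hP : P.IsHomogeneous B.gr := isHomogeneous_span_singleton 𝒜 B.gr hd
    have hxP : x ∈ P := Submodule.mem_span_singleton_self x
    -- the submodule
    have h1 : Subsingleton (Abelian.Ext (ModuleCat.of R (subGMod B P hP).carrier)
        (ModuleCat.of R X.carrier) (k + 1)) := by
      apply subsingleton_ext_cyclic 𝒜 X hX k ih (subGMod B P hP) (⟨x, hxP⟩ : P) d hd
      rw [eq_top_iff]
      rintro ⟨y, hy⟩ _
      obtain ⟨r, rfl⟩ := Submodule.mem_span_singleton.mp hy
      exact Submodule.mem_span_singleton.mpr ⟨r, rfl⟩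
    -- the quotient
    have hspanQ : Submodule.span R
        (((S.erase x).image (P.mkQ : B.carrier → B.carrier ⧸ P) : Finset (B.carrier ⧸ P)) :
          Set (B.carrier ⧸ P)) = ⊤ := by
      rw [Finset.coe_image, ← Submodule.map_span]
      rw [eq_top_iff]
      intro y _
      obtain ⟨z, rfl⟩ := Submodule.Quotient.mk_surjective P y
      have hz : z ∈ Submodule.span R ((insert x (S.erase x) : Finset B.carrier) : Set B.carrier) := by
        rw [Finset.insert_erase hx, hspan]; trivial
      rw [Finset.coe_insert, Submodule.span_insert] at hz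
      obtain ⟨p, hp, q, hq, rfl⟩ := Submodule.mem_sup.mp hz
      refine ⟨q, hq, ?_⟩
      show P.mkQ q = P.mkQ (p + q)
      have hp0 : P.mkQ p = 0 := (Submodule.Quotient.mk_eq_zero P).mpr hp
      rw [map_add, hp0, zero_add]
    have h3 : Subsingleton (Abelian.Ext (ModuleCat.of R (quotGMod B P hP).carrier)
        (ModuleCat.of R X.carrier) (k + 1)) := by
      apply ihn (quotGMod B P hP) ((S.erase x).image (P.mkQ : B.carrier → B.carrier ⧸ P))
      · refine Finset.card_image_le.trans ?_
        rw [Finset.card_erase_of_mem hx]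
        omega
      · intro y hy
        obtain ⟨z, hz, rfl⟩ := Finset.mem_image.mp hy
        obtain ⟨d', hd'⟩ := hhom z (Finset.mem_of_mem_erase hz)
        exact ⟨d', isGrHom_mkQ B P hP d' z hd'⟩
      · exact hspanQ
    exact subsingleton_ext_of_sub_quot P (ModuleCat.of R X.carrier) (k + 1) h1 h3

end Generators

section Main

/-- `Ext^i_R(B, X) = 0` for `B` finitely generated graded, `X` *injective, `i ≥ 1`. -/
theorem subsingleton_ext_of_isStarInj (X : GMod.{u} 𝒜) (hX : IsStarInj 𝒜 X.gr) :
    ∀ (k : ℕ) (B : GMod.{u} 𝒜), Module.Finite R B.carrier →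
      Subsingleton (Abelian.Ext (ModuleCat.of R B.carrier) (ModuleCat.of R X.carrier) (k + 1)) := by
  intro k
  induction k with
  | zero =>
    intro B hB
    obtain ⟨S, hhom, hspan⟩ := exists_homogeneous_generators 𝒜 B
    exact subsingleton_ext_of_generators 𝒜 X hX 0 (fun h => absurd rfl h) S.card B S le_rfl
      hhom hspan
  | succ k ihk =>
    intro B hB
    obtain ⟨S, hhom, hspan⟩ := exists_homogeneous_generators 𝒜 B
    exact subsingleton_ext_of_generators 𝒜 X hX (k + 1) (fun _ => ihk) S.card B S le_rfl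
      hhom hspan

end Main

end Groth.Agent.H8.Gr
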