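import Mathlib
import Groth.Prelude.Def_GrLC
import Groth.Prelude.Def_Wider
import Groth.Agent.Lib.helper8.GrL
import Groth.Agent.Lib.helper21.LC8

/-!
# Graded local cohomology, part A (helper8): *injective modules are acyclic for `Γ_a`
(`a` a graded ideal), via helper21's local cohomology library.
-/

universe u

set_option linter.unusedSectionVars false

namespace Groth.Agent.H8.Gr

open DirectSum GrLC LocCoh CategoryTheory

variable {ι : Type} [AddCommGroup ι] [DecidableEq ι]
variable {R : Type u} [CommRing R] (𝒜 : ι → AddSubgroup R) [GradedRing 𝒜]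

variable [IsNoetherianRing R] [Module.Free ℤ ι] [Module.Finite ℤ ι]

/-- `Ext^{k+1}(R ⧸ a^n, X) = 0` for `X` *injective and `a` a graded ideal. -/
theorem subsingleton_ext_quot_pow (X : GMod.{u} 𝒜) (hX : IsStarInj 𝒜 X.gr)
    (a : HomogeneousIdeal 𝒜) (n k : ℕ) :
    Subsingleton (Abelian.Ext (ModuleCat.of R (R ⧸ a.toIdeal ^ n))
      (ModuleCat.of R X.carrier) (k + 1)) := by
  let B : GMod.{u} 𝒜 := quotGMod (GMod.of 𝒜 R 𝒜) (a.toIdeal ^ n)
    (isHomogeneous_pow 𝒜 a.isHomogeneous n)
  have hfin : Module.Finite R B.carrier :=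
    (Module.Finite.quotient R ((a.toIdeal ^ n : Ideal R) : Submodule R R) :
      Module.Finite R (R ⧸ a.toIdeal ^ n))
  exact subsingleton_ext_of_isStarInj 𝒜 X hX k B hfin

/-- a *injective module is acyclic for local cohomology with support in a graded ideal. -/
theorem subsingleton_H_of_isStarInj (X : GMod.{u} 𝒜) (hX : IsStarInj 𝒜 X.gr)
    (a : HomogeneousIdeal 𝒜) (k : ℕ) :
    Subsingleton (LocCoh.H a.toIdeal (k + 1) X.carrier) := by
  have h0 : ∀ z : LocCoh.H a.toIdeal (k + 1) X.carrier, z = 0 := by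
    intro z
    obtain ⟨n, w, rfl⟩ :=
      Groth.Agent.H21.LC.ιH_surj a.toIdeal (k + 1) (ModuleCat.of R X.carrier) z
    have := subsingleton_ext_quot_pow 𝒜 X hX a n k
    rw [Subsingleton.elim w 0, map_zero]
  exact ⟨fun x y => by rw [h0 x, h0 y]⟩

end Groth.Agent.H8.Gr
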