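import Mathlib
import Groth.Prelude.Def_GrLC
import Groth.Prelude.Def_Wider
import Groth.Agent.Lib.helper8.GrLCA

/-!
# Graded local cohomology, part B (helper8): local cohomology computed from a *injective resolution
agrees with `LocCoh.H`.
-/

universe u

set_option linter.unusedSectionVars false

namespace Groth.Agent.H8.Gr

open DirectSum GrLC LocCoh CategoryTheory Groth.Agent.H21.LC

section Res

variable {ι : Type} [AddCommGroup ι] [DecidableEq ι]
variable {R : Type u} [CommRing R] {𝒜 : ι → AddSubgroup R} [GradedRing 𝒜]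
variable {M : Type u} [AddCommGroup M] [Module R M] {ℳ : ι → AddSubgroup M}
  [DirectSum.Decomposition ℳ] [SetLike.GradedSMul 𝒜 ℳ] (E : StarInjRes 𝒜 ℳ)
  (a : HomogeneousIdeal 𝒜)

/-- the cocycles `ker (d n)`. -/
abbrev Zc (n : ℕ) : Submodule R (E.X n).carrier := LinearMap.ker (E.d n)

/-- `d n` as a map onto the next cocycles. -/
def dZ (n : ℕ) : (E.X n).carrier →ₗ[R] ↥(Zc E (n + 1)) :=
  (E.d n).codRestrict _ (fun x => by
    show E.d n x ∈ LinearMap.ker (E.d (n + 1))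
    rw [E.exact_succ n]
    exact ⟨x, rfl⟩)

theorem dZ_apply (n : ℕ) (x : (E.X n).carrier) : (dZ E n x : (E.X (n + 1)).carrier) = E.d n x := rfl

theorem dZ_surjective (n : ℕ) : Function.Surjective (dZ E n) := by
  rintro ⟨y, hy⟩
  have hy' : y ∈ LinearMap.ker (E.d (n + 1)) := hy
  rw [E.exact_succ n] at hy'
  obtain ⟨x, rfl⟩ := hy'
  exact ⟨x, Subtype.ext rfl⟩

theorem exact_subtype_dZ (n : ℕ) : Function.Exact (Zc E n).subtype (dZ E n) := by
  intro x
  constructor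
  · intro hx
    have : E.d n x = 0 := congrArg Subtype.val hx
    exact ⟨⟨x, this⟩, rfl⟩
  · rintro ⟨z, rfl⟩
    apply Subtype.ext
    exact z.2

/-- the short exact sequence `0 → Z^n → X^n → Z^{n+1} → 0`. -/
noncomputable def SCn (n : ℕ) : ShortComplex (ModuleCat.{u} R) :=
  ModuleCat.shortComplexOfCompEqZero (Zc E n).subtype (dZ E n)
    (exact_subtype_dZ E n).linearMap_comp_eq_zero

theorem SCn_shortExact (n : ℕ) : (SCn E n).ShortExact :=
  ModuleCat.shortComplex_shortExact _ (exact_subtype_dZ E n) (Submodule.injective_subtype _)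
    (dZ_surjective E n)

/-- cocycles of `Γ_a(E)` are the torsion elements of `Z^n`. -/
def cocycEquiv (n : ℕ) : ↥(E.cocyc a n) ≃ₗ[R] ↥(DRing.torsionSub a.toIdeal ↥(Zc E n)) where
  toFun z := ⟨⟨z.1, z.2.2⟩, by
    obtain ⟨m, hm⟩ := z.2.1
    exact ⟨m, fun r hr => Subtype.ext (hm r hr)⟩⟩
  invFun w := ⟨w.1.1, ⟨by
    obtain ⟨m, hm⟩ := w.2
    exact ⟨m, fun r hr => congrArg Subtype.val (hm r hr)⟩, w.1.2⟩⟩
  map_add' _ _ := rfl
  map_smul' _ _ := rfl
  left_inv _ := rfl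
  right_inv _ := rfl

theorem cocycEquiv_coe (n : ℕ) (z : ↥(E.cocyc a n)) :
    ((cocycEquiv E a n z : ↥(Zc E n)) : (E.X n).carrier) = z.1 := rfl

variable (hacyc : ∀ n k, Subsingleton (LocCoh.H a.toIdeal (k + 1) (E.X n).carrier))

include hacyc in
theorem stepA (n k : ℕ) :
    Nonempty (LocCoh.H a.toIdeal (k + 1) ↥(Zc E (n + 1)) ≃ₗ[R]
      LocCoh.H a.toIdeal (k + 2) ↥(Zc E n)) := by
  have hb := δ_bijective_of_subsingleton a.toIdeal (SCn_shortExact E n) (k + 1)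
    (hacyc n k) (hacyc n (k + 1))
  exact ⟨LinearEquiv.ofBijective (δ a.toIdeal (SCn_shortExact E n) (k + 1)) hb⟩

/-- the map from cocycles to `H¹(Z^n)`. -/
noncomputable def cocycToH1 (n : ℕ) :
    ↥(E.cocyc a (n + 1)) →ₗ[R] (localCohomology a.toIdeal (0 + 1)).obj (SCn E n).X₁ :=
  (δ a.toIdeal (SCn_shortExact E n) 0).comp
    (((H0Equiv a.toIdeal (SCn E n).X₃).symm.toLinearMap).comp
      (cocycEquiv E a (n + 1)).toLinearMap)

theorem cocycToH1_apply (n : ℕ) (z : ↥(E.cocyc a (n + 1))) :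
    cocycToH1 E a n z = δ a.toIdeal (SCn_shortExact E n) 0
      ((H0Equiv a.toIdeal (SCn E n).X₃).symm (cocycEquiv E a (n + 1) z)) := rfl

include hacyc in
theorem cocycToH1_surjective (n : ℕ) : Function.Surjective (cocycToH1 E a n) := by
  intro c
  have h1 := exact₁ a.toIdeal (SCn_shortExact E n) 0 c
  obtain ⟨w, hw⟩ := h1.1 (@Subsingleton.elim _ (hacyc n 0) _ _)
  refine ⟨(cocycEquiv E a (n + 1)).symm (H0Equiv a.toIdeal (SCn E n).X₃ w), ?_⟩
  rw [cocycToH1_apply, LinearEquiv.apply_symm_apply, LinearEquiv.symm_apply_apply]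
  exact hw

theorem ker_cocycToH1 (n : ℕ) :
    LinearMap.ker (cocycToH1 E a n) = (E.cobdy a (n + 1)).comap (E.cocyc a (n + 1)).subtype := by
  ext z
  rw [LinearMap.mem_ker, Submodule.mem_comap, cocycToH1_apply]
  obtain ⟨w₀, hw₀⟩ : ∃ w₀ : (localCohomology a.toIdeal 0).obj (SCn E n).X₃,
      w₀ = (H0Equiv a.toIdeal (SCn E n).X₃).symm (cocycEquiv E a (n + 1) z) := ⟨_, rfl⟩
  rw [← hw₀, exact₃ a.toIdeal (SCn_shortExact E n) 0 w₀]
  have htoM : toM a.toIdeal (SCn E n).X₃ w₀ = (cocycEquiv E a (n + 1) z : ↥(Zc E (n + 1))) := by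
    rw [← H0Equiv_apply, hw₀, LinearEquiv.apply_symm_apply]
  constructor
  · rintro ⟨w, hw⟩
    have h1 := congrArg (toM a.toIdeal (SCn E n).X₃) hw
    rw [toM_map, htoM] at h1
    refine ⟨toM a.toIdeal (SCn E n).X₂ w, ?_, ?_⟩
    · have := (H0Equiv a.toIdeal (SCn E n).X₂ w).2
      rw [H0Equiv_apply] at this
      exact this
    · exact congrArg Subtype.val h1
  · rintro ⟨x, hx, hxz⟩
    have hx' : x ∈ DRing.torsionSub a.toIdeal (SCn E n).X₂ := hx
    refine ⟨(H0Equiv a.toIdeal (SCn E n).X₂).symm ⟨x, hx'⟩, ?_⟩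
    apply toM_injective
    rw [toM_map, htoM, ← H0Equiv_apply, LinearEquiv.apply_symm_apply]
    apply Subtype.ext
    exact hxz

include hacyc in
theorem stepB (n : ℕ) :
    Nonempty (LocCoh.H a.toIdeal 1 ↥(Zc E n) ≃ₗ[R] E.H a (n + 1)) := by
  have e1 := (cocycToH1 E a n).quotKerEquivOfSurjective (cocycToH1_surjective E a hacyc n)
  have e2 := Submodule.quotEquivOfEq _ _ (ker_cocycToH1 E a n)
  have e3 : ((localCohomology a.toIdeal (0 + 1)).obj (SCn E n).X₁) ≃ₗ[R] E.H a (n + 1) :=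
    (e2.symm.trans e1).symm
  exact ⟨e3⟩

theorem cast_equiv {X : Type u} [AddCommGroup X] [Module R X] {m m' : ℕ} (h : m = m')
    (e : Nonempty (X ≃ₗ[R] E.H a m)) : Nonempty (X ≃ₗ[R] E.H a m') := by
  subst h
  exact e

include hacyc in
theorem stepAll (k : ℕ) : ∀ n : ℕ,
    Nonempty (LocCoh.H a.toIdeal (k + 1) ↥(Zc E n) ≃ₗ[R] E.H a (n + k + 1)) := by
  induction k with
  | zero => exact fun n => stepB E a hacyc n
  | succ k ih =>
    intro n
    obtain ⟨e1⟩ := stepA E a hacyc n k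
    obtain ⟨e2⟩ := ih (n + 1)
    exact cast_equiv E a (by omega) ⟨e1.symm.trans e2⟩

/-- `M ≃ Z^0`. -/
noncomputable def augEquiv : M ≃ₗ[R] ↥(Zc E 0) :=
  (LinearEquiv.ofInjective E.ε E.ε_injective).trans (LinearEquiv.ofEq _ _ E.exact_zero.symm)

theorem H_congr {X Y : Type u} [AddCommGroup X] [Module R X] [AddCommGroup Y] [Module R Y]
    (e : X ≃ₗ[R] Y) (I : Ideal R) (i : ℕ) : Nonempty (LocCoh.H I i X ≃ₗ[R] LocCoh.H I i Y) :=
  ⟨((localCohomology I i).mapIso e.toModuleIso).toLinearEquiv⟩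

theorem H0_equiv : Nonempty (LocCoh.H a.toIdeal 0 ↥(Zc E 0) ≃ₗ[R] E.H a 0) := by
  have e1 := H0Equiv a.toIdeal (ModuleCat.of R ↥(Zc E 0))
  have e2 := cocycEquiv E a 0
  have hbot : (E.cobdy a 0).comap (E.cocyc a 0).subtype = ⊥ := by
    show (⊥ : Submodule R (E.X 0).carrier).comap (E.cocyc a 0).subtype = ⊥
    rw [Submodule.comap_bot]
    exact LinearMap.ker_eq_bot.mpr (Submodule.injective_subtype _)
  have e3 : E.H a 0 ≃ₗ[R] ↥(E.cocyc a 0) :=
    (Submodule.quotEquivOfEq _ _ hbot).trans (Submodule.quotEquivOfEqBot ⊥ rfl)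
  exact ⟨e1.trans (e2.symm.trans e3.symm)⟩

include hacyc in
theorem nonempty_H_equiv (i : ℕ) : Nonempty (E.H a i ≃ₗ[R] LocCoh.H a.toIdeal i M) := by
  obtain ⟨e0⟩ := H_congr (augEquiv E) a.toIdeal i
  cases i with
  | zero =>
    obtain ⟨e1⟩ := H0_equiv E a
    exact ⟨(e0.trans e1).symm⟩
  | succ k =>
    obtain ⟨e1⟩ := cast_equiv E a (by omega : 0 + k + 1 = k + 1) (stepAll E a hacyc k 0)
    exact ⟨(e0.trans e1).symm⟩

end Res

end Groth.Agent.H8.Gr
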