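import Mathlib
import Groth.Prelude.Def_GrLC
import Groth.Prelude.Def_Wider
import Groth.Agent.Lib.helper8.GrLCB

/-!
# Graded local cohomology, part C (helper8): general facts on `LocCoh.H`: torsion of elements,
scalar multiplication through functoriality, vanishing when an element of the ideal acts bijectively.
-/

universe u

set_option linter.unusedSectionVars false

namespace Groth.Agent.H8.Gr

open LocCoh CategoryTheory Abelian Groth.Agent.H21.LC

section General

variable {R : Type u} [CommRing R] (I : Ideal R)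

/-- scalars killing `R ⧸ I^n` kill `Ext (R ⧸ I^n) M`. -/
theorem ext_smul_eq_zero_of_mem_pow (n i : ℕ) (M : ModuleCat.{u} R) {r : R} (hr : r ∈ I ^ n)
    (y : Ext (Q I n) M i) : r • y = 0 := by
  have h1 : r • y = (Ext.mk₀ (r • 𝟙 (Q I n))).comp y (zero_add i) := by
    rw [Ext.mk₀_smul, Ext.smul_comp, Ext.mk₀_id_comp]
  have h2 : r • 𝟙 (Q I n) = 0 := by
    refine ModuleCat.hom_ext (LinearMap.ext fun x => ?_)
    obtain ⟨s, rfl⟩ := Ideal.Quotient.mk_surjective x
    show r • (Ideal.Quotient.mk (I ^ n) s) = 0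
    rw [← Ideal.Quotient.mk_eq_mk, ← Submodule.Quotient.mk_smul, Ideal.Quotient.mk_eq_mk,
      Ideal.Quotient.eq_zero_iff_mem, smul_eq_mul]
    exact Ideal.mul_mem_right _ _ hr
  rw [h1, h2, Ext.mk₀_zero, Ext.zero_comp]

/-- every element of `H^i_I(M)` is killed by a power of `I`. -/
theorem exists_pow_smul_eq_zero_H (i : ℕ) (M : ModuleCat.{u} R)
    (x : (localCohomology I i).obj M) : ∃ n : ℕ, ∀ r ∈ I ^ n, r • x = 0 := by
  obtain ⟨n, y, rfl⟩ := ιH_surj I i M x
  refine ⟨n, fun r hr => ?_⟩
  rw [← map_smul, ext_smul_eq_zero_of_mem_pow I n i M hr, map_zero]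

/-- the map induced by `r • 𝟙` is multiplication by `r`. -/
theorem map_smul_id_apply (i : ℕ) (M : ModuleCat.{u} R) (r : R)
    (x : (localCohomology I i).obj M) :
    ((localCohomology I i).map (r • 𝟙 M)).hom x = r • x := by
  obtain ⟨n, y, rfl⟩ := ιH_surj I i M x
  rw [map_ιH, ← map_smul]
  congr 1
  rw [Ext.mk₀_smul, Ext.comp_smul, Ext.comp_mk₀_id]

/-- if an element of `I` acts bijectively on `M` then `H^i_I(M) = 0`. -/
theorem subsingleton_H_of_smul_bijective (M : Type u) [AddCommGroup M] [Module R M] {f : R}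
    (hf : f ∈ I) (hbij : Function.Bijective (fun x : M => f • x)) (i : ℕ) :
    Subsingleton (LocCoh.H I i M) := by
  let μ : M ≃ₗ[R] M := LinearEquiv.ofBijective (LinearMap.lsmul R M f) hbij
  have hμ : μ.toModuleIso.hom = f • 𝟙 (ModuleCat.of R M) := by
    refine ModuleCat.hom_ext (LinearMap.ext fun x => ?_)
    rfl
  have hinj : Function.Injective (fun x : LocCoh.H I i M => f • x) := by
    have hiso : IsIso ((localCohomology I i).map (f • 𝟙 (ModuleCat.of R M))) := by
      rw [← hμ]
      infer_instance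
    have hb : Function.Bijective ((localCohomology I i).map (f • 𝟙 (ModuleCat.of R M))).hom :=
      (ConcreteCategory.isIso_iff_bijective _).mp hiso
    intro x y hxy
    apply hb.1
    rw [map_smul_id_apply, map_smul_id_apply]
    exact hxy
  have hpow : ∀ n : ℕ, ∀ x : LocCoh.H I i M, f ^ n • x = 0 → x = 0 := by
    intro n
    induction n with
    | zero => intro x hx; simpa using hx
    | succ n ih =>
      intro x hx
      apply ih
      apply hinj
      show f • (f ^ n • x) = f • 0
      rw [smul_zero, ← mul_smul, ← pow_succ']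
      exact hx
  have h0 : ∀ x : LocCoh.H I i M, x = 0 := by
    intro x
    obtain ⟨n, hn⟩ := exists_pow_smul_eq_zero_H I i (ModuleCat.of R M) x
    exact hpow n x (hn _ (Ideal.pow_mem_pow hf n))
  exact ⟨fun x y => by rw [h0 x, h0 y]⟩

end General

end Groth.Agent.H8.Gr
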