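import Mathlib
import Groth.Prelude.Def_GrLC
import Groth.Prelude.Def_Wider
import Groth.Agent.Lib.helper8.GrLCC
import Groth.Agent.Lib.helper8.GrI
import Groth.Agent.Lib.helper21.LC9

/-!
# Graded local cohomology, part D (helper8): `ℤ`-graded modules over a non-negatively graded ring
(pieces `AddSubgroup`s): components of `r • x`, a small graded Nakayama, the filtration `M_{≥ n}`,
and vanishing of `H^i_{R_+}(M)`, `i ≥ 1`, iff `M_n = 0` for `n ≫ 0`.
-/

universe u

set_option linter.unusedSectionVars false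

namespace Groth.Agent.H8.Gr

open DirectSum GrLC LocCoh CategoryTheory Groth.Agent.H21.LC

section IntGraded

variable {R : Type u} [CommRing R] (𝒜 : ℤ → AddSubgroup R) [GradedRing 𝒜]
  {M : Type u} [AddCommGroup M] [Module R M] (ℳ : ℤ → AddSubgroup M)
  [DirectSum.Decomposition ℳ] [SetLike.GradedSMul 𝒜 ℳ]

/-- the irrelevant ideal. -/
abbrev irrI : Ideal R := Ideal.span (⋃ n ∈ Set.Ioi (0 : ℤ), (𝒜 n : Set R))

theorem ring_piece_eq_zero_of_neg (hpos : ∀ n : ℤ, n < 0 → 𝒜 n = ⊥) (r : R) {c : ℤ} (hc : c < 0) :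
    (decompose 𝒜 r c : R) = 0 := by
  have h3 : ∀ z ∈ 𝒜 c, z = 0 := by
    rw [hpos c hc]
    intro z hz
    exact (AddSubgroup.mem_bot).mp hz
  exact h3 _ (SetLike.coe_mem _)

open Classical in
/-- the general formula for the components of `r • x`. -/
theorem coe_decompose_smul_gen (r : R) (x : M) (n : ℤ) :
    (decompose ℳ (r • x) n : M) =
      ∑ c ∈ DFinsupp.support (decompose 𝒜 r), (decompose 𝒜 r c : R) • (decompose ℳ x (n - c) : M) := by
  conv_lhs => rw [← DirectSum.sum_support_decompose 𝒜 r]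
  rw [Finset.sum_smul, decompose_sum, DFinsupp.finsetSum_apply, AddSubmonoidClass.coe_finsetSum]
  apply Finset.sum_congr rfl
  intro c _
  exact coe_decompose_smul_of_mem' 𝒜 ℳ (SetLike.coe_mem _) x n

theorem decompose_eq_zero_of_mem_irr (hpos : ∀ n : ℤ, n < 0 → 𝒜 n = ⊥) {x : R}
    (hx : x ∈ irrI 𝒜) (j : ℤ) (hj : j ≤ 0) : (decompose 𝒜 x j : R) = 0 := by
  induction hx using Submodule.span_induction generalizing j with
  | mem y hy =>
    simp only [Set.mem_iUnion, Set.mem_Ioi, SetLike.mem_coe] at hy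
    obtain ⟨n, hn, hy⟩ := hy
    exact decompose_of_mem_ne 𝒜 hy (by omega)
  | zero => simp
  | add a b _ _ ha hb =>
    rw [decompose_add]
    simp only [DirectSum.add_apply, AddSubgroup.coe_add, ha j hj, hb j hj, add_zero]
  | smul r y _ hy =>
    classical
    rw [smul_eq_mul]
    conv_lhs => rw [← DirectSum.sum_support_decompose 𝒜 r]
    rw [Finset.sum_mul, decompose_sum, DFinsupp.finsetSum_apply, AddSubmonoidClass.coe_finsetSum]
    apply Finset.sum_eq_zero
    intro i _
    have h1 : j = i + (j - i) := by ring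
    rw [h1, coe_decompose_mul_add_of_left_mem 𝒜 (SetLike.coe_mem _)]
    by_cases hi : i < 0
    · rw [ring_piece_eq_zero_of_neg 𝒜 hpos r hi, zero_mul]
    · rw [hy (j - i) (by omega), mul_zero]

theorem coe_decompose_smul_right {z : M} {j : ℤ} (hz : z ∈ ℳ j) (r : R) (n : ℤ) :
    (decompose ℳ (r • z) n : M) = (decompose 𝒜 r (n - j) : R) • z := by
  classical
  rw [coe_decompose_smul_gen 𝒜 ℳ]
  by_cases hmem : (n - j) ∈ DFinsupp.support (decompose 𝒜 r)
  · rw [Finset.sum_eq_single (n - j)]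
    · rw [show n - (n - j) = j by ring, decompose_of_mem_same ℳ hz]
    · intro c _ hc
      rw [decompose_of_mem_ne ℳ hz (by omega), smul_zero]
    · intro h; exact absurd hmem h
  · rw [DFinsupp.notMem_support_iff] at hmem
    rw [hmem, ZeroMemClass.coe_zero, zero_smul]
    apply Finset.sum_eq_zero
    intro c hc
    have : c ≠ n - j := by
      rintro rfl
      rw [DFinsupp.mem_support_iff] at hc
      exact hc hmem
    rw [decompose_of_mem_ne ℳ hz (by omega), smul_zero]

include ℳ in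
/-- a small graded Nakayama lemma. -/
theorem eq_zero_of_irr_smul_top_eq_top (hpos : ∀ n : ℤ, n < 0 → 𝒜 n = ⊥) [Module.Finite R M]
    (h : irrI 𝒜 • (⊤ : Submodule R M) = ⊤) (x : M) : x = 0 := by
  classical
  obtain ⟨r, hr1, hr⟩ := Submodule.exists_sub_one_mem_and_smul_eq_zero_of_fg_of_le_smul
    (irrI 𝒜) (⊤ : Submodule R M) Module.Finite.fg_top (by rw [h])
  have hr0 : (decompose 𝒜 r 0 : R) = 1 := by
    have h1 : r = (r - 1) + 1 := by ring
    rw [h1, decompose_add, DirectSum.add_apply, AddSubgroup.coe_add,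
      decompose_eq_zero_of_mem_irr 𝒜 hpos hr1 0 le_rfl, zero_add,
      decompose_of_mem_same 𝒜 SetLike.GradedOne.one_mem]
  have hhom : ∀ j, ∀ y ∈ ℳ j, y = 0 := by
    intro j y hy
    have h1 := coe_decompose_smul_right 𝒜 ℳ hy r j
    rw [hr y trivial, decompose_zero, sub_self, hr0, one_smul] at h1
    exact h1.symm
  rw [← DirectSum.sum_support_decompose ℳ x]
  apply Finset.sum_eq_zero
  intro j _
  exact hhom j _ (SetLike.coe_mem _)

/-- `M_{≥ n}` as the span of the pieces of degree `≥ n`. -/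
def GE (n : ℤ) : Submodule R M := Submodule.span R (⋃ j ∈ Set.Ici n, (ℳ j : Set M))

theorem mem_GE_of_mem {n j : ℤ} (h : n ≤ j) {x : M} (hx : x ∈ ℳ j) : x ∈ GE (R := R) ℳ n := by
  apply Submodule.subset_span
  simp only [Set.mem_iUnion, Set.mem_Ici, SetLike.mem_coe]
  exact ⟨j, h, hx⟩

theorem irr_smul_GE_le (n : ℤ) : irrI 𝒜 • GE (R := R) ℳ n ≤ GE ℳ (n + 1) := by
  rw [irrI, GE, Submodule.span_smul_span, Submodule.span_le]
  intro s hs
  obtain ⟨a, ha, y, hy, rfl⟩ := Set.mem_smul.mp hs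
  simp only [Set.mem_iUnion, Set.mem_Ioi, Set.mem_Ici, SetLike.mem_coe] at ha hy
  obtain ⟨c, hc, hac⟩ := ha
  obtain ⟨j, hj, hyj⟩ := hy
  exact mem_GE_of_mem ℳ (by omega) (smul_mem_piece 𝒜 ℳ hac hyj)

theorem pow_smul_GE_le (n : ℤ) (N : ℕ) : irrI 𝒜 ^ N • GE (R := R) ℳ n ≤ GE ℳ (n + N) := by
  induction N with
  | zero => simp
  | succ N ih =>
    rw [pow_succ', Submodule.mul_smul]
    refine le_trans (Submodule.smul_mono le_rfl ih) ?_
    have h2 : n + (N : ℤ) + 1 = n + ((N + 1 : ℕ) : ℤ) := by push_cast; ring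
    rw [← h2]
    exact irr_smul_GE_le 𝒜 ℳ _

theorem GE_eq_bot {n : ℤ} (h : ∀ j, n ≤ j → ℳ j = ⊥) : GE (R := R) ℳ n = ⊥ := by
  rw [GE, Submodule.span_eq_bot]
  intro x hx
  simp only [Set.mem_iUnion, Set.mem_Ici, SetLike.mem_coe] at hx
  obtain ⟨j, hj, hxj⟩ := hx
  rw [h j hj] at hxj
  exact AddSubgroup.mem_bot.mp hxj

theorem mem_torsionSub_of_eventually_bot {n₀ : ℤ} (h : ∀ n, n₀ ≤ n → ℳ n = ⊥) (x : M) :
    x ∈ DRing.torsionSub (irrI 𝒜) M := by
  classical
  rw [← DirectSum.sum_support_decompose ℳ x]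
  apply Submodule.sum_mem
  intro j _
  refine ⟨(n₀ - j).toNat, fun r hr => ?_⟩
  have h1 : r • (decompose ℳ x j : M) ∈ irrI 𝒜 ^ (n₀ - j).toNat • GE (R := R) ℳ j :=
    Submodule.smul_mem_smul hr (mem_GE_of_mem ℳ le_rfl (SetLike.coe_mem _))
  have h2 := pow_smul_GE_le 𝒜 ℳ j (n₀ - j).toNat h1
  rw [GE_eq_bot ℳ (fun i hi => h i (by omega))] at h2
  exact (Submodule.mem_bot R).mp h2

/-- if `R_+` is generated by `R_1` then `R_c ⊆ R_+^c`. -/
theorem piece_le_pow (hhom : irrI 𝒜 = Ideal.span ((𝒜 1 : AddSubgroup R) : Set R)) (c : ℕ) :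
    ∀ y ∈ 𝒜 (c : ℤ), y ∈ irrI 𝒜 ^ c := by
  induction c with
  | zero => intro y _; simp
  | succ c ih =>
    intro y hy
    have hyI : y ∈ irrI 𝒜 := by
      apply Ideal.subset_span
      simp only [Set.mem_iUnion, Set.mem_Ioi, SetLike.mem_coe]
      exact ⟨_, by positivity, hy⟩
    rw [hhom] at hyI
    have key : ∀ w ∈ Ideal.span ((𝒜 1 : AddSubgroup R) : Set R), ∀ r : R,
        (decompose 𝒜 (r * w) ((c : ℤ) + 1) : R) ∈ irrI 𝒜 ^ (c + 1) := by
      intro w hw
      induction hw using Submodule.span_induction with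
      | mem u hu =>
        intro r
        rw [coe_decompose_mul_add_of_right_mem 𝒜 hu, pow_succ]
        refine Ideal.mul_mem_mul (ih _ (SetLike.coe_mem _)) ?_
        apply Ideal.subset_span
        simp only [Set.mem_iUnion, Set.mem_Ioi, SetLike.mem_coe]
        exact ⟨1, by norm_num, hu⟩
      | zero => intro r; simp
      | add u v _ _ hu hv =>
        intro r
        rw [mul_add, decompose_add, DirectSum.add_apply, AddSubgroup.coe_add]
        exact add_mem (hu r) (hv r)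
      | smul s u _ hu =>
        intro r
        rw [smul_eq_mul, ← mul_assoc]
        exact hu (r * s)
    have h1 := key y hyI 1
    rw [one_mul] at h1
    have hy' : y ∈ 𝒜 ((c : ℤ) + 1) := by exact_mod_cast hy
    rw [decompose_of_mem_same 𝒜 hy'] at h1
    exact h1

end IntGraded

end Groth.Agent.H8.Gr
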