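import Mathlib
import Groth.Prelude.Def_GrLC
import Groth.Prelude.Def_Wider
import Groth.Agent.Lib.helper8.GrLCD

/-!
# Graded local cohomology, part E (helper8): `H^i_{R_+}(M) = 0` for all `i ≥ 1` iff `M_n = 0` for
`n ≫ 0` (`R` non-negatively graded Noetherian with `R_+` generated by `R_1`, `M` finitely generated).
-/

universe u

set_option linter.unusedSectionVars false

namespace Groth.Agent.H8.Gr

open DirectSum GrLC LocCoh CategoryTheory Groth.Agent.H21.LC Groth.Agent.Lib.helper9.Depth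

section General

variable {R : Type u} [CommRing R]

/-- `Γ_I(N ⧸ Γ_I N) = 0` over a Noetherian ring. -/
theorem torsionSub_quot_eq_zero [IsNoetherianRing R] (I : Ideal R) (N : Type u) [AddCommGroup N]
    [Module R N] (y : N ⧸ DRing.torsionSub I N)
    (hy : y ∈ DRing.torsionSub I (N ⧸ DRing.torsionSub I N)) : y = 0 := by
  obtain ⟨x, rfl⟩ := Submodule.Quotient.mk_surjective _ y
  obtain ⟨n, hn⟩ := hy
  rw [Submodule.Quotient.mk_eq_zero]
  let P : Submodule R N := I ^ n • Submodule.span R {x}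
  have hPT : P ≤ DRing.torsionSub I N := by
    rw [Submodule.smul_le]
    intro r hr z hz
    obtain ⟨s, rfl⟩ := Submodule.mem_span_singleton.mp hz
    rw [smul_comm]
    apply Submodule.smul_mem
    have := hn r hr
    rw [← Submodule.Quotient.mk_smul, Submodule.Quotient.mk_eq_zero] at this
    exact this
  have hPfg : P.FG := Submodule.FG.smul (IsNoetherian.noetherian _) (Submodule.fg_span_singleton x)
  obtain ⟨k, hk⟩ := exists_pow_of_fg I P hPfg (fun m hm => hPT hm)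
  refine ⟨k + n, fun c hc => ?_⟩
  have h1 : c • x ∈ I ^ (k + n) • Submodule.span R {x} :=
    Submodule.smul_mem_smul hc (Submodule.mem_span_singleton_self x)
  rw [pow_add, Submodule.mul_smul] at h1
  have h2 : I ^ k • P ≤ ⊥ := by
    rw [Submodule.smul_le]
    intro b hb m hm
    rw [Submodule.mem_bot]
    exact hk m hm b hb
  exact (Submodule.mem_bot R).mp (h2 h1)

end General

section IntGraded

variable {R : Type u} [CommRing R] (𝒜 : ℤ → AddSubgroup R) [GradedRing 𝒜]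
  {M : Type u} [AddCommGroup M] [Module R M] (ℳ : ℤ → AddSubgroup M)
  [DirectSum.Decomposition ℳ] [SetLike.GradedSMul 𝒜 ℳ]

theorem isHomogeneous_irrI : (irrI 𝒜).IsHomogeneous 𝒜 := by
  apply Ideal.homogeneous_span
  intro x hx
  simp only [Set.mem_iUnion, Set.mem_Ioi, SetLike.mem_coe] at hx
  obtain ⟨n, _, hx⟩ := hx
  exact ⟨n, hx⟩

omit [AddCommGroup M] [Module R M] in
theorem eq_zero_of_irr_smul_top_eq_top_gmod (Y : GMod.{u} 𝒜) (hpos : ∀ n : ℤ, n < 0 → 𝒜 n = ⊥)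
    (hfin : Module.Finite R Y.carrier)
    (h : irrI 𝒜 • (⊤ : Submodule R Y.carrier) = ⊤) (y : Y.carrier) : y = 0 :=
  eq_zero_of_irr_smul_top_eq_top 𝒜 Y.gr hpos h y

omit [AddCommGroup M] [Module R M] in
theorem exists_homogeneous_generators_gmod [IsNoetherianRing R] (X : GMod.{u} 𝒜)
    (hfin : Module.Finite R X.carrier) :
    ∃ Z : Finset X.carrier, (∀ z ∈ Z, ∃ e, z ∈ X.gr e) ∧ Submodule.span R (Z : Set X.carrier) = ⊤ :=
  exists_homogeneous_generators 𝒜 X

omit [AddCommGroup M] [Module R M] in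
theorem quot_eq_zero_of_irr_smul_top_eq_top (X : GMod.{u} 𝒜) (T : Submodule R X.carrier)
    (hT : T.IsHomogeneous X.gr) (hpos : ∀ n : ℤ, n < 0 → 𝒜 n = ⊥)
    (hfin : Module.Finite R (X.carrier ⧸ T))
    (h : irrI 𝒜 • (⊤ : Submodule R (X.carrier ⧸ T)) = ⊤) (y : X.carrier ⧸ T) : y = 0 :=
  eq_zero_of_irr_smul_top_eq_top_gmod 𝒜 (quotGMod X T hT) hpos hfin h y

theorem isHomogeneous_torsionSub_irrI [IsNoetherianRing R] :
    (DRing.torsionSub (irrI 𝒜) M).IsHomogeneous ℳ :=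
  isHomogeneous_gam 𝒜 (GMod.of 𝒜 M ℳ) (isHomogeneous_irrI 𝒜)

include 𝒜 in
theorem exists_homogeneous_generators_int [IsNoetherianRing R] [Module.Finite R M] :
    ∃ Z : Finset M, (∀ z ∈ Z, ∃ e, z ∈ ℳ e) ∧ Submodule.span R (Z : Set M) = ⊤ :=
  exists_homogeneous_generators_gmod 𝒜 (GMod.of 𝒜 M ℳ) ‹Module.Finite R M›

include ℳ in
theorem torsionSub_eq_top_of_H_subsingleton (hpos : ∀ n : ℤ, n < 0 → 𝒜 n = ⊥)
    [IsNoetherianRing R] [Module.Finite R M]
    (hH : ∀ i : ℕ, 1 ≤ i → Subsingleton (LocCoh.H (irrI 𝒜) i M)) (x : M) :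
    x ∈ DRing.torsionSub (irrI 𝒜) M := by
  classical
  have hT : (DRing.torsionSub (irrI 𝒜) M).IsHomogeneous ℳ := isHomogeneous_torsionSub_irrI 𝒜 ℳ
  have hfin : Module.Finite R (M ⧸ DRing.torsionSub (irrI 𝒜) M) := inferInstance
  -- all local cohomology of the quotient vanishes
  have hsub : ∀ i : ℕ, Subsingleton (LocCoh.H (irrI 𝒜) i (M ⧸ DRing.torsionSub (irrI 𝒜) M)) := by
    intro i
    rcases Nat.eq_zero_or_pos i with rfl | hi
    · have e := H0Equiv (irrI 𝒜) (ModuleCat.of R (M ⧸ DRing.torsionSub (irrI 𝒜) M))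
      have : Subsingleton ↥(DRing.torsionSub (irrI 𝒜)
          (ModuleCat.of R (M ⧸ DRing.torsionSub (irrI 𝒜) M))) := by
        refine ⟨fun a b => ?_⟩
        apply Subtype.ext
        rw [torsionSub_quot_eq_zero (irrI 𝒜) M a.1 a.2, torsionSub_quot_eq_zero (irrI 𝒜) M b.1 b.2]
      exact e.toEquiv.subsingleton
    · have hb := map_mkQ_bijective (irrI 𝒜) M i hi
      haveI := hH i hi
      exact hb.2.subsingleton
  have htop : irrI 𝒜 • (⊤ : Submodule R (M ⧸ DRing.torsionSub (irrI 𝒜) M)) = ⊤ := by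
    by_contra h
    obtain ⟨d, hd⟩ := exists_nat_eq_idealDepth (I := irrI 𝒜) (M ⧸ DRing.torsionSub (irrI 𝒜) M) h
    have hnt := nontrivial_of_depth_eq (irrI 𝒜) (M ⧸ DRing.torsionSub (irrI 𝒜) M) h d hd
    exact not_subsingleton_iff_nontrivial.mpr hnt (hsub d)
  rw [← Submodule.Quotient.mk_eq_zero]
  exact quot_eq_zero_of_irr_smul_top_eq_top 𝒜 (GMod.of 𝒜 M ℳ) _ hT hpos hfin htop _

theorem eventually_bot_of_H_subsingleton (hpos : ∀ n : ℤ, n < 0 → 𝒜 n = ⊥)
    (hhom : irrI 𝒜 = Ideal.span ((𝒜 1 : AddSubgroup R) : Set R)) [IsNoetherianRing R]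
    [Module.Finite R M]
    (hH : ∀ i : ℕ, 1 ≤ i → Subsingleton (LocCoh.H (irrI 𝒜) i M)) :
    ∃ n₀ : ℤ, ∀ n : ℤ, n₀ ≤ n → ℳ n = ⊥ := by
  classical
  have hTtop : ∀ x : M, x ∈ DRing.torsionSub (irrI 𝒜) M :=
    torsionSub_eq_top_of_H_subsingleton 𝒜 ℳ hpos hH
  obtain ⟨N, hN⟩ := exists_pow_of_fg (irrI 𝒜) (⊤ : Submodule R M) Module.Finite.fg_top
    (fun m _ => hTtop m)
  obtain ⟨Z, hZ, hspan⟩ := exists_homogeneous_generators_int 𝒜 ℳ
  choose! e he using hZ
  obtain ⟨b, hb⟩ := Finset.exists_le (Z.image e)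
  refine ⟨b + N, fun n hn => ?_⟩
  rw [AddSubgroup.eq_bot_iff_forall]
  intro x hx
  have hxI : x ∈ Submodule.span R (Z : Set M) := by rw [hspan]; trivial
  obtain ⟨f, hf⟩ := Submodule.mem_span_finset'.mp hxI
  have hx' : x = (decompose ℳ x n : M) := (decompose_of_mem_same ℳ hx).symm
  rw [hx', ← hf, decompose_sum, DFinsupp.finsetSum_apply, AddSubmonoidClass.coe_finsetSum]
  apply Finset.sum_eq_zero
  intro z _
  have hez : e z ≤ b := hb _ (Finset.mem_image.mpr ⟨z, z.2, rfl⟩)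
  rw [coe_decompose_smul_right 𝒜 ℳ (he z z.2)]
  apply hN _ trivial
  have hc : n - e z = (((n - e z).toNat : ℕ) : ℤ) := by
    rw [Int.toNat_of_nonneg]; omega
  have hmem : (decompose 𝒜 (f z) (n - e z) : R) ∈ 𝒜 (((n - e z).toNat : ℕ) : ℤ) := by
    rw [← hc]; exact SetLike.coe_mem _
  have := piece_le_pow 𝒜 hhom (n - e z).toNat _ hmem
  exact Ideal.pow_le_pow_right (by omega) this

end IntGraded

end Groth.Agent.H8.Gr
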