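import Mathlib
import Groth.Prelude.Def_Wider
import Groth.Agent.Lib.helper8.GDualG
import Groth.Agent.Lib.helper8.GrLCE

/-!
# Local cohomology with support in a maximal ideal is Artinian (helper8)
-/

universe u

set_option linter.unusedSectionVars false

namespace Groth.Agent.H8.LCArt

open LocCoh CategoryTheory Groth.Agent.H21.LC Groth.Agent.H8.GDual Groth.Agent.H8.Gr

section Crit

variable {R : Type u} [CommRing R] [IsNoetherianRing R] (m : Ideal R) [hm : m.IsMaximal]

/-- Artinian criterion: power torsion + Artinian socle. -/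
theorem isArtinian_of_isPowerTorsion_of_socle_artinian (N : Type u) [AddCommGroup N] [Module R N]
    (hN : IsPowerTorsion m N) (h : IsArtinian R ↥(torsionBy m N)) : IsArtinian R N := by
  letI : Field (R ⧸ m) := Ideal.Quotient.field _
  haveI : IsArtinian (R ⧸ m) ↥(torsionBy m N) := isArtinian_of_tower R h
  haveI : Module.Finite (R ⧸ m) ↥(torsionBy m N) :=
    (IsSemisimpleModule.finite_tfae.out 0 2).mpr ‹_›
  exact isArtinian_of_isPowerTorsion_of_finite_socle m N hN

/-- Artinian criterion: power torsion + socle contained in an Artinian submodule. -/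
theorem isArtinian_of_isPowerTorsion_of_socle_le (N : Type u) [AddCommGroup N] [Module R N]
    (hN : IsPowerTorsion m N) (P : Submodule R N) (hP : IsArtinian R P)
    (hle : torsionBy m N ≤ P) : IsArtinian R N :=
  isArtinian_of_isPowerTorsion_of_socle_artinian m N hN (isArtinian_of_le hle)

/-- Artinian criterion: power torsion + Noetherian. -/
theorem isArtinian_of_isPowerTorsion_of_isNoetherian (N : Type u) [AddCommGroup N] [Module R N]
    (hN : IsPowerTorsion m N) [IsNoetherian R N] : IsArtinian R N := by
  letI : Field (R ⧸ m) := Ideal.Quotient.field _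
  haveI : Module.Finite R ↥(torsionBy m N) := inferInstance
  haveI : Module.Finite (R ⧸ m) ↥(torsionBy m N) := Module.Finite.of_restrictScalars_finite R _ _
  exact isArtinian_of_isPowerTorsion_of_finite_socle m N hN

end Crit

section Reg

variable {R : Type u} [CommRing R] [IsNoetherianRing R]

/-- if `Γ_I(M) = 0` for a finitely generated `M`, then `I` contains an `M`-regular element. -/
theorem exists_isSMulRegular_of_torsionSub_eq_zero (I : Ideal R) (M : Type u) [AddCommGroup M]
    [Module R M] [Module.Finite R M] (h : ∀ x ∈ DRing.torsionSub I M, x = 0) :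
    ∃ r ∈ I, IsSMulRegular M r := by
  have hsub : Subsingleton ((R ⧸ I) →ₗ[R] M) := by
    refine ⟨fun f g => ?_⟩
    have key : ∀ f : (R ⧸ I) →ₗ[R] M, f = 0 := by
      intro f
      have h1 : f 1 = 0 := by
        apply h
        refine ⟨1, fun a ha => ?_⟩
        rw [pow_one] at ha
        rw [← map_smul]
        have : a • (1 : R ⧸ I) = 0 := by
          rw [Algebra.smul_def, mul_one]
          exact Ideal.Quotient.eq_zero_iff_mem.mpr ha
        rw [this, map_zero]
      ext
      simpa using h1
    rw [key f, key g]
  obtain ⟨r, hr, hreg⟩ := IsSMulRegular.subsingleton_linearMap_iff.mp hsub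
  refine ⟨r, ?_, hreg⟩
  rw [Ideal.annihilator_quotient] at hr
  exact hr

end Reg

section Main

variable {R : Type u} [CommRing R] [IsNoetherianRing R] (m : Ideal R) [hm : m.IsMaximal]

theorem isPowerTorsion_H (I : Ideal R) (i : ℕ) (M : ModuleCat.{u} R) :
    IsPowerTorsion I ((localCohomology I i).obj M) :=
  fun x => exists_pow_smul_eq_zero_H I i M x

/-- `H^i_m(M)` is Artinian for finitely generated `M` and `m` maximal. -/
theorem isArtinian_H_of_isMaximal (i : ℕ) : ∀ (M : Type u) [AddCommGroup M] [Module R M]
    [Module.Finite R M], IsArtinian R ((localCohomology m i).obj (ModuleCat.of R M)) := by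
  induction i with
  | zero =>
    intro M _ _ _
    have e := H0Equiv m (ModuleCat.of R M)
    haveI : IsNoetherian R ↥(DRing.torsionSub m (ModuleCat.of R M)) :=
      inferInstanceAs (IsNoetherian R ↥(DRing.torsionSub m M))
    haveI : IsNoetherian R ((localCohomology m 0).obj (ModuleCat.of R M)) :=
      isNoetherian_of_linearEquiv e.symm
    exact isArtinian_of_isPowerTorsion_of_isNoetherian m _ (isPowerTorsion_H m 0 _)
  | succ i ih =>
    intro M _ _ _
    -- reduce to `M' = M ⧸ Γ_m(M)`
    have hb := map_mkQ_bijective m M (i + 1) (by omega)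
    suffices hM' : IsArtinian R
        ((localCohomology m (i + 1)).obj (ModuleCat.of R (M ⧸ DRing.torsionSub m M))) by
      exact isArtinian_of_injective _ hb.1
    obtain ⟨x, hxm, hreg⟩ := exists_isSMulRegular_of_torsionSub_eq_zero m
      (M ⧸ DRing.torsionSub m M) (fun y hy => torsionSub_quot_eq_zero m M y hy)
    have hS := IsSMulRegular.smulShortComplex_shortExact
      (M := ModuleCat.of R (M ⧸ DRing.torsionSub m M)) (r := x) hreg
    have hex := exact₁ m hS i
    haveI hart : IsArtinian R ((localCohomology m i).obj
        (ModuleCat.smulShortComplex (ModuleCat.of R (M ⧸ DRing.torsionSub m M)) x).X₃) :=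
      ih (QuotSMulTop x (M ⧸ DRing.torsionSub m M))
    refine isArtinian_of_isPowerTorsion_of_socle_le m _ (isPowerTorsion_H m (i + 1) _)
      (LinearMap.range (δ m hS i)) inferInstance ?_
    intro z hz
    rw [Submodule.mem_torsionBySet_iff] at hz
    have h1 := hz ⟨x, hxm⟩
    have h2 := map_smul_id_apply m (i + 1) (ModuleCat.of R (M ⧸ DRing.torsionSub m M)) x z
    exact (hex z).mp (h2.trans h1)

end Main

end Groth.Agent.H8.LCArt
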