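import Mathlib
import Groth.Prelude.Def_Wider
import Groth.Agent.Lib.helper8.LCArt
import Groth.Agent.Lib.helper8.MatlisG

/-!
# Melkersson's lemma for a principal ideal over a Noetherian local ring (helper8)
-/

universe u

set_option linter.unusedSectionVars false

namespace Groth.Agent.H8.LCArt

open LocCoh CategoryTheory IsLocalRing Groth.Agent.H8.Matlis

variable {R : Type u} [CommRing R] [IsNoetherianRing R]

theorem isArtinian_torsionBy_pow (N : Type u) [AddCommGroup N] [Module R N] (x : R)
    (h : IsArtinian R (Submodule.torsionBy R N x)) (k : ℕ) :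
    IsArtinian R (Submodule.torsionBy R N (x ^ k)) := by
  induction k with
  | zero =>
    have hbot : Submodule.torsionBy R N (x ^ 0) = ⊥ := by
      rw [pow_zero, Submodule.torsionBy_one]
    rw [hbot]
    infer_instance
  | succ k ih =>
    have hle : Submodule.torsionBy R N (x ^ k) ≤ Submodule.torsionBy R N (x ^ (k + 1)) := by
      intro y hy
      rw [Submodule.mem_torsionBy_iff] at hy ⊢
      rw [pow_succ', mul_smul, hy, smul_zero]
    let f := Submodule.inclusion hle
    let g : Submodule.torsionBy R N (x ^ (k + 1)) →ₗ[R] Submodule.torsionBy R N x :=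
      LinearMap.codRestrict _ ((x ^ k) • (Submodule.torsionBy R N (x ^ (k + 1))).subtype) (by
        intro y
        have hy := y.2
        rw [Submodule.mem_torsionBy_iff] at hy ⊢
        show x • (x ^ k • (y : N)) = 0
        rw [← mul_smul, ← pow_succ', hy])
    have hfg : LinearMap.range f = LinearMap.ker g := by
      ext y
      rw [Submodule.range_inclusion, Submodule.mem_comap, LinearMap.mem_ker,
        Submodule.mem_torsionBy_iff]
      constructor
      · intro hy
        apply Subtype.ext
        exact hy
      · intro hy
        exact congrArg Subtype.val hy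
    exact isArtinian_of_range_eq_ker f g hfg

variable [IsLocalRing R]

/-- Melkersson's lemma for the ideal `(x)`: an `x`-power torsion module with Artinian `x`-torsion is
Artinian. -/
theorem isArtinian_of_torsionBy_artinian (N : Type u) [AddCommGroup N] [Module R N] (x : R)
    (hx : ∀ y : N, ∃ k : ℕ, x ^ k • y = 0) (h : IsArtinian R (Submodule.torsionBy R N x)) :
    IsArtinian R N := by
  by_cases hxm : x ∈ maximalIdeal R
  · -- `N` is `m`-power torsion
    have hN : IsPowerTorsion (maximalIdeal R) N := by
      intro y
      obtain ⟨k, hk⟩ := hx y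
      haveI := isArtinian_torsionBy_pow N x h k
      have hy : y ∈ Submodule.torsionBy R N (x ^ k) := (Submodule.mem_torsionBy_iff _ _).mpr hk
      obtain ⟨n, hn⟩ := isPowerTorsion_of_isArtinian (R := R)
        (Submodule.torsionBy R N (x ^ k)) ⟨y, hy⟩
      refine ⟨n, fun a ha => ?_⟩
      exact congrArg Subtype.val (hn a ha)
    refine isArtinian_of_isPowerTorsion_of_socle_le (maximalIdeal R) N hN
      (Submodule.torsionBy R N x) h ?_
    intro y hy
    rw [Submodule.mem_torsionBy_iff]
    exact (Submodule.mem_torsionBySet_iff _ _).mp hy ⟨x, hxm⟩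
  · -- `x` is a unit, so `N = 0`
    have hu : IsUnit x := by
      by_contra hnu
      exact hxm ((IsLocalRing.mem_maximalIdeal x).mpr hnu)
    haveI : Subsingleton N := by
      refine ⟨fun y z => ?_⟩
      have key : ∀ w : N, w = 0 := by
        intro w
        obtain ⟨k, hk⟩ := hx w
        exact ((hu.pow k).smul_eq_zero).mp hk
      rw [key y, key z]
    infer_instance

end Groth.Agent.H8.LCArt
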