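import Mathlib
import Groth.Prelude.Def_Wider
import Groth.Agent.Lib.helper21.LC20
import Groth.Agent.Lib.helper21.LC14

/-!
# Injectivity of the single non-vanishing local cohomology module (helper8)

If `Z` has injective dimension `≤ t`, `H^i_I(Z) = 0` for `1 ≤ i < t` and `Γ_I(Z)` is injective, then
`H^t_I(Z)` is injective (`R` Noetherian).
-/

universe u

namespace Groth.Agent.H8.LCGor

open CategoryTheory Groth.Agent.H21.LC

variable {R : Type u} [CommRing R]

/-- a quotient of an injective module by an injective submodule is injective. -/
theorem injective_of_surjective {X Y : Type u} [AddCommGroup X] [Module R X] [AddCommGroup Y]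
    [Module R Y] [Module.Injective R X] (f : X →ₗ[R] Y) (hf : Function.Surjective f)
    (hK : Module.Injective R (LinearMap.ker f)) : Module.Injective R Y := by
  have hS := LinearMap.shortExact_shortComplexKer hf
  have h1 : Injective f.shortComplexKer.X₁ :=
    Module.injective_object_of_injective_module R (LinearMap.ker f)
  have h2 : Injective f.shortComplexKer.X₂ := Module.injective_object_of_injective_module R X
  have h3 : HasInjectiveDimensionLT f.shortComplexKer.X₃ 1 :=
    hS.hasInjectiveDimensionLT_X₃ 1 inferInstance inferInstance
  have h4 : Injective (ModuleCat.of R Y) := by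
    have : Injective f.shortComplexKer.X₃ := inferInstance
    exact this
  exact Module.injective_module_of_injective_object R Y

theorem injective_of_linearEquiv {X Y : Type u} [AddCommGroup X] [Module R X] [AddCommGroup Y]
    [Module R Y] [Module.Injective R X] (e : X ≃ₗ[R] Y) : Module.Injective R Y := by
  have h1 : Injective (ModuleCat.of R X) := Module.injective_object_of_injective_module R X
  have h2 : Injective (ModuleCat.of R Y) := Injective.of_iso e.toModuleIso h1
  exact Module.injective_module_of_injective_object R Y

section Step

variable [IsNoetherianRing R] (I : Ideal R) {S : ShortComplex (ModuleCat.{u} R)}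
  (hS : S.ShortExact) [Injective S.X₂]

/-- `Γ(X₂) → Γ(X₃)`. -/
noncomputable def gΓ : DRing.torsionSub I S.X₂ →ₗ[R] DRing.torsionSub I S.X₃ :=
  S.g.hom.restrict (fun m hm => DRing.map_mem_torsionSub I S.g.hom hm)

include hS in
/-- `Γ(X₁) ≃ ker (Γ(X₂) → Γ(X₃))`. -/
theorem injective_ker_gΓ (h1 : Module.Injective R (DRing.torsionSub I S.X₁)) :
    Module.Injective R (LinearMap.ker (gΓ I (S := S))) := by
  have hf : Function.Injective S.f.hom := hS.moduleCat_injective_f
  have hex := (ShortComplex.ShortExact.moduleCat_exact_iff_function_exact S).1 hS.exact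
  let φ : DRing.torsionSub I S.X₁ →ₗ[R] LinearMap.ker (gΓ I (S := S)) :=
    ((S.f.hom.restrict (fun m hm => DRing.map_mem_torsionSub I S.f.hom hm)).codRestrict _
      (fun u => by
        rw [LinearMap.mem_ker]
        apply Subtype.ext
        show S.g.hom (S.f.hom u.1) = 0
        exact (hex _).2 ⟨u.1, rfl⟩))
  have hφ : Function.Bijective φ := by
    constructor
    · intro a b hab
      apply Subtype.ext
      apply hf
      exact congrArg (fun z : LinearMap.ker (gΓ I (S := S)) => (z.1.1 : S.X₂)) hab
    · rintro ⟨⟨u, hu⟩, hk⟩
      rw [LinearMap.mem_ker] at hk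
      have hgu : S.g.hom u = 0 := congrArg Subtype.val hk
      obtain ⟨z, hz⟩ := (hex u).1 hgu
      have hzt : z ∈ DRing.torsionSub I S.X₁ := by
        obtain ⟨n, hn⟩ := hu
        refine ⟨n, fun a ha => ?_⟩
        apply hf
        rw [map_smul, hz, hn a ha, map_zero]
      refine ⟨⟨z, hzt⟩, ?_⟩
      apply Subtype.ext
      apply Subtype.ext
      exact hz
  exact injective_of_linearEquiv (LinearEquiv.ofBijective φ hφ)

include hS in
/-- if `Γ(X₁)` is injective and `H^1(X₁) = 0` then `Γ(X₃)` is injective. -/
theorem injective_gamma_X₃ (h1 : Module.Injective R (DRing.torsionSub I S.X₁))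
    (hH1 : Subsingleton ((localCohomology I (0 + 1)).obj S.X₁)) :
    Module.Injective R (DRing.torsionSub I S.X₃) := by
  haveI : Module.Injective R S.X₂ := Module.injective_module_of_injective_object R S.X₂
  haveI : Module.Injective R (DRing.torsionSub I S.X₂) := injective_torsionSub I S.X₂
  have hsurj : Function.Surjective (gΓ I (S := S)) := by
    rintro ⟨z, hz⟩
    obtain ⟨e, he, hez⟩ := (subsingleton_H1_iff I hS
      (subsingleton_of_injective I _ (by omega) _)).1 hH1 z hz
    exact ⟨⟨e, he⟩, Subtype.ext hez⟩
  exact injective_of_surjective (gΓ I (S := S)) hsurj (injective_ker_gΓ I hS h1)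

include hS in
/-- if `Γ(X₁)` and `X₃` are injective then `H^1(X₁)` is injective. -/
theorem injective_H1 (h1 : Module.Injective R (DRing.torsionSub I S.X₁))
    (h3 : Injective S.X₃) :
    Module.Injective R ((localCohomology I (0 + 1)).obj S.X₁) := by
  haveI : Module.Injective R S.X₂ := Module.injective_module_of_injective_object R S.X₂
  haveI : Module.Injective R (DRing.torsionSub I S.X₂) := injective_torsionSub I S.X₂
  haveI : Module.Injective R S.X₃ := Module.injective_module_of_injective_object R S.X₃
  haveI : Module.Injective R (DRing.torsionSub I S.X₃) := injective_torsionSub I S.X₃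
  -- the kernel of `pΓ` is a quotient of `Γ(X₂)` by `Γ(X₁)`
  have hker : Module.Injective R (LinearMap.ker (pΓ I hS)) := by
    refine injective_of_surjective (πK I hS) (πK_surjective I hS) ?_
    have heq : LinearMap.ker (πK I hS) = LinearMap.ker (gΓ I (S := S)) := by
      ext u
      rw [LinearMap.mem_ker, LinearMap.mem_ker]
      constructor
      · intro h
        exact congrArg Subtype.val h
      · intro h
        exact Subtype.ext h
    rw [heq]
    exact injective_ker_gΓ I hS h1
  exact injective_of_surjective (pΓ I hS) (pΓ_surjective I hS) hker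

end Step

/-- the main theorem. -/
theorem injective_H_of_injdim [IsNoetherianRing R] (I : Ideal R) (t : ℕ) :
    ∀ (Z : ModuleCat.{u} R), HasInjectiveDimensionLT Z (t + 1) →
      (∀ i, 1 ≤ i → i < t → Subsingleton ((localCohomology I i).obj Z)) →
      Module.Injective R (DRing.torsionSub I Z) →
      Module.Injective R ((localCohomology I t).obj Z) := by
  induction t with
  | zero =>
    intro Z _ _ hΓ
    exact injective_of_linearEquiv (H0Equiv I Z).symm
  | succ t ih =>
    intro Z hdim hvan hΓ
    have hS := injSES_shortExact Z
    have hdim' : HasInjectiveDimensionLT (injSES Z).X₃ (t + 1) :=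
      hS.hasInjectiveDimensionLT_X₃ (t + 1) inferInstance hdim
    rcases Nat.eq_zero_or_pos t with rfl | ht
    · -- `t + 1 = 1`
      have h3 : Injective (injSES Z).X₃ := inferInstance
      exact injective_H1 I hS hΓ h3
    · -- `t + 1 ≥ 2`
      have hH1 : Subsingleton ((localCohomology I (0 + 1)).obj (injSES Z).X₁) :=
        hvan 1 le_rfl (by omega)
      have hΓ' := injective_gamma_X₃ I hS hΓ hH1
      have hvan' : ∀ i, 1 ≤ i → i < t →
          Subsingleton ((localCohomology I i).obj (injSES Z).X₃) := by
        intro i hi1 hit
        rw [← subsingleton_shift I hS i (subsingleton_of_injective I _ (by omega) _)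
          (subsingleton_of_injective I _ (by omega) _)]
        exact hvan (i + 1) (by omega) (by omega)
      have hinj := ih (injSES Z).X₃ hdim' hvan' hΓ'
      have hb := δ_bijective_of_subsingleton I hS t
        (subsingleton_of_injective I _ ht _) (subsingleton_of_injective I _ (by omega) _)
      exact injective_of_linearEquiv (LinearEquiv.ofBijective (δ I hS t) hb)

end Groth.Agent.H8.LCGor
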