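import Mathlib
import Groth.Prelude.Def_Wider
import Groth.Agent.Lib.helper8.LCGorA
import Groth.Agent.Lib.helper8.MatlisG
import Groth.Agent.Lib.helper8.GrLCC
import Groth.Agent.Lib.helper8.LCArt

/-!
# The top local cohomology of a Gorenstein local ring is an injective hull of the residue field,
part B (helper8): the socle is one-dimensional, by a length count along a regular sequence.
-/

universe u

namespace Groth.Agent.H8.LCGor

open CategoryTheory LocCoh InjHull IsLocalRing Groth.Agent.H21.LC Groth.Agent.H8.Matlis
  Groth.Agent.H8.Gr RingTheory.Sequence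

section Length

variable {R : Type u} [CommRing R] [IsLocalRing R] {H : Type u} [AddCommGroup H] [Module R H]

/-- `length Hom(M, H) = length M * length Hom(k, H)` for an injective module `H` and `M` of finite
length. -/
theorem length_hom_general (hE : Module.Injective R H) (M : Type u) [AddCommGroup M] [Module R M]
    (hM : IsFiniteLength R M) :
    Module.length R (M →ₗ[R] H) =
      Module.length R M * Module.length R (ResidueField R →ₗ[R] H) := by
  induction hM with
  | of_subsingleton =>
    rw [Module.length_eq_zero, Module.length_eq_zero, zero_mul]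
  | @of_simple_quotient M _ _ N _ hN ih =>
    obtain ⟨e⟩ := nonempty_equiv_of_simple (R := R) (M ⧸ N)
    rw [Module.length_eq_add_of_exact (LinearMap.lcomp R H N.mkQ) (LinearMap.lcomp R H N.subtype)
      (dual_mkQ_injective N) (dual_subtype_surjective hE N) (dual_exact N),
      Module.length_eq_add_of_exact N.subtype N.mkQ N.injective_subtype N.mkQ_surjective
        (LinearMap.exact_subtype_mkQ N), ih,
      (LinearEquiv.congrLeft H R e).length_eq, Module.length_eq_one R (M ⧸ N), add_mul, one_mul,
      add_comm]

end Length

section Step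

variable {R : Type u} [CommRing R] (I : Ideal R)

/-- maps from a module killed by `x` land in the kernel of `x`. -/
noncomputable def homKerEquiv {N X : Type u} [AddCommGroup N] [Module R N] [AddCommGroup X]
    [Module R X] (x : R) (hN : ∀ y : N, x • y = 0) :
    (N →ₗ[R] X) ≃ₗ[R] (N →ₗ[R] LinearMap.ker (LinearMap.lsmul R X x)) where
  toFun φ := φ.codRestrict _ (fun y => by
    rw [LinearMap.mem_ker, LinearMap.lsmul_apply, ← map_smul, hN, map_zero])
  invFun ψ := (Submodule.subtype _).comp ψ
  map_add' _ _ := rfl
  map_smul' _ _ := rfl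
  left_inv φ := by ext; rfl
  right_inv ψ := by ext; rfl

theorem δ_injective_of_subsingleton (M : Type u) [AddCommGroup M] [Module R M] (x : R)
    (hreg : IsSMulRegular M x) (t : ℕ)
    (hvan : Subsingleton ((localCohomology I t).obj (ModuleCat.of R M))) :
    Function.Injective (δ I (IsSMulRegular.smulShortComplex_shortExact
      (M := ModuleCat.of R M) (r := x) hreg) t) := by
  have hS := IsSMulRegular.smulShortComplex_shortExact (M := ModuleCat.of R M) (r := x) hreg
  have h3 := exact₃ I hS t
  have hvan' : Subsingleton ((localCohomology I t).obj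
      (ModuleCat.smulShortComplex (ModuleCat.of R M) x).X₂) := hvan
  rw [← LinearMap.ker_eq_bot, LinearMap.ker_eq_bot']
  intro z hz
  obtain ⟨y, rfl⟩ := (h3 z).1 hz
  rw [@Subsingleton.elim _ hvan' y 0, map_zero]

theorem subsingleton_H_quotSMulTop (M : Type u) [AddCommGroup M] [Module R M] (x : R)
    (hreg : IsSMulRegular M x) (t : ℕ)
    (h0 : Subsingleton ((localCohomology I t).obj (ModuleCat.of R M)))
    (h1 : Subsingleton ((localCohomology I (t + 1)).obj (ModuleCat.of R M))) :
    Subsingleton ((localCohomology I t).obj (ModuleCat.of R (QuotSMulTop x M))) := by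
  have h1' : Subsingleton ((localCohomology I (t + 1)).obj
      (ModuleCat.smulShortComplex (ModuleCat.of R M) x).X₁) := h1
  exact (δ_injective_of_subsingleton I M x hreg t h0).subsingleton

theorem nonempty_equiv_ker_smul (M : Type u) [AddCommGroup M] [Module R M] (x : R)
    (hreg : IsSMulRegular M x) (t : ℕ)
    (hvan : Subsingleton ((localCohomology I t).obj (ModuleCat.of R M))) :
    Nonempty ((localCohomology I t).obj (ModuleCat.of R (QuotSMulTop x M)) ≃ₗ[R]
      LinearMap.ker (LinearMap.lsmul R
        ((localCohomology I (t + 1)).obj (ModuleCat.of R M)) x)) := by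
  have hS := IsSMulRegular.smulShortComplex_shortExact (M := ModuleCat.of R M) (r := x) hreg
  have h1 := exact₁ I hS t
  have hinj := δ_injective_of_subsingleton I M x hreg t hvan
  show Nonempty ((localCohomology I t).obj (ModuleCat.smulShortComplex (ModuleCat.of R M) x).X₃ ≃ₗ[R]
      LinearMap.ker (LinearMap.lsmul R
        ((localCohomology I (t + 1)).obj (ModuleCat.smulShortComplex (ModuleCat.of R M) x).X₁) x))
  have hmap : ∀ w : (localCohomology I (t + 1)).obj
      (ModuleCat.smulShortComplex (ModuleCat.of R M) x).X₁,
      ((localCohomology I (t + 1)).map (ModuleCat.smulShortComplex (ModuleCat.of R M) x).f).hom w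
        = x • w := fun w => map_smul_id_apply I (t + 1) (ModuleCat.of R M) x w
  let φ : (localCohomology I t).obj (ModuleCat.smulShortComplex (ModuleCat.of R M) x).X₃ →ₗ[R]
      LinearMap.ker (LinearMap.lsmul R
        ((localCohomology I (t + 1)).obj (ModuleCat.smulShortComplex (ModuleCat.of R M) x).X₁) x) :=
    (δ I hS t).codRestrict _ (fun z => by
      rw [LinearMap.mem_ker, LinearMap.lsmul_apply, ← hmap]
      exact (h1 _).2 ⟨z, rfl⟩)
  refine ⟨LinearEquiv.ofBijective φ ⟨?_, ?_⟩⟩
  · intro a b hab
    exact hinj (congrArg Subtype.val hab)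
  · rintro ⟨w, hw⟩
    rw [LinearMap.mem_ker, LinearMap.lsmul_apply, ← hmap] at hw
    obtain ⟨z, hz⟩ := (h1 w).1 hw
    exact ⟨z, Subtype.ext hz⟩

/-- the length count along a weakly regular sequence. -/
theorem length_hom_H_eq (N : Type u) [AddCommGroup N] [Module R N] :
    ∀ (rs : List R), (∀ r ∈ rs, ∀ y : N, r • y = 0) →
      ∀ (M : Type u) [AddCommGroup M] [Module R M], IsWeaklyRegular M rs →
      (∀ i, i < rs.length → Subsingleton ((localCohomology I i).obj (ModuleCat.of R M))) →
      Module.length R (N →ₗ[R] (localCohomology I rs.length).obj (ModuleCat.of R M)) =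
        Module.length R (N →ₗ[R] (localCohomology I 0).obj
          (ModuleCat.of R (M ⧸ (Ideal.ofList rs • ⊤ : Submodule R M)))) := by
  intro rs
  induction rs with
  | nil =>
    intro _ M _ _ _ _
    have e : M ≃ₗ[R] (M ⧸ (Ideal.ofList ([] : List R) • ⊤ : Submodule R M)) :=
      (Submodule.quotEquivOfEqBot _ (by simp)).symm
    exact (LinearEquiv.congrRight (Hcongr I 0 e)).length_eq
  | cons x rs ih =>
    intro hN M _ _ hreg hvan
    rw [isWeaklyRegular_cons_iff] at hreg
    obtain ⟨hx, hrs⟩ := hreg
    have hvanM : ∀ i, i < rs.length + 1 →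
        Subsingleton ((localCohomology I i).obj (ModuleCat.of R M)) := hvan
    have hvan' : ∀ i, i < rs.length →
        Subsingleton ((localCohomology I i).obj (ModuleCat.of R (QuotSMulTop x M))) := by
      intro i hi
      exact subsingleton_H_quotSMulTop I M x hx i (hvanM i (by omega)) (hvanM (i + 1) (by omega))
    have ih' := ih (fun r hr => hN r (List.mem_cons_of_mem _ hr)) (QuotSMulTop x M) hrs hvan'
    obtain ⟨e2⟩ := nonempty_equiv_ker_smul I M x hx rs.length (hvanM rs.length (by omega))
    have e1 := homKerEquiv (N := N)
      (X := (localCohomology I (rs.length + 1)).obj (ModuleCat.of R M)) x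
      (hN x List.mem_cons_self)
    have e3 := Hcongr I 0 (Submodule.quotOfListConsSMulTopEquivQuotSMulTopInner M x rs).symm
    have key : Module.length R (N →ₗ[R] (localCohomology I (rs.length + 1)).obj (ModuleCat.of R M))
        = Module.length R (N →ₗ[R] (localCohomology I 0).obj
          (ModuleCat.of R (M ⧸ (Ideal.ofList (x :: rs) • ⊤ : Submodule R M)))) := by
      rw [e1.length_eq, ← (LinearEquiv.congrRight e2).length_eq, ih',
        (LinearEquiv.congrRight e3).length_eq]
    exact key

end Step

end Groth.Agent.H8.LCGor
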