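import Mathlib
import Groth.Prelude.Def_Wider
import Groth.Agent.Lib.helper8.LCArtB
import Groth.Agent.Lib.helper8.CdDimB
import Groth.Agent.Lib.helper8.LCGorB

/-!
# `H^n_a(M)` is Artinian for `n = dim M` (helper8)
-/

universe u

set_option linter.unusedSectionVars false

namespace Groth.Agent.H8.LCArt

open LocCoh CategoryTheory IsLocalRing Groth.Agent.H8.Matlis Groth.Agent.H21.LC
  Groth.Agent.H8.Gr Groth.Agent.H8.CdDim

theorem withBot_cancel (b : WithBot ℕ∞) (n : ℕ) (h : b + 1 = ((n + 1 : ℕ) : WithBot ℕ∞)) :
    b = (n : WithBot ℕ∞) := by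
  induction b with
  | bot =>
    exfalso
    rw [WithBot.bot_add] at h
    have : ((n + 1 : ℕ) : WithBot ℕ∞) ≠ ⊥ := by
      exact_mod_cast WithBot.coe_ne_bot (a := ((n + 1 : ℕ) : ℕ∞))
    exact this h.symm
  | coe b =>
    induction b with
    | top =>
      exfalso
      have h2 : ((⊤ + 1 : ℕ∞) : WithBot ℕ∞) = (((n + 1 : ℕ) : ℕ∞) : WithBot ℕ∞) := by
        exact_mod_cast h
      have h3 := WithBot.coe_injective h2
      rw [top_add] at h3
      exact ENat.top_ne_natCast _ h3
    | coe b =>
      have h2 : b + 1 = n + 1 := by exact_mod_cast h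
      have h3 : b = n := by omega
      rw [h3]; rfl

variable {R : Type u} [CommRing R] [IsNoetherianRing R]

/-- a finitely generated module of dimension zero is Artinian. -/
theorem isArtinian_of_supportDim_eq_zero (M : Type u) [AddCommGroup M] [Module R M]
    [Module.Finite R M] (h0 : Module.supportDim R M = 0) : IsArtinian R M := by
  rw [Module.supportDim_eq_ringKrullDim_quotient_annihilator] at h0
  haveI : Ring.KrullDimLE 0 (R ⧸ Module.annihilator R M) :=
    Ring.krullDimLE_iff.mpr (by rw [h0]; rfl)
  haveI : IsArtinianRing (R ⧸ Module.annihilator R M) :=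
    isArtinianRing_iff_isNoetherianRing_krullDimLE_zero.mpr ⟨inferInstance, inferInstance⟩
  letI : Module (R ⧸ Module.annihilator R M) M := Module.quotientAnnihilator
  haveI : IsScalarTower R (R ⧸ Module.annihilator R M) M :=
    (Module.isTorsionBySet_annihilator R M).isScalarTower
  haveI : Module.Finite (R ⧸ Module.annihilator R M) M :=
    Module.Finite.of_restrictScalars_finite R _ _
  haveI : IsArtinian (R ⧸ Module.annihilator R M) M := inferInstance
  exact isArtinian_of_surjective_algebraMap (S := R) (R := R ⧸ Module.annihilator R M) (M := M)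
    Ideal.Quotient.mk_surjective

/-- the connecting map surjects onto the `x`-torsion. -/
theorem exists_surjective_torsionBy (I : Ideal R) (M : Type u) [AddCommGroup M] [Module R M]
    (x : R) (hreg : IsSMulRegular M x) (t : ℕ) :
    ∃ φ : (localCohomology I t).obj (ModuleCat.of R (QuotSMulTop x M)) →ₗ[R]
      Submodule.torsionBy R ((localCohomology I (t + 1)).obj (ModuleCat.of R M)) x,
      Function.Surjective φ := by
  have hS := IsSMulRegular.smulShortComplex_shortExact (M := ModuleCat.of R M) (r := x) hreg
  have h1 := exact₁ I hS t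
  show ∃ φ : (localCohomology I t).obj (ModuleCat.smulShortComplex (ModuleCat.of R M) x).X₃ →ₗ[R]
      Submodule.torsionBy R
        ((localCohomology I (t + 1)).obj (ModuleCat.smulShortComplex (ModuleCat.of R M) x).X₁) x,
      Function.Surjective φ
  have hmap : ∀ w : (localCohomology I (t + 1)).obj
      (ModuleCat.smulShortComplex (ModuleCat.of R M) x).X₁,
      ((localCohomology I (t + 1)).map (ModuleCat.smulShortComplex (ModuleCat.of R M) x).f).hom w
        = x • w := fun w => map_smul_id_apply I (t + 1) (ModuleCat.of R M) x w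
  refine ⟨(δ I hS t).codRestrict _ (fun z => ?_), ?_⟩
  · rw [Submodule.mem_torsionBy_iff, ← hmap]
    exact (h1 _).2 ⟨z, rfl⟩
  · rintro ⟨w, hw⟩
    rw [Submodule.mem_torsionBy_iff, ← hmap] at hw
    obtain ⟨z, hz⟩ := (h1 w).1 hw
    exact ⟨z, Subtype.ext hz⟩

variable [IsLocalRing R]

/-- `H^n_a(M)` is Artinian for `n = dim M`. -/
theorem isArtinian_H_supportDim (a : Ideal R) : ∀ (n : ℕ) (M : Type u) [AddCommGroup M]
    [Module R M] [Module.Finite R M], Module.supportDim R M = n → IsArtinian R (H a n M) := by
  intro n
  induction n with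
  | zero =>
    intro M _ _ _ h0
    haveI : IsArtinian R M := isArtinian_of_supportDim_eq_zero M (by exact_mod_cast h0)
    have e := H0Equiv a (ModuleCat.of R M)
    haveI : IsArtinian R ↥(DRing.torsionSub a (ModuleCat.of R M)) :=
      isArtinian_of_injective (DRing.torsionSub a (ModuleCat.of R M)).subtype
        Subtype.val_injective
    exact isArtinian_of_injective e.toLinearMap e.injective
  | succ n ih =>
    intro M _ _ _ hdim
    -- pass to `M' = M / Γ_a(M)`
    have hbij := map_mkQ_bijective a M (n + 1) (by omega)
    let eM := LinearEquiv.ofBijective _ hbij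
    suffices h : IsArtinian R (H a (n + 1) (M ⧸ DRing.torsionSub a M)) from
      isArtinian_of_injective eM.toLinearMap eM.injective
    have hle : Module.supportDim R (M ⧸ DRing.torsionSub a M) ≤ ((n + 1 : ℕ) : WithBot ℕ∞) := by
      rw [← hdim]
      exact Module.supportDim_le_of_surjective _ (Submodule.mkQ_surjective _)
    rcases lt_or_eq_of_le hle with hlt | heq
    · haveI := subsingleton_H_of_supportDim_lt a (M ⧸ DRing.torsionSub a M) (n + 1) hlt
      infer_instance
    · obtain ⟨r, hra, hreg⟩ := exists_isSMulRegular_of_torsionSub_eq_zero a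
        (M ⧸ DRing.torsionSub a M) (fun y hy => torsionSub_quot_eq_zero a M y hy)
      -- `H^n_a(M'/rM')` is Artinian
      have hN : IsArtinian R (H a n (QuotSMulTop r (M ⧸ DRing.torsionSub a M))) := by
        by_cases hrm : r ∈ maximalIdeal R
        · have hd := Module.supportDim_quotSMulTop_succ_eq_supportDim hreg hrm
          rw [heq] at hd
          exact ih _ (withBot_cancel _ n hd)
        · have hu : IsUnit r := by
            by_contra hnu
            exact hrm ((IsLocalRing.mem_maximalIdeal r).mpr hnu)
          haveI : Subsingleton (QuotSMulTop r (M ⧸ DRing.torsionSub a M)) := by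
            refine ⟨fun y z => ?_⟩
            have key : ∀ w : QuotSMulTop r (M ⧸ DRing.torsionSub a M), w = 0 := by
              intro w
              obtain ⟨v, rfl⟩ := Submodule.Quotient.mk_surjective _ w
              rw [Submodule.Quotient.mk_eq_zero]
              obtain ⟨s, hs⟩ := hu.exists_left_inv
              have : v = r • (s • v) := by rw [← mul_smul, mul_comm, hs, one_smul]
              rw [this]
              exact Submodule.smul_mem_pointwise_smul _ _ _ Submodule.mem_top
            rw [key y, key z]
          haveI := subsingleton_H_of_subsingleton a n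
            (ModuleCat.of R (QuotSMulTop r (M ⧸ DRing.torsionSub a M)))
          infer_instance
      obtain ⟨φ, hφ⟩ := exists_surjective_torsionBy a (M ⧸ DRing.torsionSub a M) r hreg n
      have hT : IsArtinian R (Submodule.torsionBy R
          ((localCohomology a (n + 1)).obj (ModuleCat.of R (M ⧸ DRing.torsionSub a M))) r) :=
        isArtinian_of_surjective _ φ hφ
      refine isArtinian_of_torsionBy_artinian _ r ?_ hT
      intro y
      obtain ⟨k, hk⟩ := isPowerTorsion_H a (n + 1) (ModuleCat.of R (M ⧸ DRing.torsionSub a M)) y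
      exact ⟨k, hk _ (Ideal.pow_mem_pow hra k)⟩

end Groth.Agent.H8.LCArt
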