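import Mathlib

/-!
# Secondary representations of Artinian modules (helper8)

Every Artinian module is a finite sum of secondary submodules; consequently only finitely many
primes `q` admit a nonzero quotient killed by `q` on which every `x ∉ q` acts surjectively.
-/

universe u v

namespace Groth.Agent.H8.Sec

open Pointwise

variable {R : Type u} [CommRing R] {L : Type v} [AddCommGroup L] [Module R L]

/-- a submodule is secondary if it is nonzero and each ring element acts on it surjectively or
nilpotently. -/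
def IsSecondary (S : Submodule R L) : Prop :=
  S ≠ ⊥ ∧ ∀ x : R, x • S = S ∨ ∃ N : ℕ, x ^ N • S = ⊥

/-- a submodule is sum-irreducible if it is nonzero and not the sum of two strictly smaller ones. -/
def SumIrred (S : Submodule R L) : Prop :=
  S ≠ ⊥ ∧ ∀ A B : Submodule R L, A ⊔ B = S → A = S ∨ B = S

theorem smul_le_self (x : R) (S : Submodule R L) : x • S ≤ S := by
  intro y hy
  obtain ⟨s, hs, rfl⟩ := (Submodule.mem_smul_pointwise_iff_exists _ _ _).mp hy
  exact S.smul_mem x hs

theorem pow_smul_antitone (x : R) (S : Submodule R L) {m n : ℕ} (h : m ≤ n) :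
    x ^ n • S ≤ x ^ m • S := by
  obtain ⟨k, rfl⟩ := Nat.exists_eq_add_of_le h
  rw [pow_add, mul_smul]
  intro y hy
  obtain ⟨s, hs, rfl⟩ := (Submodule.mem_smul_pointwise_iff_exists _ _ _).mp hy
  exact Submodule.smul_mem_pointwise_smul _ _ _ (smul_le_self _ _ hs)

theorem isSecondary_of_sumIrred [IsArtinian R L] {S : Submodule R L} (hS : SumIrred S) :
    IsSecondary S := by
  refine ⟨hS.1, fun x => ?_⟩
  let F : ℕ →o (Submodule R L)ᵒᵈ :=
    ⟨fun n => OrderDual.toDual (x ^ n • S), fun m n h => pow_smul_antitone x S h⟩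
  obtain ⟨k0, hk0⟩ := IsArtinian.monotone_stabilizes F
  set k := k0 + 1 with hk
  have hstab : x ^ k • S = x ^ (k + k) • S := by
    have h1 : F k0 = F k := hk0 k (by omega)
    have h2 : F k0 = F (k + k) := hk0 (k + k) (by omega)
    exact OrderDual.toDual.injective (h1.symm.trans h2)
  let B : Submodule R L := S ⊓ LinearMap.ker ((x ^ k) • (LinearMap.id : L →ₗ[R] L))
  have hsup : x ^ k • S ⊔ B = S := by
    apply le_antisymm
    · exact sup_le (smul_le_self _ _) inf_le_left
    · intro s hs
      have h1 : x ^ k • s ∈ x ^ (k + k) • S := by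
        rw [← hstab]
        exact Submodule.smul_mem_pointwise_smul _ _ _ hs
      obtain ⟨t, ht, hts⟩ := (Submodule.mem_smul_pointwise_iff_exists _ _ _).mp h1
      have h2 : s = x ^ k • t + (s - x ^ k • t) := by abel
      rw [h2]
      refine Submodule.add_mem_sup (Submodule.smul_mem_pointwise_smul _ _ _ ht) ⟨?_, ?_⟩
      · exact S.sub_mem hs (S.smul_mem _ ht)
      · show (x ^ k) • (s - x ^ k • t) = 0
        rw [smul_sub, ← mul_smul, ← pow_add, hts, sub_self]
  rcases hS.2 _ _ hsup with h | h
  · left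
    apply le_antisymm (smul_le_self _ _)
    have h3 : x ^ k • S ≤ x • S := by
      have := pow_smul_antitone x S (show 1 ≤ k by omega)
      rwa [pow_one] at this
    rw [h] at h3
    exact h3
  · right
    refine ⟨k, ?_⟩
    rw [eq_bot_iff]
    intro y hy
    obtain ⟨s, hs, rfl⟩ := (Submodule.mem_smul_pointwise_iff_exists _ _ _).mp hy
    have hsB : s ∈ B := by rw [h]; exact hs
    exact hsB.2

theorem exists_finset_sumIrred [IsArtinian R L] (B : Submodule R L) :
    ∃ T : Finset (Submodule R L), (∀ S ∈ T, SumIrred S) ∧ T.sup id = B := by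
  classical
  induction B using WellFoundedLT.induction with
  | ind B ih =>
    by_cases hB : B = ⊥
    · exact ⟨∅, by simp, by simp [hB]⟩
    · by_cases hirr : SumIrred B
      · exact ⟨{B}, by simpa using hirr, by simp⟩
      · have : ∃ A1 A2 : Submodule R L, A1 ⊔ A2 = B ∧ A1 ≠ B ∧ A2 ≠ B := by
          by_contra hcon
          push Not at hcon
          apply hirr
          refine ⟨hB, fun A1 A2 h => ?_⟩
          by_cases h1 : A1 = B
          · exact Or.inl h1
          · exact Or.inr (hcon A1 A2 h h1)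
        obtain ⟨A1, A2, hsup, h1, h2⟩ := this
        have hlt1 : A1 < B := lt_of_le_of_ne (hsup ▸ le_sup_left) h1
        have hlt2 : A2 < B := lt_of_le_of_ne (hsup ▸ le_sup_right) h2
        obtain ⟨T1, hT1, hs1⟩ := ih A1 hlt1
        obtain ⟨T2, hT2, hs2⟩ := ih A2 hlt2
        refine ⟨T1 ∪ T2, ?_, ?_⟩
        · intro S hS
          rcases Finset.mem_union.mp hS with h | h
          · exact hT1 S h
          · exact hT2 S h
        · rw [Finset.sup_union, hs1, hs2, hsup]

/-- only finitely many primes are "attached" to an Artinian module. -/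
theorem exists_finset_attached (R : Type u) [CommRing R] (L : Type v) [AddCommGroup L] [Module R L]
    [IsArtinian R L] :
    ∃ F : Finset (Ideal R), ∀ (q : Ideal R), q.IsPrime →
      ∀ (Y : Type v) [AddCommGroup Y] [Module R Y] [Nontrivial Y] (π : L →ₗ[R] Y),
        Function.Surjective π → (∀ x ∈ q, ∀ y : Y, x • y = 0) →
        (∀ x, x ∉ q → Function.Surjective (fun y : Y => x • y)) → q ∈ F := by
  classical
  obtain ⟨T, hT, hsup⟩ := exists_finset_sumIrred (⊤ : Submodule R L)
  have hsec : ∀ S ∈ T, IsSecondary S := fun S hS => isSecondary_of_sumIrred (hT S hS)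
  refine ⟨T.image (fun S => (Module.annihilator R S).radical), ?_⟩
  intro q hq Y _ _ _ π hπ hkill hsurj
  by_contra hqF
  set B : Submodule R L := LinearMap.ker π with hB
  let J : Finset (Submodule R L) := T.filter (fun S => ¬ S ≤ B)
  have hJ : ∀ S ∈ J, S ∈ T ∧ ¬ S ≤ B := fun S hS => Finset.mem_filter.mp hS
  -- `q ≤ p(S)` for `S ∈ J`
  have hle : ∀ S ∈ J, q ≤ (Module.annihilator R S).radical := by
    intro S hS x hx
    have hxS : x • S ≤ B := by
      intro y hy
      obtain ⟨s, _, rfl⟩ := (Submodule.mem_smul_pointwise_iff_exists _ _ _).mp hy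
      rw [hB, LinearMap.mem_ker, map_smul]
      exact hkill x hx _
    rcases (hsec S (hJ S hS).1).2 x with h | ⟨N, hN⟩
    · exact absurd (h ▸ hxS) (hJ S hS).2
    · refine ⟨N, ?_⟩
      rw [Module.mem_annihilator]
      intro s
      apply Subtype.ext
      have : x ^ N • (s : L) ∈ x ^ N • S := Submodule.smul_mem_pointwise_smul _ _ _ s.2
      rw [hN] at this
      exact this
  -- choose `x_S ∈ p(S) \ q`
  have hex : ∀ S ∈ J, ∃ x, x ∈ (Module.annihilator R S).radical ∧ x ∉ q := by
    intro S hS
    have hne : (Module.annihilator R S).radical ≠ q := by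
      intro h
      exact hqF (Finset.mem_image.mpr ⟨S, (hJ S hS).1, h⟩)
    have hlt : q < (Module.annihilator R S).radical := lt_of_le_of_ne (hle S hS) (Ne.symm hne)
    obtain ⟨x, hx, hxq⟩ := Set.exists_of_ssubset hlt
    exact ⟨x, hx, hxq⟩
  choose! xs hxs using hex
  set x : R := ∏ S ∈ J, xs S with hx
  have hxq : x ∉ q := by
    rw [hx, Ideal.IsPrime.prod_mem_iff]
    rintro ⟨S, hS, hmem⟩
    exact (hxs S hS).2 hmem
  have hxrad : ∀ S ∈ J, x ∈ (Module.annihilator R S).radical := by
    intro S hS
    rw [hx, ← Finset.mul_prod_erase J xs hS]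
    exact Ideal.mul_mem_right _ _ (hxs S hS).1
  have hexN : ∀ S ∈ J, ∃ N : ℕ, x ^ N ∈ Module.annihilator R S := fun S hS => hxrad S hS
  choose! Ns hNs using hexN
  set N : ℕ := ∑ S ∈ J, Ns S with hN
  have hxN : ∀ S ∈ J, x ^ N ∈ Module.annihilator R S := by
    intro S hS
    have hle' : Ns S ≤ N := Finset.single_le_sum (f := Ns) (fun _ _ => Nat.zero_le _) hS
    obtain ⟨k, hk⟩ := Nat.exists_eq_add_of_le hle'
    rw [hk, pow_add]
    exact Ideal.mul_mem_right _ _ (hNs S hS)
  have hxNq : x ^ N ∉ q := fun h => hxq (hq.mem_of_pow_mem _ h)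
  -- `x^N L ⊆ B`
  have hall : ∀ l : L, x ^ N • l ∈ B := by
    have htop : (⊤ : Submodule R L) ≤ B.comap ((x ^ N) • (LinearMap.id : L →ₗ[R] L)) := by
      rw [← hsup]
      refine Finset.sup_le ?_
      intro S hS s hs
      show x ^ N • s ∈ B
      by_cases hSB : S ≤ B
      · exact B.smul_mem _ (hSB hs)
      · have hSJ : S ∈ J := Finset.mem_filter.mpr ⟨hS, hSB⟩
        have := Module.mem_annihilator.mp (hxN S hSJ) ⟨s, hs⟩
        have h2 : x ^ N • s = 0 := congrArg Subtype.val this
        rw [h2]
        exact B.zero_mem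
    intro l
    exact htop (Submodule.mem_top (x := l))
  -- contradiction
  obtain ⟨y, hy⟩ := exists_ne (0 : Y)
  obtain ⟨y', hy'⟩ := hsurj _ hxNq y
  obtain ⟨l', rfl⟩ := hπ y'
  apply hy
  rw [← hy']
  show x ^ N • π l' = 0
  rw [← map_smul]
  exact hall l'

end Groth.Agent.H8.Sec
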