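import Mathlib
import Groth.Prelude.Def_Wider
import Groth.Agent.Lib.helper8.LCArtC
import Groth.Agent.Lib.helper8.CdDimC
import Groth.Agent.Lib.helper8.Secondary

/-!
# Non-vanishing of top local cohomology, part A: dimension lemmas (helper8)
-/

universe u

set_option linter.unusedSectionVars false

namespace Groth.Agent.H8.NonVan

open LocCoh CategoryTheory IsLocalRing Groth.Agent.H8.Matlis Groth.Agent.H21.LC
  Groth.Agent.H8.Gr Groth.Agent.H8.CdDim Groth.Agent.H8.LCArt

variable {R : Type u} [CommRing R]

theorem map_g_surjective (I : Ideal R) {S : ShortComplex (ModuleCat.{u} R)} (hS : S.ShortExact)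
    (d : ℕ) (h : Subsingleton ((localCohomology I (d + 1)).obj S.X₁)) :
    Function.Surjective ((localCohomology I d).map S.g).hom := by
  intro y
  exact ((exact₃ I hS d) y).1 (Subsingleton.elim _ _)

section SurjSES
variable {M M' : Type u} [AddCommGroup M] [Module R M] [AddCommGroup M'] [Module R M']
  (π : M →ₗ[R] M')

/-- `0 → ker π → M → M' → 0`. -/
noncomputable abbrev surjSES : ShortComplex (ModuleCat.{u} R) :=
  ShortComplex.mk (ModuleCat.ofHom (LinearMap.ker π).subtype) (ModuleCat.ofHom π) (by
    refine ModuleCat.hom_ext (LinearMap.ext fun x => ?_)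
    exact x.2)

lemma surjSES_shortExact (hπ : Function.Surjective π) : (surjSES π).ShortExact := by
  refine ModuleCat.shortComplex_shortExact _ ?_ Subtype.val_injective hπ
  intro m
  constructor
  · intro hm
    exact ⟨⟨m, hm⟩, rfl⟩
  · rintro ⟨x, rfl⟩
    exact x.2

end SurjSES

section Dim

variable {N : Type u} [AddCommGroup N] [Module R N]

theorem supportDim_quot_head [Module.Finite R N] (n : ℕ) (hN : Module.supportDim R N = n)
    (l : LTSeries (Module.support R N)) (hl : l.length = n) :
    Module.supportDim R (N ⧸ (l.head.1.asIdeal • ⊤ : Submodule R N)) = n := by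
  apply le_antisymm
  · rw [← hN]
    exact Module.supportDim_le_of_surjective _ (Submodule.mkQ_surjective _)
  · have hmem : ∀ i, (l i).1 ∈
        Module.support R (N ⧸ (l.head.1.asIdeal • ⊤ : Submodule R N)) := by
      intro i
      rw [Module.support_quotient]
      refine ⟨(l i).2, ?_⟩
      have h1 : l.head ≤ l i := LTSeries.head_le l i
      exact h1
    let l' : LTSeries (Module.support R (N ⧸ (l.head.1.asIdeal • ⊤ : Submodule R N))) :=
      { length := l.length
        toFun := fun i => ⟨(l i).1, hmem i⟩
        step := fun i => l.step i }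
    have h2 := Order.LTSeries.length_le_krullDim l'
    have h3 : l'.length = n := hl
    rw [h3] at h2
    exact h2

theorem head_ne_maximalIdeal [IsLocalRing R] (l : LTSeries (Module.support R N))
    (hl : 1 ≤ l.length) : l.head.1.asIdeal ≠ maximalIdeal R := by
  intro h
  have h1 : l.head < l.last := by
    apply l.strictMono
    show (0 : Fin (l.length + 1)) < Fin.last l.length
    rw [Fin.lt_def]
    simp only [Fin.val_zero, Fin.val_last]
    omega
  have h2 : l.head.1.asIdeal < l.last.1.asIdeal := h1
  have h3 : l.last.1.asIdeal ≤ maximalIdeal R := IsLocalRing.le_maximalIdeal l.last.1.2.ne_top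
  rw [h] at h2
  exact lt_irrefl _ (lt_of_lt_of_le h2 h3)

theorem supportDim_lt_of_killed (Z : Type u) [AddCommGroup Z] [Module R Z] (n : ℕ)
    (hN : Module.supportDim R N = n) (q : PrimeSpectrum R) (hq : q ∈ Module.support R N)
    (hsub : Module.support R Z ⊆ Module.support R N)
    (hqZ : ∀ a ∈ q.asIdeal, ∀ z : Z, a • z = 0) (x : R) (hx : x ∉ q.asIdeal)
    (hxZ : ∀ z : Z, x • z = 0) : Module.supportDim R Z < n := by
  by_contra hcon
  rw [not_lt] at hcon
  obtain ⟨l, hl⟩ := Order.le_krullDim_iff.mp hcon
  let l' : LTSeries (Module.support R N) :=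
    l.map (fun p => ⟨p.1, hsub p.2⟩) (fun _ _ h => h)
  have hann : Module.annihilator R Z ≤ l.head.1.asIdeal :=
    Module.annihilator_le_of_mem_support l.head.2
  have hqle : q.asIdeal ≤ l.head.1.asIdeal :=
    fun a ha => hann (Module.mem_annihilator.mpr (hqZ a ha))
  have hxmem : x ∈ l.head.1.asIdeal := hann (Module.mem_annihilator.mpr hxZ)
  have hhead : l'.head = ⟨l.head.1, hsub l.head.2⟩ := LTSeries.head_map _ _ _
  have hlt : (⟨q, hq⟩ : Module.support R N) < l'.head := by
    rw [hhead]
    show q.asIdeal < l.head.1.asIdeal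
    refine lt_of_le_of_ne hqle ?_
    intro h
    exact hx (h ▸ hxmem)
  have h1 := Order.LTSeries.length_le_krullDim (l'.cons ⟨q, hq⟩ hlt)
  rw [RelSeries.cons_length, LTSeries.map_length, hl] at h1
  have h2 : Order.krullDim (Module.support R N) = n := hN
  rw [h2] at h1
  have h3 : n + 1 ≤ n := by exact_mod_cast h1
  omega

end Dim

end Groth.Agent.H8.NonVan
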