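import Mathlib
import Groth.Prelude.Def_Wider
import Groth.Agent.Lib.helper8.LCNonVanA

/-!
# Non-vanishing of top local cohomology, part B (helper8)
-/

universe u

set_option linter.unusedSectionVars false

namespace Groth.Agent.H8.NonVan

open LocCoh CategoryTheory IsLocalRing Groth.Agent.H8.Matlis Groth.Agent.H21.LC
  Groth.Agent.H8.Gr Groth.Agent.H8.CdDim Groth.Agent.H8.LCArt Groth.Agent.H8.LCGor

variable {R : Type u} [CommRing R] [IsNoetherianRing R] [IsLocalRing R]

theorem nontrivial_of_supportDim_eq_nat (M : Type u) [AddCommGroup M] [Module R M] (n : ℕ)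
    (h : Module.supportDim R M = n) : Nontrivial M := by
  rw [← Module.supportDim_ne_bot_iff_nontrivial R, h]
  exact_mod_cast WithBot.coe_ne_bot (a := (n : ℕ∞))

/-- the base case. -/
theorem nontrivial_H0 (M : Type u) [AddCommGroup M] [Module R M] [Module.Finite R M]
    (h0 : Module.supportDim R M = 0) : Nontrivial (H (maximalIdeal R) 0 M) := by
  haveI : IsArtinian R M := isArtinian_of_supportDim_eq_zero M h0
  haveI : Nontrivial M := nontrivial_of_supportDim_eq_nat M 0 (by exact_mod_cast h0)
  have hT := isPowerTorsion_of_isArtinian (R := R) M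
  have htop : DRing.torsionSub (maximalIdeal R) M = ⊤ := by
    rw [eq_top_iff]
    intro y _
    exact hT y
  have e0 : (localCohomology (maximalIdeal R) 0).obj (ModuleCat.of R M) ≃ₗ[R] M :=
    (H0Equiv (maximalIdeal R) (ModuleCat.of R M)).trans (LinearEquiv.ofTop _ htop)
  exact e0.toEquiv.nontrivial

/-- a module of positive dimension is not `m`-power torsion. -/
theorem torsionSub_ne_top (M : Type u) [AddCommGroup M] [Module R M]
    (hdim : 0 < Module.supportDim R M) : DRing.torsionSub (maximalIdeal R) M ≠ ⊤ := by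
  intro htop
  obtain ⟨p, p', hpp'⟩ := Order.krullDim_pos_iff.mp hdim
  obtain ⟨y, hy⟩ := Module.mem_support_iff_exists_annihilator.mp p.2
  have hyT : y ∈ DRing.torsionSub (maximalIdeal R) M := by rw [htop]; exact Submodule.mem_top
  obtain ⟨k, hk⟩ := hyT
  have h1 : maximalIdeal R ^ k ≤ p.1.asIdeal := by
    intro a ha
    apply hy
    rw [Submodule.mem_annihilator_span_singleton]
    exact hk a ha
  have h2 : maximalIdeal R ≤ p.1.asIdeal := p.1.2.le_of_pow_le h1
  have h3 : p'.1.asIdeal ≤ maximalIdeal R := IsLocalRing.le_maximalIdeal p'.1.2.ne_top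
  have h4 : p.1.asIdeal < p'.1.asIdeal := hpp'
  exact lt_irrefl _ (lt_of_lt_of_le h4 (h3.trans h2))

theorem withBot_le_one (b : WithBot ℕ∞) (h : b + 1 ≤ 1) (hb : b ≠ ⊥) : b = 0 := by
  induction b with
  | bot => exact absurd rfl hb
  | coe b =>
    induction b with
    | top =>
      exfalso
      have h2 : ((⊤ + 1 : ℕ∞) : WithBot ℕ∞) ≤ ((1 : ℕ∞) : WithBot ℕ∞) := by exact_mod_cast h
      have h3 : (⊤ + 1 : ℕ∞) ≤ 1 := WithBot.coe_le_coe.mp h2
      rw [top_add] at h3
      exact absurd (top_le_iff.mp h3) ENat.one_ne_top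
    | coe b =>
      have h2 : b + 1 ≤ 1 := by exact_mod_cast h
      have h3 : b = 0 := by omega
      rw [h3]; rfl

/-- the dimension one case. -/
theorem step_one
    (ih0 : ∀ (M : Type u) [AddCommGroup M] [Module R M] [Module.Finite R M],
      Module.supportDim R M = 0 → Nontrivial (H (maximalIdeal R) 0 M))
    (M : Type u) [AddCommGroup M] [Module R M] [Module.Finite R M]
    (hdim : Module.supportDim R M = 1) (hvan : Subsingleton (H (maximalIdeal R) 1 M)) : False := by
  have hbij := map_mkQ_bijective (maximalIdeal R) M 1 (by omega)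
  let eM := LinearEquiv.ofBijective _ hbij
  haveI hvanQ : Subsingleton (H (maximalIdeal R) 1 (M ⧸ DRing.torsionSub (maximalIdeal R) M)) :=
    eM.symm.toEquiv.subsingleton
  -- `Q` is nontrivial
  haveI hQ : Nontrivial (M ⧸ DRing.torsionSub (maximalIdeal R) M) := by
    rw [Submodule.Quotient.nontrivial_iff]
    exact torsionSub_ne_top M (by rw [hdim]; exact zero_lt_one)
  obtain ⟨r, hrm, hreg⟩ := exists_isSMulRegular_of_torsionSub_eq_zero (maximalIdeal R)
    (M ⧸ DRing.torsionSub (maximalIdeal R) M)
    (fun y hy => torsionSub_quot_eq_zero (maximalIdeal R) M y hy)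
  have hle : Module.supportDim R (M ⧸ DRing.torsionSub (maximalIdeal R) M) ≤ 1 := by
    rw [← hdim]
    exact Module.supportDim_le_of_surjective _ (Submodule.mkQ_surjective _)
  have hd := Module.supportDim_quotSMulTop_succ_eq_supportDim hreg hrm
  haveI := nontrivial_quotSMulTop_of_mem_maximalIdeal
    (M ⧸ DRing.torsionSub (maximalIdeal R) M) hrm
  have h0 : Module.supportDim R (QuotSMulTop r (M ⧸ DRing.torsionSub (maximalIdeal R) M)) = 0 :=
    withBot_le_one _ (hd ▸ hle) (Module.supportDim_ne_bot_of_nontrivial R _)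
  haveI hnt := ih0 _ h0
  -- `H^0(Q) = 0`
  haveI hH0 : Subsingleton ((localCohomology (maximalIdeal R) 0).obj
      (ModuleCat.of R (M ⧸ DRing.torsionSub (maximalIdeal R) M))) := by
    have e := H0Equiv (maximalIdeal R) (ModuleCat.of R (M ⧸ DRing.torsionSub (maximalIdeal R) M))
    haveI : Subsingleton (DRing.torsionSub (maximalIdeal R)
        (ModuleCat.of R (M ⧸ DRing.torsionSub (maximalIdeal R) M))) := by
      refine ⟨fun a b => ?_⟩
      apply Subtype.ext
      rw [torsionSub_quot_eq_zero (maximalIdeal R) M a.1 a.2,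
        torsionSub_quot_eq_zero (maximalIdeal R) M b.1 b.2]
    exact e.toEquiv.subsingleton
  have hinj := δ_injective_of_subsingleton (maximalIdeal R)
    (M ⧸ DRing.torsionSub (maximalIdeal R) M) r hreg 0 hH0
  haveI hvanQ' : Subsingleton ((localCohomology (maximalIdeal R) (0 + 1)).obj
      ((ModuleCat.of R (M ⧸ DRing.torsionSub (maximalIdeal R) M)).smulShortComplex r).X₁) := hvanQ
  obtain ⟨a, b, hab⟩ := hnt.exists_pair_ne
  exact hab (hinj (Subsingleton.elim _ _))

end Groth.Agent.H8.NonVan
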