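import Mathlib
import Groth.Prelude.Def_Wider
import Groth.Agent.Lib.helper8.LCNonVanB

/-!
# Non-vanishing of top local cohomology, part C: the inductive step and the theorem (helper8)
-/

universe u

set_option linter.unusedSectionVars false

namespace Groth.Agent.H8.NonVan

open LocCoh CategoryTheory IsLocalRing Groth.Agent.H8.Matlis Groth.Agent.H21.LC
  Groth.Agent.H8.Gr Groth.Agent.H8.CdDim Groth.Agent.H8.LCArt Groth.Agent.H8.LCGor

open Pointwise

/-- variant of `smul_surjective_H` with the vanishing hypothesis only on the kernel. -/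
theorem smul_surjective_H' {R : Type u} [CommRing R] (I : Ideal R) (M : Type u) [AddCommGroup M]
    [Module R M] (f : R) (d : ℕ)
    (hK : Subsingleton ((localCohomology I (d + 1)).obj
      (ModuleCat.of R (LinearMap.ker (f • (LinearMap.id : M →ₗ[R] M))))))
    (hQ : Subsingleton ((localCohomology I d).obj
      (ModuleCat.of R (M ⧸ LinearMap.range (f • (LinearMap.id : M →ₗ[R] M)))))) :
    Function.Surjective (fun x : H I d M => f • x) := by
  set e : M →ₗ[R] M := f • LinearMap.id with he
  have hS1 := kerSES_shortExact e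
  have hS2 := rangeSES_shortExact e
  have s1 : Function.Surjective ((localCohomology I d).map (kerSES e).g).hom :=
    map_g_surjective I hS1 d hK
  have s2 : Function.Surjective ((localCohomology I d).map (rangeSES e).f).hom := by
    intro y
    haveI : Subsingleton ((localCohomology I d).obj (rangeSES e).X₃) := hQ
    exact ((exact₂ I hS2 d) y).1 (Subsingleton.elim _ _)
  have hcomp : ModuleCat.ofHom e = f • 𝟙 (ModuleCat.of R M) := by
    refine ModuleCat.hom_ext (LinearMap.ext fun x => ?_)
    rfl
  intro y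
  obtain ⟨z, hz⟩ := s2 y
  obtain ⟨w, hw⟩ := s1 z
  refine ⟨w, ?_⟩
  show f • w = y
  rw [← map_smul_id I d (ModuleCat.of R M) f w, ← hcomp, ofHom_eq_comp e,
    CategoryTheory.Functor.map_comp]
  show ((localCohomology I d).map (rangeSES e).f).hom
    (((localCohomology I d).map (kerSES e).g).hom w) = y
  rw [hw, hz]

variable {R : Type u} [CommRing R] [IsNoetherianRing R] [IsLocalRing R]

theorem step_general (n : ℕ) (hpos : 1 ≤ n)
    (ih : ∀ (M : Type u) [AddCommGroup M] [Module R M] [Module.Finite R M],
      Module.supportDim R M = n → Nontrivial (H (maximalIdeal R) n M))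
    (M : Type u) [AddCommGroup M] [Module R M] [Module.Finite R M]
    (hdim : Module.supportDim R M = ((n + 1 : ℕ) : WithBot ℕ∞))
    (hvan : Subsingleton (H (maximalIdeal R) (n + 1) M)) : False := by
  classical
  haveI hL : IsArtinian R (H (maximalIdeal R) n M) :=
    isArtinian_H_of_isMaximal (maximalIdeal R) n M
  obtain ⟨F, hF⟩ := Sec.exists_finset_attached R (H (maximalIdeal R) n M)
  -- prime avoidance
  have hfinmin : ((Module.annihilator R M).minimalPrimes).Finite :=
    Ideal.finite_minimalPrimes_of_isNoetherianRing R _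
  set P : Finset (Ideal R) :=
    hfinmin.toFinset ∪ F.filter (fun q => q.IsPrime ∧ q ≠ maximalIdeal R) with hP
  have hPprime : ∀ p ∈ P, p.IsPrime := by
    intro p hp
    rcases Finset.mem_union.mp hp with h | h
    · exact ((Set.Finite.mem_toFinset _).mp h).1.1
    · exact (Finset.mem_filter.mp h).2.1
  have hPne : ∀ p ∈ P, ¬ maximalIdeal R ≤ p := by
    intro p hp hle
    rcases Finset.mem_union.mp hp with h | h
    · have hpmin : p ∈ (Module.annihilator R M).minimalPrimes := (Set.Finite.mem_toFinset _).mp h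
      have hpos' : 0 < Module.supportDim R M := by
        rw [hdim]
        exact_mod_cast Nat.succ_pos n
      obtain ⟨a, b, hab⟩ := Order.krullDim_pos_iff.mp hpos'
      have h1 : Module.annihilator R M ≤ a.1.asIdeal := Module.annihilator_le_of_mem_support a.2
      have h2 : a.1.asIdeal < b.1.asIdeal := hab
      have h3 : b.1.asIdeal ≤ maximalIdeal R := le_maximalIdeal b.1.2.ne_top
      have h4 : a.1.asIdeal ≤ p := (h2.le.trans h3).trans hle
      have h5 : p ≤ a.1.asIdeal := hpmin.2 ⟨a.1.2, h1⟩ h4
      exact lt_irrefl _ (lt_of_lt_of_le h2 (h3.trans (hle.trans h5)))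
    · have h1 := (Finset.mem_filter.mp h).2
      exact h1.2 ((IsLocalRing.maximalIdeal.isMaximal R).eq_of_le h1.1.ne_top hle).symm
  have hex : ∃ r ∈ maximalIdeal R, ∀ p ∈ P, r ∉ p := by
    by_contra hcon
    push Not at hcon
    have hsubset : ((maximalIdeal R : Ideal R) : Set R) ⊆
        ⋃ p ∈ (P : Set (Ideal R)), (p : Set R) := by
      intro x hx
      obtain ⟨p, hp, hxp⟩ := hcon x hx
      exact Set.mem_biUnion (Finset.mem_coe.mpr hp) hxp
    obtain ⟨p, hp, hle⟩ := (Ideal.subset_union_prime (s := P) (f := fun p => p) ⊥ ⊥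
      (fun p hp _ _ => hPprime p hp)).mp hsubset
    exact hPne p hp hle
  obtain ⟨r, hrm, hr⟩ := hex
  -- the module `N = M / rM`
  set e : M →ₗ[R] M := r • LinearMap.id with he
  have hrange : LinearMap.range e = r • (⊤ : Submodule R M) := by
    ext y
    constructor
    · rintro ⟨x, rfl⟩
      exact Submodule.smul_mem_pointwise_smul _ _ _ Submodule.mem_top
    · intro hy
      obtain ⟨x, _, rfl⟩ := (Submodule.mem_smul_pointwise_iff_exists _ _ _).mp hy
      exact ⟨x, rfl⟩
  have hdQ : Module.supportDim R (QuotSMulTop r M) + 1 = Module.supportDim R M :=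
    Module.supportDim_quotSMulTop_succ_eq_of_notMem_minimalPrimes_of_mem_maximalIdeal
      (fun p hp => hr p (Finset.mem_union_left _ ((Set.Finite.mem_toFinset _).mpr hp))) hrm
  have hdN : Module.supportDim R (M ⧸ LinearMap.range e) = n := by
    rw [Module.supportDim_eq_of_equiv (Submodule.quotEquivOfEq _ _ hrange)]
    exact withBot_cancel _ n (hdQ.trans hdim)
  -- `H^n(M) ↠ H^n(N)`
  have hS1 := kerSES_shortExact e
  have hS2 := rangeSES_shortExact e
  have hK : Subsingleton ((localCohomology (maximalIdeal R) (n + 1 + 1)).obj (kerSES e).X₁) := by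
    show Subsingleton (H (maximalIdeal R) (n + 1 + 1) ↥(LinearMap.ker e))
    refine subsingleton_H_of_supportDim_lt _ _ _ ?_
    calc Module.supportDim R ↥(LinearMap.ker e) ≤ Module.supportDim R M :=
          Module.supportDim_le_of_injective (LinearMap.ker e).subtype Subtype.val_injective
      _ = ((n + 1 : ℕ) : WithBot ℕ∞) := hdim
      _ < ((n + 1 + 1 : ℕ) : WithBot ℕ∞) := by exact_mod_cast Nat.lt_succ_self _
  have s1 := map_g_surjective (maximalIdeal R) hS1 (n + 1) hK
  have hR : Subsingleton ((localCohomology (maximalIdeal R) (n + 1)).obj (rangeSES e).X₁) := by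
    refine ⟨fun a b => ?_⟩
    obtain ⟨a', rfl⟩ := s1 a
    obtain ⟨b', rfl⟩ := s1 b
    have : a' = b' := hvan.elim a' b'
    rw [this]
  have s2 := map_g_surjective (maximalIdeal R) hS2 n hR
  -- a prime of maximal coheight in the support of `N`
  obtain ⟨l, hl⟩ := Order.le_krullDim_iff.mp (le_of_eq hdN.symm)
  have hqdim := supportDim_quot_head n hdN l hl
  have hqne := head_ne_maximalIdeal l (by omega)
  have hdNlt : Module.supportDim R (M ⧸ LinearMap.range e) < ((n + 1 : ℕ) : WithBot ℕ∞) := by
    rw [hdN]
    exact_mod_cast Nat.lt_succ_self _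
  -- `H^n(N) ↠ H^n(N/qN)`
  have hS3 := surjSES_shortExact
    (l.head.1.asIdeal • ⊤ : Submodule R (M ⧸ LinearMap.range e)).mkQ (Submodule.mkQ_surjective _)
  have hK3 : Subsingleton ((localCohomology (maximalIdeal R) (n + 1)).obj
      (surjSES (l.head.1.asIdeal • ⊤ : Submodule R (M ⧸ LinearMap.range e)).mkQ).X₁) := by
    show Subsingleton (H (maximalIdeal R) (n + 1) ↥(LinearMap.ker
      (l.head.1.asIdeal • ⊤ : Submodule R (M ⧸ LinearMap.range e)).mkQ))
    refine subsingleton_H_of_supportDim_lt _ _ _ ?_
    exact lt_of_le_of_lt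
      (Module.supportDim_le_of_injective (LinearMap.ker _).subtype Subtype.val_injective) hdNlt
  have s3 := map_g_surjective (maximalIdeal R) hS3 n hK3
  let π : H (maximalIdeal R) n M →ₗ[R] H (maximalIdeal R) n
      ((M ⧸ LinearMap.range e) ⧸
        (l.head.1.asIdeal • ⊤ : Submodule R (M ⧸ LinearMap.range e))) :=
    ((localCohomology (maximalIdeal R) n).map
      (surjSES (l.head.1.asIdeal • ⊤ : Submodule R (M ⧸ LinearMap.range e)).mkQ).g).hom ∘ₗ
    ((localCohomology (maximalIdeal R) n).map (rangeSES e).g).hom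
  have hπ : Function.Surjective π := s3.comp s2
  haveI hY : Nontrivial (H (maximalIdeal R) n ((M ⧸ LinearMap.range e) ⧸
      (l.head.1.asIdeal • ⊤ : Submodule R (M ⧸ LinearMap.range e)))) := ih _ hqdim
  have hkillmod : ∀ x ∈ l.head.1.asIdeal, ∀ z : ((M ⧸ LinearMap.range e) ⧸
      (l.head.1.asIdeal • ⊤ : Submodule R (M ⧸ LinearMap.range e))), x • z = 0 := by
    intro x hx z
    obtain ⟨w, rfl⟩ := Submodule.Quotient.mk_surjective _ z
    rw [← Submodule.Quotient.mk_smul, Submodule.Quotient.mk_eq_zero]
    exact Submodule.smul_mem_smul hx Submodule.mem_top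
  have hkill : ∀ x ∈ l.head.1.asIdeal, ∀ y : H (maximalIdeal R) n ((M ⧸ LinearMap.range e) ⧸
      (l.head.1.asIdeal • ⊤ : Submodule R (M ⧸ LinearMap.range e))), x • y = 0 :=
    fun x hx y => smul_eq_zero_of_kills (maximalIdeal R) n _ x (hkillmod x hx) y
  have hqdimlt : Module.supportDim R ((M ⧸ LinearMap.range e) ⧸
      (l.head.1.asIdeal • ⊤ : Submodule R (M ⧸ LinearMap.range e))) <
        ((n + 1 : ℕ) : WithBot ℕ∞) := by
    rw [hqdim]
    exact_mod_cast Nat.lt_succ_self _
  have hsurj : ∀ x, x ∉ l.head.1.asIdeal → Function.Surjective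
      (fun y : H (maximalIdeal R) n ((M ⧸ LinearMap.range e) ⧸
        (l.head.1.asIdeal • ⊤ : Submodule R (M ⧸ LinearMap.range e))) => x • y) := by
    intro x hx
    refine smul_surjective_H' (maximalIdeal R) _ x n ?_ ?_
    · refine subsingleton_H_of_supportDim_lt _ _ _ ?_
      exact lt_of_le_of_lt
        (Module.supportDim_le_of_injective (LinearMap.ker _).subtype Subtype.val_injective) hqdimlt
    · refine subsingleton_H_of_supportDim_lt _ _ _ ?_
      refine supportDim_lt_of_killed (N := M ⧸ LinearMap.range e) _ n hdN l.head.1 l.head.2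
        ?_ ?_ x hx ?_
      · exact (Module.support_subset_of_surjective _ (Submodule.mkQ_surjective _)).trans
          (Module.support_subset_of_surjective _ (Submodule.mkQ_surjective _))
      · intro a ha z
        obtain ⟨w, rfl⟩ := Submodule.Quotient.mk_surjective _ z
        rw [← Submodule.Quotient.mk_smul, hkillmod a ha w, Submodule.Quotient.mk_zero]
      · intro z
        obtain ⟨w, rfl⟩ := Submodule.Quotient.mk_surjective _ z
        rw [← Submodule.Quotient.mk_smul, Submodule.Quotient.mk_eq_zero]
        exact ⟨w, rfl⟩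
  have hqF : l.head.1.asIdeal ∈ F := hF l.head.1.asIdeal l.head.1.2 _ π hπ hkill hsurj
  have hrq : r ∈ l.head.1.asIdeal := by
    have h1 : Module.annihilator R (M ⧸ LinearMap.range e) ≤ l.head.1.asIdeal :=
      Module.annihilator_le_of_mem_support l.head.2
    apply h1
    rw [Module.mem_annihilator]
    intro z
    obtain ⟨w, rfl⟩ := Submodule.Quotient.mk_surjective _ z
    rw [← Submodule.Quotient.mk_smul, Submodule.Quotient.mk_eq_zero]
    exact ⟨w, rfl⟩
  exact hr l.head.1.asIdeal
    (Finset.mem_union_right _ (Finset.mem_filter.mpr ⟨hqF, l.head.1.2, hqne⟩)) hrq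

/-- **Grothendieck's non-vanishing theorem.** -/
theorem nontrivial_H_supportDim : ∀ (n : ℕ) (M : Type u) [AddCommGroup M] [Module R M]
    [Module.Finite R M], Module.supportDim R M = n → Nontrivial (H (maximalIdeal R) n M) := by
  intro n
  induction n with
  | zero =>
    intro M _ _ _ h0
    exact nontrivial_H0 M (by exact_mod_cast h0)
  | succ n ih =>
    intro M _ _ _ hdim
    by_contra hnt
    rw [not_nontrivial_iff_subsingleton] at hnt
    rcases Nat.eq_zero_or_pos n with rfl | hpos
    · exact step_one (fun M _ _ _ h => ih M (by exact_mod_cast h)) M (by exact_mod_cast hdim) hnt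
    · exact step_general n hpos ih M hdim hnt

end Groth.Agent.H8.NonVan
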