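import Mathlib
import Groth.Prelude.Def_Wider
import Groth.Agent.Lib.helper8.CdDimC
import Groth.Agent.Lib.helper8.LCNonVanC
import Groth.Agent.Lib.helper8.MatlisB

/-!
# Canonical modules, part B (helper8): regular elements and associated primes of a canonical module.
-/

universe u

set_option linter.unusedSectionVars false

namespace Groth.Agent.H8.Canon

open CategoryTheory LocCoh InjHull IsLocalRing Groth.Agent.H21.LC Groth.Agent.H8.CdDim

variable {R : Type u} [CommRing R]

/-- converse of `smul_surjective_H`: if `f` is surjective on `H^d_I(M)` (and `H^{d+1}_I = 0`) then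
`H^d_I(M/fM) = 0`. -/
theorem subsingleton_H_quot_of_smul_surjective (I : Ideal R) (M : Type u) [AddCommGroup M]
    [Module R M] (f : R) (d : ℕ)
    (hcd : ∀ N : ModuleCat.{u} R, Subsingleton ((localCohomology I (d + 1)).obj N))
    (hs : Function.Surjective (fun x : H I d M => f • x)) :
    Subsingleton ((localCohomology I d).obj
      (ModuleCat.of R (M ⧸ LinearMap.range (f • (LinearMap.id : M →ₗ[R] M))))) := by
  set e : M →ₗ[R] M := f • LinearMap.id with he
  have hS2 := rangeSES_shortExact e
  have hcomp : ModuleCat.ofHom e = f • 𝟙 (ModuleCat.of R M) := by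
    refine ModuleCat.hom_ext (LinearMap.ext fun x => ?_)
    rfl
  have s2 : Function.Surjective ((localCohomology I d).map (rangeSES e).f).hom := by
    intro y
    obtain ⟨w, hw⟩ := hs y
    refine ⟨((localCohomology I d).map (kerSES e).g).hom w, ?_⟩
    have hw' : f • w = y := hw
    rw [← hw', ← map_smul_id I d (ModuleCat.of R M) f w, ← hcomp, ofHom_eq_comp e,
      CategoryTheory.Functor.map_comp]
    rfl
  have s3 : Function.Surjective ((localCohomology I d).map (rangeSES e).g).hom := by
    intro y
    haveI := hcd (rangeSES e).X₁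
    exact ((exact₃ I hS2 d) y).1 (Subsingleton.elim _ _)
  have key : ∀ y : (localCohomology I d).obj (rangeSES e).X₃, y = 0 := by
    intro y
    obtain ⟨z, rfl⟩ := s3 y
    obtain ⟨w, rfl⟩ := s2 z
    exact ((exact₂ I hS2 d) _).2 ⟨w, rfl⟩
  refine ⟨fun a b => ?_⟩
  exact (key a).trans (key b).symm

section Dual

variable [IsLocalRing R] {E : Type u} [AddCommGroup E] [Module R E]
  {f : ResidueField R →ₗ[R] E}

/-- if `a` is surjective on `Hom(K, E)` then `a` is regular on `K`. -/
theorem isSMulRegular_of_surjective_dual (hf : IsInjectiveHull f) (K : Type u) [AddCommGroup K]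
    [Module R K] (a : R) (hs : Function.Surjective (fun g : K →ₗ[R] E => a • g)) :
    IsSMulRegular K a := by
  intro x y hxy
  by_contra hne
  have hsub : x - y ≠ 0 := sub_ne_zero.mpr hne
  obtain ⟨g, hg⟩ := Matlis.exists_hom_ne_zero f hf hsub
  obtain ⟨g', rfl⟩ := hs g
  apply hg
  show (a • g') (x - y) = 0
  have h1 : a • x = a • y := hxy
  rw [LinearMap.smul_apply, ← map_smul, smul_sub, h1, sub_self, map_zero]

/-- if `a` is regular on `K` then `a` is surjective on `Hom(K, E)`, `E` injective. -/
theorem surjective_dual_of_isSMulRegular (hE : Module.Injective R E) (K : Type u) [AddCommGroup K]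
    [Module R K] (a : R) (ha : IsSMulRegular K a) :
    Function.Surjective (fun g : K →ₗ[R] E => a • g) := by
  intro g
  obtain ⟨g', hg'⟩ := Module.Injective.extension_property R E K K
    (a • (LinearMap.id : K →ₗ[R] K)) ha g
  refine ⟨g', ?_⟩
  ext x
  show a • g' x = g x
  rw [← map_smul]
  exact LinearMap.congr_fun hg' x

variable [IsNoetherianRing R]

/-- the regular elements on a canonical module are the elements avoiding the top-dimensional
minimal primes. -/
theorem isSMulRegular_canon_iff (n : ℕ) (hn : ringKrullDim R = n) (hf : IsInjectiveHull f)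
    (K : Type u) [AddCommGroup K] [Module R K]
    (eK : (K →ₗ[R] E) ≃ₗ[R] H (maximalIdeal R) n R) (a : R) :
    IsSMulRegular K a ↔ ∀ p ∈ minimalPrimes R, ringKrullDim (R ⧸ p) = n → a ∉ p := by
  have hcd : ∀ N : ModuleCat.{u} R,
      Subsingleton ((localCohomology (maximalIdeal R) (n + 1)).obj N) := fun N =>
    cdLE_of_ringKrullDim_le R (maximalIdeal R) n hn.le N (n + 1) (by omega)
  constructor
  · intro hreg p hp hdim hap
    have h1 := surjective_dual_of_isSMulRegular hf.isInjective K a hreg
    have h2 : Function.Surjective (fun x : H (maximalIdeal R) n R => a • x) := by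
      intro x
      obtain ⟨g, hg⟩ := h1 (eK.symm x)
      refine ⟨eK g, ?_⟩
      show a • eK g = x
      rw [← map_smul]
      have hg' : a • g = eK.symm x := hg
      rw [hg', LinearEquiv.apply_symm_apply]
    have h3 := subsingleton_H_quot_of_smul_surjective (maximalIdeal R) R a n hcd h2
    -- but `dim R/aR = n`
    have hle : LinearMap.range (a • (LinearMap.id : R →ₗ[R] R)) ≤ p := by
      rintro _ ⟨r, rfl⟩
      show a • r ∈ p
      exact Ideal.mul_mem_right _ _ hap
    have hdimq : Module.supportDim R (R ⧸ LinearMap.range (a • (LinearMap.id : R →ₗ[R] R))) = n := by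
      refine le_antisymm ((Module.supportDim_le_ringKrullDim R _).trans hn.le) ?_
      rw [← hdim, ← Module.supportDim_quotient_eq_ringKrullDim]
      refine Module.supportDim_le_of_surjective (Submodule.mapQ _ p LinearMap.id
        (by simpa using hle)) ?_
      intro y
      obtain ⟨r, rfl⟩ := Submodule.Quotient.mk_surjective _ y
      exact ⟨Submodule.Quotient.mk r, rfl⟩
    have h4 := Groth.Agent.H8.NonVan.nontrivial_H_supportDim n
      (R ⧸ LinearMap.range (a • (LinearMap.id : R →ₗ[R] R))) hdimq
    exact not_subsingleton _ h3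
  · intro hav
    have h2 := smul_surjective_H_top (maximalIdeal R) n hn a hav R
    refine isSMulRegular_of_surjective_dual hf K a ?_
    intro g
    obtain ⟨x, hx⟩ := h2 (eK g)
    refine ⟨eK.symm x, ?_⟩
    show a • eK.symm x = g
    rw [← map_smul]
    have hx' : a • x = eK g := hx
    rw [hx', LinearEquiv.symm_apply_apply]

end Dual


section Ass

/-- `dim R/p` as a coheight. -/
theorem ringKrullDim_quotient_eq_coheight (p : Ideal R) [p.IsPrime] :
    ringKrullDim (R ⧸ p) = (Order.coheight (⟨p, inferInstance⟩ : PrimeSpectrum R) : WithBot ℕ∞) := by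
  have hset : PrimeSpectrum.zeroLocus (p : Set R) =
      Set.Ici (⟨p, inferInstance⟩ : PrimeSpectrum R) := by
    ext q
    exact Iff.rfl
  rw [ringKrullDim_quotient, hset, ← Order.coheight_eq_krullDim_Ici]

/-- a prime with `dim R/p = dim R < ∞` is a minimal prime. -/
theorem mem_minimalPrimes_of_dim_eq (n : ℕ) (hn : ringKrullDim R = n) (p : Ideal R) [p.IsPrime]
    (hp : ringKrullDim (R ⧸ p) = n) : p ∈ minimalPrimes R := by
  obtain ⟨q, hqmin, hq⟩ := Ideal.exists_minimalPrimes_le (I := (⊥ : Ideal R)) (J := p) bot_le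
  by_cases hqe : q = p
  · rw [← hqe]; exact hqmin
  · exfalso
    haveI : q.IsPrime := hqmin.1.1
    have hlt : (⟨q, inferInstance⟩ : PrimeSpectrum R) < ⟨p, inferInstance⟩ := by
      refine lt_of_le_of_ne hq ?_
      intro h
      exact hqe (congrArg PrimeSpectrum.asIdeal h)
    have h1 := Order.coheight_add_one_le hlt
    have h2 : (Order.coheight (⟨q, inferInstance⟩ : PrimeSpectrum R) : WithBot ℕ∞) ≤ n := by
      rw [← hn]
      exact Order.coheight_le_krullDim _
    rw [ringKrullDim_quotient_eq_coheight] at hp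
    have h3 : Order.coheight (⟨p, inferInstance⟩ : PrimeSpectrum R) = (n : ℕ∞) := by
      exact_mod_cast hp
    rw [h3] at h1
    have h4 : Order.coheight (⟨q, inferInstance⟩ : PrimeSpectrum R) ≤ (n : ℕ∞) := by
      exact_mod_cast h2
    have h5 : ((n : ℕ∞) + 1) ≤ n := h1.trans h4
    have h6 : (n + 1 : ℕ) ≤ n := by exact_mod_cast h5
    omega

variable [IsLocalRing R] {E : Type u} [AddCommGroup E] [Module R E]
  {f : ResidueField R →ₗ[R] E} [IsNoetherianRing R]

/-- the associated primes of a canonical module are the primes of maximal coheight. -/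
theorem associatedPrimes_canon (n : ℕ) (hn : ringKrullDim R = n) (hf : IsInjectiveHull f)
    (K : Type u) [AddCommGroup K] [Module R K] [Module.Finite R K]
    (eK : (K →ₗ[R] E) ≃ₗ[R] H (maximalIdeal R) n R) :
    associatedPrimes R K = {p : Ideal R | p.IsPrime ∧ ringKrullDim (R ⧸ p) = n} := by
  classical
  have hreg := isSMulRegular_canon_iff n hn hf K eK
  set T : Set (Ideal R) := {p | p ∈ minimalPrimes R ∧ ringKrullDim (R ⧸ p) = n} with hT
  have hTfin : T.Finite := (minimalPrimes.finite_of_isNoetherianRing R).subset (fun p hp => hp.1)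
  have hTprime : ∀ p ∈ T, p.IsPrime := fun p hp => hp.1.1.1
  -- an ideal all of whose elements are zero-divisors lies in a member of `T`
  have avoid : ∀ q : Ideal R, (∀ a ∈ q, ¬ IsSMulRegular K a) → ∃ p ∈ T, q ≤ p := by
    intro q hq
    have hsub : (q : Set R) ⊆ ⋃ p ∈ (↑hTfin.toFinset : Set (Ideal R)), (id p : Ideal R) := by
      intro a ha
      have h1 := hq a ha
      rw [hreg a] at h1
      push Not at h1
      obtain ⟨p, hpmin, hpdim, hap⟩ := h1
      refine Set.mem_biUnion (x := p) ?_ hap
      rw [Finset.mem_coe, Set.Finite.mem_toFinset]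
      exact ⟨hpmin, hpdim⟩
    obtain ⟨p, hp, hqp⟩ := (Ideal.subset_union_prime (s := hTfin.toFinset) (f := id) ⊥ ⊥
      (fun i hi _ _ => hTprime i ((Set.Finite.mem_toFinset _).mp hi))).mp hsub
    exact ⟨p, (Set.Finite.mem_toFinset _).mp hp, hqp⟩
  ext q
  constructor
  · intro hq
    have hq' : IsAssociatedPrime q K := hq
    haveI hqprime : q.IsPrime := hq'.isPrime
    obtain ⟨_, φ, hφ⟩ := (isAssociatedPrime_iff_exists_injective_linearMap q K).mp hq'
    have hzd : ∀ a ∈ q, ¬ IsSMulRegular K a := by
      intro a ha hareg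
      have h1 : a • φ 1 = a • (0 : K) := by
        rw [smul_zero, ← map_smul]
        have : a • (1 : R ⧸ q) = 0 := by
          rw [Algebra.smul_def, mul_one]
          exact Ideal.Quotient.eq_zero_iff_mem.mpr ha
        rw [this, map_zero]
      have h2 : φ 1 = 0 := hareg h1
      have h3 : (1 : R ⧸ q) = 0 := hφ (by rw [h2, map_zero])
      exact one_ne_zero h3
    obtain ⟨p, hpT, hqp⟩ := avoid q hzd
    have hpq : p ≤ q := hpT.1.2 ⟨hqprime, bot_le⟩ hqp
    have : q = p := le_antisymm hqp hpq
    rw [this]
    exact ⟨hpT.1.1.1, hpT.2⟩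
  · rintro ⟨hqprime, hqdim⟩
    haveI := hqprime
    have hqmin := mem_minimalPrimes_of_dim_eq n hn q hqdim
    -- all elements of `q` are zero divisors on `K`
    have hzd : ∀ a ∈ q, ¬ IsSMulRegular K a := by
      intro a ha hareg
      exact (hreg a).mp hareg q hqmin hqdim ha
    -- so `q` lies in an associated prime
    have hsub : (q : Set R) ⊆ ⋃ p ∈ (↑(associatedPrimes.finite R K).toFinset : Set (Ideal R)),
        (id p : Ideal R) := by
      intro a ha
      have h1 : a ∈ {r : R | IsSMulRegular K r}ᶜ := hzd a ha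
      rw [← biUnion_associatedPrimes_eq_compl_regular R K] at h1
      obtain ⟨p, hp, hap⟩ := Set.mem_iUnion₂.mp h1
      refine Set.mem_biUnion (x := p) ?_ hap
      rw [Finset.mem_coe, Set.Finite.mem_toFinset]
      exact hp
    obtain ⟨p, hp, hqp⟩ := (Ideal.subset_union_prime
      (s := (associatedPrimes.finite R K).toFinset) (f := id) ⊥ ⊥
      (fun i hi _ _ => ((Set.Finite.mem_toFinset _).mp hi).isPrime)).mp hsub
    have hpass : p ∈ associatedPrimes R K := (Set.Finite.mem_toFinset _).mp hp
    haveI hpprime : p.IsPrime := (show IsAssociatedPrime p K from hpass).isPrime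
    -- `p` is minimal as it is associated (first part), hence `p = q`
    obtain ⟨_, φ, hφ⟩ := (isAssociatedPrime_iff_exists_injective_linearMap p K).mp hpass
    have hzd' : ∀ a ∈ p, ¬ IsSMulRegular K a := by
      intro a ha hareg
      have h1 : a • φ 1 = a • (0 : K) := by
        rw [smul_zero, ← map_smul]
        have : a • (1 : R ⧸ p) = 0 := by
          rw [Algebra.smul_def, mul_one]
          exact Ideal.Quotient.eq_zero_iff_mem.mpr ha
        rw [this, map_zero]
      have h2 : φ 1 = 0 := hareg h1
      have h3 : (1 : R ⧸ p) = 0 := hφ (by rw [h2, map_zero])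
      exact one_ne_zero h3
    obtain ⟨p', hp'T, hpp'⟩ := avoid p hzd'
    have h1 : p' ≤ q := hp'T.1.2 ⟨hqprime, bot_le⟩ (hqp.trans hpp')
    have h2 : p ≤ q := hpp'.trans h1
    have : q = p := le_antisymm hqp h2
    rw [this]
    exact hpass

end Ass

end Groth.Agent.H8.Canon
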