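import Mathlib
import Groth.Prelude.Def_Wider
import Groth.Agent.Lib.helper8.LCNonVanC

/-!
# A lower bound for cohomological dimension from non-vanishing (helper8)
-/

universe u

set_option linter.unusedSectionVars false

namespace Groth.Agent.H8.NonVan

open LocCoh CategoryTheory IsLocalRing Groth.Agent.H21.LC

theorem not_cdLE_of_prime (R : Type u) [CommRing R] [IsLocalRing R] [IsNoetherianRing R]
    (I : Ideal R) (hI : I ≠ ⊤) (p : Ideal R) [p.IsPrime]
    (hpI : (p ⊔ I).radical = maximalIdeal R) (d : ℕ) (hd : ringKrullDim (R ⧸ p) = d)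
    (hd1 : 1 ≤ d) : ¬ CdLE R I (d - 1) := by
  intro h
  haveI : IsLocalRing (R ⧸ p) := inferInstance
  let X' : ModuleCat.{u} (R ⧸ p) := ModuleCat.of (R ⧸ p) (R ⧸ p)
  obtain ⟨φ⟩ := nonempty_FrEquiv (R := R) (R' := R ⧸ p) I d X'
  haveI h1 : Subsingleton ((localCohomology I d).obj ((Fr R (R ⧸ p)).obj X')) :=
    h ((Fr R (R ⧸ p)).obj X') d (by omega)
  haveI h1' : Subsingleton ((Fr R (R ⧸ p)).obj
      ((localCohomology (I.map (algebraMap R (R ⧸ p))) d).obj X')) := φ.toEquiv.subsingleton
  have h2 : Subsingleton ((localCohomology (I.map (algebraMap R (R ⧸ p))) d).obj X') := h1'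
  have hrad : (I.map (algebraMap R (R ⧸ p))).radical = (maximalIdeal (R ⧸ p)).radical := by
    apply le_antisymm
    · apply Ideal.radical_mono
      apply IsLocalRing.le_maximalIdeal
      intro htop
      have h1mem : (1 : R ⧸ p) ∈ I.map (algebraMap R (R ⧸ p)) := by rw [htop]; exact Submodule.mem_top
      obtain ⟨x, hxI, hx1⟩ := (Ideal.mem_map_iff_of_surjective (algebraMap R (R ⧸ p))
        Ideal.Quotient.mk_surjective).mp h1mem
      have hxp : x - 1 ∈ p := by
        rw [← Ideal.Quotient.eq_zero_iff_mem, map_sub, map_one]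
        rw [sub_eq_zero]
        exact hx1
      have hIm : I ≤ maximalIdeal R := IsLocalRing.le_maximalIdeal hI
      have hpm : p ≤ maximalIdeal R := IsLocalRing.le_maximalIdeal (Ideal.IsPrime.ne_top inferInstance)
      have h1m : (1 : R) ∈ maximalIdeal R := by
        have : (1 : R) = x - (x - 1) := by ring
        rw [this]
        exact (maximalIdeal R).sub_mem (hIm hxI) (hpm hxp)
      exact (Ideal.ne_top_iff_one _).mp (IsLocalRing.maximalIdeal.isMaximal R).ne_top h1m
    · rw [Ideal.radical_le_radical_iff]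
      intro y hy
      obtain ⟨x, rfl⟩ := Ideal.Quotient.mk_surjective y
      have hx : x ∈ maximalIdeal R := by
        rw [mem_maximalIdeal, mem_nonunits_iff] at hy ⊢
        intro hu
        exact hy (hu.map _)
      rw [← hpI] at hx
      obtain ⟨k, hk⟩ := hx
      obtain ⟨a, ha, b, hb, hab⟩ := Submodule.mem_sup.mp hk
      refine ⟨k, ?_⟩
      rw [← map_pow, ← hab, map_add, Ideal.Quotient.eq_zero_iff_mem.mpr ha, zero_add]
      exact Ideal.mem_map_of_mem _ hb
  haveI h3 : Subsingleton ((localCohomology (maximalIdeal (R ⧸ p)) d).obj X') := by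
    haveI := h2
    exact (((localCohomology.isoOfSameRadical hrad d).app X').toLinearEquiv.symm).toEquiv.subsingleton
  have h4 : Nontrivial (H (maximalIdeal (R ⧸ p)) d (R ⧸ p)) :=
    nontrivial_H_supportDim d (R ⧸ p) (by rw [Module.supportDim_self_eq_ringKrullDim, hd])
  exact not_subsingleton _ h3

end Groth.Agent.H8.NonVan
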