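import Mathlib
import Groth.Prelude.Def_Wider
import Groth.Prelude.Def_CAlg
import Groth.Agent.Lib.helper8.LCNonVanD
import Groth.Agent.Lib.helper21.LC9
import Groth.Agent.Lib.helper9.Depth4

/-!
# Consequences of the non-vanishing theorem (helper8)
-/

universe u

set_option linter.unusedSectionVars false

namespace Groth.Agent.H8.NonVan

open LocCoh CategoryTheory IsLocalRing Groth.Agent.H21.LC Groth.Agent.H8.CdDim Groth.Agent.H8.LCArt

open Pointwise

variable {R : Type u} [CommRing R] [IsNoetherianRing R] [IsLocalRing R]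

/-- a parameter element: `x ∈ m` with `dim M/xM = dim M - 1`. -/
theorem exists_mem_maximalIdeal_supportDim_quot (M : Type u) [AddCommGroup M] [Module R M]
    [Module.Finite R M] (n : ℕ) (hdim : Module.supportDim R M = ((n + 1 : ℕ) : WithBot ℕ∞)) :
    ∃ x ∈ maximalIdeal R,
      Module.supportDim R (M ⧸ LinearMap.range (x • (LinearMap.id : M →ₗ[R] M))) = n := by
  classical
  have hfinmin : ((Module.annihilator R M).minimalPrimes).Finite :=
    Ideal.finite_minimalPrimes_of_isNoetherianRing R _
  set P : Finset (Ideal R) := hfinmin.toFinset with hP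
  have hPprime : ∀ p ∈ P, p.IsPrime := fun p hp => ((Set.Finite.mem_toFinset _).mp hp).1.1
  have hPne : ∀ p ∈ P, ¬ maximalIdeal R ≤ p := by
    intro p hp hle
    have hpmin : p ∈ (Module.annihilator R M).minimalPrimes := (Set.Finite.mem_toFinset _).mp hp
    have hpos' : 0 < Module.supportDim R M := by
      rw [hdim]
      exact_mod_cast Nat.succ_pos n
    obtain ⟨a, b, hab⟩ := Order.krullDim_pos_iff.mp hpos'
    have h1 : Module.annihilator R M ≤ a.1.asIdeal := Module.annihilator_le_of_mem_support a.2
    have h2 : a.1.asIdeal < b.1.asIdeal := hab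
    have h3 : b.1.asIdeal ≤ maximalIdeal R := le_maximalIdeal b.1.2.ne_top
    have h4 : a.1.asIdeal ≤ p := (h2.le.trans h3).trans hle
    have h5 : p ≤ a.1.asIdeal := hpmin.2 ⟨a.1.2, h1⟩ h4
    exact lt_irrefl _ (lt_of_lt_of_le h2 (h3.trans (hle.trans h5)))
  have hex : ∃ r ∈ maximalIdeal R, ∀ p ∈ P, r ∉ p := by
    by_contra hcon
    push Not at hcon
    have hsubset : ((maximalIdeal R : Ideal R) : Set R) ⊆
        ⋃ p ∈ (P : Set (Ideal R)), (p : Set R) := by
      intro x hx
      obtain ⟨p, hp, hxp⟩ := hcon x hx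
      exact Set.mem_biUnion (Finset.mem_coe.mpr hp) hxp
    obtain ⟨p, hp, hle⟩ := (Ideal.subset_union_prime (s := P) (f := fun p => p) ⊥ ⊥
      (fun p hp _ _ => hPprime p hp)).mp hsubset
    exact hPne p hp hle
  obtain ⟨r, hrm, hr⟩ := hex
  refine ⟨r, hrm, ?_⟩
  have hrange : LinearMap.range (r • (LinearMap.id : M →ₗ[R] M)) = r • (⊤ : Submodule R M) := by
    ext y
    constructor
    · rintro ⟨x, rfl⟩
      exact Submodule.smul_mem_pointwise_smul _ _ _ Submodule.mem_top
    · intro hy
      obtain ⟨x, _, rfl⟩ := (Submodule.mem_smul_pointwise_iff_exists _ _ _).mp hy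
      exact ⟨x, rfl⟩
  have hdQ : Module.supportDim R (QuotSMulTop r M) + 1 = Module.supportDim R M :=
    Module.supportDim_quotSMulTop_succ_eq_of_notMem_minimalPrimes_of_mem_maximalIdeal
      (fun p hp => hr p ((Set.Finite.mem_toFinset _).mpr hp)) hrm
  rw [Module.supportDim_eq_of_equiv (Submodule.quotEquivOfEq _ _ hrange)]
  exact withBot_cancel _ n (hdQ.trans hdim)

/-- `H^n_m(M)` is not finitely generated for `n = dim M > 0`. -/
theorem not_finite_H_supportDim (M : Type u) [AddCommGroup M] [Module R M] [Module.Finite R M]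
    (n : ℕ) (hn0 : 0 < n) (hn : Module.supportDim R M = n) :
    ¬ Module.Finite R (H (maximalIdeal R) n M) := by
  intro hfin
  obtain ⟨k, rfl⟩ : ∃ k, n = k + 1 := ⟨n - 1, by omega⟩
  obtain ⟨x, hxm, hx⟩ := exists_mem_maximalIdeal_supportDim_quot M k hn
  have hsurj : Function.Surjective (fun y : H (maximalIdeal R) (k + 1) M => x • y) := by
    refine smul_surjective_H' (maximalIdeal R) M x (k + 1) ?_ ?_
    · refine subsingleton_H_of_supportDim_lt _ _ _ ?_
      calc Module.supportDim R ↥(LinearMap.ker (x • (LinearMap.id : M →ₗ[R] M)))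
          ≤ Module.supportDim R M :=
            Module.supportDim_le_of_injective (LinearMap.ker _).subtype Subtype.val_injective
        _ = ((k + 1 : ℕ) : WithBot ℕ∞) := hn
        _ < ((k + 1 + 1 : ℕ) : WithBot ℕ∞) := by exact_mod_cast Nat.lt_succ_self _
    · refine subsingleton_H_of_supportDim_lt _ _ _ ?_
      rw [hx]
      exact_mod_cast Nat.lt_succ_self _
  have htop : (⊤ : Submodule R (H (maximalIdeal R) (k + 1) M)) = ⊥ := by
    refine Submodule.eq_bot_of_le_smul_of_le_jacobson_bot (maximalIdeal R) ⊤
      (Module.finite_def.mp hfin) ?_ (IsLocalRing.maximalIdeal_le_jacobson _)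
    intro y _
    obtain ⟨y', rfl⟩ := hsurj y
    exact Submodule.smul_mem_smul hxm Submodule.mem_top
  haveI hnt := nontrivial_H_supportDim (k + 1) M hn
  obtain ⟨a, b, hab⟩ := hnt.exists_pair_ne
  apply hab
  have ha : a ∈ (⊥ : Submodule R (H (maximalIdeal R) (k + 1) M)) := htop ▸ Submodule.mem_top
  have hb : b ∈ (⊥ : Submodule R (H (maximalIdeal R) (k + 1) M)) := htop ▸ Submodule.mem_top
  rw [(Submodule.mem_bot R).mp ha, (Submodule.mem_bot R).mp hb]

/-- finiteness of the dimension of a nonzero finite module over a local ring. -/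
theorem exists_supportDim_eq_nat (M : Type u) [AddCommGroup M] [Module R M] [Nontrivial M] :
    ∃ n : ℕ, Module.supportDim R M = n := by
  have h1 : Module.supportDim R M ≠ ⊥ := Module.supportDim_ne_bot_of_nontrivial R M
  have h2 : Module.supportDim R M < ⊤ :=
    lt_of_le_of_lt (Module.supportDim_le_ringKrullDim R M) ringKrullDim_lt_top
  generalize Module.supportDim R M = a at h1 h2
  induction a with
  | bot => exact absurd rfl h1
  | coe a =>
    induction a with
    | top => exact absurd h2 (lt_irrefl _)
    | coe a => exact ⟨a, rfl⟩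

/-- Cohen–Macaulay modules are those with a single non-vanishing local cohomology. -/
theorem existsUnique_H_nontrivial_iff (M : Type u) [AddCommGroup M] [Module R M]
    [Module.Finite R M] [Nontrivial M] :
    (∃! i : ℕ, Nontrivial (H (maximalIdeal R) i M)) ↔ IsCohenMacaulayModule R M := by
  obtain ⟨n, hn⟩ := exists_supportDim_eq_nat (R := R) M
  have hIM : maximalIdeal R • (⊤ : Submodule R M) ≠ ⊤ :=
    Groth.Agent.Lib.helper9.Depth.maximalIdeal_smul_top_ne_top (R := R) M
  have hnv := nontrivial_H_supportDim n M hn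
  -- the depth is finite
  have hdfin : idealDepth (maximalIdeal R) M ≠ ⊤ := by
    intro htop
    have := subsingleton_of_lt_depth (maximalIdeal R) M hIM n (by rw [htop]; exact le_top)
    exact not_subsingleton _ this
  obtain ⟨d, hd⟩ := ENat.ne_top_iff_exists.mp hdfin
  have hdv := nontrivial_of_depth_eq (maximalIdeal R) M hIM d hd.symm
  have hlow : ∀ i, Nontrivial (H (maximalIdeal R) i M) → d ≤ i := by
    intro i hi
    by_contra hlt
    rw [not_le] at hlt
    have := subsingleton_of_lt_depth (maximalIdeal R) M hIM i (by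
      rw [← hd]
      exact_mod_cast hlt)
    exact not_subsingleton _ this
  have hhigh : ∀ i, Nontrivial (H (maximalIdeal R) i M) → i ≤ n := by
    intro i hi
    by_contra hlt
    rw [not_le] at hlt
    have := subsingleton_H_of_supportDim_lt (maximalIdeal R) M i (by
      rw [hn]
      exact_mod_cast hlt)
    exact not_subsingleton _ this
  unfold IsCohenMacaulayModule LocCoh.depth
  rw [hn, ← hd]
  constructor
  · rintro ⟨i, hi, huniq⟩
    have h1 : d = i := huniq d hdv
    have h2 : n = i := huniq n hnv
    rw [h1, h2]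
    rfl
  · intro h
    have hnd : n = d := by exact_mod_cast h
    refine ⟨d, hdv, fun i hi => ?_⟩
    have h1 := hlow i hi
    have h2 := hhigh i hi
    omega

end Groth.Agent.H8.NonVan
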