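import Mathlib
import Groth.Prelude.Def_Wider
import Groth.Agent.Lib.helper8.LCGorB
import Groth.Agent.Lib.helper21.GorRing
import Groth.Agent.Lib.helper21.LC9

/-!
# The top local cohomology of a Gorenstein local ring is an injective hull of the residue field,
part C (helper8).
-/

universe u

namespace Groth.Agent.H8.LCGor

open CategoryTheory LocCoh InjHull IsLocalRing Groth.Agent.H21.LC Groth.Agent.H8.Matlis
  Groth.Agent.H8.Gr RingTheory.Sequence Groth.Agent.Lib.helper9.Depth

theorem injective_of_subsingleton {R : Type u} [CommRing R] (X : Type u) [AddCommGroup X]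
    [Module R X] [Subsingleton X] : Module.Injective R X :=
  ⟨fun _ _ _ _ _ _ _ _ _ => ⟨0, fun _ => Subsingleton.elim _ _⟩⟩

section Final

variable (R : Type u) [CommRing R] [IsLocalRing R] [IsNoetherianRing R]

theorem isFiniteLength_quot_of_dim_zero (J : Ideal R) (h0 : ringKrullDim (R ⧸ J) ≤ 0) :
    IsFiniteLength R (R ⧸ J) := by
  haveI : Ring.KrullDimLE 0 (R ⧸ J) := Ring.krullDimLE_iff.mpr (by exact_mod_cast h0)
  haveI : IsArtinianRing (R ⧸ J) :=
    isArtinianRing_iff_isNoetherianRing_krullDimLE_zero.mpr ⟨inferInstance, inferInstance⟩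
  haveI : IsArtinian (R ⧸ J) (R ⧸ J) := inferInstance
  haveI : IsArtinian R (R ⧸ J) :=
    isArtinian_of_surjective_algebraMap (S := R) (R := R ⧸ J) (M := R ⧸ J)
      Ideal.Quotient.mk_surjective
  exact isFiniteLength_iff_isNoetherian_isArtinian.mpr ⟨inferInstance, inferInstance⟩

/-- `Hom(R/J, R/J) ≃ R/J`. -/
theorem length_end_quot (J : Ideal R) :
    Module.length R ((R ⧸ J) →ₗ[R] (R ⧸ J)) = Module.length R (R ⧸ J) := by
  let ev : ((R ⧸ J) →ₗ[R] (R ⧸ J)) →ₗ[R] (R ⧸ J) :=
    LinearMap.applyₗ (Ideal.Quotient.mk J 1)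
  have hinj : Function.Injective ev := by
    intro φ ψ h
    ext
    exact h
  have hsurj : Function.Surjective ev := by
    intro q
    have hle : J ≤ LinearMap.ker (LinearMap.toSpanSingleton R (R ⧸ J) q) := by
      intro a ha
      rw [LinearMap.mem_ker, LinearMap.toSpanSingleton_apply]
      obtain ⟨b, rfl⟩ := Ideal.Quotient.mk_surjective q
      rw [← Ideal.Quotient.mk_eq_mk, ← Submodule.Quotient.mk_smul, Submodule.Quotient.mk_eq_zero,
        smul_eq_mul]
      exact J.mul_mem_right _ ha
    refine ⟨Submodule.liftQ J (LinearMap.toSpanSingleton R (R ⧸ J) q) hle, ?_⟩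
    show Submodule.liftQ J (LinearMap.toSpanSingleton R (R ⧸ J) q) hle (Submodule.Quotient.mk 1) = q
    rw [Submodule.liftQ_apply, LinearMap.toSpanSingleton_apply, one_smul]
  exact (LinearEquiv.ofBijective ev ⟨hinj, hsurj⟩).length_eq

theorem exists_isInjectiveHull_H (n : ℕ) (rs : List R) (hreg : IsRegular R rs)
    (hlen : rs.length = n) (hdim : ringKrullDim R = n)
    (hvan : ∀ i, i < n → Subsingleton ((localCohomology (maximalIdeal R) i).obj (ModuleCat.of R R)))
    (hinj : Module.Injective R ((localCohomology (maximalIdeal R) n).obj (ModuleCat.of R R))) :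
    ∃ f : ResidueField R →ₗ[R] (localCohomology (maximalIdeal R) n).obj (ModuleCat.of R R),
      IsInjectiveHull f := by
  subst hlen
  have hJ : (Ideal.ofList rs • ⊤ : Submodule R R) = Ideal.ofList rs := by simp
  -- the quotient has dimension zero
  have h0 : ringKrullDim (R ⧸ Ideal.ofList rs) ≤ 0 := by
    have h := ringKrullDim_add_length_eq_ringKrullDim_of_isRegular rs hreg
    rw [hdim] at h
    generalize ringKrullDim (R ⧸ Ideal.ofList rs) = a at h
    induction a with
    | bot => simp at h
    | coe a =>
      induction a with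
      | top =>
        exfalso
        have h2 : ((⊤ + (rs.length : ℕ∞) : ℕ∞) : WithBot ℕ∞) = ((rs.length : ℕ∞) : WithBot ℕ∞) := by
          exact_mod_cast h
        have h3 := WithBot.coe_injective h2
        simp at h3
      | coe a =>
        have h2 : a + rs.length = rs.length := by exact_mod_cast h
        have h3 : a = 0 := by omega
        rw [h3]
        exact le_rfl
  have hfin := isFiniteLength_quot_of_dim_zero R (Ideal.ofList rs) h0
  -- the quotient is killed by the sequence
  have hkill : ∀ r ∈ rs, ∀ y : R ⧸ Ideal.ofList rs, r • y = 0 := by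
    intro r hr y
    obtain ⟨b, rfl⟩ := Ideal.Quotient.mk_surjective y
    rw [← Ideal.Quotient.mk_eq_mk, ← Submodule.Quotient.mk_smul, Submodule.Quotient.mk_eq_zero,
      smul_eq_mul]
    exact (Ideal.ofList rs).mul_mem_right _ (Ideal.subset_span hr)
  have key := length_hom_H_eq (maximalIdeal R) (R ⧸ Ideal.ofList rs) rs hkill R
    hreg.toIsWeaklyRegular hvan
  rw [hJ] at key
  -- `H^0(Q) ≃ Q`
  haveI : IsArtinian R (R ⧸ Ideal.ofList rs) :=
    (isFiniteLength_iff_isNoetherian_isArtinian.mp hfin).2
  have hT := isPowerTorsion_of_isArtinian (R := R) (R ⧸ Ideal.ofList rs)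
  have htop : DRing.torsionSub (maximalIdeal R) (R ⧸ Ideal.ofList rs) = ⊤ := by
    rw [eq_top_iff]
    intro y _
    exact hT y
  have e0 : (localCohomology (maximalIdeal R) 0).obj (ModuleCat.of R (R ⧸ Ideal.ofList rs)) ≃ₗ[R]
      (R ⧸ Ideal.ofList rs) :=
    (H0Equiv (maximalIdeal R) (ModuleCat.of R (R ⧸ Ideal.ofList rs))).trans
      (LinearEquiv.ofTop _ htop)
  rw [(LinearEquiv.congrRight e0).length_eq, length_end_quot,
    length_hom_general hinj _ hfin] at key
  -- cancel
  have hne0 : Module.length R (R ⧸ Ideal.ofList rs) ≠ 0 := by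
    rw [Ne, Module.length_eq_zero_iff]
    intro hsub
    have h1 : Ideal.ofList rs = ⊤ := by
      rw [Ideal.eq_top_iff_one, ← Ideal.Quotient.eq_zero_iff_mem]
      exact Subsingleton.elim _ _
    exact hreg.top_ne_smul (by rw [hJ, h1])
  have hnetop : Module.length R (R ⧸ Ideal.ofList rs) ≠ ⊤ := Module.length_ne_top_iff.mpr hfin
  have hc : Module.length R (ResidueField R →ₗ[R]
      (localCohomology (maximalIdeal R) rs.length).obj (ModuleCat.of R R)) = 1 := by
    generalize Module.length R (R ⧸ Ideal.ofList rs) = a at key hne0 hnetop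
    generalize Module.length R (ResidueField R →ₗ[R]
      (localCohomology (maximalIdeal R) rs.length).obj (ModuleCat.of R R)) = c at key
    lift a to ℕ using hnetop
    induction c with
    | top =>
      exfalso
      rw [ENat.mul_top (by exact_mod_cast hne0)] at key
      exact ENat.top_ne_natCast _ key
    | coe c =>
      have h2 : a * c = a := by exact_mod_cast key
      have ha : a ≠ 0 := by exact_mod_cast hne0
      have : c = 1 := by
        have h3 : a * c = a * 1 := by rw [h2, mul_one]
        exact Nat.eq_of_mul_eq_mul_left (Nat.pos_of_ne_zero ha) h3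
      rw [this]; rfl
  have hsimple := Module.length_eq_one_iff.mp hc
  exact isInjectiveHull_of_simple hinj (Groth.Agent.H8.LCArt.isPowerTorsion_H _ _ _) hsimple

end Final

/-- the Gorenstein case. -/
theorem exists_isInjectiveHull_H_of_gorenstein (R : Type u) [CommRing R]
    [LocCoh.IsGorensteinLocalRing R] (n : ℕ) (hn : ringKrullDim R = n) :
    ∃ g : ResidueField R →ₗ[R] LocCoh.H (maximalIdeal R) n R, IsInjectiveHull g := by
  obtain ⟨hdepth, hinjdim⟩ := Groth.Agent.H21.GorRing.depth_and_injdim R n hn
  have hIM := maximalIdeal_smul_top_ne_top (R := R) R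
  have hdepth' : idealDepth (maximalIdeal R) R = n := hdepth
  obtain ⟨rs, hlen, hrs, hmem⟩ := (le_idealDepth_iff hIM n).mp (by rw [hdepth'])
  have hreg : IsRegular R rs := IsRegular.of_isWeaklyRegular_of_mem_maximalIdeal R hmem hrs
  have hvan : ∀ i, i < n →
      Subsingleton ((localCohomology (maximalIdeal R) i).obj (ModuleCat.of R R)) := by
    intro i hi
    apply subsingleton_of_lt_depth (maximalIdeal R) R hIM i
    rw [hdepth']
    exact_mod_cast hi
  have hΓ : Module.Injective R (DRing.torsionSub (maximalIdeal R) (ModuleCat.of R R)) := by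
    rcases Nat.eq_zero_or_pos n with rfl | hpos
    · haveI : Injective (ModuleCat.of R R) := inferInstance
      haveI : Module.Injective R (ModuleCat.of R R) :=
        Module.injective_module_of_injective_object R (ModuleCat.of R R)
      exact injective_torsionSub (maximalIdeal R) (ModuleCat.of R R)
    · haveI := hvan 0 hpos
      haveI : Subsingleton (DRing.torsionSub (maximalIdeal R) (ModuleCat.of R R)) :=
        (H0Equiv (maximalIdeal R) (ModuleCat.of R R)).symm.toEquiv.subsingleton
      exact injective_of_subsingleton _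
  have hinj := injective_H_of_injdim (maximalIdeal R) n (ModuleCat.of R R) hinjdim
    (fun i _ hi => hvan i hi) hΓ
  exact exists_isInjectiveHull_H R n rs hreg hlen hn hvan hinj

end Groth.Agent.H8.LCGor
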