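import Mathlib
import Groth.Agent.Lib.helper8.LCNonVanA

/-!
# An Eilenberg–Watts lemma for finitely generated modules (helper8)

A functor `F : ModuleCat R ⥤ ModuleCat R` which is additive and `R`-linear on maps, preserves
surjections and is exact in the middle on short exact sequences satisfies
`F(M) ≅ F(R) ⊗ M` for finitely generated `M` over a Noetherian ring.
-/

universe u

set_option linter.unusedSectionVars false

namespace Groth.Agent.H8.Watts

open CategoryTheory TensorProduct Groth.Agent.H8.NonVan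

variable {R : Type u} [CommRing R]

/-- the hypotheses of the Eilenberg–Watts lemma. -/
structure RightExact (F : ModuleCat.{u} R ⥤ ModuleCat.{u} R) : Prop where
  map_add : ∀ {M N : ModuleCat.{u} R} (f g : M ⟶ N), F.map (f + g) = F.map f + F.map g
  map_smul : ∀ {M N : ModuleCat.{u} R} (r : R) (f : M ⟶ N), F.map (r • f) = r • F.map f
  exact : ∀ (S : ShortComplex (ModuleCat.{u} R)), S.ShortExact →
    Function.Exact (F.map S.f).hom (F.map S.g).hom
  surj : ∀ {M N : ModuleCat.{u} R} (g : M ⟶ N), Function.Surjective g.hom →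
    Function.Surjective (F.map g).hom

variable {F : ModuleCat.{u} R ⥤ ModuleCat.{u} R}

/-- an element as a map from `R`. -/
noncomputable def vec (M : ModuleCat.{u} R) (m : M) : ModuleCat.of R R ⟶ M :=
  ModuleCat.ofHom (LinearMap.toSpanSingleton R M m)

lemma vec_add (M : ModuleCat.{u} R) (m m' : M) : vec M (m + m') = vec M m + vec M m' := by
  refine ModuleCat.hom_ext (LinearMap.ext_ring ?_)
  simp [vec]

lemma vec_smul (M : ModuleCat.{u} R) (r : R) (m : M) : vec M (r • m) = r • vec M m := by
  refine ModuleCat.hom_ext (LinearMap.ext_ring ?_)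
  simp [vec]

lemma vec_comp {M N : ModuleCat.{u} R} (g : M ⟶ N) (m : M) : vec M m ≫ g = vec N (g.hom m) := by
  refine ModuleCat.hom_ext (LinearMap.ext_ring ?_)
  simp [vec]

lemma vec_self (r : R) : vec (ModuleCat.of R R) r = r • 𝟙 (ModuleCat.of R R) := by
  refine ModuleCat.hom_ext (LinearMap.ext_ring ?_)
  simp [vec]

namespace RightExact

variable (hF : RightExact F)
include hF

lemma map_zero' {M N : ModuleCat.{u} R} : F.map (0 : M ⟶ N) = 0 := by
  have := hF.map_smul (0 : R) (0 : M ⟶ N)
  rwa [zero_smul, zero_smul] at this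

lemma map_sum {ι : Type*} (s : Finset ι) {M N : ModuleCat.{u} R} (f : ι → (M ⟶ N)) :
    F.map (∑ i ∈ s, f i) = ∑ i ∈ s, F.map (f i) := by
  classical
  induction s using Finset.induction_on with
  | empty => simp [hF.map_zero']
  | insert a s ha ih => rw [Finset.sum_insert ha, Finset.sum_insert ha, hF.map_add, ih]

/-- the comparison map `F(R) ⊗ M → F(M)`. -/
noncomputable def τ (M : ModuleCat.{u} R) :
    (F.obj (ModuleCat.of R R)) ⊗[R] M →ₗ[R] F.obj M :=
  TensorProduct.lift (LinearMap.mk₂ R (fun x m => (F.map (vec M m)).hom x)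
    (fun x x' m => _root_.map_add _ _ _)
    (fun c x m => _root_.map_smul _ _ _)
    (fun x m m' => by
      show (F.map (vec M (m + m'))).hom x = _
      rw [vec_add, hF.map_add]; rfl)
    (fun c x m => by
      show (F.map (vec M (c • m))).hom x = _
      rw [vec_smul, hF.map_smul]; rfl))

lemma τ_tmul (M : ModuleCat.{u} R) (x : F.obj (ModuleCat.of R R)) (m : M) :
    hF.τ M (x ⊗ₜ m) = (F.map (vec M m)).hom x := by
  simp [τ]

lemma τ_naturality {M N : ModuleCat.{u} R} (g : M ⟶ N)
    (z : (F.obj (ModuleCat.of R R)) ⊗[R] M) :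
    (F.map g).hom (hF.τ M z) = hF.τ N (LinearMap.lTensor _ g.hom z) := by
  induction z using TensorProduct.induction_on with
  | zero => simp
  | tmul x m =>
    rw [τ_tmul, LinearMap.lTensor_tmul, τ_tmul, ← vec_comp, F.map_comp]
    rfl
  | add a b ha hb =>
    rw [_root_.map_add, _root_.map_add, _root_.map_add, _root_.map_add, ha, hb]

lemma τ_self_tmul (x : F.obj (ModuleCat.of R R)) (r : R) :
    hF.τ (ModuleCat.of R R) (x ⊗ₜ r) = r • x := by
  rw [τ_tmul, vec_self, hF.map_smul, F.map_id]
  rfl

lemma τ_self_bijective : Function.Bijective (hF.τ (ModuleCat.of R R)) := by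
  have : hF.τ (ModuleCat.of R R) =
      (TensorProduct.rid R (F.obj (ModuleCat.of R R))).toLinearMap := by
    refine TensorProduct.ext' fun x r => ?_
    rw [τ_self_tmul]
    simp
  rw [this]
  exact (TensorProduct.rid R _).bijective

section Free

variable (k : ℕ)

/-- the coordinate projections of `R^k`. -/
noncomputable def prj (i : Fin k) : ModuleCat.of R (Fin k → R) ⟶ ModuleCat.of R R :=
  ModuleCat.ofHom (LinearMap.proj i)

omit hF in
lemma sum_prj_vec : ∑ i : Fin k, prj k i ≫ vec (ModuleCat.of R (Fin k → R)) (Pi.single i (1 : R)) =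
    𝟙 (ModuleCat.of R (Fin k → R)) := by
  refine ModuleCat.hom_ext (LinearMap.ext fun v => ?_)
  rw [ModuleCat.hom_sum, LinearMap.sum_apply]
  show ∑ i : Fin k, (v i) • (Pi.single i (1 : R) : Fin k → R) = v
  funext j
  simp [Finset.sum_apply, Pi.single_apply]

lemma prj_τ (i : Fin k) (z : (F.obj (ModuleCat.of R R)) ⊗[R] (Fin k → R)) :
    (F.map (prj k i)).hom (hF.τ (ModuleCat.of R (Fin k → R)) z) =
      TensorProduct.piScalarRight R R _ (Fin k) z i := by
  induction z using TensorProduct.induction_on with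
  | zero => simp
  | tmul x v =>
    rw [τ_naturality]
    show hF.τ (ModuleCat.of R R) (x ⊗ₜ (v i)) = _
    rw [τ_self_tmul]
    simp
  | add a b ha hb =>
    rw [_root_.map_add, _root_.map_add, _root_.map_add, ha, hb]
    rfl

lemma τ_free_bijective : Function.Bijective (hF.τ (ModuleCat.of R (Fin k → R))) := by
  constructor
  · rw [← LinearMap.ker_eq_bot, LinearMap.ker_eq_bot']
    intro z hz
    apply (TensorProduct.piScalarRight R R _ (Fin k)).injective
    rw [_root_.map_zero]
    funext i
    rw [← prj_τ hF k i z, hz, _root_.map_zero]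
    rfl
  · intro y
    refine ⟨∑ i : Fin k, ((F.map (prj k i)).hom y) ⊗ₜ (Pi.single i (1 : R) : Fin k → R), ?_⟩
    rw [_root_.map_sum]
    have h1 : ∀ i : Fin k, hF.τ (ModuleCat.of R (Fin k → R))
        (((F.map (prj k i)).hom y) ⊗ₜ (Pi.single i (1 : R) : Fin k → R)) =
        (F.map (prj k i ≫ vec (ModuleCat.of R (Fin k → R)) (Pi.single i (1 : R)))).hom y := by
      intro i
      rw [τ_tmul, F.map_comp]
      rfl
    rw [Finset.sum_congr rfl (fun i _ => h1 i)]
    have h2 := congrArg (fun φ => φ.hom y) (hF.map_sum Finset.univ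
      (fun i : Fin k => prj k i ≫ vec (ModuleCat.of R (Fin k → R)) (Pi.single i (1 : R))))
    simp only [ModuleCat.hom_sum, LinearMap.sum_apply] at h2
    rw [← h2, sum_prj_vec, F.map_id]
    rfl

end Free

/-- the Eilenberg–Watts lemma for finitely generated modules over a Noetherian ring. -/
theorem τ_bijective [IsNoetherianRing R] (M : ModuleCat.{u} R) [Module.Finite R M] :
    Function.Bijective (hF.τ M) := by
  obtain ⟨b, π, hπ⟩ := Module.Finite.exists_fin' R M
  obtain ⟨a, ρ', hρ'⟩ := Module.Finite.exists_fin' R (LinearMap.ker π)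
  have hS := surjSES_shortExact π hπ
  have hex := hF.exact _ hS
  have hsπ := hF.surj (ModuleCat.ofHom π) hπ
  have hsρ := hF.surj (ModuleCat.ofHom ρ') hρ'
  have hb := hF.τ_free_bijective b
  have ha := hF.τ_free_bijective a
  constructor
  · rw [← LinearMap.ker_eq_bot, LinearMap.ker_eq_bot']
    intro z hz
    obtain ⟨z', rfl⟩ := LinearMap.lTensor_surjective (F.obj (ModuleCat.of R R)) hπ z
    have h1 := hF.τ_naturality (ModuleCat.ofHom π) z'
    have h1' : (F.map (ModuleCat.ofHom π)).hom (hF.τ _ z') = 0 := by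
      rw [h1]; exact hz
    obtain ⟨w, hw⟩ := (hex _).1 h1'
    obtain ⟨w', rfl⟩ := hsρ w
    obtain ⟨z'', rfl⟩ := ha.2 w'
    have h2 := hF.τ_naturality (ModuleCat.ofHom ρ') z''
    have h3 := hF.τ_naturality (ModuleCat.ofHom (LinearMap.ker π).subtype)
      (LinearMap.lTensor _ (ModuleCat.ofHom ρ').hom z'')
    rw [h2] at hw
    have hw' : (F.map (ModuleCat.ofHom (LinearMap.ker π).subtype)).hom
        (hF.τ _ (LinearMap.lTensor _ (ModuleCat.ofHom ρ').hom z'')) = hF.τ _ z' := hw
    rw [h3] at hw'
    have h4 := hb.1 hw'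
    rw [← h4]
    rw [← LinearMap.comp_apply, ← LinearMap.lTensor_comp, ← LinearMap.comp_apply,
      ← LinearMap.lTensor_comp]
    have h5 : (π ∘ₗ (ModuleCat.ofHom (LinearMap.ker π).subtype).hom) ∘ₗ (ModuleCat.ofHom ρ').hom =
        0 := by
      refine LinearMap.ext fun v => ?_
      exact LinearMap.mem_ker.mp (ρ' v).2
    rw [h5, LinearMap.lTensor_zero, LinearMap.zero_apply]
  · intro y
    obtain ⟨y', rfl⟩ := hsπ y
    obtain ⟨z', rfl⟩ := hb.2 y'
    exact ⟨_, (hF.τ_naturality (ModuleCat.ofHom π) z').symm⟩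

/-- the Eilenberg–Watts isomorphism. -/
noncomputable def equiv [IsNoetherianRing R] (M : ModuleCat.{u} R) [Module.Finite R M] :
    (F.obj (ModuleCat.of R R)) ⊗[R] M ≃ₗ[R] F.obj M :=
  LinearEquiv.ofBijective (hF.τ M) (hF.τ_bijective M)

end RightExact

end Groth.Agent.H8.Watts
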