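import Mathlib
import Groth.Prelude.Def_Wider
import Groth.Agent.Lib.helper8.WattsA
import Groth.Agent.Lib.helper8.CdDimC

/-!
# Eilenberg–Watts, part B (helper8): top local cohomology and the double dual functor
`M ↦ Hom(Hom(M, K), E)` are right exact.
-/

universe u

set_option linter.unusedSectionVars false

namespace Groth.Agent.H8.Watts

open CategoryTheory Abelian TensorProduct LocCoh Groth.Agent.H8.NonVan Groth.Agent.H21.LC

variable {R : Type u} [CommRing R]

/-- local cohomology in the top degree is right exact. -/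
theorem rightExact_localCohomology (I : Ideal R) (d : ℕ)
    (hcd : ∀ N : ModuleCat.{u} R, Subsingleton ((localCohomology I (d + 1)).obj N)) :
    RightExact (localCohomology I d) where
  map_add f g := by
    refine ModuleCat.hom_ext (LinearMap.ext fun x => ?_)
    obtain ⟨n, y, rfl⟩ := ιH_surj I d _ x
    rw [map_ιH, ModuleCat.hom_add, LinearMap.add_apply, map_ιH, map_ιH, Ext.mk₀_add,
      Ext.comp_add, map_add]
  map_smul r f := by
    refine ModuleCat.hom_ext (LinearMap.ext fun x => ?_)
    obtain ⟨n, y, rfl⟩ := ιH_surj I d _ x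
    rw [map_ιH, ModuleCat.hom_smul, LinearMap.smul_apply, map_ιH, Ext.mk₀_smul,
      Ext.comp_smul, map_smul]
  exact S hS := exact₂ I hS d
  surj g hg := map_g_surjective I (surjSES_shortExact g.hom hg) d (hcd _)

section DD

variable (K E : Type u) [AddCommGroup K] [Module R K] [AddCommGroup E] [Module R E]

/-- the functor `M ↦ Hom(Hom(M, K), E)`. -/
noncomputable def ddFunctor : ModuleCat.{u} R ⥤ ModuleCat.{u} R where
  obj M := ModuleCat.of R ((M →ₗ[R] K) →ₗ[R] E)
  map g := ModuleCat.ofHom (LinearMap.lcomp R E (LinearMap.lcomp R K g.hom))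
  map_id M := by
    refine ModuleCat.hom_ext (LinearMap.ext fun φ => LinearMap.ext fun ψ => ?_)
    rfl
  map_comp g h := by
    refine ModuleCat.hom_ext (LinearMap.ext fun φ => LinearMap.ext fun ψ => ?_)
    rfl

lemma ddFunctor_map_hom {M N : ModuleCat.{u} R} (g : M ⟶ N) :
    ((ddFunctor K E).map g).hom = LinearMap.lcomp R E (LinearMap.lcomp R K g.hom) := rfl

/-- the double dual functor is right exact when `E` is injective. -/
theorem rightExact_ddFunctor (hE : Module.Injective R E) : RightExact (ddFunctor (R := R) K E) where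
  map_add {M N} f g := by
    refine ModuleCat.hom_ext ?_
    rw [ModuleCat.hom_add, ddFunctor_map_hom, ddFunctor_map_hom, ddFunctor_map_hom]
    refine LinearMap.ext fun (φ : (M →ₗ[R] K) →ₗ[R] E) => LinearMap.ext fun ψ => ?_
    show φ (ψ ∘ₗ (f + g).hom) = φ (ψ ∘ₗ f.hom) + φ (ψ ∘ₗ g.hom)
    rw [ModuleCat.hom_add, LinearMap.comp_add, map_add]
  map_smul {M N} r f := by
    refine ModuleCat.hom_ext ?_
    rw [ModuleCat.hom_smul, ddFunctor_map_hom, ddFunctor_map_hom]
    refine LinearMap.ext fun (φ : (M →ₗ[R] K) →ₗ[R] E) => LinearMap.ext fun ψ => ?_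
    show φ (ψ ∘ₗ (r • f).hom) = r • φ (ψ ∘ₗ f.hom)
    rw [ModuleCat.hom_smul, LinearMap.comp_smul, map_smul]
  exact S hS := by
    have hex : Function.Exact S.f.hom S.g.hom :=
      (ShortComplex.ShortExact.moduleCat_exact_iff_function_exact S).mp hS.exact
    have hsurj : Function.Surjective S.g.hom := by
      have := hS.epi_g
      exact (ModuleCat.epi_iff_surjective S.g).mp inferInstance
    rw [ddFunctor_map_hom, ddFunctor_map_hom]
    intro (φ : (S.X₂ →ₗ[R] K) →ₗ[R] E)
    constructor
    · intro hφ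
      -- `φ` vanishes on the kernel of restriction along `S.f`
      have hφ' : ∀ ψ : S.X₃ →ₗ[R] K, φ (ψ ∘ₗ S.g.hom) = 0 := by
        intro ψ
        exact LinearMap.congr_fun hφ ψ
      set res : (S.X₂ →ₗ[R] K) →ₗ[R] (S.X₁ →ₗ[R] K) := LinearMap.lcomp R K S.f.hom with hres
      have hker : LinearMap.ker res ≤ LinearMap.ker φ := by
        intro ψ hψ
        rw [LinearMap.mem_ker] at hψ ⊢
        -- `ψ` factors through `S.g`
        have hψ' : ∀ x : S.X₁, ψ (S.f.hom x) = 0 := fun x => LinearMap.congr_fun hψ x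
        have hle : LinearMap.ker S.g.hom ≤ LinearMap.ker ψ := by
          intro y hy
          obtain ⟨x, rfl⟩ := (hex y).1 hy
          exact hψ' x
        obtain ⟨ψ', hψ''⟩ : ∃ ψ' : S.X₃ →ₗ[R] K, ψ' ∘ₗ S.g.hom = ψ := by
          refine ⟨(LinearMap.ker S.g.hom).liftQ ψ hle ∘ₗ
            (S.g.hom.quotKerEquivOfSurjective hsurj).symm.toLinearMap, ?_⟩
          refine LinearMap.ext fun y => ?_
          rw [LinearMap.comp_apply, LinearMap.comp_apply, LinearEquiv.coe_coe]
          have : (S.g.hom.quotKerEquivOfSurjective hsurj).symm (S.g.hom y) =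
              Submodule.Quotient.mk y := by
            rw [LinearEquiv.symm_apply_eq]
            rfl
          rw [this]
          rfl
        rw [← hψ'']
        exact hφ' ψ'
      obtain ⟨φ', hφ''⟩ := Module.Injective.extension_property R E _ _
        ((LinearMap.ker res).liftQ res le_rfl) (by
          rw [← LinearMap.ker_eq_bot]
          exact Submodule.ker_liftQ_eq_bot _ _ _ le_rfl)
        ((LinearMap.ker res).liftQ φ hker)
      refine ⟨φ', ?_⟩
      refine LinearMap.ext fun ψ => ?_
      have := LinearMap.congr_fun hφ'' (Submodule.Quotient.mk ψ)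
      exact this
    · rintro ⟨(φ' : (S.X₁ →ₗ[R] K) →ₗ[R] E), rfl⟩
      refine LinearMap.ext fun ψ => ?_
      show φ' ((ψ ∘ₗ S.g.hom) ∘ₗ S.f.hom) = 0
      have : (ψ ∘ₗ S.g.hom) ∘ₗ S.f.hom = 0 := by
        refine LinearMap.ext fun x => ?_
        show ψ (S.g.hom (S.f.hom x)) = 0
        rw [(hex _).2 ⟨x, rfl⟩, map_zero]
      rw [this, map_zero]
  surj {M N} g hg := by
    rw [ddFunctor_map_hom]
    intro (φ : (N →ₗ[R] K) →ₗ[R] E)
    set res : (N →ₗ[R] K) →ₗ[R] (M →ₗ[R] K) := LinearMap.lcomp R K g.hom with hres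
    have hinj : Function.Injective res := by
      intro ψ ψ' h
      refine LinearMap.ext fun y => ?_
      obtain ⟨x, rfl⟩ := hg y
      exact LinearMap.congr_fun h x
    obtain ⟨φ', hφ'⟩ := Module.Injective.extension_property R E _ _ res hinj φ
    exact ⟨φ', hφ'⟩

end DD

end Groth.Agent.H8.Watts
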