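import Mathlib
import Groth.Prelude.Def_Wider
import Groth.Agent.Lib.helper8.WattsB

/-!
# Eilenberg–Watts, part C (helper8): `H^d_I(M) ≅ H^d_I(R) ⊗ M` for finitely generated `M` when
`cd I ≤ d`, and `H^n_m(M) ≅ Hom(Hom(M, K), E)` for a canonical module `K`.
-/

universe u

set_option linter.unusedSectionVars false

namespace Groth.Agent.H8.Watts

open CategoryTheory TensorProduct LocCoh IsLocalRing

variable {R : Type u} [CommRing R] [IsNoetherianRing R]

/-- top local cohomology is a tensor product, finitely generated case. -/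
theorem nonempty_H_equiv_tensor (I : Ideal R) (d : ℕ)
    (hcd : ∀ N : ModuleCat.{u} R, Subsingleton ((localCohomology I (d + 1)).obj N))
    (M : Type u) [AddCommGroup M] [Module R M] [Module.Finite R M] :
    Nonempty (H I d M ≃ₗ[R] (H I d R) ⊗[R] M) :=
  ⟨((rightExact_localCohomology I d hcd).equiv (ModuleCat.of R M)).symm⟩

/-- the double dual `Hom(Hom(M, K), E)` is `Hom(K, E) ⊗ M`, `M` finitely generated, `E` injective. -/
theorem nonempty_dd_equiv_tensor (K E : Type u) [AddCommGroup K] [Module R K] [AddCommGroup E]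
    [Module R E] (hE : Module.Injective R E)
    (M : Type u) [AddCommGroup M] [Module R M] [Module.Finite R M] :
    Nonempty (((M →ₗ[R] K) →ₗ[R] E) ≃ₗ[R] (K →ₗ[R] E) ⊗[R] M) := by
  have e1 := ((rightExact_ddFunctor K E hE).equiv (ModuleCat.of R M)).symm
  have e2 : ((R →ₗ[R] K) →ₗ[R] E) ≃ₗ[R] (K →ₗ[R] E) :=
    LinearEquiv.congrLeft E R (LinearMap.ringLmapEquivSelf R R K)
  exact ⟨e1.trans (TensorProduct.congr e2 (LinearEquiv.refl R M))⟩

/-- `H^n_m(M) ≅ Hom(Hom(M, K), E)` for a canonical module `K`. -/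
theorem nonempty_H_equiv_dd [IsLocalRing R] (n : ℕ) (hn : ringKrullDim R = n)
    (K E : Type u) [AddCommGroup K] [Module R K] [AddCommGroup E]
    [Module R E] (hE : Module.Injective R E)
    (eK : (K →ₗ[R] E) ≃ₗ[R] H (maximalIdeal R) n R)
    (M : Type u) [AddCommGroup M] [Module R M] [Module.Finite R M] :
    Nonempty (H (maximalIdeal R) n M ≃ₗ[R] ((M →ₗ[R] K) →ₗ[R] E)) := by
  have hcd : ∀ N : ModuleCat.{u} R,
      Subsingleton ((localCohomology (maximalIdeal R) (n + 1)).obj N) := fun N =>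
    Groth.Agent.H8.CdDim.cdLE_of_ringKrullDim_le R (maximalIdeal R) n hn.le N (n + 1) (by omega)
  obtain ⟨e1⟩ := nonempty_H_equiv_tensor (maximalIdeal R) n hcd M
  obtain ⟨e2⟩ := nonempty_dd_equiv_tensor K E hE M
  exact ⟨(e1.trans (TensorProduct.congr eK.symm (LinearEquiv.refl R M))).trans e2.symm⟩

end Groth.Agent.H8.Watts
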