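import Mathlib
import Groth.Agent.Lib.helper8.WattsA

/-!
# Eilenberg–Watts, part D (helper8): the natural isomorphism between two right exact functors
agreeing on `R`; additive functors vanishing on `R` vanish on `R^k`.
-/

universe u

set_option linter.unusedSectionVars false

namespace Groth.Agent.H8.Watts

open CategoryTheory TensorProduct

variable {R : Type u} [CommRing R]

/-- an additive functor vanishing on `R` vanishes on `R^k`. -/
theorem subsingleton_obj_free (F : ModuleCat.{u} R ⥤ ModuleCat.{u} R)
    (hadd : ∀ {M N : ModuleCat.{u} R} (f g : M ⟶ N), F.map (f + g) = F.map f + F.map g)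
    (hsmul : ∀ {M N : ModuleCat.{u} R} (r : R) (f : M ⟶ N), F.map (r • f) = r • F.map f)
    (k : ℕ) (h : Subsingleton (F.obj (ModuleCat.of R R))) :
    Subsingleton (F.obj (ModuleCat.of R (Fin k → R))) := by
  classical
  have hzero : ∀ {M N : ModuleCat.{u} R}, F.map (0 : M ⟶ N) = 0 := by
    intro M N
    have := hsmul (0 : R) (0 : M ⟶ N)
    rwa [zero_smul, zero_smul] at this
  have hsum : ∀ (s : Finset (Fin k)) {M N : ModuleCat.{u} R} (f : Fin k → (M ⟶ N)),
      F.map (∑ i ∈ s, f i) = ∑ i ∈ s, F.map (f i) := by
    intro s M N f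
    induction s using Finset.induction_on with
    | empty => simp [hzero]
    | insert a s ha ih => rw [Finset.sum_insert ha, Finset.sum_insert ha, hadd, ih]
  have key : ∀ y : F.obj (ModuleCat.of R (Fin k → R)), y = 0 := by
    intro y
    have h2 := congrArg (fun φ => φ.hom y) (hsum Finset.univ
      (fun i : Fin k => RightExact.prj k i ≫
        vec (ModuleCat.of R (Fin k → R)) (Pi.single i (1 : R))))
    simp only [ModuleCat.hom_sum, LinearMap.sum_apply] at h2
    rw [RightExact.sum_prj_vec, F.map_id] at h2
    have h3 : y = ∑ i : Fin k, (F.map (RightExact.prj k i ≫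
        vec (ModuleCat.of R (Fin k → R)) (Pi.single i (1 : R)))).hom y := h2
    rw [h3]
    refine Finset.sum_eq_zero fun i _ => ?_
    rw [F.map_comp]
    show (F.map (vec (ModuleCat.of R (Fin k → R)) (Pi.single i (1 : R)))).hom
      ((F.map (RightExact.prj k i)).hom y) = 0
    rw [Subsingleton.elim ((F.map (RightExact.prj k i)).hom y) 0, map_zero]
  exact ⟨fun y y' => (key y).trans (key y').symm⟩

variable {F G : ModuleCat.{u} R ⥤ ModuleCat.{u} R} [IsNoetherianRing R]

/-- two right exact functors which agree on `R` agree on finitely generated modules. -/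
noncomputable def natEquiv (hF : RightExact F) (hG : RightExact G)
    (c : F.obj (ModuleCat.of R R) ≃ₗ[R] G.obj (ModuleCat.of R R))
    (M : ModuleCat.{u} R) [Module.Finite R M] : F.obj M ≃ₗ[R] G.obj M :=
  ((hF.equiv M).symm ≪≫ₗ TensorProduct.congr c (LinearEquiv.refl R M)) ≪≫ₗ hG.equiv M

theorem natEquiv_naturality (hF : RightExact F) (hG : RightExact G)
    (c : F.obj (ModuleCat.of R R) ≃ₗ[R] G.obj (ModuleCat.of R R))
    {M N : ModuleCat.{u} R} [Module.Finite R M] [Module.Finite R N] (g : M ⟶ N) (x : F.obj M) :
    (G.map g).hom (natEquiv hF hG c M x) = natEquiv hF hG c N ((F.map g).hom x) := by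
  have hcomm : ∀ z : (F.obj (ModuleCat.of R R)) ⊗[R] M,
      LinearMap.lTensor _ g.hom (TensorProduct.congr c (LinearEquiv.refl R M) z) =
        TensorProduct.congr c (LinearEquiv.refl R N) (LinearMap.lTensor _ g.hom z) := by
    intro z
    induction z using TensorProduct.induction_on with
    | zero => simp
    | tmul x m => simp
    | add a b ha hb => rw [map_add, map_add, map_add, map_add, ha, hb]
  obtain ⟨z, rfl⟩ := (hF.equiv M).surjective x
  have h1 : natEquiv hF hG c M (hF.equiv M z) =
      hG.τ M (TensorProduct.congr c (LinearEquiv.refl R M) z) := by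
    simp [natEquiv, RightExact.equiv]
  have h2 : (F.map g).hom (hF.equiv M z) = hF.equiv N (LinearMap.lTensor _ g.hom z) :=
    hF.τ_naturality g z
  have h3 : natEquiv hF hG c N (hF.equiv N (LinearMap.lTensor _ g.hom z)) =
      hG.τ N (TensorProduct.congr c (LinearEquiv.refl R N) (LinearMap.lTensor _ g.hom z)) := by
    simp [natEquiv, RightExact.equiv]
  rw [h1, h2, h3, hG.τ_naturality g, hcomm]

end Groth.Agent.H8.Watts
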