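import Mathlib
import Groth.Prelude.Def_Wider
import Groth.Agent.Lib.helper8.WattsC
import Groth.Agent.Lib.helper8.WattsD
import Groth.Agent.Lib.helper21.LC8

/-!
# Local duality with a canonical module, by dimension shifting (helper8)

`R` Noetherian local of dimension `n` with `H^j_m(R) = 0` for `j < n`, `E` injective and
`Hom(K, E) ≅ H^n_m(R)`: then `H^{n-i}_m(M) ≅ Hom(Ext^i(M, K), E)` for finitely generated `M`.
-/

universe u

set_option linter.unusedSectionVars false

namespace Groth.Agent.H8.LDual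

open CategoryTheory Abelian LocCoh IsLocalRing Groth.Agent.H21.LC Groth.Agent.H8.NonVan
open Groth.Agent.H8.Watts

variable {R : Type u} [CommRing R]

section Algebra

variable {A B C E X Y : Type u} [AddCommGroup A] [Module R A] [AddCommGroup B] [Module R B]
  [AddCommGroup C] [Module R C] [AddCommGroup E] [Module R E]
  [AddCommGroup X] [Module R X] [AddCommGroup Y] [Module R Y]

theorem lcomp_injective_of_surjective (q : B →ₗ[R] C) (hq : Function.Surjective q) :
    Function.Injective (LinearMap.lcomp R E q) := by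
  intro φ φ' h
  refine LinearMap.ext fun c => ?_
  obtain ⟨b, rfl⟩ := hq c
  exact LinearMap.congr_fun h b

theorem range_lcomp_eq_ker (r : A →ₗ[R] B) (q : B →ₗ[R] C) (hq : Function.Surjective q)
    (hex : Function.Exact r q) :
    LinearMap.range (LinearMap.lcomp R E q) = LinearMap.ker (LinearMap.lcomp R E r) := by
  ext φ'
  constructor
  · rintro ⟨φ, rfl⟩
    rw [LinearMap.mem_ker]
    refine LinearMap.ext fun a => ?_
    show φ (q (r a)) = 0
    rw [(hex _).2 ⟨a, rfl⟩, map_zero]
  · intro h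
    rw [LinearMap.mem_ker] at h
    have hle : LinearMap.ker q ≤ LinearMap.ker φ' := by
      intro b hb
      obtain ⟨a, rfl⟩ := (hex b).1 hb
      exact LinearMap.congr_fun h a
    refine ⟨(LinearMap.ker q).liftQ φ' hle ∘ₗ
      (q.quotKerEquivOfSurjective hq).symm.toLinearMap, ?_⟩
    refine LinearMap.ext fun b => ?_
    show ((LinearMap.ker q).liftQ φ' hle) ((q.quotKerEquivOfSurjective hq).symm (q b)) = φ' b
    have : (q.quotKerEquivOfSurjective hq).symm (q b) = Submodule.Quotient.mk b := by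
      rw [LinearEquiv.symm_apply_eq]
      rfl
    rw [this]
    rfl

theorem nonempty_equiv_of_map_range (α : A →ₗ[R] X) (β : B →ₗ[R] Y)
    (hα : Function.Injective α) (hβ : Function.Injective β) (e : X ≃ₗ[R] Y)
    (h : Submodule.map (e : X →ₗ[R] Y) (LinearMap.range α) = LinearMap.range β) :
    Nonempty (A ≃ₗ[R] B) :=
  ⟨(((LinearEquiv.ofInjective α hα) ≪≫ₗ (e.submoduleMap (LinearMap.range α))) ≪≫ₗ
    (LinearEquiv.ofEq _ _ h)) ≪≫ₗ (LinearEquiv.ofInjective β hβ).symm⟩

end Algebra

/-- `Hom(M, K) ≅ Ext^0(M, K)`. -/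
noncomputable def homExt0 (M K : Type u) [AddCommGroup M] [Module R M] [AddCommGroup K]
    [Module R K] : (M →ₗ[R] K) ≃ₗ[R] Ext (ModuleCat.of R M) (ModuleCat.of R K) 0 :=
  LinearEquiv.ofBijective
    { toFun := fun ψ => Ext.mk₀ (ModuleCat.ofHom ψ)
      map_add' := fun ψ ψ' => by rw [ModuleCat.ofHom_add, Ext.mk₀_add]
      map_smul' := fun r ψ => by
        have : ModuleCat.ofHom (r • ψ) = r • ModuleCat.ofHom ψ := rfl
        rw [this, Ext.mk₀_smul]
        rfl }
    ⟨fun ψ ψ' h => by
        have := (Ext.mk₀_bijective (ModuleCat.of R M) (ModuleCat.of R K)).1 h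
        exact congrArg ModuleCat.Hom.hom this,
      fun x => by
        obtain ⟨f, rfl⟩ := (Ext.mk₀_bijective (ModuleCat.of R M) (ModuleCat.of R K)).2 x
        exact ⟨f.hom, rfl⟩⟩

lemma homExt0_apply (M K : Type u) [AddCommGroup M] [Module R M] [AddCommGroup K]
    [Module R K] (ψ : M →ₗ[R] K) : homExt0 M K ψ = Ext.mk₀ (ModuleCat.ofHom ψ) := rfl

lemma localCohomology_map_add (I : Ideal R) (d : ℕ) {M N : ModuleCat.{u} R} (f g : M ⟶ N) :
    (localCohomology I d).map (f + g) = (localCohomology I d).map f + (localCohomology I d).map g := by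
  refine ModuleCat.hom_ext (LinearMap.ext fun x => ?_)
  obtain ⟨n, y, rfl⟩ := ιH_surj I d _ x
  rw [map_ιH, ModuleCat.hom_add, LinearMap.add_apply, map_ιH, map_ιH, Ext.mk₀_add,
    Ext.comp_add, map_add]

lemma localCohomology_map_smul (I : Ideal R) (d : ℕ) {M N : ModuleCat.{u} R} (r : R) (f : M ⟶ N) :
    (localCohomology I d).map (r • f) = r • (localCohomology I d).map f := by
  refine ModuleCat.hom_ext (LinearMap.ext fun x => ?_)
  obtain ⟨n, y, rfl⟩ := ιH_surj I d _ x
  rw [map_ιH, ModuleCat.hom_smul, LinearMap.smul_apply, map_ιH, Ext.mk₀_smul,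
    Ext.comp_smul, map_smul]

end Groth.Agent.H8.LDual
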