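import Mathlib
import Groth.Prelude.Def_Wider
import Groth.Agent.Lib.helper8.LDualA

/-!
# Local duality with a canonical module, by dimension shifting, part B (helper8): the main theorem.
-/

universe u

set_option linter.unusedSectionVars false

namespace Groth.Agent.H8.LDual

open CategoryTheory Abelian LocCoh IsLocalRing Groth.Agent.H21.LC Groth.Agent.H8.NonVan
open Groth.Agent.H8.Watts

variable {R : Type u} [CommRing R] [IsNoetherianRing R] [IsLocalRing R]

set_option maxHeartbeats 1600000 in
/-- local duality with a canonical module. -/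
theorem main (n : ℕ) (hn : ringKrullDim R = n)
    (hvan : ∀ j, j < n → Subsingleton (H (maximalIdeal R) j R))
    (K E : Type u) [AddCommGroup K] [Module R K] [AddCommGroup E] [Module R E]
    (hE : Module.Injective R E) (eK : (K →ₗ[R] E) ≃ₗ[R] H (maximalIdeal R) n R) :
    ∀ (i j : ℕ), j + i = n → ∀ (M : Type u) [AddCommGroup M] [Module R M] [Module.Finite R M],
      Nonempty (H (maximalIdeal R) j M ≃ₗ[R]
        (Ext (ModuleCat.of R M) (ModuleCat.of R K) i →ₗ[R] E)) := by
  have hfree : ∀ (b j : ℕ), j < n → Subsingleton (H (maximalIdeal R) j (Fin b → R)) :=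
    fun b j hj => subsingleton_obj_free (localCohomology (maximalIdeal R) j)
      (localCohomology_map_add _ _) (localCohomology_map_smul _ _) b (hvan j hj)
  intro i
  induction i with
  | zero =>
    intro j hj M _ _ _
    obtain rfl : j = n := by omega
    have hcd : ∀ N : ModuleCat.{u} R,
        Subsingleton ((localCohomology (maximalIdeal R) (j + 1)).obj N) := fun N =>
      Groth.Agent.H8.CdDim.cdLE_of_ringKrullDim_le R (maximalIdeal R) j hn.le N (j + 1) (by omega)
    have hF := rightExact_localCohomology (maximalIdeal R) j hcd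
    have hG := rightExact_ddFunctor K E hE
    let c : H (maximalIdeal R) j R ≃ₗ[R] ((R →ₗ[R] K) →ₗ[R] E) :=
      eK.symm ≪≫ₗ (LinearEquiv.congrLeft E R (LinearMap.ringLmapEquivSelf R R K)).symm
    let e1 : H (maximalIdeal R) j M ≃ₗ[R] ((M →ₗ[R] K) →ₗ[R] E) :=
      natEquiv hF hG c (ModuleCat.of R M)
    exact ⟨e1 ≪≫ₗ LinearEquiv.congrLeft E R (homExt0 M K)⟩
  | succ a ih =>
    intro j hj M _ _ _
    obtain ⟨b, π, hπ⟩ := Module.Finite.exists_fin' R M
    have hS := surjSES_shortExact π hπ
    have hPj : Subsingleton (H (maximalIdeal R) j (Fin b → R)) := hfree b j (by omega)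
    haveI : Projective (ModuleCat.of R (Fin b → R)) :=
      (IsProjective.iff_projective (Fin b → R)).mp inferInstance
    rcases a with _ | a'
    · -- `i = 1`
      obtain rfl : n = j + 1 := by omega
      have hcd : ∀ N : ModuleCat.{u} R,
          Subsingleton ((localCohomology (maximalIdeal R) (j + 1 + 1)).obj N) := fun N =>
        Groth.Agent.H8.CdDim.cdLE_of_ringKrullDim_le R (maximalIdeal R) (j + 1) hn.le N
          (j + 1 + 1) (by omega)
      have hF := rightExact_localCohomology (maximalIdeal R) (j + 1) hcd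
      have hG := rightExact_ddFunctor K E hE
      let c : H (maximalIdeal R) (j + 1) R ≃ₗ[R] ((R →ₗ[R] K) →ₗ[R] E) :=
        eK.symm ≪≫ₗ (LinearEquiv.congrLeft E R (LinearMap.ringLmapEquivSelf R R K)).symm
      -- the two kernels
      have hα : Function.Injective (δ (maximalIdeal R) hS j) := by
        rw [← LinearMap.ker_eq_bot, LinearMap.ker_eq_bot']
        intro x hx
        obtain ⟨y, rfl⟩ := (exact₃ (maximalIdeal R) hS j x).1 hx
        rw [Subsingleton.elim y 0, map_zero]
      have hαr : LinearMap.range (δ (maximalIdeal R) hS j) =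
          LinearMap.ker ((localCohomology (maximalIdeal R) (j + 1)).map (surjSES π).f).hom :=
        ((LinearMap.exact_iff).mp (exact₁ (maximalIdeal R) hS j)).symm
      -- the Ext side
      set ι : LinearMap.ker π →ₗ[R] (Fin b → R) := (LinearMap.ker π).subtype with hι
      set Φ : Ext (ModuleCat.of R (LinearMap.ker π)) (ModuleCat.of R K) 0 →ₗ[R]
          Ext (ModuleCat.of R M) (ModuleCat.of R K) 1 :=
        hS.extClass.precompOfLinear R (ModuleCat.of R K) (show 1 + 0 = 1 by omega) with hΦ
      set q : (LinearMap.ker π →ₗ[R] K) →ₗ[R] Ext (ModuleCat.of R M) (ModuleCat.of R K) 1 :=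
        Φ ∘ₗ (homExt0 (LinearMap.ker π) K).toLinearMap with hq
      set r : ((Fin b → R) →ₗ[R] K) →ₗ[R] (LinearMap.ker π →ₗ[R] K) :=
        LinearMap.lcomp R K ι with hr
      have hqs : Function.Surjective q := by
        intro x₃
        have h0 : (Ext.mk₀ (surjSES π).g).comp x₃ (zero_add 1) = 0 := Ext.eq_zero_of_projective _
        obtain ⟨x₁, hx₁⟩ := Ext.contravariant_sequence_exact₃ hS (ModuleCat.of R K) x₃ h0
          (show 1 + 0 = 1 by omega)
        obtain ⟨ψ, rfl⟩ := (homExt0 (LinearMap.ker π) K).surjective x₁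
        exact ⟨ψ, hx₁⟩
      have hex : Function.Exact r q := by
        intro ψ
        constructor
        · intro hψ
          have hψ' : hS.extClass.comp (homExt0 (LinearMap.ker π) K ψ) (show 1 + 0 = 1 by omega) =
              0 := hψ
          obtain ⟨x₂, hx₂⟩ := Ext.contravariant_sequence_exact₁ hS (ModuleCat.of R K)
            (homExt0 (LinearMap.ker π) K ψ) (show 1 + 0 = 1 by omega) hψ'
          obtain ⟨ψ₂, rfl⟩ := (homExt0 (Fin b → R) K).surjective x₂
          refine ⟨ψ₂, ?_⟩
          rw [homExt0_apply, homExt0_apply, Ext.mk₀_comp_mk₀] at hx₂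
          have h1 := (Ext.mk₀_bijective _ _).1 hx₂
          have h2 := congrArg ModuleCat.Hom.hom h1
          exact h2
        · rintro ⟨ψ₂, rfl⟩
          show hS.extClass.comp (homExt0 (LinearMap.ker π) K (ψ₂ ∘ₗ ι))
            (show 1 + 0 = 1 by omega) = 0
          have h1 : homExt0 (LinearMap.ker π) K (ψ₂ ∘ₗ ι) =
              (Ext.mk₀ (surjSES π).f).comp (homExt0 (Fin b → R) K ψ₂) (zero_add 0) := by
            rw [homExt0_apply, homExt0_apply, Ext.mk₀_comp_mk₀]
            rfl
          rw [h1]
          exact hS.extClass_comp_assoc _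
      have hβ : Function.Injective (LinearMap.lcomp R E q) := lcomp_injective_of_surjective q hqs
      have hβr : LinearMap.range (LinearMap.lcomp R E q) = LinearMap.ker (LinearMap.lcomp R E r) :=
        range_lcomp_eq_ker r q hqs hex
      -- the natural isomorphism
      let eN : H (maximalIdeal R) (j + 1) (LinearMap.ker π) ≃ₗ[R]
          ((LinearMap.ker π →ₗ[R] K) →ₗ[R] E) :=
        natEquiv hF hG c (ModuleCat.of R (LinearMap.ker π))
      let eP : H (maximalIdeal R) (j + 1) (Fin b → R) ≃ₗ[R]
          (((Fin b → R) →ₗ[R] K) →ₗ[R] E) :=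
        natEquiv hF hG c (ModuleCat.of R (Fin b → R))
      have hnat : ∀ x : H (maximalIdeal R) (j + 1) (LinearMap.ker π),
          LinearMap.lcomp R E r (eN x) =
            eP (((localCohomology (maximalIdeal R) (j + 1)).map (surjSES π).f).hom x) :=
        fun x => natEquiv_naturality hF hG c (surjSES π).f x
      refine nonempty_equiv_of_map_range (δ (maximalIdeal R) hS j) (LinearMap.lcomp R E q)
        hα hβ eN ?_
      rw [hαr, hβr]
      ext y
      constructor
      · rintro ⟨x, hx, rfl⟩
        rw [LinearMap.mem_ker]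
        have hx' : ((localCohomology (maximalIdeal R) (j + 1)).map (surjSES π).f).hom x = 0 := hx
        show LinearMap.lcomp R E r (eN x) = 0
        rw [hnat, hx', map_zero]
      · intro hy
        rw [LinearMap.mem_ker] at hy
        refine ⟨eN.symm y, ?_, ?_⟩
        · show ((localCohomology (maximalIdeal R) (j + 1)).map (surjSES π).f).hom (eN.symm y) = 0
          apply eP.injective
          rw [← hnat, LinearEquiv.apply_symm_apply, hy, map_zero]
        · show eN (eN.symm y) = y
          exact LinearEquiv.apply_symm_apply _ _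
    · -- `i = a' + 2`
      have hPj1 : Subsingleton (H (maximalIdeal R) (j + 1) (Fin b → R)) :=
        hfree b (j + 1) (by omega)
      have hδ := δ_bijective_of_subsingleton (maximalIdeal R) hS j hPj hPj1
      obtain ⟨e⟩ := ih (j + 1) (by omega) (LinearMap.ker π)
      set Φ : Ext (ModuleCat.of R (LinearMap.ker π)) (ModuleCat.of R K) (a' + 1) →ₗ[R]
          Ext (ModuleCat.of R M) (ModuleCat.of R K) (a' + 1 + 1) :=
        hS.extClass.precompOfLinear R (ModuleCat.of R K)
          (show 1 + (a' + 1) = a' + 1 + 1 by omega) with hΦ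
      have hΦb : Function.Bijective Φ := by
        constructor
        · rw [← LinearMap.ker_eq_bot, LinearMap.ker_eq_bot']
          intro x₁ hx₁
          have hx₁' : hS.extClass.comp x₁ (show 1 + (a' + 1) = a' + 1 + 1 by omega) = 0 := hx₁
          obtain ⟨x₂, hx₂⟩ := Ext.contravariant_sequence_exact₁ hS (ModuleCat.of R K) x₁
            (show 1 + (a' + 1) = a' + 1 + 1 by omega) hx₁'
          rw [← hx₂, Ext.eq_zero_of_projective x₂, Ext.comp_zero]
        · intro x₃
          have h0 : (Ext.mk₀ (surjSES π).g).comp x₃ (zero_add (a' + 1 + 1)) = 0 :=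
            Ext.eq_zero_of_projective _
          obtain ⟨x₁, hx₁⟩ := Ext.contravariant_sequence_exact₃ hS (ModuleCat.of R K) x₃ h0
            (show 1 + (a' + 1) = a' + 1 + 1 by omega)
          exact ⟨x₁, hx₁⟩
      exact ⟨((LinearEquiv.ofBijective (δ (maximalIdeal R) hS j) hδ) ≪≫ₗ e) ≪≫ₗ
        (LinearEquiv.congrLeft E R (LinearEquiv.ofBijective Φ hΦb))⟩

end Groth.Agent.H8.LDual
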