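import Mathlib
import Groth.Prelude.Def_Wider
import Groth.Agent.Lib.helper8.LDualB
import Groth.Agent.Lib.helper8.LCGorC
import Groth.Agent.Lib.helper9.Depth4

/-!
# Local duality with a canonical module, part C (helper8): the statement with Mathlib's `Ext`
bifunctor; Cohen–Macaulay and Gorenstein local rings.
-/

universe u

set_option linter.unusedSectionVars false

namespace Groth.Agent.H8.LDual

open CategoryTheory Abelian Opposite LocCoh InjHull IsLocalRing Groth.Agent.H21.LC

variable {R : Type u} [CommRing R] [IsNoetherianRing R] [IsLocalRing R]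

/-- local duality, with Mathlib's `Ext` bifunctor. -/
theorem main_old (n : ℕ) (hn : ringKrullDim R = n)
    (hvan : ∀ j, j < n → Subsingleton (H (maximalIdeal R) j R))
    (K E : Type u) [AddCommGroup K] [Module R K] [AddCommGroup E] [Module R E]
    (hE : Module.Injective R E) (eK : (K →ₗ[R] E) ≃ₗ[R] H (maximalIdeal R) n R)
    (i : ℕ) (hi : i ≤ n) (M : Type u) [AddCommGroup M] [Module R M] [Module.Finite R M] :
    Nonempty (H (maximalIdeal R) (n - i) M ≃ₗ[R]
      ((((Ext R (ModuleCat.{u} R) i).obj (op (ModuleCat.of R M))).obj (ModuleCat.of R K))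
        →ₗ[R] E)) := by
  obtain ⟨e⟩ := main n hn hvan K E hE eK i (n - i) (by omega) M
  exact ⟨e ≪≫ₗ (LinearEquiv.congrLeft E R
    (oldNew (ModuleCat.of R M) (ModuleCat.of R K) i)).symm⟩

/-- vanishing of local cohomology of a Cohen–Macaulay local ring below the dimension. -/
theorem hvan_of_depth (n : ℕ) (hd : LocCoh.depth R R = n) :
    ∀ j, j < n → Subsingleton (H (maximalIdeal R) j R) := by
  intro j hj
  have hIM := Groth.Agent.Lib.helper9.Depth.maximalIdeal_smul_top_ne_top (R := R) R
  have hd' : idealDepth (maximalIdeal R) R = n := hd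
  apply subsingleton_of_lt_depth (maximalIdeal R) R hIM j
  rw [hd']
  exact_mod_cast hj

end Groth.Agent.H8.LDual
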