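import Mathlib
import Groth.Prelude.Def_Wider
import Groth.Agent.Lib.helper8.LDualC
import Groth.Agent.Lib.helper1.InjHull

/-!
# Local duality over a Gorenstein local ring (helper8)
-/

universe u

set_option linter.unusedSectionVars false

namespace Groth.Agent.H8.LDual

open CategoryTheory Abelian Opposite LocCoh InjHull IsLocalRing Groth.Agent.H21.LC

/-- local duality over a Gorenstein local ring: `H^{n-i}_m(M) ≅ Hom(Ext^i(M, R), E)`. -/
theorem gorenstein_duality (R : Type u) [CommRing R] [LocCoh.IsGorensteinLocalRing R]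
    (n : ℕ) (hn : ringKrullDim R = n) (E : Type u) [AddCommGroup E] [Module R E]
    (f : ResidueField R →ₗ[R] E) (hf : IsInjectiveHull f)
    (i : ℕ) (hi : i ≤ n) (M : Type u) [AddCommGroup M] [Module R M] [Module.Finite R M] :
    Nonempty (H (maximalIdeal R) (n - i) M ≃ₗ[R]
      ((((Ext R (ModuleCat.{u} R) i).obj (op (ModuleCat.of R M))).obj (ModuleCat.of R R))
        →ₗ[R] E)) := by
  obtain ⟨g, hg⟩ := Groth.Agent.H8.LCGor.exists_isInjectiveHull_H_of_gorenstein R n hn
  obtain ⟨e, -⟩ := Groth.Agent.Lib.helper1.InjHullLib.unique g hg f hf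
  have eK : (R →ₗ[R] E) ≃ₗ[R] H (maximalIdeal R) n R :=
    (LinearMap.ringLmapEquivSelf R R E).trans e.symm
  have hd := (Groth.Agent.H21.GorRing.depth_and_injdim R n hn).1
  exact main_old n hn (hvan_of_depth n hd) R E hf.isInjective eK i hi M

end Groth.Agent.H8.LDual
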