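import Mathlib
import Groth.Prelude.Def_Wider
import Groth.Agent.Lib.helper8.LDualD
import Groth.Agent.Lib.helper8.CanonB
import Groth.Agent.Lib.helper8.LCNonVanE
import Groth.Agent.Lib.helper9.Depth11
import Groth.Agent.S0341

/-!
# `ht I + dim R/I = dim R` in a Cohen–Macaulay local ring, and the canonical module of a quotient of
a Gorenstein local ring (helper8)
-/

universe u

set_option linter.unusedSectionVars false

namespace Groth.Agent.H8.LDual

open CategoryTheory Abelian Opposite LocCoh InjHull IsLocalRing Groth.Agent.H21.LC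
open Groth.Agent.Lib.helper9.Depth

/-- `dim R/p + ht p = dim R` for a prime of a Cohen–Macaulay local ring. -/
theorem dim_quotient_add_height_prime (A : Type u) [CommRing A] [LocCoh.IsCohenMacaulayLocalRing A]
    (d : ℕ) (hd : ringKrullDim A = d) (p : Ideal A) [p.IsPrime] :
    ringKrullDim (A ⧸ p) + ((p.height : ℕ∞) : WithBot ℕ∞) = d := by
  have hCM : IsCohenMacaulayModule A A := LocCoh.IsCohenMacaulayLocalRing.supportDim_eq_depth
  have hsupp : (⟨p, inferInstance⟩ : PrimeSpectrum A) ∈ Module.support A A := by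
    rw [Module.support_eq_zeroLocus, Module.annihilator_eq_bot.mpr inferInstance]
    simp
  obtain ⟨-, h2, -⟩ := isCohenMacaulayModule_localization_and_dim hCM ⟨p, inferInstance⟩ hsupp
  rw [Module.supportDim_self_eq_ringKrullDim, hd] at h2
  have h3 : Module.supportDim A (A ⧸ (p • (⊤ : Submodule A A))) = ringKrullDim (A ⧸ p) := by
    have : (p • (⊤ : Submodule A A)) = p := by rw [smul_eq_mul, Ideal.mul_top]
    rw [this]
    exact Module.supportDim_quotient_eq_ringKrullDim p
  have h4 : Module.supportDim (Localization.AtPrime p) (LocalizedModule p.primeCompl A) =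
      ((p.height : ℕ∞) : WithBot ℕ∞) := by
    rw [Module.supportDim_eq_of_equiv (localizedModuleSelfEquiv p), supportDim_self_localization]
  rw [h3, h4] at h2
  exact h2.symm

/-- `dim R/I + ht I = dim R` for a proper ideal of a Cohen–Macaulay local ring. -/
theorem dim_quotient_add_height (A : Type u) [CommRing A] [LocCoh.IsCohenMacaulayLocalRing A]
    (d : ℕ) (hd : ringKrullDim A = d) (I : Ideal A) (g e : ℕ) (hg : I.height = g)
    (he : ringKrullDim (A ⧸ I) = e) : e + g = d := by
  obtain ⟨p, hp, hIp, hpg⟩ := Ideal.exists_isPrime_height_eq hg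
  have h1 := dim_quotient_add_height_prime A d hd p
  rw [hpg] at h1
  -- `dim A/p ≤ dim A/I`
  have h2 : ringKrullDim (A ⧸ p) ≤ e := by
    rw [← he]
    exact ringKrullDim_le_of_surjective (Ideal.Quotient.factor hIp)
      (Ideal.Quotient.factor_surjective hIp)
  -- `dim A/I ≤ d - g`
  have h3 : ∀ q : Ideal A, q.IsPrime → I ≤ q → ringKrullDim (A ⧸ q) + (g : WithBot ℕ∞) ≤ d := by
    intro q hq hIq
    haveI := hq
    have h := dim_quotient_add_height_prime A d hd q
    rw [← h]
    refine add_le_add le_rfl ?_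
    have : (g : ℕ∞) ≤ q.height := by rw [← hg]; exact Ideal.height_mono hIq
    exact_mod_cast this
  have h4 : (e : WithBot ℕ∞) + g ≤ d := by
    -- a chain of maximal length in `V(I)`
    have hle : (e : WithBot ℕ∞) ≤ ringKrullDim (A ⧸ I) := he.ge
    rw [ringKrullDim_quotient] at hle
    obtain ⟨l, hl⟩ := Order.le_krullDim_iff.mp hle
    have hq := h3 l.head.1.asIdeal l.head.1.isPrime
      ((PrimeSpectrum.mem_zeroLocus _ _).mp l.head.2)
    refine le_trans (add_le_add ?_ le_rfl) hq
    rw [Groth.Agent.H8.Canon.ringKrullDim_quotient_eq_coheight]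
    have hc : (l.length : ℕ∞) ≤ Order.coheight l.head := Order.length_le_coheight_head
    have hc' : Order.coheight l.head ≤ Order.coheight l.head.1 :=
      Order.coheight_le_coheight_apply_of_strictMono (Subtype.val) (fun _ _ h => h) l.head
    rw [hl] at hc
    exact_mod_cast hc.trans hc'
  -- conclude
  have h5 : (d : WithBot ℕ∞) ≤ (e : WithBot ℕ∞) + g := by
    rw [← h1]
    exact add_le_add h2 le_rfl
  have h6 : ((e + g : ℕ) : WithBot ℕ∞) = (d : WithBot ℕ∞) := by
    push_cast
    exact le_antisymm h4 h5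
  exact_mod_cast h6

/-- the canonical module of a quotient of a Gorenstein local ring. -/
theorem canon_of_gorenstein_quotient (S : Type u) [CommRing S] [LocCoh.IsGorensteinLocalRing S]
    (I : Ideal S) (g : ℕ) (hg : I.height = g) (d : ℕ) (hd : ringKrullDim (S ⧸ I) = d)
    (E : Type u) [AddCommGroup E] [Module S E] (f : ResidueField S →ₗ[S] E)
    (hf : IsInjectiveHull f) :
    Nonempty ((((Ext S (ModuleCat.{u} S) g).obj (op (ModuleCat.of S (S ⧸ I)))).obj
      (ModuleCat.of S S) →ₗ[S] E) ≃ₗ[S] H (maximalIdeal S) d (S ⧸ I)) := by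
  haveI := Groth.Agent.S0341.result S
  obtain ⟨N, hN⟩ := Groth.Agent.H8.NonVan.exists_supportDim_eq_nat (R := S) S
  rw [Module.supportDim_self_eq_ringKrullDim] at hN
  have hsum := dim_quotient_add_height S N hN I g d hg hd
  obtain ⟨e⟩ := gorenstein_duality S N hN E f hf g (by omega) (S ⧸ I)
  have : N - g = d := by omega
  rw [this] at e
  exact ⟨e.symm⟩

end Groth.Agent.H8.LDual
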