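import Mathlib
import Groth.Prelude.Def_Wider
import Groth.Agent.Lib.helper8.LCNonVanE
import Groth.Agent.Lib.helper21.LC13
import Groth.Agent.Lib.helper9.Depth11

/-!
# `H^h_I(R) ≠ 0` for `h = ht I` (helper8)
-/

universe u

set_option linter.unusedSectionVars false

namespace Groth.Agent.H8.NonVan

open LocCoh CategoryTheory IsLocalRing Groth.Agent.H21.LC Groth.Agent.Lib.helper9.Depth

theorem radical_map_eq_maximalIdeal {R : Type u} [CommRing R] [IsNoetherianRing R] (I p : Ideal R)
    [p.IsPrime] (hIp : I ≤ p) (hht : p.height ≤ I.height) :
    (I.map (algebraMap R (Localization.AtPrime p))).radical =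
      maximalIdeal (Localization.AtPrime p) := by
  apply le_antisymm
  · have h1 : I.map (algebraMap R (Localization.AtPrime p)) ≤
        maximalIdeal (Localization.AtPrime p) := by
      rw [← Localization.AtPrime.map_eq_maximalIdeal (I := p)]
      exact Ideal.map_mono hIp
    calc (I.map (algebraMap R (Localization.AtPrime p))).radical
        ≤ (maximalIdeal (Localization.AtPrime p)).radical := Ideal.radical_mono h1
      _ = maximalIdeal (Localization.AtPrime p) :=
        (Ideal.IsMaximal.isPrime' _).radical
  · rw [Ideal.radical_eq_sInf]
    refine le_sInf ?_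
    rintro q' ⟨hJq', hq'⟩
    haveI := hq'
    set q := q'.comap (algebraMap R (Localization.AtPrime p)) with hq
    haveI : q.IsPrime := Ideal.IsPrime.comap _
    have hIq : I ≤ q := Ideal.map_le_iff_le_comap.mp hJq'
    have hqp : q ≤ p := by
      have h1 : q' ≤ maximalIdeal (Localization.AtPrime p) := le_maximalIdeal hq'.ne_top
      have h2 := Ideal.comap_mono (f := algebraMap R (Localization.AtPrime p)) h1
      have hmax : Ideal.comap (algebraMap R (Localization.AtPrime p))
          (maximalIdeal (Localization.AtPrime p)) = p := Localization.AtPrime.under_maximalIdeal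
      rwa [hmax] at h2
    have hqeq : q = p := by
      exact Ideal.eq_of_le_of_height_le (I := q) (J := p) hqp (hht.trans (Ideal.height_mono hIq))
    have h3 : q'  = q.map (algebraMap R (Localization.AtPrime p)) :=
      (IsLocalization.map_comap p.primeCompl (Localization.AtPrime p) q').symm
    rw [h3, hqeq, Localization.AtPrime.map_eq_maximalIdeal]

theorem nontrivial_H_height (R : Type u) [CommRing R] [IsNoetherianRing R] (I : Ideal R)
    (h : ℕ) (hh : I.height = h) : Nontrivial (H I h R) := by
  obtain ⟨p, hp, hIp, hph⟩ := Ideal.exists_isPrime_height_eq hh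
  haveI := hp
  by_contra hnt
  rw [not_nontrivial_iff_subsingleton] at hnt
  have hrad := radical_map_eq_maximalIdeal I p hIp (by rw [hph, hh])
  have hrad' : (I.map (algebraMap R (Localization.AtPrime p))).radical =
      (maximalIdeal (Localization.AtPrime p)).radical := by
    rw [hrad, (Ideal.IsMaximal.isPrime' _).radical]
  -- localize
  haveI h1 : Subsingleton (LocalizedModule p.primeCompl
      ((localCohomology I h).obj (ModuleCat.of R R))) := by
    haveI := hnt
    infer_instance
  have e := locEquiv I p.primeCompl R h
  haveI h2 : Subsingleton ((localCohomology (I.map (algebraMap R (Localization.AtPrime p))) h).obj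
      (ModuleCat.of (Localization.AtPrime p) (LocalizedModule p.primeCompl R))) :=
    e.symm.toEquiv.subsingleton
  haveI h3 : Subsingleton ((localCohomology (maximalIdeal (Localization.AtPrime p)) h).obj
      (ModuleCat.of (Localization.AtPrime p) (LocalizedModule p.primeCompl R))) :=
    (((localCohomology.isoOfSameRadical hrad' h).app
      (ModuleCat.of (Localization.AtPrime p) (LocalizedModule p.primeCompl R))).toLinearEquiv.symm
        ).toEquiv.subsingleton
  haveI : Module.Finite (Localization.AtPrime p) (LocalizedModule p.primeCompl R) :=
    Module.Finite.equiv (localizedModuleSelfEquiv p).symm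
  have hdim : Module.supportDim (Localization.AtPrime p) (LocalizedModule p.primeCompl R) = h := by
    rw [Module.supportDim_eq_of_equiv (localizedModuleSelfEquiv p), supportDim_self_localization,
      hph]
    rfl
  have h4 := nontrivial_H_supportDim h (LocalizedModule p.primeCompl R) hdim
  exact not_subsingleton _ h3

end Groth.Agent.H8.NonVan
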