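import Mathlib

/-! Farkas (helper8): Farkas' lemma over a linearly ordered field (Bartl's algebraic proof) and a
criterion for membership in the convex hull of a finite set. -/

set_option autoImplicit false
set_option linter.unusedSectionVars false

namespace Groth.Agent.H8.Farkas

open Module

variable {K W : Type*} [Field K] [LinearOrder K] [IsStrictOrderedRing K]
  [AddCommGroup W] [Module K W]

/-- Farkas' lemma for finitely many linear forms on a vector space over an ordered field -/
theorem farkas {κ : Type*} (s : Finset κ) :
    ∀ (α : κ → Dual K W) (γ : Dual K W),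
      (∀ x, (∀ i ∈ s, α i x ≤ 0) → γ x ≤ 0) →
      ∃ c : κ → K, (∀ i, 0 ≤ c i) ∧ ∀ x, γ x = ∑ i ∈ s, c i * α i x := by
  classical
  induction s using Finset.induction_on with
  | empty =>
    intro α γ h
    refine ⟨fun _ => 0, fun _ => le_rfl, ?_⟩
    intro x
    have h1 := h x (fun i hi => absurd hi (Finset.notMem_empty i))
    have h2 := h (-x) (fun i hi => absurd hi (Finset.notMem_empty i))
    rw [map_neg] at h2
    rw [Finset.sum_empty]
    linarith
  | insert a s ha ih =>
    intro α γ h
    by_cases hcase : ∀ x, (∀ i ∈ s, α i x ≤ 0) → γ x ≤ 0
    · obtain ⟨c, hc, hγ⟩ := ih α γ hcase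
      refine ⟨Function.update c a 0, ?_, ?_⟩
      · intro i
        by_cases hia : i = a
        · subst hia; rw [Function.update_self]
        · rw [Function.update_of_ne hia]; exact hc i
      · intro x
        rw [Finset.sum_insert ha, Function.update_self, zero_mul, zero_add, hγ x]
        apply Finset.sum_congr rfl
        intro i hi
        rw [Function.update_of_ne (fun h : i = a => ha (by rw [← h]; exact hi))]
    · push Not at hcase
      obtain ⟨x₀, hx₀, hγx₀⟩ := hcase
      have ht : 0 < α a x₀ := by
        by_contra hneg
        rw [not_lt] at hneg
        have := h x₀ (by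
          intro i hi
          rcases Finset.mem_insert.mp hi with rfl | hi
          · exact hneg
          · exact hx₀ i hi)
        linarith
      set t := α a x₀ with htdef
      let α' : κ → Dual K W := fun i => α i - (α i x₀ / t) • α a
      let γ' : Dual K W := γ - (γ x₀ / t) • α a
      have hα' : ∀ i x, α' i x = α i (x - (α a x / t) • x₀) := by
        intro i x
        simp only [α', LinearMap.sub_apply, LinearMap.smul_apply, smul_eq_mul, map_sub, map_smul]
        ring
      have hγ' : ∀ x, γ' x = γ (x - (α a x / t) • x₀) := by
        intro x
        simp only [γ', LinearMap.sub_apply, LinearMap.smul_apply, smul_eq_mul, map_sub, map_smul]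
        ring
      have h' : ∀ x, (∀ i ∈ s, α' i x ≤ 0) → γ' x ≤ 0 := by
        intro x hx
        rw [hγ']
        apply h
        intro i hi
        rcases Finset.mem_insert.mp hi with rfl | hi
        · rw [map_sub, map_smul, smul_eq_mul, ← htdef, div_mul_cancel₀ _ ht.ne', sub_self]
        · rw [← hα']; exact hx i hi
      obtain ⟨c, hc, hγc⟩ := ih α' γ' h'
      set A := ∑ i ∈ s, c i * α i x₀ with hA
      have hA0 : A ≤ 0 := Finset.sum_nonpos (fun i hi => mul_nonpos_of_nonneg_of_nonpos (hc i) (hx₀ i hi))
      refine ⟨Function.update c a ((γ x₀ - A) / t), ?_, ?_⟩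
      · intro i
        by_cases hia : i = a
        · subst hia
          rw [Function.update_self]
          apply div_nonneg _ ht.le
          linarith
        · rw [Function.update_of_ne hia]; exact hc i
      · intro x
        rw [Finset.sum_insert ha, Function.update_self]
        have e1 : ∑ i ∈ s, Function.update c a ((γ x₀ - A) / t) i * α i x =
            ∑ i ∈ s, c i * α i x := by
          apply Finset.sum_congr rfl
          intro i hi
          rw [Function.update_of_ne (fun h : i = a => ha (by rw [← h]; exact hi))]
        rw [e1]
        have e2 := hγc x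
        have e3 : ∑ i ∈ s, c i * α' i x = ∑ i ∈ s, c i * α i x - A / t * α a x := by
          simp only [α', LinearMap.sub_apply, LinearMap.smul_apply, smul_eq_mul]
          rw [hA, Finset.sum_div, Finset.sum_mul, ← Finset.sum_sub_distrib]
          apply Finset.sum_congr rfl
          intro i _
          ring
        rw [e3] at e2
        simp only [γ', LinearMap.sub_apply, LinearMap.smul_apply, smul_eq_mul] at e2
        have : γ x = γ x₀ / t * α a x + (∑ i ∈ s, c i * α i x - A / t * α a x) := by
          linarith
        rw [this]
        ring

end Groth.Agent.H8.Farkas
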