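import Mathlib

/-!
# Associated primes of `M/tM` over minimal primes of `p + tA`, `p ∈ Ass M` (helper8)
-/

set_option autoImplicit false
universe u

namespace Groth.Agent.H8.AssQuot

open scoped Pointwise
open PrimeSpectrum

variable {A : Type u} [CommRing A] [IsNoetherianRing A] {M : Type u} [AddCommGroup M] [Module A M]
  [Module.Finite A M]

/-- The submodule of elements killed by `p`. -/
def killed (M : Type u) [AddCommGroup M] [Module A M] (p : Ideal A) : Submodule A M where
  carrier := {m | ∀ a ∈ p, a • m = 0}
  add_mem' := by
    intro x y hx hy a ha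
    rw [smul_add, hx a ha, hy a ha, add_zero]
  zero_mem' := by
    intro a _
    exact smul_zero a
  smul_mem' := by
    intro c x hx a ha
    rw [smul_comm, hx a ha, smul_zero]

omit [IsNoetherianRing A] [Module.Finite A M] in
lemma mem_killed {p : Ideal A} {m : M} : m ∈ killed M p ↔ ∀ a ∈ p, a • m = 0 := Iff.rfl

omit [IsNoetherianRing A] [Module.Finite A M] in
lemma map_injective {t : A} (ht : IsSMulRegular M t) (p : Ideal A) :
    Function.Injective (QuotSMulTop.map t (killed M p).subtype) := by
  rw [← LinearMap.ker_eq_bot, LinearMap.ker_eq_bot']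
  intro x hx
  obtain ⟨n, rfl⟩ := Submodule.Quotient.mk_surjective _ x
  rw [QuotSMulTop.map_apply_mk] at hx
  have h1 : ((killed M p).subtype n) ∈ t • (⊤ : Submodule A M) :=
    (Submodule.Quotient.mk_eq_zero _).1 hx
  obtain ⟨m, -, hm⟩ := (Submodule.mem_smul_pointwise_iff_exists _ _ _).1 h1
  have hmN : m ∈ killed M p := by
    intro a ha
    apply ht
    change t • a • m = t • (0 : M)
    rw [smul_zero, smul_comm, hm]
    exact n.2 a ha
  refine (Submodule.Quotient.mk_eq_zero _).2 ?_
  refine (Submodule.mem_smul_pointwise_iff_exists _ _ _).2 ⟨⟨m, hmN⟩, Submodule.mem_top, ?_⟩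
  apply Subtype.ext
  exact hm

omit [Module.Finite A M] in
lemma annihilator_killed {p : Ideal A} (hp : p ∈ associatedPrimes A M) :
    Module.annihilator A (killed M p) = p := by
  obtain ⟨hpp, x, hx⟩ := isAssociatedPrime_iff.1 hp
  apply le_antisymm
  · intro a ha
    have hxN : x ∈ killed M p := by
      intro b hb
      rw [hx, Submodule.mem_colon_singleton, Submodule.mem_bot] at hb
      exact hb
    have := Module.mem_annihilator.1 ha ⟨x, hxN⟩
    rw [hx, Submodule.mem_colon_singleton, Submodule.mem_bot]
    exact congrArg Subtype.val this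
  · intro a ha
    refine Module.mem_annihilator.2 fun n => ?_
    apply Subtype.ext
    exact n.2 a ha

theorem mem_associatedPrimes_quotSMulTop (t : A) (ht : IsSMulRegular M t) (p : Ideal A)
    (hp : p ∈ associatedPrimes A M) (q : Ideal A)
    (hq : q ∈ (p ⊔ Ideal.span {t}).minimalPrimes) : q ∈ associatedPrimes A (QuotSMulTop t M) := by
  apply associatedPrimes.subset_of_injective (map_injective ht p)
  haveI : IsNoetherian A M := inferInstance
  haveI : Module.Finite A (killed M p) := inferInstance
  haveI : Module.Finite A (QuotSMulTop t (killed M p)) := Module.Finite.quotient _ _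
  apply Module.associatedPrimes.minimalPrimes_annihilator_subset_associatedPrimes
  have hz : zeroLocus (Module.annihilator A (QuotSMulTop t (killed M p)) : Set A) =
      zeroLocus ((p ⊔ Ideal.span {t} : Ideal A) : Set A) := by
    rw [← Module.support_eq_zeroLocus, Module.support_quotSMulTop, Module.support_eq_zeroLocus,
      annihilator_killed hp, zeroLocus_sup, zeroLocus_span]
  have hr := zeroLocus_eq_iff.1 hz
  rw [← Ideal.radical_minimalPrimes, hr, Ideal.radical_minimalPrimes]
  exact hq

end Groth.Agent.H8.AssQuot
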