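import Mathlib
import Groth.Prelude.Def_CAlg
import Groth.Agent.Lib.helper9.Depth11
import Groth.Agent.Lib.helper26.RegSeqD

/-!
# Saturation of complete intersection ideals in Cohen–Macaulay rings (helper8)

If `S` is a Cohen–Macaulay ring, `m` a maximal ideal of height `d`, `J = (f_1, …, f_r) ⊆ m` an
ideal of height `r < d`, and `g` is killed modulo `J` by a power of `m`, then `g ∈ J`.
-/

universe u

set_option linter.unusedSectionVars false

namespace Groth.Agent.H8.CISat

open LocCoh IsLocalRing RingTheory.Sequence Groth.Agent.Lib.helper9.Depth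

theorem mem_of_pow_mul_mem {S : Type u} [CommRing S] [LocCoh.IsCohenMacaulayRing S]
    (m : Ideal S) [hm : m.IsMaximal] (d r : ℕ) (hd : m.height = d) (hr : r < d)
    (f : Fin r → S) (hfm : ∀ i, f i ∈ m) (hJ : (Ideal.span (Set.range f)).height = r)
    (g : S) (N : ℕ) (hN : ∀ x ∈ m ^ N, x * g ∈ Ideal.span (Set.range f)) :
    g ∈ Ideal.span (Set.range f) := by
  classical
  by_contra hg
  set J := Ideal.span (Set.range f) with hJdef
  have hJm : J ≤ m := by
    rw [hJdef, Ideal.span_le]
    rintro _ ⟨i, rfl⟩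
    exact hfm i
  have hJtop : J ≠ ⊤ := fun h => hg (h ▸ Submodule.mem_top)
  let B := Localization.AtPrime m
  haveI hCMB : LocCoh.IsCohenMacaulayLocalRing B :=
    LocCoh.IsCohenMacaulayRing.isCohenMacaulayLocalRing_localization m
  let φ : S →+* B := algebraMap S B
  set JB := J.map φ with hJB
  have hmB : maximalIdeal B = m.map φ := (Localization.AtPrime.map_eq_maximalIdeal).symm
  have hJBm : JB ≤ maximalIdeal B := by
    rw [hmB]; exact Ideal.map_mono hJm
  -- `g/1 ∉ JB`
  have hgB : φ g ∉ JB := by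
    intro h
    rw [hJB, IsLocalization.mem_map_algebraMap_iff m.primeCompl] at h
    obtain ⟨⟨⟨j, hj⟩, ⟨s, hs⟩⟩, h⟩ := h
    simp only at h
    rw [← map_mul, IsLocalization.eq_iff_exists m.primeCompl] at h
    obtain ⟨⟨t, ht⟩, h⟩ := h
    simp only at h
    have hmem : (t * s) * g ∈ J := by
      have : (t * s) * g = t * j := by rw [← h]; ring
      rw [this]
      exact J.mul_mem_left _ hj
    have hts : t * s ∉ m := fun h' => (hm.isPrime.mem_or_mem h').elim ht hs
    -- the colon ideal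
    let 𝔞 : Ideal S := J.colon {g}
    have h𝔞top : 𝔞 ≠ ⊤ := by
      intro h'
      apply hg
      have : (1 : S) ∈ 𝔞 := h' ▸ Submodule.mem_top
      rw [Submodule.mem_colon_singleton] at this
      simpa using this
    obtain ⟨𝔫, h𝔫, h𝔞𝔫⟩ := Ideal.exists_le_maximal 𝔞 h𝔞top
    have hm𝔫 : m ≤ 𝔫 := by
      intro x hx
      apply h𝔫.isPrime.mem_of_pow_mem N
      apply h𝔞𝔫
      rw [Submodule.mem_colon_singleton]
      exact hN _ (Ideal.pow_mem_pow hx N)
    have h𝔫m : 𝔫 = m := (hm.eq_of_le h𝔫.ne_top hm𝔫).symm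
    apply hts
    rw [← h𝔫m]
    apply h𝔞𝔫
    rw [Submodule.mem_colon_singleton]
    exact hmem
  -- depth
  have hdepthJ : LocCoh.idealDepth J S = r := by
    rw [(isCohenMacaulayRing_iff_idealDepth_eq_height.mp inferInstance) J hJtop, hJ]
  have hJS : J • (⊤ : Submodule S S) ≠ ⊤ := by
    rw [smul_eq_mul, Ideal.mul_top]; exact hJtop
  obtain ⟨ys, hlen, hreg, hmem⟩ := (le_idealDepth_iff hJS r).mp (le_of_eq hdepthJ.symm)
  have hregB : IsWeaklyRegular B (ys.map φ) := hreg.of_flat
  have h1 : (r : ℕ∞) ≤ idealDepth JB B := by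
    have := length_le_idealDepth (I := JB) hregB (by
      intro b hb
      obtain ⟨y, hy, rfl⟩ := List.mem_map.mp hb
      exact Ideal.mem_map_of_mem φ (hmem y hy))
    rwa [List.length_map, hlen] at this
  let fB : List B := List.ofFn (fun i => φ (f i))
  have hofList : Ideal.ofList fB = JB := by
    rw [hJB, hJdef, Ideal.map_span, Ideal.ofList]
    congr 1
    ext b
    simp only [Set.mem_setOf_eq, fB, List.mem_ofFn, Set.mem_image, Set.mem_range]
    constructor
    · rintro ⟨i, rfl⟩; exact ⟨f i, ⟨i, rfl⟩, rfl⟩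
    · rintro ⟨_, ⟨i, rfl⟩, rfl⟩; exact ⟨i, rfl⟩
  have hfBm : ∀ b ∈ fB, b ∈ maximalIdeal B := by
    intro b hb
    apply hJBm
    rw [← hofList]
    exact Ideal.subset_span hb
  have hregf : IsWeaklyRegular B fB :=
    Groth.Agent.Lib.helper26.RegSeqD.isWeaklyRegular_of_le_idealDepth fB B hfBm (by
      rw [hofList, List.length_ofFn]; exact h1)
  have hq := idealDepth_quot_ofList_add_length (I := maximalIdeal B) fB B
    (maximalIdeal_smul_top_ne_top (R := B) B) hregf hfBm
  rw [hofList, List.length_ofFn] at hq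
  have hdB : idealDepth (maximalIdeal B) B = d := by
    have h := hCMB.supportDim_eq_depth
    rw [Module.supportDim_self_eq_ringKrullDim, IsLocalization.AtPrime.ringKrullDim_eq_height m B,
      hd] at h
    have h' : ((d : ℕ∞) : WithBot ℕ∞) = ((LocCoh.depth B B : ℕ∞) : WithBot ℕ∞) := h
    exact (WithBot.coe_injective h').symm
  set Q := B ⧸ (JB • (⊤ : Submodule B B)) with hQ
  have hJBtop : (JB • (⊤ : Submodule B B)) = JB := by
    rw [smul_eq_mul, Ideal.mul_top]
  have h1Q : (1 : ℕ∞) ≤ idealDepth (maximalIdeal B) Q := by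
    rw [hdB] at hq
    by_contra hlt
    rw [not_le, Order.lt_one_iff] at hlt
    rw [hlt, zero_add] at hq
    have : r = d := by exact_mod_cast hq
    omega
  haveI : Nontrivial Q := by
    rw [hQ, Submodule.Quotient.nontrivial_iff, hJBtop]
    intro h
    exact hgB (h ▸ Submodule.mem_top)
  have hmQ : maximalIdeal B • (⊤ : Submodule B Q) ≠ ⊤ := maximalIdeal_smul_top_ne_top (R := B) Q
  obtain ⟨xs, hxlen, hxreg, hxmem⟩ := (le_idealDepth_iff hmQ 1).mp (by exact_mod_cast h1Q)
  obtain ⟨x, rfl⟩ : ∃ x, xs = [x] := List.length_eq_one_iff.mp hxlen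
  have hxm : x ∈ maximalIdeal B := hxmem x (by simp)
  have hxr : IsSMulRegular Q x := ((isWeaklyRegular_cons_iff Q x []).mp hxreg).1
  -- `x^N φ g ∈ JB`
  have hxN : x ^ N * φ g ∈ JB := by
    have hx' : x ^ N ∈ (m ^ N).map φ := by
      rw [Ideal.map_pow, ← hmB]; exact Ideal.pow_mem_pow hxm N
    have hle : (m ^ N).map φ ≤ JB.colon {φ g} := by
      rw [Ideal.map_le_iff_le_comap]
      intro z hz
      rw [Ideal.mem_comap, Submodule.mem_colon_singleton, smul_eq_mul, ← map_mul]
      exact Ideal.mem_map_of_mem φ (hN z hz)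
    have := hle hx'
    rwa [Submodule.mem_colon_singleton, smul_eq_mul] at this
  apply hgB
  have h0 : x ^ N • (Submodule.Quotient.mk (φ g) : Q) = 0 := by
    rw [← Submodule.Quotient.mk_smul, Submodule.Quotient.mk_eq_zero, hJBtop, smul_eq_mul]
    exact hxN
  have h0' : (Submodule.Quotient.mk (φ g) : Q) = 0 := by
    apply (hxr.pow N)
    show x ^ N • (Submodule.Quotient.mk (φ g) : Q) = x ^ N • (0 : Q)
    rw [h0, smul_zero]
  rw [Submodule.Quotient.mk_eq_zero, hJBtop] at h0'
  exact h0'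

end Groth.Agent.H8.CISat
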