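import Mathlib
import Groth.Prelude.Def_Wider
import Groth.Agent.Lib.helper8.LCArtC

/-!
# Finiteness of local cohomology versus annihilation by a power of the ideal (helper8)
-/

universe u

set_option linter.unusedSectionVars false

namespace Groth.Agent.H8.LCFin

open LocCoh CategoryTheory Groth.Agent.H21.LC Groth.Agent.H8.Gr Groth.Agent.H8.LCArt
  Groth.Agent.H8.LCGor

variable {R : Type u} [CommRing R]

/-- a finitely generated power torsion module is killed by a power. -/
theorem exists_pow_kill (I : Ideal R) (N : Type u) [AddCommGroup N] [Module R N]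
    [Module.Finite R N] (hN : IsPowerTorsion I N) :
    ∃ k : ℕ, ∀ a ∈ I ^ k, ∀ x : N, a • x = 0 := by
  classical
  obtain ⟨s, hs⟩ := (Module.finite_def.mp ‹Module.Finite R N›)
  choose kf hkf using hN
  refine ⟨∑ g ∈ s, kf g, fun a ha x => ?_⟩
  have hx : x ∈ Submodule.span R (s : Set N) := by rw [hs]; exact Submodule.mem_top
  induction hx using Submodule.span_induction with
  | mem g hg =>
    have hle : kf g ≤ ∑ g ∈ s, kf g :=
      Finset.single_le_sum (f := kf) (fun _ _ => Nat.zero_le _) (Finset.mem_coe.mp hg)
    exact hkf g a (Ideal.pow_le_pow_right hle ha)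
  | zero => exact smul_zero a
  | add y z _ _ hy hz => rw [smul_add, hy, hz, add_zero]
  | smul r y _ hy => rw [smul_comm, hy, smul_zero]

variable [IsNoetherianRing R]

/-- Faltings: annihilation by a power of `I` in degrees `≤ n` forces finiteness in degrees `≤ n`. -/
theorem finite_H_of_kill (I : Ideal R) : ∀ (n : ℕ) (M : Type u) [AddCommGroup M] [Module R M]
    [Module.Finite R M] (k : ℕ),
    (∀ i : ℕ, i ≤ n → ∀ a ∈ I ^ k, ∀ x : H I i M, a • x = 0) →
    ∀ i : ℕ, i ≤ n → Module.Finite R (H I i M) := by
  intro n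
  induction n with
  | zero =>
    intro M _ _ _ k _ i hi
    obtain rfl : i = 0 := by omega
    have e := H0Equiv I (ModuleCat.of R M)
    haveI : Module.Finite R ↥(DRing.torsionSub I (ModuleCat.of R M)) :=
      Module.Finite.of_injective (DRing.torsionSub I (ModuleCat.of R M)).subtype
        Subtype.val_injective
    exact Module.Finite.equiv e.symm
  | succ n ih =>
    intro M _ _ _ k hk i hi
    rcases Nat.lt_or_ge i (n + 1) with hlt | hge
    · exact ih M k (fun j hj => hk j (by omega)) i (by omega)
    · obtain rfl : i = n + 1 := by omega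
      -- pass to `Q = M / Γ_I(M)`
      have hbij : ∀ j, 0 < j → Function.Bijective
          ((localCohomology I j).map (ModuleCat.ofHom (DRing.torsionSub I M).mkQ)).hom :=
        fun j hj => map_mkQ_bijective I M j hj
      have hkQ : ∀ j : ℕ, j ≤ n + 1 → ∀ a ∈ I ^ k,
          ∀ x : H I j (M ⧸ DRing.torsionSub I M), a • x = 0 := by
        intro j hj a ha x
        rcases Nat.eq_zero_or_pos j with rfl | hpos
        · -- `H^0(Q) = 0`
          have e := H0Equiv I (ModuleCat.of R (M ⧸ DRing.torsionSub I M))
          have h0 : e x = 0 := by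
            apply Subtype.ext
            exact torsionSub_quot_eq_zero I M (e x).1 (e x).2
          have hx0 : x = 0 := by
            have := congrArg e.symm h0
            simpa using this
          rw [hx0, smul_zero]
        · obtain ⟨w, rfl⟩ := (hbij j hpos).2 x
          rw [← map_smul, hk j hj a ha w, map_zero]
      let eM := LinearEquiv.ofBijective _ (hbij (n + 1) (by omega))
      suffices h : Module.Finite R (H I (n + 1) (M ⧸ DRing.torsionSub I M)) from
        Module.Finite.equiv eM.symm
      obtain ⟨x, hxI, hxreg⟩ := exists_isSMulRegular_of_torsionSub_eq_zero I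
        (M ⧸ DRing.torsionSub I M) (fun y hy => torsionSub_quot_eq_zero I M y hy)
      have hyreg : IsSMulRegular (M ⧸ DRing.torsionSub I M) (x ^ k) := hxreg.pow k
      have hyI : x ^ k ∈ I ^ k := Ideal.pow_mem_pow hxI k
      have hS := IsSMulRegular.smulShortComplex_shortExact
        (M := ModuleCat.of R (M ⧸ DRing.torsionSub I M)) (r := x ^ k) hyreg
      -- annihilation for `N = Q / yQ`
      have hkQ' : ∀ j : ℕ, j ≤ n + 1 → ∀ a ∈ I ^ k,
          ∀ w : (localCohomology I j).obj (ModuleCat.smulShortComplex
            (ModuleCat.of R (M ⧸ DRing.torsionSub I M)) (x ^ k)).X₁, a • w = 0 := hkQ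
      have hkQ'' : ∀ j : ℕ, j ≤ n + 1 → ∀ a ∈ I ^ k,
          ∀ w : (localCohomology I j).obj (ModuleCat.smulShortComplex
            (ModuleCat.of R (M ⧸ DRing.torsionSub I M)) (x ^ k)).X₂, a • w = 0 := hkQ
      have hkN' : ∀ j : ℕ, j ≤ n → ∀ a ∈ I ^ (k + k),
          ∀ z : (localCohomology I j).obj (ModuleCat.smulShortComplex
            (ModuleCat.of R (M ⧸ DRing.torsionSub I M)) (x ^ k)).X₃, a • z = 0 := by
        intro j hj a ha z
        rw [pow_add] at ha
        refine Submodule.mul_induction_on ha ?_ ?_
        · intro a ha b hb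
          have h3 := exact₃ I hS j
          have hδ : δ I hS j (b • z) = 0 := by
            rw [map_smul]
            exact hkQ' (j + 1) (by omega) b hb _
          obtain ⟨w, hw⟩ := (h3 (b • z)).1 hδ
          rw [mul_smul, ← hw, ← map_smul]
          have : a • w = 0 := hkQ'' j (by omega) a ha w
          rw [this, map_zero]
        · intro a b ha hb
          rw [add_smul, ha, hb, add_zero]
      have hkN : ∀ j : ℕ, j ≤ n → ∀ a ∈ I ^ (k + k),
          ∀ z : H I j (QuotSMulTop (x ^ k) (M ⧸ DRing.torsionSub I M)), a • z = 0 := hkN'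
      haveI hfinN : Module.Finite R (H I n (QuotSMulTop (x ^ k) (M ⧸ DRing.torsionSub I M))) :=
        ih _ (k + k) hkN n le_rfl
      haveI hfinN' : Module.Finite R ((localCohomology I n).obj
          (ModuleCat.smulShortComplex (ModuleCat.of R (M ⧸ DRing.torsionSub I M)) (x ^ k)).X₃) :=
        hfinN
      have h1 := exact₁ I hS n
      have hsurj : Function.Surjective (δ I hS n) := by
        intro w
        apply (h1 w).1
        have hmap : ((localCohomology I (n + 1)).map
            (ModuleCat.smulShortComplex (ModuleCat.of R (M ⧸ DRing.torsionSub I M)) (x ^ k)).f).hom w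
            = (x ^ k) • w := map_smul_id_apply I (n + 1) (ModuleCat.of R _) (x ^ k) w
        rw [hmap]
        exact hkQ' (n + 1) le_rfl _ hyI w
      exact Module.Finite.of_surjective (δ I hS n) hsurj

/-- finiteness in degrees `≤ n` iff annihilation by an ideal `J` with `I ≤ √J`. -/
theorem finite_iff_annihilated (I : Ideal R) (M : Type u) [AddCommGroup M] [Module R M]
    [Module.Finite R M] (n : ℕ) :
    (∀ i : ℕ, i ≤ n → Module.Finite R (H I i M)) ↔
      ∃ J : Ideal R, I ≤ J.radical ∧ ∀ i : ℕ, i ≤ n → ∀ a ∈ J, ∀ x : H I i M, a • x = 0 := by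
  classical
  constructor
  · intro hfin
    have hex : ∀ i : ℕ, ∃ k : ℕ, i ≤ n → ∀ a ∈ I ^ k, ∀ x : H I i M, a • x = 0 := by
      intro i
      by_cases hi : i ≤ n
      · haveI := hfin i hi
        obtain ⟨k, hk⟩ := exists_pow_kill I (H I i M) (isPowerTorsion_H I i (ModuleCat.of R M))
        exact ⟨k, fun _ => hk⟩
      · exact ⟨0, fun h => absurd h hi⟩
    choose kf hkf using hex
    refine ⟨I ^ (∑ i ∈ Finset.range (n + 1), kf i), ?_, ?_⟩
    · intro x hx
      exact ⟨_, Ideal.pow_mem_pow hx _⟩
    · intro i hi a ha x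
      have hle : kf i ≤ ∑ i ∈ Finset.range (n + 1), kf i :=
        Finset.single_le_sum (f := kf) (fun _ _ => Nat.zero_le _)
          (Finset.mem_range.mpr (by omega))
      exact hkf i hi a (Ideal.pow_le_pow_right hle ha) x
  · rintro ⟨J, hIJ, hJ⟩
    obtain ⟨k, hk⟩ := Ideal.exists_pow_le_of_le_radical_of_fg hIJ (IsNoetherian.noetherian I)
    exact finite_H_of_kill I n M k (fun i hi a ha x => hJ i hi a (hk ha) x)

end Groth.Agent.H8.LCFin
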