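import Mathlib
import Groth.Prelude.Def_Wider
import Groth.Agent.Lib.helper8.LCFin

/-!
# Local-global principle for finiteness of local cohomology (helper8)
-/

universe u

set_option linter.unusedSectionVars false

namespace Groth.Agent.H8.LCFin

open LocCoh CategoryTheory Groth.Agent.H21.LC Groth.Agent.H8.Gr Groth.Agent.H8.LCArt
  Groth.Agent.H8.LCGor

section Algebra

variable {R : Type u} [CommRing R] [IsNoetherianRing R]

/-- if `D'` is mapped into a Noetherian submodule `C` by each `a ∈ T` and the part of `D'` killed by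
`T` is finitely generated, then `D'` is finitely generated. -/
theorem fg_of_fg_inf_ker {D : Type u} [AddCommGroup D] [Module R D] (C : Submodule R D)
    [IsNoetherian R C] (T : Finset R) :
    ∀ D' : Submodule R D, (∀ a ∈ T, ∀ d ∈ D', a • d ∈ C) →
      (D' ⊓ ⨅ a ∈ T, LinearMap.ker (a • (LinearMap.id : D →ₗ[R] D))).FG → D'.FG := by
  classical
  induction T using Finset.induction_on with
  | empty =>
    intro D' _ h
    simpa using h
  | insert a T ha ih =>
    intro D' hC hfg
    have h1 : (D' ⊓ LinearMap.ker (a • (LinearMap.id : D →ₗ[R] D))).FG := by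
      refine ih _ (fun b hb d hd => hC b (Finset.mem_insert_of_mem hb) d hd.1) ?_
      rw [Finset.iInf_insert] at hfg
      rwa [inf_assoc]
    refine Submodule.fg_of_fg_map_of_fg_inf_ker (a • (LinearMap.id : D →ₗ[R] D)) ?_ h1
    have hle : D'.map (a • (LinearMap.id : D →ₗ[R] D)) ≤ C := by
      rintro _ ⟨d, hd, rfl⟩
      exact hC a (Finset.mem_insert_self a T) d hd
    exact (isNoetherian_submodule.mp (inferInstance : IsNoetherian R C)) _ hle |> fun h => by
      simpa using h

/-- `torsionBy I D` as an intersection of kernels over generators. -/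
theorem torsionBy_eq_iInf {D : Type u} [AddCommGroup D] [Module R D] (I : Ideal R) (T : Finset R)
    (hT : Ideal.span (T : Set R) = I) :
    torsionBy I D = ⨅ a ∈ T, LinearMap.ker (a • (LinearMap.id : D →ₗ[R] D)) := by
  ext d
  simp only [Submodule.mem_iInf, LinearMap.mem_ker, LinearMap.smul_apply, LinearMap.id_coe, id_eq]
  constructor
  · intro hd a ha
    exact (Submodule.mem_torsionBySet_iff _ _).mp hd ⟨a, hT ▸ Ideal.subset_span ha⟩
  · intro hd
    rw [Submodule.mem_torsionBySet_iff]
    rintro ⟨a, ha⟩
    show a • d = 0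
    rw [← hT] at ha
    induction ha using Submodule.span_induction with
    | mem a ha => exact hd a ha
    | zero => exact zero_smul _ _
    | add a b _ _ ha hb => rw [add_smul, ha, hb, add_zero]
    | smul r a _ ha => rw [smul_eq_mul, mul_smul, ha, smul_zero]

/-- the algebraic core of the inductive step for `Hom(R/I, H^n)`. -/
theorem fg_torsionBy_of_exact (I : Ideal R) {A D B : Type u} [AddCommGroup A] [Module R A]
    [AddCommGroup D] [Module R D] [AddCommGroup B] [Module R B] (g : A →ₗ[R] D) (δ : D →ₗ[R] B)
    (y : R) (hy : y ∈ I) (h1 : Function.Exact g δ)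
    (h2 : ∀ z : B, y • z = 0 → z ∈ LinearMap.range δ)
    [Module.Finite R A] (hD : (torsionBy I D).FG) : (torsionBy I B).FG := by
  classical
  obtain ⟨T, hT⟩ := (IsNoetherian.noetherian I : I.FG)
  let C : Submodule R D := LinearMap.ker δ
  have hCfg : C.FG := by
    have : C = (⊤ : Submodule R A).map g := by
      ext d
      rw [LinearMap.mem_ker, h1 d]
      simp
    rw [this]
    exact (Module.finite_def.mp inferInstance).map g
  haveI : IsNoetherian R C := isNoetherian_of_fg_of_noetherian C hCfg
  let D' : Submodule R D := (torsionBy I B).comap δ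
  have hD'C : ∀ a ∈ T, ∀ d ∈ D', a • d ∈ C := by
    intro a ha d hd
    show δ (a • d) = 0
    rw [map_smul]
    exact (Submodule.mem_torsionBySet_iff _ _).mp hd ⟨a, hT ▸ Ideal.subset_span ha⟩
  have hle : torsionBy I D ≤ D' := by
    intro d hd
    show δ d ∈ torsionBy I B
    rw [Submodule.mem_torsionBySet_iff]
    rintro ⟨a, ha⟩
    show a • δ d = 0
    rw [← map_smul, (Submodule.mem_torsionBySet_iff _ _).mp hd ⟨a, ha⟩, map_zero]
  have hD'fg : D'.FG := by
    refine fg_of_fg_inf_ker C T D' hD'C ?_
    rw [← torsionBy_eq_iInf I T hT, inf_eq_right.mpr hle]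
    exact hD
  have hmap : torsionBy I B = D'.map δ := by
    apply le_antisymm
    · intro z hz
      have hyz : y • z = 0 := (Submodule.mem_torsionBySet_iff _ _).mp hz ⟨y, hy⟩
      obtain ⟨d, rfl⟩ := h2 z hyz
      exact ⟨d, hz, rfl⟩
    · rintro _ ⟨d, hd, rfl⟩
      exact hd
  rw [hmap]
  exact hD'fg.map δ

/-- Lemma B: local annihilation by powers plus finite `I`-torsion gives global annihilation. -/
theorem exists_pow_kill_of_local (I : Ideal R) (N : Type u) [AddCommGroup N] [Module R N]
    (hN : IsPowerTorsion I N) (hfg : (torsionBy I N).FG)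
    (hloc : ∀ p : Ideal R, p.IsPrime → ∃ k : ℕ, ∀ a ∈ I ^ k, ∀ y : N,
      ∃ s : R, s ∉ p ∧ s • a • y = 0) :
    ∃ k : ℕ, ∀ a ∈ I ^ k, ∀ y : N, a • y = 0 := by
  classical
  haveI hT : IsNoetherian R (torsionBy I N) := isNoetherian_of_fg_of_noetherian _ hfg
  let W : ℕ → Submodule R N := fun k => (I ^ k • (⊤ : Submodule R N)) ⊓ torsionBy I N
  have hWanti : ∀ {m n : ℕ}, m ≤ n → W n ≤ W m := by
    intro m n h
    exact inf_le_inf_right _ (Submodule.smul_mono_left (Ideal.pow_le_pow_right h))
  let J : ℕ →o Ideal R := ⟨fun k => (W k).annihilator, fun m n h =>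
    Submodule.annihilator_mono (hWanti h)⟩
  obtain ⟨k0, hk0⟩ := monotone_stabilizes_iff_noetherian.mpr (inferInstance : IsNoetherian R R) J
  have hJtop : J k0 = ⊤ := by
    by_contra hne
    obtain ⟨p, hpmax, hJp⟩ := Ideal.exists_le_maximal _ hne
    haveI := hpmax.isPrime
    obtain ⟨kp, hkp⟩ := hloc p hpmax.isPrime
    set k := max k0 kp with hk
    -- each element of `W k` is killed by some `s ∉ p`
    have helt : ∀ w ∈ I ^ k • (⊤ : Submodule R N), ∃ s : R, s ∉ p ∧ s • w = 0 := by
      intro w hw
      refine Submodule.smul_induction_on hw ?_ ?_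
      · intro a ha y _
        exact hkp a (Ideal.pow_le_pow_right (le_max_right _ _) ha) y
      · rintro w1 w2 ⟨s1, hs1, h1⟩ ⟨s2, hs2, h2⟩
        refine ⟨s1 * s2, ?_, ?_⟩
        · intro h
          rcases hpmax.isPrime.mem_or_mem h with h | h
          · exact hs1 h
          · exact hs2 h
        · rw [smul_add, mul_comm, mul_smul, h1, smul_zero, mul_comm, mul_smul, h2, smul_zero,
            add_zero]
    have hWfg : (W k).FG := (isNoetherian_submodule.mp hT) _ inf_le_right
    obtain ⟨G, hG⟩ := hWfg
    have hGs : ∀ g : N, ∃ s : R, g ∈ G → s ∉ p ∧ s • g = 0 := by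
      intro g
      by_cases hg : g ∈ G
      · have hgW : g ∈ W k := hG ▸ Submodule.subset_span hg
        obtain ⟨s, hs, hsg⟩ := helt g hgW.1
        exact ⟨s, fun _ => ⟨hs, hsg⟩⟩
      · exact ⟨1, fun h => absurd h hg⟩
    choose sf hsf using hGs
    set s : R := ∏ g ∈ G, sf g with hs
    have hsp : s ∉ p := by
      rw [hs, Ideal.IsPrime.prod_mem_iff]
      rintro ⟨g, hg, hmem⟩
      exact (hsf g hg).1 hmem
    have hsJ : s ∈ J k := by
      show s ∈ (W k).annihilator
      rw [Submodule.mem_annihilator]
      intro w hw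
      rw [← hG] at hw
      induction hw using Submodule.span_induction with
      | mem g hg =>
        rw [hs, ← Finset.mul_prod_erase G sf hg, mul_comm, mul_smul, (hsf g hg).2, smul_zero]
      | zero => exact smul_zero _
      | add a b _ _ ha hb => rw [smul_add, ha, hb, add_zero]
      | smul r a _ ha => rw [smul_comm, ha, smul_zero]
    have : J k0 = J k := hk0 k (le_max_left _ _)
    rw [← this] at hsJ
    exact hsp (hJp hsJ)
  have hW0 : W k0 = ⊥ := by
    have h1 : (1 : R) ∈ (W k0).annihilator := by
      show (1 : R) ∈ J k0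
      rw [hJtop]
      exact Submodule.mem_top
    rw [eq_bot_iff]
    intro w hw
    have := Submodule.mem_annihilator.mp h1 w hw
    rwa [one_smul] at this
  refine ⟨k0, fun a ha y => ?_⟩
  by_contra hne
  set z : N := a • y with hz
  have hzmem : z ∈ I ^ k0 • (⊤ : Submodule R N) := Submodule.smul_mem_smul ha Submodule.mem_top
  have hex : ∃ n : ℕ, ∀ c ∈ I ^ n, c • z = 0 := hN z
  let n := Nat.find hex
  have hn : ∀ c ∈ I ^ n, c • z = 0 := Nat.find_spec hex
  have hnpos : 0 < n := by
    rcases Nat.eq_zero_or_pos n with h0 | h0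
    · exfalso
      have h1 : (1 : R) ∈ I ^ n := by rw [h0, pow_zero, Ideal.one_eq_top]; trivial
      have := hn 1 h1
      rw [one_smul] at this
      exact hne this
    · exact h0
  have hmin : ¬ ∀ c ∈ I ^ (n - 1), c • z = 0 := Nat.find_min hex (by omega)
  push Not at hmin
  obtain ⟨c, hc, hcz⟩ := hmin
  have hczW : c • z ∈ W k0 := by
    refine ⟨Submodule.smul_mem _ c hzmem, ?_⟩
    refine (Submodule.mem_torsionBySet_iff _ _).mpr ?_
    rintro ⟨b, hb⟩
    show b • c • z = 0
    rw [← mul_smul]
    refine hn _ ?_
    have : n = 1 + (n - 1) := by omega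
    rw [this, pow_add, pow_one]
    exact Ideal.mul_mem_mul hb hc
  rw [hW0] at hczW
  exact hcz ((Submodule.mem_bot R).mp hczW)

end Algebra

section Main

variable {R : Type u} [CommRing R] [IsNoetherianRing R]

/-- `H^0_I` of a finite module is finite. -/
theorem finite_H0 (I : Ideal R) (M : Type u) [AddCommGroup M] [Module R M] [Module.Finite R M] :
    Module.Finite R (H I 0 M) := by
  have e := H0Equiv I (ModuleCat.of R M)
  haveI : Module.Finite R ↥(DRing.torsionSub I (ModuleCat.of R M)) :=
    Module.Finite.of_injective (DRing.torsionSub I (ModuleCat.of R M)).subtype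
      Subtype.val_injective
  exact Module.Finite.equiv e.symm

/-- transfer of finite generation of the `I`-torsion along a linear equivalence. -/
theorem fg_torsionBy_of_equiv (I : Ideal R) {A B : Type u} [AddCommGroup A] [Module R A]
    [AddCommGroup B] [Module R B] (e : A ≃ₗ[R] B) (h : (torsionBy I B).FG) :
    (torsionBy I A).FG := by
  have : torsionBy I A = (torsionBy I B).map (e.symm : B →ₗ[R] A) := by
    ext a
    constructor
    · intro ha
      refine ⟨e a, ?_, by simp⟩
      refine (Submodule.mem_torsionBySet_iff _ _).mpr ?_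
      rintro ⟨r, hr⟩
      show r • e a = 0
      rw [← map_smul, (Submodule.mem_torsionBySet_iff _ _).mp ha ⟨r, hr⟩, map_zero]
    · rintro ⟨b, hb, rfl⟩
      refine (Submodule.mem_torsionBySet_iff _ _).mpr ?_
      rintro ⟨r, hr⟩
      show r • (e.symm : B →ₗ[R] A) b = 0
      rw [← map_smul, (Submodule.mem_torsionBySet_iff _ _).mp hb ⟨r, hr⟩, map_zero]
  rw [this]
  exact h.map _

/-- Lemma A: if `H^i_I(M)` is finite for `i < n` then `Hom(R/I, H^n_I(M))` is finite. -/
theorem fg_torsionBy_H (I : Ideal R) : ∀ (n : ℕ) (M : Type u) [AddCommGroup M] [Module R M]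
    [Module.Finite R M], (∀ i : ℕ, i < n → Module.Finite R (H I i M)) →
    (torsionBy I (H I n M)).FG := by
  intro n
  induction n with
  | zero =>
    intro M _ _ _ _
    haveI : Module.Finite R (H I 0 M) := finite_H0 I M
    haveI : IsNoetherian R (H I 0 M) := isNoetherian_of_isNoetherianRing_of_finite R _
    exact IsNoetherian.noetherian _
  | succ n ih =>
    intro M _ _ _ hfin
    have hbij : ∀ j, 0 < j → Function.Bijective
        ((localCohomology I j).map (ModuleCat.ofHom (DRing.torsionSub I M).mkQ)).hom :=
      fun j hj => map_mkQ_bijective I M j hj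
    let eM := LinearEquiv.ofBijective _ (hbij (n + 1) (by omega))
    refine fg_torsionBy_of_equiv I eM ?_
    -- finiteness for `Q` in degrees `< n + 1`
    have hfinQ : ∀ i : ℕ, i < n + 1 → Module.Finite R (H I i (M ⧸ DRing.torsionSub I M)) := by
      intro i hi
      rcases Nat.eq_zero_or_pos i with rfl | hpos
      · exact finite_H0 I _
      · haveI := hfin i hi
        exact Module.Finite.equiv (LinearEquiv.ofBijective _ (hbij i hpos))
    obtain ⟨x, hxI, hxreg⟩ := exists_isSMulRegular_of_torsionSub_eq_zero I
      (M ⧸ DRing.torsionSub I M) (fun y hy => torsionSub_quot_eq_zero I M y hy)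
    have hS := IsSMulRegular.smulShortComplex_shortExact
      (M := ModuleCat.of R (M ⧸ DRing.torsionSub I M)) (r := x) hxreg
    have hfin₁ : ∀ i : ℕ, i < n + 1 → Module.Finite R ((localCohomology I i).obj
        (ModuleCat.smulShortComplex (ModuleCat.of R (M ⧸ DRing.torsionSub I M)) x).X₁) := hfinQ
    have hfin₂ : ∀ i : ℕ, i < n + 1 → Module.Finite R ((localCohomology I i).obj
        (ModuleCat.smulShortComplex (ModuleCat.of R (M ⧸ DRing.torsionSub I M)) x).X₂) := hfinQ
    -- finiteness for `N = Q / xQ` in degrees `< n`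
    have hfin₃ : ∀ i : ℕ, i < n → Module.Finite R ((localCohomology I i).obj
        (ModuleCat.smulShortComplex (ModuleCat.of R (M ⧸ DRing.torsionSub I M)) x).X₃) := by
      intro i hi
      haveI := hfin₂ i (by omega)
      haveI := hfin₁ (i + 1) (by omega)
      haveI : IsNoetherian R ((localCohomology I (i + 1)).obj
        (ModuleCat.smulShortComplex (ModuleCat.of R (M ⧸ DRing.torsionSub I M)) x).X₁) :=
        isNoetherian_of_isNoetherianRing_of_finite R _
      haveI : Module.Finite R (LinearMap.range (δ I hS i)) :=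
        Module.Finite.of_injective (LinearMap.range (δ I hS i)).subtype Subtype.val_injective
      have hex : Function.Exact ((localCohomology I i).map
          (ModuleCat.smulShortComplex (ModuleCat.of R (M ⧸ DRing.torsionSub I M)) x).g).hom
          (δ I hS i).rangeRestrict := by
        intro z
        rw [← exact₃ I hS i z]
        constructor
        · intro h
          have := congrArg Subtype.val h
          simpa using this
        · intro h
          apply Subtype.ext
          simpa using h
      exact Module.Finite.of_exact hex (LinearMap.surjective_rangeRestrict _)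
    have hfinN : ∀ i : ℕ, i < n →
        Module.Finite R (H I i (QuotSMulTop x (M ⧸ DRing.torsionSub I M))) := hfin₃
    have hD : (torsionBy I (H I n (QuotSMulTop x (M ⧸ DRing.torsionSub I M)))).FG :=
      ih _ hfinN
    have hD' : (torsionBy I ((localCohomology I n).obj
        (ModuleCat.smulShortComplex (ModuleCat.of R (M ⧸ DRing.torsionSub I M)) x).X₃)).FG := hD
    haveI := hfin₂ n (by omega)
    have h2 : ∀ z : (localCohomology I (n + 1)).obj
        (ModuleCat.smulShortComplex (ModuleCat.of R (M ⧸ DRing.torsionSub I M)) x).X₁,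
        x • z = 0 → z ∈ LinearMap.range (δ I hS n) := by
      intro z hz
      apply (exact₁ I hS n z).1
      have hmap : ((localCohomology I (n + 1)).map
          (ModuleCat.smulShortComplex (ModuleCat.of R (M ⧸ DRing.torsionSub I M)) x).f).hom z
          = x • z := map_smul_id_apply I (n + 1) (ModuleCat.of R _) x z
      rw [hmap]
      exact hz
    have := fg_torsionBy_of_exact I _ (δ I hS n) x hxI (exact₃ I hS n) h2 hD'
    exact this

/-- local annihilation from finiteness of the localization. -/
theorem exists_pow_kill_localized (I : Ideal R) (N : Type u) [AddCommGroup N] [Module R N]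
    (hN : IsPowerTorsion I N) (p : Ideal R) [p.IsPrime]
    [Module.Finite (Localization.AtPrime p) (LocalizedModule p.primeCompl N)] :
    ∃ k : ℕ, ∀ a ∈ I ^ k, ∀ y : N, ∃ s : R, s ∉ p ∧ s • a • y = 0 := by
  classical
  obtain ⟨G, hG⟩ := (Module.finite_def.mp
    (inferInstance : Module.Finite (Localization.AtPrime p) (LocalizedModule p.primeCompl N)))
  have hgen : ∀ g : LocalizedModule p.primeCompl N, ∃ k : ℕ, ∀ a ∈ I ^ k, a • g = 0 := by
    intro g
    induction g using LocalizedModule.induction_on with
    | h m s =>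
      obtain ⟨k, hk⟩ := hN m
      refine ⟨k, fun a ha => ?_⟩
      rw [LocalizedModule.smul'_mk, hk a ha, LocalizedModule.zero_mk]
  choose kf hkf using hgen
  have hall : ∀ a ∈ I ^ (∑ g ∈ G, kf g), ∀ w : LocalizedModule p.primeCompl N, a • w = 0 := by
    intro a ha w
    have hw : w ∈ Submodule.span (Localization.AtPrime p) (G : Set (LocalizedModule p.primeCompl N)) := by
      rw [hG]; exact Submodule.mem_top
    induction hw using Submodule.span_induction with
    | mem g hg =>
      have hle : kf g ≤ ∑ g ∈ G, kf g :=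
        Finset.single_le_sum (f := kf) (fun _ _ => Nat.zero_le _) (Finset.mem_coe.mp hg)
      exact hkf g a (Ideal.pow_le_pow_right hle ha)
    | zero => exact smul_zero a
    | add y z _ _ hy hz => rw [smul_add, hy, hz, add_zero]
    | smul r y _ hy => rw [smul_comm, hy, smul_zero]
  refine ⟨∑ g ∈ G, kf g, fun a ha y => ?_⟩
  have h0 := hall a ha (LocalizedModule.mk y 1)
  rw [LocalizedModule.smul'_mk, ← LocalizedModule.zero_mk (1 : p.primeCompl),
    LocalizedModule.mk_eq] at h0
  obtain ⟨u, hu⟩ := h0
  refine ⟨u.1, u.2, ?_⟩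
  have hu' : u • a • y = 0 := by simpa using hu
  rw [Submonoid.smul_def] at hu'
  exact hu'

/-- the local-global principle for finiteness of local cohomology. -/
theorem finite_H_of_locally_finite (I : Ideal R) : ∀ (n : ℕ) (M : Type u) [AddCommGroup M]
    [Module R M] [Module.Finite R M],
    (∀ (p : Ideal R) [p.IsPrime], ∀ i : ℕ, i ≤ n →
      Module.Finite (Localization.AtPrime p) (LocalizedModule p.primeCompl (H I i M))) →
    ∀ i : ℕ, i ≤ n → Module.Finite R (H I i M) := by
  intro n
  induction n with
  | zero =>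
    intro M _ _ _ _ i hi
    obtain rfl : i = 0 := by omega
    exact finite_H0 I M
  | succ n ih =>
    intro M _ _ _ hloc
    have hlow : ∀ i : ℕ, i ≤ n → Module.Finite R (H I i M) :=
      ih M (fun p _ i hi => hloc p i (by omega))
    have hA : (torsionBy I (H I (n + 1) M)).FG :=
      fg_torsionBy_H I (n + 1) M (fun i hi => hlow i (by omega))
    obtain ⟨k, hk⟩ := exists_pow_kill_of_local I (H I (n + 1) M)
      (isPowerTorsion_H I (n + 1) (ModuleCat.of R M)) hA
      (fun p hp => by
        haveI := hp
        haveI := hloc p (n + 1) le_rfl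
        exact exists_pow_kill_localized I (H I (n + 1) M)
          (isPowerTorsion_H I (n + 1) (ModuleCat.of R M)) p)
    obtain ⟨J, hIJ, hJ⟩ := (finite_iff_annihilated I M n).mp hlow
    obtain ⟨k1, hk1⟩ := Ideal.exists_pow_le_of_le_radical_of_fg hIJ (IsNoetherian.noetherian I)
    refine finite_H_of_kill I (n + 1) M (k + k1) ?_
    intro i hi a ha x
    rcases Nat.lt_or_ge i (n + 1) with hlt | hge
    · exact hJ i (by omega) a (hk1 (Ideal.pow_le_pow_right (Nat.le_add_left _ _) ha)) x
    · obtain rfl : i = n + 1 := by omega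
      exact hk a (Ideal.pow_le_pow_right (Nat.le_add_right _ _) ha) x

end Main

end Groth.Agent.H8.LCFin
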