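import Mathlib
import Groth.Prelude.Def_Wider
import Groth.Agent.Lib.helper8.LCFinB
import Groth.Agent.Lib.helper21.LC34
import Groth.Agent.S0299

/-!
# Vanishing of local cohomology below `n` versus vanishing of `Ext` (helper8)
-/

universe u

set_option linter.unusedSectionVars false

namespace Groth.Agent.H8.ExtVan

open LocCoh CategoryTheory Groth.Agent.H21.LC Abelian

variable {R : Type u} [CommRing R]

/-- `H^0_I(M) = 0` iff `Γ_I(M) = 0`. -/
theorem subsingleton_H0_iff (I : Ideal R) (M : Type u) [AddCommGroup M] [Module R M] :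
    Subsingleton (H I 0 M) ↔ ∀ x ∈ DRing.torsionSub I M, x = 0 := by
  have e := H0Equiv I (ModuleCat.of R M)
  constructor
  · intro h x hx
    have : (⟨x, hx⟩ : DRing.torsionSub I (ModuleCat.of R M)) = 0 := by
      have h1 := e.symm.injective.subsingleton (α := DRing.torsionSub I (ModuleCat.of R M))
      exact Subsingleton.elim _ _
    exact congrArg Subtype.val this
  · intro h
    haveI : Subsingleton (DRing.torsionSub I (ModuleCat.of R M)) :=
      ⟨fun a b => Subtype.ext ((h a.1 a.2).trans (h b.1 b.2).symm)⟩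
    exact e.injective.subsingleton

/-- essential extensions of `Γ_I`-free modules are `Γ_I`-free. -/
theorem torsionSub_eq_zero_of_essential (I : Ideal R) {G E : Type u} [AddCommGroup G] [Module R G]
    [AddCommGroup E] [Module R E] (f : G →ₗ[R] E) (hf : InjHull.IsEssentialInj f)
    (h : ∀ x ∈ DRing.torsionSub I G, x = 0) : ∀ y ∈ DRing.torsionSub I E, y = 0 := by
  intro y hy
  by_contra hne
  have hN : Submodule.span R {y} ≠ ⊥ := by
    intro hb
    apply hne
    have : y ∈ Submodule.span R {y} := Submodule.mem_span_singleton_self y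
    rw [hb] at this
    exact (Submodule.mem_bot R).mp this
  obtain ⟨z, hz, hz0⟩ := (Submodule.ne_bot_iff _).mp (hf.essential _ hN)
  obtain ⟨a, rfl⟩ := Submodule.mem_span_singleton.mp hz.1
  obtain ⟨g, hg⟩ := hz.2
  obtain ⟨n, hn⟩ := hy
  have hgt : g ∈ DRing.torsionSub I G := by
    refine ⟨n, fun b hb => ?_⟩
    apply hf.injective
    rw [map_smul, hg, map_zero, smul_comm, hn b hb, smul_zero]
  have : g = 0 := h g hgt
  rw [this, map_zero] at hg
  exact hz0 hg.symm

/-- maps from power torsion modules to `Γ_I`-free modules vanish. -/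
theorem hom_eq_zero_of_powerTorsion (I : Ideal R) {F G : Type u} [AddCommGroup F] [Module R F]
    [AddCommGroup G] [Module R G] (hF : IsPowerTorsion I F)
    (h : ∀ x ∈ DRing.torsionSub I G, x = 0) (φ : F →ₗ[R] G) : φ = 0 := by
  ext x
  obtain ⟨n, hn⟩ := hF x
  exact h (φ x) ⟨n, fun a ha => by rw [← map_smul, hn a ha, map_zero]⟩

/-- the short complex `G → E → E / G`. -/
noncomputable def hullSES {G E : Type u} [AddCommGroup G] [Module R G] [AddCommGroup E]
    [Module R E] (f : G →ₗ[R] E) : ShortComplex (ModuleCat.{u} R) :=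
  ShortComplex.mk (ModuleCat.ofHom f) (ModuleCat.ofHom (LinearMap.range f).mkQ) (by
    refine ModuleCat.hom_ext (LinearMap.ext fun m => ?_)
    exact (Submodule.Quotient.mk_eq_zero _).2 ⟨m, rfl⟩)

lemma hullSES_shortExact {G E : Type u} [AddCommGroup G] [Module R G] [AddCommGroup E]
    [Module R E] (f : G →ₗ[R] E) (hf : Function.Injective f) : (hullSES f).ShortExact := by
  refine ModuleCat.shortComplex_shortExact _ ?_ hf (Submodule.mkQ_surjective _)
  intro e
  constructor
  · intro he
    exact (Submodule.Quotient.mk_eq_zero _).1 he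
  · rintro ⟨m, rfl⟩
    exact (Submodule.Quotient.mk_eq_zero _).2 ⟨m, rfl⟩

variable [IsNoetherianRing R]

/-- the connecting map is bijective when the middle terms vanish. -/
theorem δ_bijective_of_subsingleton (I : Ideal R) {S : ShortComplex (ModuleCat.{u} R)}
    (hS : S.ShortExact) (i : ℕ) (h0 : Subsingleton ((localCohomology I i).obj S.X₂))
    (h1 : Subsingleton ((localCohomology I (i + 1)).obj S.X₂)) :
    Function.Bijective (δ I hS i) := by
  constructor
  · rw [injective_iff_map_eq_zero]
    intro x hx
    obtain ⟨w, rfl⟩ := (exact₃ I hS i x).1 hx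
    rw [Subsingleton.elim w 0, map_zero]
  · intro z
    exact (exact₁ I hS i z).1 (Subsingleton.elim _ _)

/-- all `Ext` groups from a power torsion module into an injective `Γ_I`-free module vanish. -/
theorem ext_eq_zero_of_injective_of_torsionFree (I : Ideal R) {F E : Type u} [AddCommGroup F]
    [Module R F] [AddCommGroup E] [Module R E] [Injective (ModuleCat.of R E)]
    (hF : IsPowerTorsion I F) (h : ∀ x ∈ DRing.torsionSub I E, x = 0) (i : ℕ)
    (x : Ext (ModuleCat.of R F) (ModuleCat.of R E) i) : x = 0 := by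
  rcases Nat.eq_zero_or_pos i with rfl | hpos
  · obtain ⟨φ, rfl⟩ := (Ext.mk₀_bijective _ _).2 x
    have : φ = 0 := by
      apply ModuleCat.hom_ext
      exact hom_eq_zero_of_powerTorsion I hF h φ.hom
    rw [this, Ext.mk₀_zero]
  · obtain ⟨j, rfl⟩ : ∃ j, i = j + 1 := ⟨i - 1, by omega⟩
    exact Ext.eq_zero_of_injective x

/-- (1) ⟹ (2): vanishing of local cohomology below `n` forces vanishing of `Ext` from power torsion
modules below `n`. -/
theorem subsingleton_ext_of_subsingleton_H (I : Ideal R) : ∀ (n : ℕ) (G : Type u) [AddCommGroup G]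
    [Module R G], (∀ i : ℕ, i < n → Subsingleton (H I i G)) →
    ∀ (F : Type u) [AddCommGroup F] [Module R F], IsPowerTorsion I F →
    ∀ i : ℕ, i < n → Subsingleton (Ext (ModuleCat.of R F) (ModuleCat.of R G) i) := by
  intro n
  induction n with
  | zero =>
    intro G _ _ _ F _ _ _ i hi
    omega
  | succ n ih =>
    intro G _ _ hG F _ _ hF i hi
    have hΓ : ∀ x ∈ DRing.torsionSub I G, x = 0 :=
      (subsingleton_H0_iff I G).mp (hG 0 (by omega))
    obtain ⟨E, _, _, f, hf⟩ := Groth.Agent.S0299.result R G
    have hΓE := torsionSub_eq_zero_of_essential I f hf.toIsEssentialInj hΓ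
    haveI : Module.Injective R E := hf.isInjective
    haveI : Injective (ModuleCat.of R E) := Module.injective_object_of_injective_module R E
    have hS := hullSES_shortExact f hf.injective
    have hE : ∀ j, Subsingleton ((localCohomology I j).obj (hullSES f).X₂) := by
      intro j
      rcases Nat.eq_zero_or_pos j with rfl | hj
      · exact (subsingleton_H0_iff I E).mpr hΓE
      · exact subsingleton_of_injective I j hj (ModuleCat.of R E)
    have hG' : ∀ j : ℕ, j < n → Subsingleton (H I j (E ⧸ LinearMap.range f)) := by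
      intro j hj
      have hb := δ_bijective_of_subsingleton I hS j (hE j) (hE (j + 1))
      haveI : Subsingleton ((localCohomology I (j + 1)).obj (hullSES f).X₁) :=
        hG (j + 1) (by omega)
      exact hb.1.subsingleton
    have ih' := ih (E ⧸ LinearMap.range f) hG' F hF
    refine subsingleton_of_forall_eq 0 (fun x => ?_)
    rcases Nat.eq_zero_or_pos i with rfl | hpos
    · obtain ⟨φ, rfl⟩ := (Ext.mk₀_bijective _ _).2 x
      have : φ = 0 := by
        apply ModuleCat.hom_ext
        exact hom_eq_zero_of_powerTorsion I hF hΓ φ.hom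
      rw [this, Ext.mk₀_zero]
    · obtain ⟨j, rfl⟩ : ∃ j, i = j + 1 := ⟨i - 1, by omega⟩
      have key : ∀ x' : Ext (ModuleCat.of R F) (hullSES f).X₁ (j + 1), x' = 0 := by
        intro x'
        have hx : x'.comp (Ext.mk₀ (hullSES f).f) (add_zero _) = 0 :=
          ext_eq_zero_of_injective_of_torsionFree I hF hΓE _ _
        obtain ⟨x₃, hx₃⟩ := Ext.covariant_sequence_exact₁ _ hS x' hx rfl
        haveI : Subsingleton (Ext (ModuleCat.of R F) (hullSES f).X₃ j) := ih' j (by omega)
        rw [Subsingleton.elim x₃ 0, Ext.zero_comp] at hx₃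
        exact hx₃.symm
      exact key x

/-- if a finite module `F` with `V(I) ⊆ Supp F` has no nonzero maps to `G` then `Γ_I(G) = 0`. -/
theorem torsionSub_eq_zero_of_hom_eq_zero (I : Ideal R) {F G : Type u} [AddCommGroup F]
    [Module R F] [Module.Finite R F] [AddCommGroup G] [Module R G]
    (hsupp : PrimeSpectrum.zeroLocus (I : Set R) ⊆ Module.support R F)
    (h : ∀ φ : F →ₗ[R] G, φ = 0) : ∀ x ∈ DRing.torsionSub I G, x = 0 := by
  intro x hx
  by_contra hne
  obtain ⟨P, hP, hle⟩ := exists_le_isAssociatedPrime_of_isNoetherianRing R x hne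
  obtain ⟨hPp, ι, hι⟩ := (isAssociatedPrime_iff_exists_injective_linearMap P G).mp hP
  obtain ⟨n, hn⟩ := hx
  have hIP : I ≤ P := by
    have hpow : I ^ n ≤ P := fun a ha =>
      hle (Submodule.mem_colon_singleton.mpr (by rw [hn a ha]; exact Submodule.zero_mem _))
    exact hPp.le_of_pow_le hpow
  have hmem : (⟨P, hPp⟩ : PrimeSpectrum R) ∈ Module.support R F :=
    hsupp ((PrimeSpectrum.mem_zeroLocus _ _).mpr hIP)
  obtain ⟨ψ, hψ⟩ := exists_ne_zero_hom_quotient_prime ⟨P, hPp⟩ hmem
  apply hψ
  have h0 := h (ι ∘ₗ ψ)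
  ext y
  apply hι
  rw [LinearMap.zero_apply, map_zero]
  exact LinearMap.congr_fun h0 y

/-- (3) ⟹ (1). -/
theorem subsingleton_H_of_subsingleton_ext (I : Ideal R) {F : Type u} [AddCommGroup F]
    [Module R F] [Module.Finite R F] (hF : IsPowerTorsion I F)
    (hsupp : PrimeSpectrum.zeroLocus (I : Set R) ⊆ Module.support R F) :
    ∀ (n : ℕ) (G : Type u) [AddCommGroup G] [Module R G],
    (∀ i : ℕ, i < n → Subsingleton (Ext (ModuleCat.of R F) (ModuleCat.of R G) i)) →
    ∀ i : ℕ, i < n → Subsingleton (H I i G) := by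
  intro n
  induction n with
  | zero =>
    intro G _ _ _ i hi
    omega
  | succ n ih =>
    intro G _ _ hExt i hi
    have hΓ : ∀ x ∈ DRing.torsionSub I G, x = 0 := by
      refine torsionSub_eq_zero_of_hom_eq_zero I hsupp (fun φ => ?_)
      haveI := hExt 0 (by omega)
      have h1 : Ext.mk₀ (ModuleCat.ofHom φ) = Ext.mk₀ (0 : ModuleCat.of R F ⟶ ModuleCat.of R G) :=
        Subsingleton.elim _ _
      have h2 := (Ext.mk₀_bijective _ _).1 h1
      have h3 := congrArg ModuleCat.Hom.hom h2
      simpa using h3
    obtain ⟨E, _, _, f, hf⟩ := Groth.Agent.S0299.result R G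
    have hΓE := torsionSub_eq_zero_of_essential I f hf.toIsEssentialInj hΓ
    haveI : Module.Injective R E := hf.isInjective
    haveI : Injective (ModuleCat.of R E) := Module.injective_object_of_injective_module R E
    have hS := hullSES_shortExact f hf.injective
    have hE : ∀ j, Subsingleton ((localCohomology I j).obj (hullSES f).X₂) := by
      intro j
      rcases Nat.eq_zero_or_pos j with rfl | hj
      · exact (subsingleton_H0_iff I E).mpr hΓE
      · exact subsingleton_of_injective I j hj (ModuleCat.of R E)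
    have hExt' : ∀ j : ℕ, j < n →
        Subsingleton (Ext (ModuleCat.of R F) (ModuleCat.of R (E ⧸ LinearMap.range f)) j) := by
      intro j hj
      have key : ∀ x₃ : Ext (ModuleCat.of R F) (hullSES f).X₃ j, x₃ = 0 := by
        intro x₃
        haveI : Subsingleton (Ext (ModuleCat.of R F) (hullSES f).X₁ (j + 1)) :=
          hExt (j + 1) (by omega)
        obtain ⟨x₂, hx₂⟩ := Ext.covariant_sequence_exact₃ _ hS x₃ rfl (Subsingleton.elim _ _)
        have hx0 : x₂ = 0 := ext_eq_zero_of_injective_of_torsionFree I hF hΓE j x₂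
        rw [hx0, Ext.zero_comp] at hx₂
        exact hx₂.symm
      exact subsingleton_of_forall_eq 0 key
    have ih' := ih (E ⧸ LinearMap.range f) hExt'
    rcases Nat.eq_zero_or_pos i with rfl | hpos
    · exact (subsingleton_H0_iff I G).mpr hΓ
    · obtain ⟨j, rfl⟩ : ∃ j, i = j + 1 := ⟨i - 1, by omega⟩
      have hb := δ_bijective_of_subsingleton I hS j (hE j) (hE (j + 1))
      haveI : Subsingleton ((localCohomology I j).obj (hullSES f).X₃) := ih' j (by omega)
      exact hb.2.subsingleton

/-- a finite module supported in `V(I)` is `I`-power torsion. -/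
theorem isPowerTorsion_of_support_subset (I : Ideal R) (F : Type u) [AddCommGroup F] [Module R F]
    [Module.Finite R F]
    (hsupp : Module.support R F ⊆ PrimeSpectrum.zeroLocus (I : Set R)) : IsPowerTorsion I F := by
  rw [Module.support_eq_zeroLocus, PrimeSpectrum.zeroLocus_subset_zeroLocus_iff] at hsupp
  obtain ⟨k, hk⟩ := Ideal.exists_pow_le_of_le_radical_of_fg hsupp (IsNoetherian.noetherian I)
  intro x
  exact ⟨k, fun a ha => Module.mem_annihilator.mp (hk ha) x⟩

theorem support_quotient_eq (I : Ideal R) :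
    Module.support R (R ⧸ I) = PrimeSpectrum.zeroLocus (I : Set R) := by
  rw [Module.support_eq_zeroLocus, Ideal.annihilator_quotient]

/-- the affine characterization of vanishing of local cohomology below `n`. -/
theorem vanishing_below_iff (J : Ideal R) (G : Type u) [AddCommGroup G] [Module R G] (n : ℕ) :
    ((∀ i : ℕ, i < n → Subsingleton (LocCoh.H J i G)) ↔ ∀ (F : Type u) [AddCommGroup F]
      [Module R F], Module.Finite R F → Module.support R F ⊆ PrimeSpectrum.zeroLocus (J : Set R) →
      ∀ i : ℕ, i < n → Subsingleton (Abelian.Ext (ModuleCat.of R F) (ModuleCat.of R G) i)) ∧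
    ((∀ i : ℕ, i < n → Subsingleton (LocCoh.H J i G)) ↔ ∃ (F : Type u) (_ : AddCommGroup F)
      (_ : Module R F), Module.Finite R F ∧
      Module.support R F = PrimeSpectrum.zeroLocus (J : Set R) ∧
      ∀ i : ℕ, i < n → Subsingleton (Abelian.Ext (ModuleCat.of R F) (ModuleCat.of R G) i)) := by
  have hQ : IsPowerTorsion J (R ⧸ J) :=
    isPowerTorsion_of_support_subset J (R ⧸ J) (support_quotient_eq J).le
  refine ⟨⟨?_, ?_⟩, ⟨?_, ?_⟩⟩
  · intro h F _ _ hfin hsupp i hi
    exact subsingleton_ext_of_subsingleton_H J n G h F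
      (isPowerTorsion_of_support_subset J F hsupp) i hi
  · intro h
    exact subsingleton_H_of_subsingleton_ext J hQ (support_quotient_eq J).ge n G
      (h (R ⧸ J) inferInstance (support_quotient_eq J).le)
  · intro h
    exact ⟨R ⧸ J, inferInstance, inferInstance, inferInstance, support_quotient_eq J,
      subsingleton_ext_of_subsingleton_H J n G h (R ⧸ J) hQ⟩
  · rintro ⟨F, _, _, hfin, hsupp, hExt⟩
    exact subsingleton_H_of_subsingleton_ext J
      (isPowerTorsion_of_support_subset J F hsupp.le) hsupp.ge n G hExt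

end Groth.Agent.H8.ExtVan
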