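import Mathlib
import Groth.Prelude.Def_Wider
import Groth.Agent.Lib.helper8.LCGorC
import Groth.Agent.Lib.helper8.LCExtVan
import Groth.Agent.Lib.helper8.CdDimB
import Groth.Agent.Lib.helper8.LCNonVanE
import Groth.Agent.Lib.helper21.Bass

/-!
# Gorenstein local rings via local cohomology (helper8)
-/

universe u

set_option linter.unusedSectionVars false

namespace Groth.Agent.H8.LCGor

open LocCoh CategoryTheory Groth.Agent.H21.LC Abelian IsLocalRing Groth.Agent.H8.ExtVan
  Groth.Agent.H8.Gr

variable {R : Type u} [CommRing R] [IsNoetherianRing R]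

/-- dimension shifting: if `H^i_I(G)` vanishes for `i ≠ d` and `H^d_I(G)` is injective then
`Ext^j(F, G) = 0` for `j > d` and `F` power torsion. -/
theorem ext_eq_zero_of_H_concentrated (I : Ideal R) : ∀ (d : ℕ) (G : Type u) [AddCommGroup G]
    [Module R G], (∀ i : ℕ, i ≠ d → Subsingleton (H I i G)) → Module.Injective R (H I d G) →
    ∀ (F : Type u) [AddCommGroup F] [Module R F], IsPowerTorsion I F →
    ∀ j : ℕ, d < j → ∀ x : Ext (ModuleCat.of R F) (ModuleCat.of R G) j, x = 0 := by
  intro d
  induction d with
  | zero =>
    intro G _ _ hvan hinj F _ _ hF j hj x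
    -- the sequence `Γ(G) → G → Q`
    have hS := torsionSES_shortExact I G
    haveI : Module.Injective R (DRing.torsionSub I G) :=
      injective_of_linearEquiv (H0Equiv I (ModuleCat.of R G))
    haveI : Injective (torsionSES I G).X₁ :=
      Module.injective_object_of_injective_module R (DRing.torsionSub I G)
    have hQ : ∀ i : ℕ, Subsingleton (H I i (G ⧸ DRing.torsionSub I G)) := by
      intro i
      rcases Nat.eq_zero_or_pos i with rfl | hpos
      · exact (subsingleton_H0_iff I _).mpr (fun y hy => torsionSub_quot_eq_zero I G y hy)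
      · haveI := hvan i (by omega)
        exact (map_mkQ_bijective I G i hpos).2.subsingleton
    have hExtQ : ∀ y : Ext (ModuleCat.of R F) (torsionSES I G).X₃ j, y = 0 := by
      intro y
      haveI : Subsingleton (Ext (ModuleCat.of R F) (torsionSES I G).X₃ j) :=
        subsingleton_ext_of_subsingleton_H I (j + 1) (G ⧸ DRing.torsionSub I G)
          (fun i _ => hQ i) F hF j (by omega)
      exact Subsingleton.elim _ _
    have key : ∀ x : Ext (ModuleCat.of R F) (torsionSES I G).X₂ j, x = 0 := by
      intro x
      obtain ⟨x₁, hx₁⟩ := Ext.covariant_sequence_exact₂ _ hS x (hExtQ _)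
      obtain ⟨k, rfl⟩ : ∃ k, j = k + 1 := ⟨j - 1, by omega⟩
      rw [Ext.eq_zero_of_injective x₁, Ext.zero_comp] at hx₁
      exact hx₁.symm
    exact key x
  | succ d ih =>
    intro G _ _ hvan hinj F _ _ hF j hj x
    have hΓ : ∀ x ∈ DRing.torsionSub I G, x = 0 :=
      (subsingleton_H0_iff I G).mp (hvan 0 (by omega))
    obtain ⟨E, _, _, f, hf⟩ := Groth.Agent.S0299.result R G
    have hΓE := torsionSub_eq_zero_of_essential I f hf.toIsEssentialInj hΓ
    haveI : Module.Injective R E := hf.isInjective
    haveI : Injective (ModuleCat.of R E) := Module.injective_object_of_injective_module R E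
    have hS := hullSES_shortExact f hf.injective
    have hE : ∀ i, Subsingleton ((localCohomology I i).obj (hullSES f).X₂) := by
      intro i
      rcases Nat.eq_zero_or_pos i with rfl | hi
      · exact (subsingleton_H0_iff I E).mpr hΓE
      · exact subsingleton_of_injective I i hi (ModuleCat.of R E)
    have hb : ∀ i, Function.Bijective (δ I hS i) :=
      fun i => ExtVan.δ_bijective_of_subsingleton I hS i (hE i) (hE (i + 1))
    have hvan' : ∀ i : ℕ, i ≠ d → Subsingleton (H I i (E ⧸ LinearMap.range f)) := by
      intro i hi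
      haveI : Subsingleton ((localCohomology I (i + 1)).obj (hullSES f).X₁) :=
        hvan (i + 1) (by omega)
      exact (hb i).1.subsingleton
    have hinj' : Module.Injective R (H I d (E ⧸ LinearMap.range f)) := by
      haveI : Module.Injective R ((localCohomology I (d + 1)).obj (hullSES f).X₁) := hinj
      exact injective_of_linearEquiv (LinearEquiv.ofBijective (δ I hS d) (hb d)).symm
    obtain ⟨k, rfl⟩ : ∃ k, j = k + 1 := ⟨j - 1, by omega⟩
    have ih' := ih (E ⧸ LinearMap.range f) hvan' hinj' F hF k (by omega)
    have key : ∀ x : Ext (ModuleCat.of R F) (hullSES f).X₁ (k + 1), x = 0 := by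
      intro x
      have hx : x.comp (Ext.mk₀ (hullSES f).f) (add_zero _) = 0 :=
        ext_eq_zero_of_injective_of_torsionFree I hF hΓE _ _
      obtain ⟨x₃, hx₃⟩ := Ext.covariant_sequence_exact₁ _ hS x hx rfl
      have h0 : x₃ = 0 := ih' x₃
      rw [h0, Ext.zero_comp] at hx₃
      exact hx₃.symm
    exact key x

open Groth.Agent.H8.Matlis RingTheory.Sequence Groth.Agent.Lib.helper9.Depth
  Groth.Agent.H8.NonVan Groth.Agent.H8.CdDim in
/-- a Noetherian local ring is Gorenstein iff its local cohomology is concentrated in one degree and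
injective there. -/
theorem gorenstein_iff_H_concentrated (A : Type u) [CommRing A] [IsLocalRing A]
    [IsNoetherianRing A] :
    LocCoh.IsGorensteinLocalRing A ↔ ∃ d : ℕ,
      (∀ i : ℕ, i ≠ d → Subsingleton (LocCoh.H (maximalIdeal A) i A)) ∧
      Module.Injective A (LocCoh.H (maximalIdeal A) d A) := by
  constructor
  · intro hG
    obtain ⟨n, hn⟩ := exists_supportDim_eq_nat (R := A) A
    rw [Module.supportDim_self_eq_ringKrullDim] at hn
    obtain ⟨hdepth, hinjdim⟩ := Groth.Agent.H21.GorRing.depth_and_injdim A n hn
    refine ⟨n, fun i hi => ?_, ?_⟩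
    · rcases lt_or_gt_of_ne hi with hlt | hgt
      · have hIM := maximalIdeal_smul_top_ne_top (R := A) A
        apply subsingleton_of_lt_depth (maximalIdeal A) A hIM i
        have hdepth' : idealDepth (maximalIdeal A) A = n := hdepth
        rw [hdepth']
        exact_mod_cast hlt
      · apply subsingleton_H_of_supportDim_lt
        rw [Module.supportDim_self_eq_ringKrullDim, hn]
        exact_mod_cast hgt
    · obtain ⟨g, hg⟩ := exists_isInjectiveHull_H_of_gorenstein A n hn
      exact hg.isInjective
  · rintro ⟨d, hvan, hinj⟩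
    have hF : IsPowerTorsion (maximalIdeal A) (A ⧸ maximalIdeal A) :=
      isPowerTorsion_of_support_subset _ _ (support_quotient_eq _).le
    haveI : Module.Finite A (ModuleCat.of A A) := inferInstanceAs (Module.Finite A A)
    have := Groth.Agent.H21.Bass.hasInjectiveDimensionLT_of_ext_residue (ModuleCat.of A A) (d + 1)
      (fun i hi z => ext_eq_zero_of_H_concentrated (maximalIdeal A) d A hvan hinj _ hF i
        (by omega) z)
    exact ⟨⟨d + 1 + 1, this⟩⟩

end Groth.Agent.H8.LCGor
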