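import Mathlib
import Groth.Prelude.Def_Wider
import Groth.Prelude.Def_CAlg
import Groth.Agent.Lib.helper8.LCGorD
import Groth.Agent.Lib.helper8.MatlisC
import Groth.Agent.Lib.helper1.InjHull

/-!
# Canonical modules: Gorenstein iff `K ≅ R` (helper8)
-/

universe u

set_option linter.unusedSectionVars false

namespace Groth.Agent.H8.Canon

open LocCoh CategoryTheory IsLocalRing InjHull Groth.Agent.H21.LC Groth.Agent.H8.Matlis
  Groth.Agent.H8.LCGor Groth.Agent.Lib.helper9.Depth Groth.Agent.H8.CdDim

variable {R : Type u} [CommRing R]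

/-- transport of the `I`-torsion along a linear equivalence. -/
noncomputable def torsionByEquiv (I : Ideal R) {A B : Type u} [AddCommGroup A] [Module R A]
    [AddCommGroup B] [Module R B] (e : A ≃ₗ[R] B) : torsionBy I A ≃ₗ[R] torsionBy I B where
  toFun x := ⟨e x.1, by
    refine (Submodule.mem_torsionBySet_iff _ _).mpr ?_
    rintro ⟨r, hr⟩
    show r • e x.1 = 0
    rw [← map_smul, (Submodule.mem_torsionBySet_iff _ _).mp x.2 ⟨r, hr⟩, map_zero]⟩
  invFun y := ⟨e.symm y.1, by
    refine (Submodule.mem_torsionBySet_iff _ _).mpr ?_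
    rintro ⟨r, hr⟩
    show r • e.symm y.1 = 0
    rw [← map_smul, (Submodule.mem_torsionBySet_iff _ _).mp y.2 ⟨r, hr⟩, map_zero]⟩
  map_add' x y := Subtype.ext (by simp)
  map_smul' r x := Subtype.ext (by simp)
  left_inv x := Subtype.ext (by simp)
  right_inv y := Subtype.ext (by simp)

variable [IsLocalRing R] [IsNoetherianRing R]

/-- a finite module whose Matlis dual is isomorphic to `E` is isomorphic to `R`. -/
theorem nonempty_equiv_self_of_dual_equiv {E : Type u} [AddCommGroup E] [Module R E]
    (f : ResidueField R →ₗ[R] E) (hf : IsInjectiveHull f) (K : Type u) [AddCommGroup K]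
    [Module R K] [Module.Finite R K] (e : (K →ₗ[R] E) ≃ₗ[R] E) : Nonempty (K ≃ₗ[R] R) := by
  -- number of generators
  have h1 := spanFinrank_eq_length_socle_dual f hf K
  have h2 := spanFinrank_eq_length_socle_dual f hf R
  have e' : (K →ₗ[R] E) ≃ₗ[R] (R →ₗ[R] E) := e.trans (LinearMap.ringLmapEquivSelf R R E).symm
  have h3 : Module.length R (torsionBy (maximalIdeal R) (K →ₗ[R] E)) =
      Module.length R (torsionBy (maximalIdeal R) (R →ₗ[R] E)) :=
    (torsionByEquiv (maximalIdeal R) e').length_eq
  have h4 : (⊤ : Submodule R R).spanFinrank = 1 := by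
    rw [Submodule.spanFinrank_eq_one_iff]
    exact ⟨⟨1, Ideal.span_singleton_one.symm⟩, top_ne_bot⟩
  have h5 : (⊤ : Submodule R K).spanFinrank = 1 := by
    have : ((⊤ : Submodule R K).spanFinrank : ℕ∞) = ((⊤ : Submodule R R).spanFinrank : ℕ∞) := by
      rw [h1, h2, h3]
    rw [h4] at this
    exact_mod_cast this
  obtain ⟨⟨k0, hk0⟩, -⟩ := (Submodule.spanFinrank_eq_one_iff _).mp h5
  -- the annihilator of the generator is zero
  have hann : Ideal.torsionOf R K k0 = ⊥ := by
    rw [eq_bot_iff]
    intro a ha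
    rw [Ideal.mem_torsionOf_iff] at ha
    rw [Ideal.mem_bot]
    by_contra ha0
    -- `a` kills `K`, hence the dual, hence `E`
    have hK : ∀ y : K, a • y = 0 := by
      intro y
      have hy : y ∈ Submodule.span R {k0} := by rw [← hk0]; exact Submodule.mem_top
      obtain ⟨c, rfl⟩ := Submodule.mem_span_singleton.mp hy
      rw [smul_comm, ha, smul_zero]
    have hE : ∀ z : E, a • z = 0 := by
      intro z
      obtain ⟨φ, rfl⟩ := e.surjective z
      rw [← map_smul]
      have : a • φ = 0 := by
        ext y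
        rw [LinearMap.smul_apply, ← map_smul, hK, map_zero, LinearMap.zero_apply]
      rw [this, map_zero]
    obtain ⟨g, hg⟩ := exists_hom_ne_zero f hf (M := R) ha0
    apply hg
    have : g a = a • g 1 := by rw [← map_smul, smul_eq_mul, mul_one]
    rw [this, hE]
  have e1 := Ideal.quotTorsionOfEquivSpanSingleton R K k0
  have e2 : (R ⧸ Ideal.torsionOf R K k0) ≃ₗ[R] R :=
    (Submodule.quotEquivOfEq _ _ hann).trans (Submodule.quotEquivOfEqBot ⊥ rfl)
  have e3 : (Submodule.span R {k0}) ≃ₗ[R] K :=
    (LinearEquiv.ofEq _ _ hk0.symm).trans Submodule.topEquiv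
  exact ⟨(e2.symm.trans (e1.trans e3)).symm⟩

/-- S7701. -/
theorem gorenstein_iff_canon_free (R : Type u) [CommRing R] [LocCoh.IsCohenMacaulayLocalRing R]
    (n : ℕ) (hn : ringKrullDim R = n) (E : Type u) [AddCommGroup E] [Module R E]
    (f : ResidueField R →ₗ[R] E) (hf : IsInjectiveHull f) (K : Type u) [AddCommGroup K]
    [Module R K] [Module.Finite R K]
    (eK : (K →ₗ[R] E) ≃ₗ[R] LocCoh.H (maximalIdeal R) n R) :
    LocCoh.IsGorensteinLocalRing R ↔ Nonempty (K ≃ₗ[R] R) := by
  constructor
  · intro hG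
    obtain ⟨g, hg⟩ := exists_isInjectiveHull_H_of_gorenstein R n hn
    obtain ⟨e, -⟩ := Groth.Agent.Lib.helper1.InjHullLib.unique g hg f hf
    exact nonempty_equiv_self_of_dual_equiv f hf K (eK.trans e)
  · rintro ⟨eKR⟩
    have e1 : (K →ₗ[R] E) ≃ₗ[R] E :=
      (LinearEquiv.arrowCongr eKR (LinearEquiv.refl R E)).trans (LinearMap.ringLmapEquivSelf R R E)
    haveI : Module.Injective R E := hf.isInjective
    have hinj : Module.Injective R (LocCoh.H (maximalIdeal R) n R) :=
      injective_of_linearEquiv (e1.symm.trans eK)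
    have hCM := LocCoh.IsCohenMacaulayLocalRing.supportDim_eq_depth (R := R)
    rw [Module.supportDim_self_eq_ringKrullDim, hn] at hCM
    have hd : LocCoh.depth R R = n := by
      have : ((n : ℕ∞) : WithBot ℕ∞) = ((LocCoh.depth R R : ℕ∞) : WithBot ℕ∞) := hCM
      exact (WithBot.coe_injective this).symm
    refine (gorenstein_iff_H_concentrated R).mpr ⟨n, fun i hi => ?_, hinj⟩
    rcases lt_or_gt_of_ne hi with hlt | hgt
    · have hIM := maximalIdeal_smul_top_ne_top (R := R) R
      apply subsingleton_of_lt_depth (maximalIdeal R) R hIM i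
      have hdepth' : idealDepth (maximalIdeal R) R = n := hd
      rw [hdepth']
      exact_mod_cast hlt
    · apply subsingleton_H_of_supportDim_lt
      rw [Module.supportDim_self_eq_ringKrullDim, hn]
      exact_mod_cast hgt

end Groth.Agent.H8.Canon
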