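import Mathlib
import Groth.Prelude.Def_Wider
import Groth.Agent.Lib.helper8.CanonB
import Groth.Agent.Lib.helper8.LCNonVanE
import Groth.Agent.Lib.helper9.Depth4

/-!
# Canonical modules, part C (helper8): a canonical module has depth `≥ min(2, dim R)`.
-/

universe u

set_option linter.unusedSectionVars false

namespace Groth.Agent.H8.Canon

open CategoryTheory LocCoh InjHull IsLocalRing Groth.Agent.H21.LC Groth.Agent.H8.CdDim
open Groth.Agent.H8.NonVan
open Pointwise

variable {R : Type u} [CommRing R]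

/-- if `s ∪ t` generates an ideal primary to the maximal ideal then `dim R/(s) ≤ |t|`. -/
theorem ringKrullDim_quotient_le_card [IsLocalRing R] [IsNoetherianRing R] (s t : Finset R)
    (ht : (t : Set R) ⊆ maximalIdeal R)
    (hsop : maximalIdeal R ≤ (Ideal.span ((s : Set R) ∪ t)).radical) :
    ringKrullDim (R ⧸ Ideal.span (s : Set R)) ≤ t.card := by
  classical
  set J := Ideal.span (s : Set R) with hJ
  have hπ : Function.Surjective (Ideal.Quotient.mk J) := Ideal.Quotient.mk_surjective
  set t' : Finset (R ⧸ J) := t.image (Ideal.Quotient.mk J) with ht'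
  have hjac : (t' : Set (R ⧸ J)) ⊆ Ring.jacobson (R ⧸ J) := by
    intro y hy
    rw [Finset.mem_coe, Finset.mem_image] at hy
    obtain ⟨x, hx, rfl⟩ := hy
    show Ideal.Quotient.mk J x ∈ Ring.jacobson (R ⧸ J)
    rw [Ring.jacobson_eq_sInf_isMaximal, Ideal.mem_sInf]
    intro M hM
    haveI : M.IsMaximal := hM
    haveI := Ideal.comap_isMaximal_of_surjective (Ideal.Quotient.mk J) hπ (K := M)
    have h1 := IsLocalRing.eq_maximalIdeal (I := M.comap (Ideal.Quotient.mk J)) inferInstance
    have h2 : x ∈ M.comap (Ideal.Quotient.mk J) := by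
      rw [h1]; exact ht (Finset.mem_coe.mpr hx)
    exact h2
  have h1 := ringKrullDim_le_ringKrullDim_quotient_add_card t' hjac
  have h2 : ringKrullDim ((R ⧸ J) ⧸ Ideal.span (t' : Set (R ⧸ J))) ≤ 0 := by
    rw [ringKrullDim_quotient]
    have hsub : (PrimeSpectrum.zeroLocus
        ((Ideal.span (t' : Set (R ⧸ J)) : Ideal (R ⧸ J)) : Set (R ⧸ J))).Subsingleton := by
      have key : ∀ q ∈ PrimeSpectrum.zeroLocus
          ((Ideal.span (t' : Set (R ⧸ J)) : Ideal (R ⧸ J)) : Set (R ⧸ J)),
          q.asIdeal.comap (Ideal.Quotient.mk J) = maximalIdeal R := by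
        intro q hq
        rw [PrimeSpectrum.mem_zeroLocus] at hq
        haveI : (q.asIdeal.comap (Ideal.Quotient.mk J)).IsPrime := Ideal.IsPrime.comap _
        refine le_antisymm (IsLocalRing.le_maximalIdeal Ideal.IsPrime.ne_top') ?_
        refine hsop.trans ?_
        rw [Ideal.IsPrime.radical_le_iff inferInstance, Ideal.span_le]
        rintro x (hx | hx)
        · show Ideal.Quotient.mk J x ∈ q.asIdeal
          have : Ideal.Quotient.mk J x = 0 :=
            Ideal.Quotient.eq_zero_iff_mem.mpr (Ideal.subset_span hx)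
          rw [this]; exact Ideal.zero_mem _
        · show Ideal.Quotient.mk J x ∈ q.asIdeal
          refine hq (Ideal.subset_span ?_)
          rw [Finset.mem_coe, Finset.mem_image]
          exact ⟨x, Finset.mem_coe.mp hx, rfl⟩
      intro q hq q' hq'
      apply PrimeSpectrum.ext
      have e1 := key q hq
      have e2 := key q' hq'
      have := congrArg (Ideal.map (Ideal.Quotient.mk J)) (e1.trans e2.symm)
      rwa [Ideal.map_comap_of_surjective _ hπ, Ideal.map_comap_of_surjective _ hπ] at this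
    haveI : Subsingleton (PrimeSpectrum.zeroLocus
        ((Ideal.span (t' : Set (R ⧸ J)) : Ideal (R ⧸ J)) : Set (R ⧸ J))) :=
      hsub.coe_sort
    exact Order.krullDim_nonpos_of_subsingleton
  have h3 : (t'.card : WithBot ℕ∞) ≤ t.card := by
    exact_mod_cast Finset.card_image_le
  calc ringKrullDim (R ⧸ J) ≤ ringKrullDim ((R ⧸ J) ⧸ Ideal.span (t' : Set (R ⧸ J))) + t'.card := h1
    _ ≤ 0 + t.card := add_le_add h2 h3
    _ = t.card := zero_add _


section LC

variable [IsLocalRing R] [IsNoetherianRing R]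

/-- for `a₁` avoiding the top-dimensional minimal primes, with `dim R/(a₁, a₂) ≤ dim R - 2`: the
element `a₂` acts surjectively on the `a₁`-torsion of `H^n_m(R)`. -/
theorem smul_surjective_torsion_H (k : ℕ) (hn : ringKrullDim R = ((k + 1 + 1 : ℕ) : WithBot ℕ∞))
    (a₁ a₂ : R)
    (h1 : ∀ p ∈ minimalPrimes R, ringKrullDim (R ⧸ p) = ((k + 1 + 1 : ℕ) : WithBot ℕ∞) → a₁ ∉ p)
    (hd1 : Module.supportDim R (R ⧸ LinearMap.range (a₁ • (LinearMap.id : R →ₗ[R] R))) <
      ((k + 1 + 1 : ℕ) : WithBot ℕ∞))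
    (hd2 : Module.supportDim R ((R ⧸ LinearMap.range (a₁ • (LinearMap.id : R →ₗ[R] R))) ⧸
      LinearMap.range (a₂ • (LinearMap.id :
        (R ⧸ LinearMap.range (a₁ • (LinearMap.id : R →ₗ[R] R))) →ₗ[R] _))) <
      ((k + 1 : ℕ) : WithBot ℕ∞))
    (x : H (maximalIdeal R) (k + 1 + 1) R) (hx : a₁ • x = 0) :
    ∃ y : H (maximalIdeal R) (k + 1 + 1) R, a₁ • y = 0 ∧ a₂ • y = x := by
  set e : R →ₗ[R] R := a₁ • LinearMap.id with he
  have hS1 := kerSES_shortExact e
  have hS2 := rangeSES_shortExact e
  -- `H^n(ker e) = 0`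
  have hkill : ∀ y : LinearMap.ker e, a₁ • y = 0 := by
    intro y
    apply Subtype.ext
    have := y.2
    rw [LinearMap.mem_ker] at this
    exact this
  have hK0 : Subsingleton ((localCohomology (maximalIdeal R) (k + 1 + 1)).obj (kerSES e).X₁) :=
    subsingleton_H_of_supportDim_lt (maximalIdeal R) (LinearMap.ker e) (k + 1 + 1)
      (supportDim_lt_of_smul_eq_zero (k + 1 + 1) hn a₁ h1 (LinearMap.ker e) hkill)
  have hK1 : Subsingleton ((localCohomology (maximalIdeal R) (k + 1 + 1 + 1)).obj (kerSES e).X₁) :=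
    cdLE_of_ringKrullDim_le R (maximalIdeal R) (k + 1 + 1) hn.le _ (k + 1 + 1 + 1) (by omega)
  have Ginj : Function.Injective ((localCohomology (maximalIdeal R) (k + 1 + 1)).map (kerSES e).g).hom := by
    rw [← LinearMap.ker_eq_bot, LinearMap.ker_eq_bot']
    intro z hz
    obtain ⟨w, rfl⟩ := ((exact₂ (maximalIdeal R) hS1 (k + 1 + 1)) z).1 hz
    rw [Subsingleton.elim w 0, map_zero]
  have Gsurj := map_g_surjective (maximalIdeal R) hS1 (k + 1 + 1) hK1
  have hcomp : ModuleCat.ofHom e = a₁ • 𝟙 (ModuleCat.of R R) := by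
    refine ModuleCat.hom_ext (LinearMap.ext fun x => ?_)
    rfl
  have hFG : ∀ z : H (maximalIdeal R) (k + 1 + 1) R, ((localCohomology (maximalIdeal R) (k + 1 + 1)).map (rangeSES e).f).hom
      (((localCohomology (maximalIdeal R) (k + 1 + 1)).map (kerSES e).g).hom z) = a₁ • z := by
    intro z
    rw [← map_smul_id (maximalIdeal R) (k + 1 + 1) (ModuleCat.of R R) a₁ z, ← hcomp, ofHom_eq_comp e,
      CategoryTheory.Functor.map_comp]
    rfl
  -- `a₂` is surjective on `H^{n-1}(R/a₁R)`
  have hs2 : Function.Surjective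
      (fun w : H (maximalIdeal R) (k + 1) (R ⧸ LinearMap.range e) => a₂ • w) := by
    refine smul_surjective_H' (maximalIdeal R) (R ⧸ LinearMap.range e) a₂ (k + 1) ?_ ?_
    · refine subsingleton_H_of_supportDim_lt (maximalIdeal R) _ (k + 1 + 1) (lt_of_le_of_lt ?_ hd1)
      exact Module.supportDim_le_of_injective (Submodule.subtype _) Subtype.val_injective
    · exact subsingleton_H_of_supportDim_lt (maximalIdeal R) _ (k + 1) hd2
  -- chase
  have h0 : ((localCohomology (maximalIdeal R) (k + 1 + 1)).map (rangeSES e).f).hom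
      (((localCohomology (maximalIdeal R) (k + 1 + 1)).map (kerSES e).g).hom x) = 0 := by
    rw [hFG, hx]
  obtain ⟨w, hw⟩ := ((exact₁ (maximalIdeal R) hS2 (k + 1)) _).1 h0
  obtain ⟨w', hw'⟩ := hs2 w
  have hw'' : a₂ • w' = w := hw'
  obtain ⟨y, hy⟩ := Gsurj (δ (maximalIdeal R) hS2 (k + 1) w')
  refine ⟨y, ?_, ?_⟩
  · rw [← hFG, hy]
    exact ((exact₁ (maximalIdeal R) hS2 (k + 1)) _).2 ⟨w', rfl⟩
  · apply Ginj
    rw [map_smul, hy, ← map_smul, hw'', hw]

end LC

section Pair

variable [IsLocalRing R] {E : Type u} [AddCommGroup E] [Module R E]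
  {f : ResidueField R →ₗ[R] E}

/-- regularity of `a₂` on `K/a₁K` from surjectivity of `a₂` on the `a₁`-torsion of the dual. -/
theorem isSMulRegular_quot_of_surjective_torsion (hf : IsInjectiveHull f) (K : Type u)
    [AddCommGroup K] [Module R K] (a₁ a₂ : R) (D : Type u) [AddCommGroup D] [Module R D]
    (eK : (K →ₗ[R] E) ≃ₗ[R] D)
    (hs : ∀ x : D, a₁ • x = 0 → ∃ y : D, a₁ • y = 0 ∧ a₂ • y = x) :
    IsSMulRegular (QuotSMulTop a₁ K) a₂ := by
  refine isSMulRegular_of_surjective_dual hf _ a₂ ?_
  intro gb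
  set g : K →ₗ[R] E := gb ∘ₗ (Submodule.mkQ _) with hgdef
  have hg : a₁ • g = 0 := by
    ext x
    show a₁ • gb (Submodule.Quotient.mk x) = 0
    rw [← map_smul, ← Submodule.Quotient.mk_smul]
    have : (Submodule.Quotient.mk (a₁ • x) : QuotSMulTop a₁ K) = 0 := by
      rw [Submodule.Quotient.mk_eq_zero]
      exact (Submodule.mem_smul_pointwise_iff_exists _ _ _).mpr ⟨x, Submodule.mem_top, rfl⟩
    rw [this, map_zero]
  obtain ⟨y, hy1, hy2⟩ := hs (eK g) (by rw [← map_smul, hg, map_zero])
  set g' : K →ₗ[R] E := eK.symm y with hg'def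
  have hg'1 : a₁ • g' = 0 := by rw [hg'def, ← map_smul, hy1, map_zero]
  have hg'2 : a₂ • g' = g := by rw [hg'def, ← map_smul, hy2, LinearEquiv.symm_apply_apply]
  have hle : a₁ • (⊤ : Submodule R K) ≤ LinearMap.ker g' := by
    intro x hx
    obtain ⟨z, -, rfl⟩ := (Submodule.mem_smul_pointwise_iff_exists _ _ _).mp hx
    rw [LinearMap.mem_ker, map_smul]
    exact LinearMap.congr_fun hg'1 z
  refine ⟨Submodule.liftQ _ g' hle, ?_⟩
  refine LinearMap.ext fun q => ?_
  obtain ⟨x, rfl⟩ := Submodule.Quotient.mk_surjective _ q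
  show a₂ • g' x = gb (Submodule.Quotient.mk x)
  exact LinearMap.congr_fun hg'2 x

variable [IsNoetherianRing R]

/-- the first two elements of a system of parameters form a regular sequence on a canonical
module. -/
theorem isRegular_canon_pair (n : ℕ) (hn : ringKrullDim R = n) (hf : IsInjectiveHull f)
    (K : Type u) [AddCommGroup K] [Module R K] [Module.Finite R K]
    (eK : (K →ₗ[R] E) ≃ₗ[R] H (maximalIdeal R) n R) (h2 : 2 ≤ n) (a₁ a₂ : R)
    (ha₁ : a₁ ∈ maximalIdeal R) (ha₂ : a₂ ∈ maximalIdeal R)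
    (hd1 : ringKrullDim (R ⧸ Ideal.span {a₁}) < n)
    (hd2 : ringKrullDim (R ⧸ Ideal.span {a₁, a₂}) < ((n - 1 : ℕ) : WithBot ℕ∞)) :
    RingTheory.Sequence.IsRegular K [a₁, a₂] := by
  obtain ⟨k, rfl⟩ : ∃ k, n = k + 1 + 1 := ⟨n - 2, by omega⟩
  have hav : ∀ p ∈ minimalPrimes R, ringKrullDim (R ⧸ p) = ((k + 1 + 1 : ℕ) : WithBot ℕ∞) →
      a₁ ∉ p := by
    intro p hp hdim hap
    have hle : Ideal.span {a₁} ≤ p := (Ideal.span_singleton_le_iff_mem p).mpr hap
    have := ringKrullDim_le_of_surjective (Ideal.Quotient.factor hle)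
      (Ideal.Quotient.factor_surjective hle)
    rw [hdim] at this
    exact absurd (lt_of_le_of_lt this hd1) (lt_irrefl _)
  have hreg1 : IsSMulRegular K a₁ := (isSMulRegular_canon_iff _ hn hf K eK a₁).mpr hav
  set e : R →ₗ[R] R := a₁ • LinearMap.id with he
  have hrange : LinearMap.range e = Ideal.span {a₁} := by
    ext x
    rw [Ideal.mem_span_singleton']
    constructor
    · rintro ⟨r, rfl⟩
      exact ⟨r, mul_comm _ _⟩
    · rintro ⟨r, rfl⟩
      exact ⟨r, mul_comm _ _⟩
  have hd1' : Module.supportDim R (R ⧸ LinearMap.range e) < ((k + 1 + 1 : ℕ) : WithBot ℕ∞) := by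
    rw [Module.supportDim_eq_of_equiv (Submodule.quotEquivOfEq _ _ hrange),
      Module.supportDim_quotient_eq_ringKrullDim]
    exact hd1
  set e₂ : (R ⧸ LinearMap.range e) →ₗ[R] (R ⧸ LinearMap.range e) := a₂ • LinearMap.id with he₂
  have hd2' : Module.supportDim R ((R ⧸ LinearMap.range e) ⧸ LinearMap.range e₂) <
      ((k + 1 : ℕ) : WithBot ℕ∞) := by
    set φ : R →ₗ[R] ((R ⧸ LinearMap.range e) ⧸ LinearMap.range e₂) :=
      (LinearMap.range e₂).mkQ ∘ₗ (LinearMap.range e).mkQ with hφ
    have hφs : Function.Surjective φ :=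
      (Submodule.mkQ_surjective _).comp (Submodule.mkQ_surjective _)
    have hker : Ideal.span {a₁, a₂} ≤ LinearMap.ker φ := by
      rw [Ideal.span_le]
      rintro x (rfl | hx)
      · show φ x = 0
        have : (LinearMap.range e).mkQ x = 0 := by
          rw [Submodule.mkQ_apply, Submodule.Quotient.mk_eq_zero]
          exact ⟨1, by simp [he]⟩
        rw [hφ, LinearMap.comp_apply, this, map_zero]
      · rw [Set.mem_singleton_iff] at hx
        subst hx
        show (LinearMap.range e₂).mkQ ((LinearMap.range e).mkQ x) = 0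
        rw [Submodule.mkQ_apply, Submodule.Quotient.mk_eq_zero]
        refine ⟨(LinearMap.range e).mkQ 1, ?_⟩
        rw [he₂, LinearMap.smul_apply, LinearMap.id_apply, ← map_smul, smul_eq_mul, mul_one]
    have hls : Function.Surjective (Submodule.liftQ (Ideal.span {a₁, a₂}) φ hker) := by
      intro y
      obtain ⟨r, hr⟩ := hφs y
      exact ⟨Submodule.Quotient.mk r, (Submodule.liftQ_apply _ _ _).trans hr⟩
    have h1 := Module.supportDim_le_of_surjective _ hls
    rw [Module.supportDim_quotient_eq_ringKrullDim] at h1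
    refine lt_of_le_of_lt h1 ?_
    have hk : k + 1 + 1 - 1 = k + 1 := by omega
    rw [hk] at hd2
    exact hd2
  have hreg2 : IsSMulRegular (QuotSMulTop a₁ K) a₂ :=
    isSMulRegular_quot_of_surjective_torsion hf K a₁ a₂ _ eK
      (smul_surjective_torsion_H k hn a₁ a₂ hav hd1' hd2')
  haveI : Nontrivial K := by
    by_contra hK
    rw [not_nontrivial_iff_subsingleton] at hK
    haveI : Subsingleton (H (maximalIdeal R) (k + 1 + 1) R) := eK.symm.toEquiv.subsingleton
    have := nontrivial_H_supportDim (k + 1 + 1) R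
      ((Module.supportDim_self_eq_ringKrullDim (R := R)).trans hn)
    exact not_subsingleton _ ‹_›
  refine ⟨?_, ?_⟩
  · rw [RingTheory.Sequence.isWeaklyRegular_cons_iff]
    refine ⟨hreg1, ?_⟩
    rw [RingTheory.Sequence.isWeaklyRegular_cons_iff]
    exact ⟨hreg2, RingTheory.Sequence.IsWeaklyRegular.nil _ _⟩
  · intro htop
    apply Groth.Agent.Lib.helper9.Depth.maximalIdeal_smul_top_ne_top (R := R) K
    have hle : Ideal.ofList [a₁, a₂] ≤ maximalIdeal R := by
      rw [Ideal.ofList, Ideal.span_le]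
      intro x hx
      simp only [List.mem_cons, List.not_mem_nil, or_false, Set.mem_setOf_eq] at hx
      rcases hx with rfl | rfl
      · exact ha₁
      · exact ha₂
    have h1 : Ideal.ofList [a₁, a₂] • (⊤ : Submodule R K) ≤ maximalIdeal R • ⊤ :=
      Submodule.smul_mono_left hle
    exact top_le_iff.mp (htop.le.trans h1)

end Pair


section Single

variable [IsLocalRing R] {E : Type u} [AddCommGroup E] [Module R E]
  {f : ResidueField R →ₗ[R] E} [IsNoetherianRing R]

/-- a parameter is a non-zerodivisor on a canonical module. -/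
theorem isSMulRegular_canon_of_dim_lt (n : ℕ) (hn : ringKrullDim R = n) (hf : IsInjectiveHull f)
    (K : Type u) [AddCommGroup K] [Module R K]
    (eK : (K →ₗ[R] E) ≃ₗ[R] H (maximalIdeal R) n R) (a₁ : R)
    (hd1 : ringKrullDim (R ⧸ Ideal.span {a₁}) < n) : IsSMulRegular K a₁ := by
  refine (isSMulRegular_canon_iff _ hn hf K eK a₁).mpr ?_
  intro p hp hdim hap
  have hle : Ideal.span {a₁} ≤ p := (Ideal.span_singleton_le_iff_mem p).mpr hap
  have := ringKrullDim_le_of_surjective (Ideal.Quotient.factor hle)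
    (Ideal.Quotient.factor_surjective hle)
  rw [hdim] at this
  exact absurd (lt_of_le_of_lt this hd1) (lt_irrefl _)

/-- systems of parameters: the dimension bounds. -/
theorem sop_dim_bounds (n : ℕ) (a : Fin n → R) (ha : ∀ i, a i ∈ maximalIdeal R)
    (hsop : maximalIdeal R ≤ (Ideal.span (Set.range a)).radical) (hn0 : 0 < n) :
    ringKrullDim (R ⧸ Ideal.span {a ⟨0, hn0⟩}) < n ∧
    ∀ h2 : 2 ≤ n, ringKrullDim (R ⧸ Ideal.span {a ⟨0, hn0⟩, a ⟨1, h2⟩}) <
      ((n - 1 : ℕ) : WithBot ℕ∞) := by
  classical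
  constructor
  · set i0 : Fin n := ⟨0, hn0⟩ with hi0
    have := ringKrullDim_quotient_le_card ({a i0} : Finset R) ((Finset.univ.erase i0).image a)
      (by
        intro x hx
        rw [Finset.mem_coe, Finset.mem_image] at hx
        obtain ⟨i, -, rfl⟩ := hx
        exact ha i)
      (by
        refine hsop.trans (Ideal.radical_mono (Ideal.span_mono ?_))
        rintro _ ⟨i, rfl⟩
        by_cases hi : i = i0
        · left; rw [hi]; simp
        · right
          rw [Finset.mem_coe, Finset.mem_image]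
          exact ⟨i, Finset.mem_erase.mpr ⟨hi, Finset.mem_univ _⟩, rfl⟩)
    rw [Finset.coe_singleton] at this
    refine lt_of_le_of_lt this ?_
    have hc : ((Finset.univ.erase i0).image a).card ≤ n - 1 := by
      refine Finset.card_image_le.trans ?_
      rw [Finset.card_erase_of_mem (Finset.mem_univ _), Finset.card_univ, Fintype.card_fin]
    have : ((Finset.univ.erase i0).image a).card < n := by omega
    exact_mod_cast this
  · intro h2
    set i0 : Fin n := ⟨0, hn0⟩ with hi0
    set i1 : Fin n := ⟨1, h2⟩ with hi1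
    have hne : i1 ≠ i0 := by
      intro h
      have := congrArg Fin.val h
      simp [hi0, hi1] at this
    have := ringKrullDim_quotient_le_card ({a i0, a i1} : Finset R)
      (((Finset.univ.erase i0).erase i1).image a)
      (by
        intro x hx
        rw [Finset.mem_coe, Finset.mem_image] at hx
        obtain ⟨i, -, rfl⟩ := hx
        exact ha i)
      (by
        refine hsop.trans (Ideal.radical_mono (Ideal.span_mono ?_))
        rintro _ ⟨i, rfl⟩
        by_cases hi : i = i0
        · left; rw [hi]; simp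
        · by_cases hi' : i = i1
          · left; rw [hi']; simp
          · right
            rw [Finset.mem_coe, Finset.mem_image]
            exact ⟨i, Finset.mem_erase.mpr ⟨hi', Finset.mem_erase.mpr ⟨hi, Finset.mem_univ _⟩⟩,
              rfl⟩)
    rw [Finset.coe_pair] at this
    refine lt_of_le_of_lt this ?_
    have hc : (((Finset.univ.erase i0).erase i1).image a).card ≤ n - 2 := by
      refine Finset.card_image_le.trans ?_
      rw [Finset.card_erase_of_mem (Finset.mem_erase.mpr ⟨hne, Finset.mem_univ _⟩),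
        Finset.card_erase_of_mem (Finset.mem_univ _), Finset.card_univ, Fintype.card_fin]
      omega
    have : (((Finset.univ.erase i0).erase i1).image a).card < n - 1 := by omega
    exact_mod_cast this

end Single

end Groth.Agent.H8.Canon
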