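import Mathlib
import Groth.Prelude.Def_Wider
import Groth.Agent.Lib.helper8.LDualC
import Groth.Agent.Lib.helper8.LCNonVanE
import Groth.Agent.Lib.helper9.ExtCyclic
import Groth.Agent.Lib.helper9.Depth5

/-!
# Canonical modules, part D (helper8): over a Cohen–Macaulay local ring the canonical module is a
maximal Cohen–Macaulay module of injective dimension `dim R`.
-/

universe u

set_option linter.unusedSectionVars false

namespace Groth.Agent.H8.Canon

open CategoryTheory Abelian LocCoh InjHull IsLocalRing Groth.Agent.H21.LC Groth.Agent.H8.NonVan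
open Groth.Agent.H8.Watts Groth.Agent.H8.LDual Groth.Agent.H8.CdDim
open Groth.Agent.Lib.helper9.Depth

variable {R : Type u} [CommRing R] [IsNoetherianRing R] [IsLocalRing R]
  {E : Type u} [AddCommGroup E] [Module R E] {f : ResidueField R →ₗ[R] E}

/-- `E` is a cogenerator. -/
theorem subsingleton_of_subsingleton_dual (hf : IsInjectiveHull f) (X : Type u) [AddCommGroup X]
    [Module R X] (h : Subsingleton (X →ₗ[R] E)) : Subsingleton X := by
  refine ⟨fun x y => ?_⟩
  by_contra hne
  obtain ⟨g, hg⟩ := Matlis.exists_hom_ne_zero f hf (sub_ne_zero.mpr hne)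
  apply hg
  rw [Subsingleton.elim g 0]
  rfl

theorem supportDim_residue : Module.supportDim R (R ⧸ maximalIdeal R) = 0 := by
  rw [Module.supportDim_quotient_eq_ringKrullDim]
  exact ringKrullDim_eq_zero_of_isField ((Ideal.Quotient.maximal_ideal_iff_isField_quotient _).mp
    inferInstance)

section Main

variable (n : ℕ) (hn : ringKrullDim R = n) (hd : LocCoh.depth R R = n)
  (hf : IsInjectiveHull f) (K : Type u) [AddCommGroup K] [Module R K] [Module.Finite R K]
  (eK : (K →ₗ[R] E) ≃ₗ[R] H (maximalIdeal R) n R)

include hn hd hf eK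

theorem subsingleton_ext_residue_canon (i : ℕ) (hi : i < n) :
    Subsingleton (Ext (ModuleCat.of R (R ⧸ maximalIdeal R)) (ModuleCat.of R K) i) := by
  obtain ⟨e⟩ := LDual.main n hn (hvan_of_depth n hd) K E hf.isInjective eK i (n - i) (by omega)
    (R ⧸ maximalIdeal R)
  haveI : Subsingleton (H (maximalIdeal R) (n - i) (R ⧸ maximalIdeal R)) := by
    refine subsingleton_H_of_supportDim_lt (maximalIdeal R) _ (n - i) ?_
    rw [supportDim_residue]
    have : 0 < n - i := by omega
    exact_mod_cast this
  exact subsingleton_of_subsingleton_dual hf _ e.symm.toEquiv.subsingleton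

theorem not_subsingleton_ext_residue_canon :
    ¬ Subsingleton (Ext (ModuleCat.of R (R ⧸ maximalIdeal R)) (ModuleCat.of R K) n) := by
  intro hs
  obtain ⟨e⟩ := LDual.main n hn (hvan_of_depth n hd) K E hf.isInjective eK n 0 (by omega)
    (R ⧸ maximalIdeal R)
  haveI := nontrivial_H0 (R ⧸ maximalIdeal R) supportDim_residue
  haveI : Subsingleton (Ext (ModuleCat.of R (R ⧸ maximalIdeal R)) (ModuleCat.of R K) n →ₗ[R] E) :=
    ⟨fun a b => LinearMap.ext fun x => by rw [Subsingleton.elim x 0, map_zero, map_zero]⟩
  exact not_subsingleton _ e.toEquiv.subsingleton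

theorem nontrivial_canon : Nontrivial K := by
  by_contra hK
  rw [not_nontrivial_iff_subsingleton] at hK
  haveI : Subsingleton (H (maximalIdeal R) n R) := eK.symm.toEquiv.subsingleton
  have := nontrivial_H_supportDim n R
    ((Module.supportDim_self_eq_ringKrullDim (R := R)).trans hn)
  exact not_subsingleton _ ‹_›

theorem depth_canon : LocCoh.depth R K = n := by
  haveI := nontrivial_canon n hn hd hf K eK
  have h1 : (n : ℕ∞) ≤ idealDepth (maximalIdeal R) K :=
    (le_idealDepth_iff_ext' (maximalIdeal R) K n).mpr
      (fun i hi => subsingleton_ext_residue_canon n hn hd hf K eK i hi)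
  have h2 := depth_le_supportDim (R := R) K
  have h3 : Module.supportDim R K ≤ n := (Module.supportDim_le_ringKrullDim R K).trans hn.le
  have h4 : ((LocCoh.depth R K : ℕ∞) : WithBot ℕ∞) ≤ ((n : ℕ∞) : WithBot ℕ∞) := h2.trans h3
  have h5 : LocCoh.depth R K ≤ (n : ℕ∞) := by exact_mod_cast h4
  exact le_antisymm h5 h1

theorem supportDim_canon : Module.supportDim R K = n := by
  haveI := nontrivial_canon n hn hd hf K eK
  have h2 := depth_le_supportDim (R := R) K
  rw [depth_canon n hn hd hf K eK] at h2
  exact le_antisymm ((Module.supportDim_le_ringKrullDim R K).trans hn.le) h2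

theorem not_hasInjectiveDimensionLT_canon : ¬ HasInjectiveDimensionLT (ModuleCat.of R K) n := by
  intro h
  exact not_subsingleton_ext_residue_canon n hn hd hf K eK
    (HasInjectiveDimensionLT.subsingleton (ModuleCat.of R K) n n le_rfl _)

end Main

end Groth.Agent.H8.Canon
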