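import Mathlib
import Groth.Prelude.Def_Wider
import Groth.Agent.Lib.helper8.CanonD

/-!
# Canonical modules, part E (helper8): injective dimension of the canonical module of a
Cohen–Macaulay local ring.
-/

universe u

set_option linter.unusedSectionVars false

namespace Groth.Agent.H8.Canon

open CategoryTheory Abelian LocCoh InjHull IsLocalRing Groth.Agent.H21.LC Groth.Agent.H8.NonVan
open Groth.Agent.H8.Watts Groth.Agent.H8.LDual Groth.Agent.H8.CdDim
open Groth.Agent.Lib.helper9.Depth

variable {R : Type u} [CommRing R]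

/-- `Ext^1(M, K)` as the cokernel of `Hom(P, K) → Hom(N, K)` for a presentation
`0 → N → P → M → 0` with `P` free. -/
theorem exists_surjective_exact_ext_one (M K : Type u) [AddCommGroup M] [Module R M]
    [AddCommGroup K] [Module R K] (b : ℕ) (π : (Fin b → R) →ₗ[R] M)
    (hπ : Function.Surjective π) :
    ∃ q : (LinearMap.ker π →ₗ[R] K) →ₗ[R] Ext (ModuleCat.of R M) (ModuleCat.of R K) 1,
      Function.Surjective q ∧
        Function.Exact (LinearMap.lcomp R K (LinearMap.ker π).subtype) q := by
  have hS := surjSES_shortExact π hπ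
  haveI : Projective (ModuleCat.of R (Fin b → R)) :=
    (IsProjective.iff_projective (Fin b → R)).mp inferInstance
  set ι : LinearMap.ker π →ₗ[R] (Fin b → R) := (LinearMap.ker π).subtype with hι
  set Φ : Ext (ModuleCat.of R (LinearMap.ker π)) (ModuleCat.of R K) 0 →ₗ[R]
      Ext (ModuleCat.of R M) (ModuleCat.of R K) 1 :=
    hS.extClass.precompOfLinear R (ModuleCat.of R K) (show 1 + 0 = 1 by omega) with hΦ
  refine ⟨Φ ∘ₗ (homExt0 (LinearMap.ker π) K).toLinearMap, ?_, ?_⟩
  · intro x₃
    have h0 : (Ext.mk₀ (surjSES π).g).comp x₃ (zero_add 1) = 0 := Ext.eq_zero_of_projective _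
    obtain ⟨x₁, hx₁⟩ := Ext.contravariant_sequence_exact₃ hS (ModuleCat.of R K) x₃ h0
      (show 1 + 0 = 1 by omega)
    obtain ⟨ψ, rfl⟩ := (homExt0 (LinearMap.ker π) K).surjective x₁
    exact ⟨ψ, hx₁⟩
  · intro ψ
    constructor
    · intro hψ
      have hψ' : hS.extClass.comp (homExt0 (LinearMap.ker π) K ψ) (show 1 + 0 = 1 by omega) =
          0 := hψ
      obtain ⟨x₂, hx₂⟩ := Ext.contravariant_sequence_exact₁ hS (ModuleCat.of R K)
        (homExt0 (LinearMap.ker π) K ψ) (show 1 + 0 = 1 by omega) hψ'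
      obtain ⟨ψ₂, rfl⟩ := (homExt0 (Fin b → R) K).surjective x₂
      refine ⟨ψ₂, ?_⟩
      rw [homExt0_apply, homExt0_apply, Ext.mk₀_comp_mk₀] at hx₂
      have h1 := (Ext.mk₀_bijective _ _).1 hx₂
      have h2 := congrArg ModuleCat.Hom.hom h1
      exact h2
    · rintro ⟨ψ₂, rfl⟩
      show hS.extClass.comp (homExt0 (LinearMap.ker π) K (ψ₂ ∘ₗ ι))
        (show 1 + 0 = 1 by omega) = 0
      have h1 : homExt0 (LinearMap.ker π) K (ψ₂ ∘ₗ ι) =
          (Ext.mk₀ (surjSES π).f).comp (homExt0 (Fin b → R) K ψ₂) (zero_add 0) := by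
        rw [homExt0_apply, homExt0_apply, Ext.mk₀_comp_mk₀]
        rfl
      rw [h1]
      exact hS.extClass_comp_assoc _

variable [IsNoetherianRing R] [IsLocalRing R]
  {E : Type u} [AddCommGroup E] [Module R E] {f : ResidueField R →ₗ[R] E}

section Main

variable (n : ℕ) (hn : ringKrullDim R = n) (hd : LocCoh.depth R R = n)
  (hf : IsInjectiveHull f) (K : Type u) [AddCommGroup K] [Module R K] [Module.Finite R K]
  (eK : (K →ₗ[R] E) ≃ₗ[R] H (maximalIdeal R) n R)

include hn hd hf eK

theorem subsingleton_ext_succ_canon (M : Type u) [AddCommGroup M] [Module R M]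
    [Module.Finite R M] :
    Subsingleton (Ext (ModuleCat.of R M) (ModuleCat.of R K) (n + 1)) := by
  obtain ⟨b, π, hπ⟩ := Module.Finite.exists_fin' R M
  have hS := surjSES_shortExact π hπ
  haveI : Projective (ModuleCat.of R (Fin b → R)) :=
    (IsProjective.iff_projective (Fin b → R)).mp inferInstance
  rcases Nat.eq_zero_or_pos n with rfl | hpos
  · -- `n = 0`
    obtain ⟨q, hqs, hex⟩ := exists_surjective_exact_ext_one M K b π hπ
    have hβ : Function.Injective (LinearMap.lcomp R E q) := lcomp_injective_of_surjective q hqs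
    have hβr := range_lcomp_eq_ker (E := E) _ q hqs hex
    have hcd : ∀ N : ModuleCat.{u} R,
        Subsingleton ((localCohomology (maximalIdeal R) (0 + 1)).obj N) := fun N =>
      cdLE_of_ringKrullDim_le R (maximalIdeal R) 0 hn.le N (0 + 1) (by omega)
    have hF := rightExact_localCohomology (maximalIdeal R) 0 hcd
    have hG := rightExact_ddFunctor K E hf.isInjective
    let c : H (maximalIdeal R) 0 R ≃ₗ[R] ((R →ₗ[R] K) →ₗ[R] E) :=
      eK.symm ≪≫ₗ (LinearEquiv.congrLeft E R (LinearMap.ringLmapEquivSelf R R K)).symm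
    let eN : H (maximalIdeal R) 0 (LinearMap.ker π) ≃ₗ[R]
        ((LinearMap.ker π →ₗ[R] K) →ₗ[R] E) :=
      natEquiv hF hG c (ModuleCat.of R (LinearMap.ker π))
    let eP : H (maximalIdeal R) 0 (Fin b → R) ≃ₗ[R] (((Fin b → R) →ₗ[R] K) →ₗ[R] E) :=
      natEquiv hF hG c (ModuleCat.of R (Fin b → R))
    have hnat : ∀ x : H (maximalIdeal R) 0 (LinearMap.ker π),
        LinearMap.lcomp R E (LinearMap.lcomp R K (LinearMap.ker π).subtype) (eN x) =
          eP (((localCohomology (maximalIdeal R) 0).map (surjSES π).f).hom x) :=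
      fun x => natEquiv_naturality hF hG c (surjSES π).f x
    have hinj := map_f_injective_zero (maximalIdeal R) hS
    have hdual : Subsingleton (Ext (ModuleCat.of R M) (ModuleCat.of R K) 1 →ₗ[R] E) := by
      have key : ∀ φ : Ext (ModuleCat.of R M) (ModuleCat.of R K) 1 →ₗ[R] E, φ = 0 := by
        intro φ
        apply hβ
        rw [map_zero]
        have hmem : LinearMap.lcomp R E q φ ∈ LinearMap.range (LinearMap.lcomp R E q) := ⟨φ, rfl⟩
        rw [hβr, LinearMap.mem_ker] at hmem
        have h1 := hnat (eN.symm (LinearMap.lcomp R E q φ))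
        rw [LinearEquiv.apply_symm_apply, hmem] at h1
        have h2 : ((localCohomology (maximalIdeal R) 0).map (surjSES π).f).hom
            (eN.symm (LinearMap.lcomp R E q φ)) = 0 := by
          apply eP.injective
          rw [← h1, map_zero]
        have h3 : eN.symm (LinearMap.lcomp R E q φ) = 0 := hinj (by rw [h2, map_zero])
        have h4 := congrArg eN h3
        rwa [LinearEquiv.apply_symm_apply, map_zero] at h4
      exact ⟨fun a b => (key a).trans (key b).symm⟩
    exact subsingleton_of_subsingleton_dual hf _ hdual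
  · -- `n ≥ 1`
    have hvan := hvan_of_depth n hd
    have hP0 : Subsingleton (H (maximalIdeal R) 0 (Fin b → R)) :=
      subsingleton_obj_free (localCohomology (maximalIdeal R) 0)
        (localCohomology_map_add _ _) (localCohomology_map_smul _ _) b (hvan 0 hpos)
    have hinj := map_f_injective_zero (maximalIdeal R) hS
    haveI hN0 : Subsingleton (H (maximalIdeal R) 0 (LinearMap.ker π)) :=
      ⟨fun a b => hinj (Subsingleton.elim _ _)⟩
    obtain ⟨e⟩ := LDual.main n hn hvan K E hf.isInjective eK n 0 (by omega) (LinearMap.ker π)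
    haveI hNn : Subsingleton (Ext (ModuleCat.of R (LinearMap.ker π)) (ModuleCat.of R K) n) :=
      subsingleton_of_subsingleton_dual hf _ e.symm.toEquiv.subsingleton
    refine ⟨fun x y => ?_⟩
    have key : ∀ x₃ : Ext (ModuleCat.of R M) (ModuleCat.of R K) (n + 1), x₃ = 0 := by
      intro x₃
      have h0 : (Ext.mk₀ (surjSES π).g).comp x₃ (zero_add (n + 1)) = 0 :=
        Ext.eq_zero_of_projective _
      obtain ⟨x₁, hx₁⟩ := Ext.contravariant_sequence_exact₃ hS (ModuleCat.of R K) x₃ h0
        (show 1 + n = n + 1 by omega)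
      rw [← hx₁, Subsingleton.elim x₁ 0, Ext.comp_zero]
    rw [key x, key y]

theorem hasInjectiveDimensionLT_canon : HasInjectiveDimensionLT (ModuleCat.of R K) (n + 1) := by
  apply Groth.Agent.Lib.helper9.ExtCyclic.hasInjectiveDimensionLT_of_ext_cyclic
  intro I
  exact subsingleton_ext_succ_canon n hn hd hf K eK (R ⧸ I)

end Main

end Groth.Agent.H8.Canon
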