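import Mathlib
import Groth.Prelude.Def_Wider
import Groth.Agent.Lib.helper8.CanonE
import Groth.Agent.Lib.helper8.CanonC
import Groth.Agent.Lib.helper21.Bass

/-!
# Canonical modules, part F (helper8): `Ext^1(K, K) = 0` and reduction of endomorphisms modulo a
regular element.
-/

universe u

set_option linter.unusedSectionVars false

namespace Groth.Agent.H8.Canon

open CategoryTheory Abelian LocCoh InjHull IsLocalRing Groth.Agent.H21.LC Groth.Agent.H8.NonVan
open Groth.Agent.H8.Watts Groth.Agent.H8.LDual Groth.Agent.H8.CdDim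
open Groth.Agent.Lib.helper9.Depth
open Pointwise

variable {R : Type u} [CommRing R] [IsNoetherianRing R] [IsLocalRing R]
  {E : Type u} [AddCommGroup E] [Module R E] {f : ResidueField R →ₗ[R] E}

section Main

variable (n : ℕ) (hn : ringKrullDim R = n) (hd : LocCoh.depth R R = n)
  (hf : IsInjectiveHull f) (K : Type u) [AddCommGroup K] [Module R K] [Module.Finite R K]
  (eK : (K →ₗ[R] E) ≃ₗ[R] H (maximalIdeal R) n R)

include hn hd hf eK

/-- `Ext^i(K, K) = 0` for `0 < i ≤ n`. -/
theorem subsingleton_ext_self_canon (i : ℕ) (hi0 : 0 < i) (hi : i ≤ n) :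
    Subsingleton (Ext (ModuleCat.of R K) (ModuleCat.of R K) i) := by
  haveI := nontrivial_canon n hn hd hf K eK
  obtain ⟨e⟩ := LDual.main n hn (hvan_of_depth n hd) K E hf.isInjective eK i (n - i) (by omega) K
  have hIM := maximalIdeal_smul_top_ne_top (R := R) K
  haveI : Subsingleton (H (maximalIdeal R) (n - i) K) := by
    apply subsingleton_of_lt_depth (maximalIdeal R) K hIM (n - i)
    have hdK : idealDepth (maximalIdeal R) K = n := depth_canon n hn hd hf K eK
    rw [hdK]
    have : n - i + 1 ≤ n := by omega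
    exact_mod_cast this
  exact subsingleton_of_subsingleton_dual hf _ e.symm.toEquiv.subsingleton

/-- `Ext^1(K, K) = 0`. -/
theorem subsingleton_ext_one_self_canon :
    Subsingleton (Ext (ModuleCat.of R K) (ModuleCat.of R K) 1) := by
  rcases Nat.eq_zero_or_pos n with h0 | hpos
  · subst h0
    exact subsingleton_ext_succ_canon 0 hn hd hf K eK K
  · exact subsingleton_ext_self_canon n hn hd hf K eK 1 (by omega) (by omega)

/-- reduction of endomorphisms of the canonical module modulo a regular element. -/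
theorem endo_reduction (a : R) (ha : a ∈ maximalIdeal R) (hreg : IsSMulRegular R a) :
    (∀ ψ : (K ⧸ (a • (⊤ : Submodule R K))) →ₗ[R] (K ⧸ (a • (⊤ : Submodule R K))),
      ∃ g : K →ₗ[R] K, ∀ x : K, ψ (Submodule.Quotient.mk x) = Submodule.Quotient.mk (g x)) ∧
    (∀ g : K →ₗ[R] K, (∀ x : K, g x ∈ a • (⊤ : Submodule R K)) ↔
      ∃ g' : K →ₗ[R] K, g = a • g') := by
  -- `a` is `K`-regular
  have hnzd : a ∈ nonZeroDivisors R := by
    rw [← isRegular_iff_mem_nonZeroDivisors]
    refine ⟨hreg, ?_⟩
    intro x y h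
    apply hreg
    show a * x = a * y
    have h' : x * a = y * a := h
    rw [mul_comm a x, mul_comm a y, h']
  have hdim1 := ringKrullDim_quotient_succ_le_of_nonZeroDivisor hnzd
  rw [hn] at hdim1
  have hdim : ringKrullDim (R ⧸ Ideal.span {a}) < n := by
    generalize ringKrullDim (R ⧸ Ideal.span {a}) = x at hdim1 ⊢
    induction x with
    | bot => exact WithBot.bot_lt_coe _
    | coe x =>
      induction x with
      | top =>
        exfalso
        have : ((⊤ : ℕ∞) : WithBot ℕ∞) + 1 = ((⊤ : ℕ∞) : WithBot ℕ∞) := rfl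
        rw [this] at hdim1
        have h2 : (⊤ : ℕ∞) ≤ (n : ℕ∞) := by exact_mod_cast hdim1
        exact absurd h2 (by simp)
      | coe x =>
        have h2 : x + 1 ≤ n := by exact_mod_cast hdim1
        have h3 : x < n := by omega
        exact_mod_cast h3
  have hKreg : IsSMulRegular K a := isSMulRegular_canon_of_dim_lt n hn hf K eK a hdim
  constructor
  · intro ψ
    obtain ⟨w, hS⟩ := Groth.Agent.H21.Bass.shortExact_smul K a hKreg
    haveI := subsingleton_ext_one_self_canon n hn hd hf K eK
    set x₃ : Ext (ModuleCat.of R K) (ModuleCat.of R (K ⧸ (a • (⊤ : Submodule R K)))) 0 :=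
      Ext.mk₀ (ModuleCat.ofHom (ψ ∘ₗ Submodule.mkQ (a • (⊤ : Submodule R K)))) with hx₃
    have h0 : x₃.comp hS.extClass (show 0 + 1 = 1 by omega) = 0 := Subsingleton.elim _ _
    obtain ⟨x₂, hx₂⟩ := Ext.covariant_sequence_exact₃ (ModuleCat.of R K) hS x₃
      (show 0 + 1 = 1 by omega) h0
    obtain ⟨g, rfl⟩ := (Ext.mk₀_bijective _ _).2 x₂
    rw [hx₃, Ext.mk₀_comp_mk₀] at hx₂
    have h1 := (Ext.mk₀_bijective _ _).1 hx₂
    refine ⟨g.hom, fun x => ?_⟩
    have h2 := congrArg (fun φ => φ.hom x) h1
    exact h2.symm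
  · intro g
    constructor
    · intro hg
      have hrange : ∀ x, g x ∈ LinearMap.range (a • (LinearMap.id : K →ₗ[R] K)) := by
        intro x
        obtain ⟨y, -, hy⟩ := (Submodule.mem_smul_pointwise_iff_exists _ _ _).mp (hg x)
        exact ⟨y, hy⟩
      let e : K ≃ₗ[R] LinearMap.range (a • (LinearMap.id : K →ₗ[R] K)) :=
        LinearEquiv.ofInjective (a • (LinearMap.id : K →ₗ[R] K)) hKreg
      refine ⟨e.symm.toLinearMap ∘ₗ g.codRestrict _ hrange, ?_⟩
      refine LinearMap.ext fun x => ?_
      have h1 : (e (e.symm (g.codRestrict _ hrange x)) : K) = g x := by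
        rw [LinearEquiv.apply_symm_apply]
        rfl
      rw [← h1]
      rfl
    · rintro ⟨g', rfl⟩ x
      exact Submodule.smul_mem_pointwise_smul _ _ _ Submodule.mem_top

end Main

end Groth.Agent.H8.Canon
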