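import Mathlib
import Groth.Prelude.Def_Wider
import Groth.Agent.Lib.helper8.CanonF

/-!
# Canonical modules, part G (helper8): canonical modules of Cohen–Macaulay modules and regular
elements.

`N` a Cohen–Macaulay module of dimension `d` and `K'` a module with `Hom(K', E) ≅ H^d_m(N)`: an
element `a ∈ m` is `N`-regular iff it is `K'`-regular, and then `Hom(K'/aK', E) ≅ H^{d-1}_m(N/aN)`.
-/

universe u

set_option linter.unusedSectionVars false

namespace Groth.Agent.H8.Canon

open CategoryTheory Abelian LocCoh InjHull IsLocalRing Groth.Agent.H21.LC Groth.Agent.H8.NonVan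
open Groth.Agent.H8.Watts Groth.Agent.H8.LDual Groth.Agent.H8.CdDim
open Groth.Agent.Lib.helper9.Depth
open Pointwise

variable {R : Type u} [CommRing R]

/-- variant of `subsingleton_H_quot_of_smul_surjective` with the vanishing hypothesis only on the
range. -/
theorem subsingleton_H_quot_of_smul_surjective' (I : Ideal R) (M : Type u) [AddCommGroup M]
    [Module R M] (a : R) (d : ℕ)
    (hR : Subsingleton ((localCohomology I (d + 1)).obj
      (ModuleCat.of R (LinearMap.range (a • (LinearMap.id : M →ₗ[R] M))))))
    (hs : Function.Surjective (fun x : H I d M => a • x)) :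
    Subsingleton ((localCohomology I d).obj
      (ModuleCat.of R (M ⧸ LinearMap.range (a • (LinearMap.id : M →ₗ[R] M))))) := by
  set e : M →ₗ[R] M := a • LinearMap.id with he
  have hS2 := rangeSES_shortExact e
  have hcomp : ModuleCat.ofHom e = a • 𝟙 (ModuleCat.of R M) := by
    refine ModuleCat.hom_ext (LinearMap.ext fun x => ?_)
    rfl
  have s2 : Function.Surjective ((localCohomology I d).map (rangeSES e).f).hom := by
    intro y
    obtain ⟨w, hw⟩ := hs y
    refine ⟨((localCohomology I d).map (kerSES e).g).hom w, ?_⟩
    have hw' : a • w = y := hw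
    rw [← hw', ← map_smul_id I d (ModuleCat.of R M) a w, ← hcomp, ofHom_eq_comp e,
      CategoryTheory.Functor.map_comp]
    rfl
  have s3 : Function.Surjective ((localCohomology I d).map (rangeSES e).g).hom := by
    intro y
    haveI : Subsingleton ((localCohomology I (d + 1)).obj (rangeSES e).X₁) := hR
    exact ((exact₃ I hS2 d) y).1 (Subsingleton.elim _ _)
  have key : ∀ y : (localCohomology I d).obj (rangeSES e).X₃, y = 0 := by
    intro y
    obtain ⟨z, rfl⟩ := s3 y
    obtain ⟨w, rfl⟩ := s2 z
    exact ((exact₂ I hS2 d) _).2 ⟨w, rfl⟩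
  refine ⟨fun a b => ?_⟩
  exact (key a).trans (key b).symm

theorem range_smul_id_eq (M : Type u) [AddCommGroup M] [Module R M] (a : R) :
    LinearMap.range (a • (LinearMap.id : M →ₗ[R] M)) = a • (⊤ : Submodule R M) := by
  ext x
  rw [Submodule.mem_smul_pointwise_iff_exists]
  constructor
  · rintro ⟨y, rfl⟩
    exact ⟨y, Submodule.mem_top, rfl⟩
  · rintro ⟨y, -, rfl⟩
    exact ⟨y, rfl⟩

variable [IsNoetherianRing R] [IsLocalRing R]
  {E : Type u} [AddCommGroup E] [Module R E] {f : ResidueField R →ₗ[R] E}

section Step

variable (hf : IsInjectiveHull f) (N K' : Type u) [AddCommGroup N] [Module R N]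
  [Module.Finite R N] [Nontrivial N] [AddCommGroup K'] [Module R K'] (d : ℕ)
  (hdim : Module.supportDim R N = d) (hdepth : LocCoh.depth R N = d)
  (eK' : (K' →ₗ[R] E) ≃ₗ[R] H (maximalIdeal R) d N) (a : R) (ha : a ∈ maximalIdeal R)

include hf hdim eK' in
/-- `a` is regular on `K'` iff `dim N/aN < dim N`. -/
theorem isSMulRegular_canonMod_iff_dim :
    IsSMulRegular K' a ↔ Module.supportDim R (QuotSMulTop a N) < d := by
  set e : N →ₗ[R] N := a • LinearMap.id with he
  have hq : Module.supportDim R (N ⧸ LinearMap.range e) =
      Module.supportDim R (QuotSMulTop a N) :=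
    Module.supportDim_eq_of_equiv (Submodule.quotEquivOfEq _ _ (range_smul_id_eq N a))
  have hsub : ∀ P : Submodule R N, Subsingleton (H (maximalIdeal R) (d + 1) P) := by
    intro P
    refine subsingleton_H_of_supportDim_lt (maximalIdeal R) P (d + 1) ?_
    refine lt_of_le_of_lt (Module.supportDim_le_of_injective P.subtype Subtype.val_injective) ?_
    rw [hdim]
    exact_mod_cast Nat.lt_succ_self d
  have hsurj_iff : IsSMulRegular K' a ↔
      Function.Surjective (fun x : H (maximalIdeal R) d N => a • x) := by
    constructor
    · intro hreg x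
      obtain ⟨g, hg⟩ := surjective_dual_of_isSMulRegular hf.isInjective K' a hreg (eK'.symm x)
      refine ⟨eK' g, ?_⟩
      show a • eK' g = x
      have hg' : a • g = eK'.symm x := hg
      rw [← map_smul, hg', LinearEquiv.apply_symm_apply]
    · intro hs
      refine isSMulRegular_of_surjective_dual hf K' a ?_
      intro g
      obtain ⟨x, hx⟩ := hs (eK' g)
      refine ⟨eK'.symm x, ?_⟩
      show a • eK'.symm x = g
      have hx' : a • x = eK' g := hx
      rw [← map_smul, hx', LinearEquiv.symm_apply_apply]
  rw [hsurj_iff, ← hq]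
  constructor
  · intro hs
    have h1 := subsingleton_H_quot_of_smul_surjective' (maximalIdeal R) N a d
      (hsub (LinearMap.range e)) hs
    have hle : Module.supportDim R (N ⧸ LinearMap.range e) ≤ d := by
      rw [← hdim]
      exact Module.supportDim_le_of_surjective _ (Submodule.mkQ_surjective _)
    refine lt_of_le_of_ne hle ?_
    intro heq
    have := nontrivial_H_supportDim d (N ⧸ LinearMap.range e) heq
    exact not_subsingleton _ h1
  · intro hlt
    exact smul_surjective_H' (maximalIdeal R) N a d (hsub (LinearMap.ker e))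
      (subsingleton_H_of_supportDim_lt (maximalIdeal R) _ d hlt)

include hdim hdepth ha in
/-- for a Cohen–Macaulay module, `a ∈ m` is regular iff `dim N/aN < dim N`. -/
theorem isSMulRegular_cm_iff_dim :
    IsSMulRegular N a ↔ Module.supportDim R (QuotSMulTop a N) < d := by
  constructor
  · intro hreg
    have h1 := Module.supportDim_quotSMulTop_succ_eq_supportDim hreg ha
    rw [hdim] at h1
    generalize Module.supportDim R (QuotSMulTop a N) = x at h1 ⊢
    induction x with
    | bot => exact WithBot.bot_lt_coe _
    | coe x =>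
      induction x with
      | top =>
        exfalso
        have : ((⊤ : ℕ∞) : WithBot ℕ∞) + 1 = ((⊤ : ℕ∞) : WithBot ℕ∞) := rfl
        rw [this] at h1
        have h2 : (⊤ : ℕ∞) = (d : ℕ∞) := by exact_mod_cast h1
        exact absurd h2 (by simp)
      | coe x =>
        have h2 : x + 1 = d := by exact_mod_cast h1
        have h3 : x < d := by omega
        exact_mod_cast h3
  · intro hlt
    have hCM : IsCohenMacaulayModule R N := by
      unfold IsCohenMacaulayModule
      rw [hdim, hdepth]
      rfl
    have hmem : a ∈ {r : R | IsSMulRegular N r} := by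
      by_contra hnot
      have h1 : a ∈ {r : R | IsSMulRegular N r}ᶜ := hnot
      rw [← biUnion_associatedPrimes_eq_compl_regular R N] at h1
      obtain ⟨p, hp, hap⟩ := Set.mem_iUnion₂.mp h1
      have hpdim := ringKrullDim_quotient_eq_supportDim_of_isCohenMacaulayModule hCM hp
      haveI hpprime : p.IsPrime := (show IsAssociatedPrime p N from hp).isPrime
      have hpsupp : (⟨p, hpprime⟩ : PrimeSpectrum R) ∈ Module.support R (QuotSMulTop a N) := by
        rw [Module.support_quotSMulTop]
        refine ⟨mem_support_of_mem_associatedPrimes hp, ?_⟩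
        rw [PrimeSpectrum.mem_zeroLocus, Set.singleton_subset_iff]
        exact hap
      have h2 := ringKrullDim_quotient_le_supportDim hpsupp
      have h2' : ringKrullDim (R ⧸ p) ≤ Module.supportDim R (QuotSMulTop a N) := h2
      rw [hpdim, hdim] at h2'
      exact absurd (lt_of_le_of_lt h2' hlt) (lt_irrefl _)
    exact hmem

include hf hdim hdepth eK' ha in
/-- regularity on `N` and on `K'` agree. -/
theorem isSMulRegular_cm_iff_canonMod : IsSMulRegular N a ↔ IsSMulRegular K' a :=
  (isSMulRegular_cm_iff_dim N d hdim hdepth a ha).trans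
    (isSMulRegular_canonMod_iff_dim hf N K' d hdim eK' a).symm

end Step

end Groth.Agent.H8.Canon
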