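import Mathlib
import Groth.Prelude.Def_Wider
import Groth.Agent.Lib.helper8.CanonG

/-!
# Canonical modules, part H (helper8): the canonical module of `N/aN`, and regular sequences.
-/

universe u

set_option linter.unusedSectionVars false

namespace Groth.Agent.H8.Canon

open CategoryTheory Abelian LocCoh InjHull IsLocalRing Groth.Agent.H21.LC Groth.Agent.H8.NonVan
open Groth.Agent.H8.Watts Groth.Agent.H8.LDual Groth.Agent.H8.CdDim
open Groth.Agent.Lib.helper9.Depth RingTheory.Sequence
open Pointwise

variable {R : Type u} [CommRing R] [IsNoetherianRing R] [IsLocalRing R]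
  {E : Type u} [AddCommGroup E] [Module R E] {f : ResidueField R →ₗ[R] E}

/-- local cohomology of isomorphic modules. -/
noncomputable def HEquiv (I : Ideal R) (i : ℕ) {M M' : Type u} [AddCommGroup M] [Module R M]
    [AddCommGroup M'] [Module R M'] (e : M ≃ₗ[R] M') : H I i M ≃ₗ[R] H I i M' :=
  ((localCohomology I i).mapIso e.toModuleIso).toLinearEquiv

section Step

variable (N K' : Type u) [AddCommGroup N] [Module R N]
  [Module.Finite R N] [Nontrivial N] [AddCommGroup K'] [Module R K'] (d : ℕ)
  (hdepth : LocCoh.depth R N = (d + 1 : ℕ))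
  (eK' : (K' →ₗ[R] E) ≃ₗ[R] H (maximalIdeal R) (d + 1) N) (a : R)
  (hN : IsSMulRegular N a)

include hdepth eK' hN in
/-- the canonical module of `N/aN`. -/
theorem nonempty_canonMod_quotSMulTop :
    Nonempty ((QuotSMulTop a K' →ₗ[R] E) ≃ₗ[R] H (maximalIdeal R) d (QuotSMulTop a N)) := by
  obtain ⟨w, hS⟩ := Groth.Agent.H21.Bass.shortExact_smul N a hN
  have hIM := maximalIdeal_smul_top_ne_top (R := R) N
  -- `H^d(N) = 0`
  haveI hvan : Subsingleton (H (maximalIdeal R) d N) := by
    apply subsingleton_of_lt_depth (maximalIdeal R) N hIM d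
    have hdN : idealDepth (maximalIdeal R) N = (d + 1 : ℕ) := hdepth
    rw [hdN]
  have hβ : Function.Injective (δ (maximalIdeal R) hS d) := by
    rw [← LinearMap.ker_eq_bot, LinearMap.ker_eq_bot']
    intro x hx
    obtain ⟨y, rfl⟩ := (exact₃ (maximalIdeal R) hS d x).1 hx
    have hy : y = 0 := Subsingleton.elim (α := H (maximalIdeal R) d N) y 0
    rw [hy, map_zero]
  have hβr : ∀ y : H (maximalIdeal R) (d + 1) N,
      y ∈ LinearMap.range (δ (maximalIdeal R) hS d) ↔ a • y = 0 := by
    intro y
    have h1 := exact₁ (maximalIdeal R) hS d y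
    have h2 : ((localCohomology (maximalIdeal R) (d + 1)).map
        (a • 𝟙 (ModuleCat.of R N))).hom y = a • y := map_smul_id _ _ _ _ _
    rw [← h2]
    exact h1.symm
  set α : (QuotSMulTop a K' →ₗ[R] E) →ₗ[R] (K' →ₗ[R] E) :=
    LinearMap.lcomp R E (Submodule.mkQ (a • (⊤ : Submodule R K'))) with hα
  have hαi : Function.Injective α :=
    lcomp_injective_of_surjective _ (Submodule.mkQ_surjective _)
  have hαr : ∀ g : K' →ₗ[R] E, g ∈ LinearMap.range α ↔ a • g = 0 := by
    intro g
    constructor
    · rintro ⟨gb, rfl⟩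
      refine LinearMap.ext fun x => ?_
      show a • gb (Submodule.Quotient.mk x) = 0
      rw [← map_smul, ← Submodule.Quotient.mk_smul]
      have : (Submodule.Quotient.mk (a • x) : QuotSMulTop a K') = 0 := by
        rw [Submodule.Quotient.mk_eq_zero]
        exact (Submodule.mem_smul_pointwise_iff_exists _ _ _).mpr ⟨x, Submodule.mem_top, rfl⟩
      rw [this, map_zero]
    · intro hg
      have hle : a • (⊤ : Submodule R K') ≤ LinearMap.ker g := by
        intro x hx
        obtain ⟨z, -, rfl⟩ := (Submodule.mem_smul_pointwise_iff_exists _ _ _).mp hx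
        rw [LinearMap.mem_ker, map_smul]
        exact LinearMap.congr_fun hg z
      refine ⟨Submodule.liftQ _ g hle, ?_⟩
      refine LinearMap.ext fun x => ?_
      rfl
  refine nonempty_equiv_of_map_range α (δ (maximalIdeal R) hS d) hαi hβ eK' ?_
  ext y
  constructor
  · rintro ⟨g, hg, rfl⟩
    rw [hβr]
    have := (hαr g).mp hg
    show a • eK' g = 0
    rw [← map_smul, this, map_zero]
  · intro hy
    rw [hβr] at hy
    refine ⟨eK'.symm y, ?_, ?_⟩
    · show eK'.symm y ∈ LinearMap.range α
      rw [hαr, ← map_smul, hy, map_zero]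
    · show eK' (eK'.symm y) = y
      exact LinearEquiv.apply_symm_apply _ _

end Step

/-- regular sequences on a Cohen–Macaulay module and on its canonical module, and the canonical
module of the quotient. -/
theorem regular_iff_and_quotient (hf : IsInjectiveHull f) :
    ∀ (as : List R) (N K' : Type u) [AddCommGroup N] [Module R N] [Module.Finite R N]
      [Nontrivial N] [AddCommGroup K'] [Module R K'] (d : ℕ)
      (_ : Module.supportDim R N = d) (_ : LocCoh.depth R N = d)
      (_ : (K' →ₗ[R] E) ≃ₗ[R] H (maximalIdeal R) d N) (_ : ∀ a ∈ as, a ∈ maximalIdeal R),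
      (IsWeaklyRegular N as ↔ IsWeaklyRegular K' as) ∧
      (IsWeaklyRegular N as →
        Nonempty (((K' ⧸ (Ideal.ofList as • (⊤ : Submodule R K'))) →ₗ[R] E) ≃ₗ[R]
          H (maximalIdeal R) (d - as.length) (N ⧸ (Ideal.ofList as • (⊤ : Submodule R N))))) := by
  intro as
  induction as with
  | nil =>
    intro N K' _ _ _ _ _ _ d hdim hdepth eK' has
    refine ⟨⟨fun _ => IsWeaklyRegular.nil R K', fun _ => IsWeaklyRegular.nil R N⟩, fun _ => ?_⟩
    have hK : (Ideal.ofList ([] : List R) • (⊤ : Submodule R K')) = ⊥ := by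
      rw [Ideal.ofList_nil, Submodule.bot_smul]
    have hN : (Ideal.ofList ([] : List R) • (⊤ : Submodule R N)) = ⊥ := by
      rw [Ideal.ofList_nil, Submodule.bot_smul]
    have e1 : (K' ⧸ (Ideal.ofList ([] : List R) • (⊤ : Submodule R K'))) ≃ₗ[R] K' :=
      Submodule.quotEquivOfEqBot _ hK
    have e2 : (N ⧸ (Ideal.ofList ([] : List R) • (⊤ : Submodule R N))) ≃ₗ[R] N :=
      Submodule.quotEquivOfEqBot _ hN
    exact ⟨((LinearEquiv.congrLeft E R e1).trans eK').trans
      (HEquiv (maximalIdeal R) (d - 0) e2.symm)⟩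
  | cons a as ih =>
    intro N K' _ _ _ _ _ _ d hdim hdepth eK' has
    have ha : a ∈ maximalIdeal R := has a (List.mem_cons_self)
    have has' : ∀ b ∈ as, b ∈ maximalIdeal R := fun b hb => has b (List.mem_cons_of_mem _ hb)
    have hiff := isSMulRegular_cm_iff_canonMod hf N K' d hdim hdepth eK' a ha
    -- data after dividing by a regular element
    have key : IsSMulRegular N a →
        ∃ d' : ℕ, d = d' + 1 ∧ Module.supportDim R (QuotSMulTop a N) = d' ∧
          LocCoh.depth R (QuotSMulTop a N) = d' ∧
          Nonempty ((QuotSMulTop a K' →ₗ[R] E) ≃ₗ[R]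
            H (maximalIdeal R) d' (QuotSMulTop a N)) := by
      intro hreg
      haveI := nontrivial_quotSMulTop_of_mem_maximalIdeal N ha
      have hIM := maximalIdeal_smul_top_ne_top (R := R) N
      have h1 := idealDepth_quotSMulTop_add_one hIM ha hreg
      have hdN : idealDepth (maximalIdeal R) N = d := hdepth
      rw [hdN] at h1
      obtain ⟨d'', hd''⟩ := exists_nat_depth (R := R) (QuotSMulTop a N)
      have hd''' : idealDepth (maximalIdeal R) (QuotSMulTop a N) = d'' := hd''
      rw [hd'''] at h1
      have h2 : d'' + 1 = d := by exact_mod_cast h1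
      refine ⟨d'', h2.symm, ?_, hd'', ?_⟩
      · have h3 := Module.supportDim_quotSMulTop_succ_eq_supportDim hreg ha
        rw [hdim, ← h2] at h3
        generalize Module.supportDim R (QuotSMulTop a N) = x at h3 ⊢
        induction x with
        | bot =>
          rw [WithBot.bot_add] at h3
          exact absurd h3 WithBot.bot_ne_coe
        | coe x =>
          induction x with
          | top =>
            exfalso
            have : ((⊤ : ℕ∞) : WithBot ℕ∞) + 1 = ((⊤ : ℕ∞) : WithBot ℕ∞) := rfl
            rw [this] at h3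
            have h4 : (⊤ : ℕ∞) = ((d'' + 1 : ℕ) : ℕ∞) := by exact_mod_cast h3
            exact absurd h4 (ENat.top_ne_coe _)
          | coe x =>
            have h4 : x + 1 = d'' + 1 := by exact_mod_cast h3
            have h5 : x = d'' := by omega
            rw [h5]
            rfl
      · subst h2
        exact nonempty_canonMod_quotSMulTop N K' d'' hdepth eK' a hreg
    rw [isWeaklyRegular_cons_iff, isWeaklyRegular_cons_iff]
    refine ⟨⟨?_, ?_⟩, ?_⟩
    · rintro ⟨hNa, hNas⟩
      obtain ⟨d', rfl, hdim', hdepth', ⟨eK''⟩⟩ := key hNa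
      haveI := nontrivial_quotSMulTop_of_mem_maximalIdeal N ha
      exact ⟨hiff.mp hNa, (ih (QuotSMulTop a N) (QuotSMulTop a K') d' hdim' hdepth' eK'' has').1.mp
        hNas⟩
    · rintro ⟨hKa, hKas⟩
      have hNa := hiff.mpr hKa
      obtain ⟨d', rfl, hdim', hdepth', ⟨eK''⟩⟩ := key hNa
      haveI := nontrivial_quotSMulTop_of_mem_maximalIdeal N ha
      exact ⟨hNa, (ih (QuotSMulTop a N) (QuotSMulTop a K') d' hdim' hdepth' eK'' has').1.mpr
        hKas⟩
    · rintro ⟨hNa, hNas⟩
      obtain ⟨d', rfl, hdim', hdepth', ⟨eK''⟩⟩ := key hNa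
      haveI := nontrivial_quotSMulTop_of_mem_maximalIdeal N ha
      obtain ⟨e⟩ := (ih (QuotSMulTop a N) (QuotSMulTop a K') d' hdim' hdepth' eK'' has').2 hNas
      have hlen : d' + 1 - (a :: as).length = d' - as.length := by
        rw [List.length_cons, Nat.add_sub_add_right]
      rw [hlen]
      exact ⟨((LinearEquiv.congrLeft E R
        (Submodule.quotOfListConsSMulTopEquivQuotSMulTopInner K' a as)).trans e).trans
        (HEquiv (maximalIdeal R) (d' - as.length)
          (Submodule.quotOfListConsSMulTopEquivQuotSMulTopInner N a as).symm)⟩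

end Groth.Agent.H8.Canon
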