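import Mathlib
import Groth.Prelude.Def_Wider
import Groth.Agent.Lib.helper8.CanonH

/-!
# Canonical modules, part I (helper8): `R → End(K)` is bijective for a Cohen–Macaulay local ring.
-/

universe u

set_option linter.unusedSectionVars false

namespace Groth.Agent.H8.Canon

open CategoryTheory Abelian LocCoh InjHull IsLocalRing Groth.Agent.H21.LC Groth.Agent.H8.NonVan
open Groth.Agent.H8.Watts Groth.Agent.H8.LDual Groth.Agent.H8.CdDim
open Groth.Agent.H8.Matlis Groth.Agent.H8.LCArt
open Groth.Agent.Lib.helper9.Depth RingTheory.Sequence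
open Pointwise

variable {R : Type u} [CommRing R] [IsNoetherianRing R] [IsLocalRing R]
  {E : Type u} [AddCommGroup E] [Module R E] {f : ResidueField R →ₗ[R] E}

/-- a map with values in `a K'` is divisible by `a`, for `a` regular on `K'`. -/
theorem exists_eq_smul_of_forall_mem {K₀ K' : Type u} [AddCommGroup K₀] [Module R K₀]
    [AddCommGroup K'] [Module R K'] (a : R) (hK : IsSMulRegular K' a) (g : K₀ →ₗ[R] K')
    (hg : ∀ x, g x ∈ a • (⊤ : Submodule R K')) : ∃ g' : K₀ →ₗ[R] K', g = a • g' := by
  have hrange : ∀ x, g x ∈ LinearMap.range (a • (LinearMap.id : K' →ₗ[R] K')) := by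
    intro x
    obtain ⟨y, -, hy⟩ := (Submodule.mem_smul_pointwise_iff_exists _ _ _).mp (hg x)
    exact ⟨y, hy⟩
  let e : K' ≃ₗ[R] LinearMap.range (a • (LinearMap.id : K' →ₗ[R] K')) :=
    LinearEquiv.ofInjective (a • (LinearMap.id : K' →ₗ[R] K')) hK
  refine ⟨e.symm.toLinearMap ∘ₗ g.codRestrict _ hrange, ?_⟩
  refine LinearMap.ext fun x => ?_
  have h1 : (e (e.symm (g.codRestrict _ hrange x)) : K') = g x := by
    rw [LinearEquiv.apply_symm_apply]
    rfl
  rw [← h1]
  rfl

/-- the annihilator of `N` kills its canonical module. -/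
theorem ann_le_ann_canonMod (hf : IsInjectiveHull f) (N K' : Type u) [AddCommGroup N] [Module R N]
    [AddCommGroup K'] [Module R K'] (d : ℕ)
    (eK' : (K' →ₗ[R] E) ≃ₗ[R] H (maximalIdeal R) d N) (r : R) (hr : ∀ x : N, r • x = 0) :
    ∀ k : K', r • k = 0 := by
  have h0 : r • 𝟙 (ModuleCat.of R N) = (0 : R) • 𝟙 (ModuleCat.of R N) := by
    ext x
    show r • x = (0 : R) • x
    rw [hr x, zero_smul]
  have h1 : ∀ y : H (maximalIdeal R) d N, r • y = 0 := by
    intro y
    have h2 : ((localCohomology (maximalIdeal R) d).map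
        (r • 𝟙 (ModuleCat.of R N))).hom y = r • y := map_smul_id _ _ _ _ _
    have h2' : ((localCohomology (maximalIdeal R) d).map
        ((0 : R) • 𝟙 (ModuleCat.of R N))).hom y = (0 : R) • y := map_smul_id _ _ _ _ _
    rw [← h2, h0, h2', zero_smul]
  have h3 : ∀ φ : K' →ₗ[R] E, r • φ = 0 := by
    intro φ
    apply eK'.injective
    rw [map_smul, map_zero]
    exact h1 _
  intro k
  by_contra hne
  obtain ⟨φ, hφ⟩ := Matlis.exists_hom_ne_zero f hf hne
  apply hφ
  rw [map_smul]
  exact LinearMap.congr_fun (h3 φ) k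

/-- the base case: dimension zero. -/
theorem endo_base (hf : IsInjectiveHull f) (N K' : Type u) [AddCommGroup N] [Module R N]
    [Module.Finite R N] [AddCommGroup K'] [Module R K'] (hdim : Module.supportDim R N = 0)
    (πN : R →ₗ[R] N) (hπ : Function.Surjective πN)
    (eK' : (K' →ₗ[R] E) ≃ₗ[R] H (maximalIdeal R) 0 N) :
    (∀ g : K' →ₗ[R] K', ∃ r : R, g = r • LinearMap.id) ∧
    (∀ r : R, (∀ k : K', r • k = 0) → ∀ x : N, r • x = 0) := by
  haveI : IsArtinian R N := isArtinian_of_supportDim_eq_zero N hdim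
  have hT := isPowerTorsion_of_isArtinian (R := R) N
  have htop : DRing.torsionSub (maximalIdeal R) N = ⊤ := by
    rw [eq_top_iff]
    intro y _
    exact hT y
  have e0 : H (maximalIdeal R) 0 N ≃ₗ[R] N :=
    (H0Equiv (maximalIdeal R) (ModuleCat.of R N)).trans (LinearEquiv.ofTop _ htop)
  let e : (K' →ₗ[R] E) ≃ₗ[R] N := eK'.trans e0
  constructor
  · intro g
    obtain ⟨r, hr⟩ := hπ (e ((e.symm (πN 1)) ∘ₗ g))
    refine ⟨r, ?_⟩
    have h2 : (e.symm (πN 1)) ∘ₗ g = r • e.symm (πN 1) := by
      apply e.injective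
      rw [← hr, map_smul, e.apply_symm_apply, ← map_smul, smul_eq_mul, mul_one]
    have key : ∀ φ : K' →ₗ[R] E, φ ∘ₗ g = r • φ := by
      intro φ
      obtain ⟨s, hs⟩ := hπ (e φ)
      have h1 : φ = s • e.symm (πN 1) := by
        rw [← map_smul, ← map_smul, smul_eq_mul, mul_one, hs, e.symm_apply_apply]
      rw [h1, LinearMap.smul_comp, h2, smul_comm]
    by_contra hne
    obtain ⟨k, hk⟩ : ∃ k, g k - r • k ≠ 0 := by
      by_contra hall
      push Not at hall
      apply hne
      ext k
      have := hall k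
      rw [sub_eq_zero] at this
      exact this
    obtain ⟨φ, hφ⟩ := Matlis.exists_hom_ne_zero f hf hk
    apply hφ
    rw [map_sub, map_smul, sub_eq_zero]
    exact LinearMap.congr_fun (key φ) k
  · intro r hr x
    have h1 : r • e.symm x = 0 := by
      ext k
      show r • (e.symm x) k = 0
      rw [← map_smul, hr, map_zero]
    have h2 := congrArg e h1
    rw [map_smul, e.apply_symm_apply, map_zero] at h2
    exact h2

/-- the inductive step. -/
theorem endo_step (N K' : Type u) [AddCommGroup N] [Module R N] [AddCommGroup K'] [Module R K']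
    [Module.Finite R K'] (πN : R →ₗ[R] N) (hπ : Function.Surjective πN) (a : R)
    (ha : a ∈ maximalIdeal R) (hK : IsSMulRegular K' a)
    (hJI : ∀ r : R, (∀ x : N, r • x = 0) → ∀ k : K', r • k = 0)
    (ih : (∀ g : QuotSMulTop a K' →ₗ[R] QuotSMulTop a K', ∃ r : R, g = r • LinearMap.id) ∧
      (∀ r : R, (∀ k : QuotSMulTop a K', r • k = 0) → ∀ x : QuotSMulTop a N, r • x = 0)) :
    (∀ g : K' →ₗ[R] K', ∃ r : R, g = r • LinearMap.id) ∧
    (∀ r : R, (∀ k : K', r • k = 0) → ∀ x : N, r • x = 0) := by
  have hjac : maximalIdeal R ≤ Ideal.jacobson ⊥ := by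
    rw [IsLocalRing.jacobson_eq_maximalIdeal ⊥ bot_ne_top]
  constructor
  · -- Nakayama on `End K'`
    set S : Submodule R (K' →ₗ[R] K') :=
      LinearMap.range (LinearMap.toSpanSingleton R (K' →ₗ[R] K') LinearMap.id) with hS
    have hfg : (⊤ : Submodule R (K' →ₗ[R] K')).FG := Module.finite_def.mp inferInstance
    have hle : (⊤ : Submodule R (K' →ₗ[R] K')) ≤ S ⊔ maximalIdeal R • ⊤ := by
      intro g _
      have hcomap : a • (⊤ : Submodule R K') ≤ Submodule.comap g (a • (⊤ : Submodule R K')) := by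
        intro x hx
        obtain ⟨y, -, rfl⟩ := (Submodule.mem_smul_pointwise_iff_exists _ _ _).mp hx
        rw [Submodule.mem_comap, map_smul]
        exact Submodule.smul_mem_pointwise_smul _ _ _ Submodule.mem_top
      obtain ⟨r, hr⟩ := ih.1 (Submodule.mapQ _ _ g hcomap)
      have hmem : ∀ x, (g - r • (LinearMap.id : K' →ₗ[R] K')) x ∈ a • (⊤ : Submodule R K') := by
        intro x
        have h1 := LinearMap.congr_fun hr (Submodule.Quotient.mk x)
        rw [Submodule.mapQ_apply] at h1
        have h2 : (Submodule.Quotient.mk (g x) : QuotSMulTop a K') =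
            Submodule.Quotient.mk (r • x) := h1
        rw [Submodule.Quotient.eq] at h2
        exact h2
      obtain ⟨g', hg'⟩ := exists_eq_smul_of_forall_mem a hK _ hmem
      have h3 : g = r • LinearMap.id + a • g' := by
        rw [← hg']
        abel
      rw [h3]
      refine Submodule.add_mem_sup ⟨r, ?_⟩ (Submodule.smul_mem_smul ha Submodule.mem_top)
      rfl
    have h4 := Submodule.le_of_le_smul_of_le_jacobson_bot hfg hjac hle
    intro g
    obtain ⟨r, hr⟩ := h4 (Submodule.mem_top (x := g))
    exact ⟨r, hr.symm⟩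
  · -- Nakayama on annihilators
    set I : Ideal R := Module.annihilator R K' with hI
    set J : Ideal R := Module.annihilator R N with hJ
    have hfg : (I : Submodule R R).FG := IsNoetherian.noetherian I
    have hle : I ≤ J ⊔ maximalIdeal R • I := by
      intro r hr
      have hrK : ∀ k : K', r • k = 0 := fun k => Module.mem_annihilator.mp hr k
      have h1 : ∀ k : QuotSMulTop a K', r • k = 0 := by
        intro k
        obtain ⟨k, rfl⟩ := Submodule.Quotient.mk_surjective _ k
        rw [← Submodule.Quotient.mk_smul, hrK, Submodule.Quotient.mk_zero]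
      have h2 := ih.2 r h1 (Submodule.Quotient.mk (πN 1))
      rw [← Submodule.Quotient.mk_smul, Submodule.Quotient.mk_eq_zero] at h2
      obtain ⟨y, -, hy⟩ := (Submodule.mem_smul_pointwise_iff_exists _ _ _).mp h2
      obtain ⟨s, rfl⟩ := hπ y
      have h3 : (r - a * s) • πN 1 = 0 := by
        rw [sub_smul, mul_smul, ← map_smul πN s, smul_eq_mul, mul_one, hy, sub_self]
      have h4 : r - a * s ∈ J := by
        rw [hJ, Module.mem_annihilator]
        intro x
        obtain ⟨t, rfl⟩ := hπ x
        have : πN t = t • πN 1 := by rw [← map_smul, smul_eq_mul, mul_one]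
        rw [this, smul_comm, h3, smul_zero]
      have h5 : s ∈ I := by
        rw [hI, Module.mem_annihilator]
        intro k
        apply hK
        show a • s • k = a • 0
        rw [smul_zero, ← mul_smul]
        have h6 := hJI _ (fun x => Module.mem_annihilator.mp h4 x) k
        rw [sub_smul, hrK, zero_sub, neg_eq_zero] at h6
        exact h6
      have h7 : r = (r - a * s) + a * s := by ring
      rw [h7]
      refine Submodule.add_mem_sup h4 ?_
      exact Submodule.smul_mem_smul ha h5
    have h8 : I ≤ J := Submodule.le_of_le_smul_of_le_jacobson_bot hfg hjac hle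
    intro r hr x
    have : r ∈ I := by
      rw [hI, Module.mem_annihilator]
      exact hr
    exact Module.mem_annihilator.mp (h8 this) x

/-- dimension, depth and canonical module of `N/aN`. -/
theorem quotient_data (N K' : Type u) [AddCommGroup N] [Module R N] [Module.Finite R N]
    [Nontrivial N] [AddCommGroup K'] [Module R K'] (d : ℕ)
    (hdim : Module.supportDim R N = (d + 1 : ℕ)) (hdepth : LocCoh.depth R N = (d + 1 : ℕ))
    (eK' : (K' →ₗ[R] E) ≃ₗ[R] H (maximalIdeal R) (d + 1) N) (a : R) (ha : a ∈ maximalIdeal R)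
    (hreg : IsSMulRegular N a) :
    Module.supportDim R (QuotSMulTop a N) = d ∧ LocCoh.depth R (QuotSMulTop a N) = d ∧
      Nonempty ((QuotSMulTop a K' →ₗ[R] E) ≃ₗ[R] H (maximalIdeal R) d (QuotSMulTop a N)) := by
  haveI := nontrivial_quotSMulTop_of_mem_maximalIdeal N ha
  have hIM := maximalIdeal_smul_top_ne_top (R := R) N
  have h1 := idealDepth_quotSMulTop_add_one hIM ha hreg
  have hdN : idealDepth (maximalIdeal R) N = (d + 1 : ℕ) := hdepth
  rw [hdN] at h1
  obtain ⟨d'', hd''⟩ := exists_nat_depth (R := R) (QuotSMulTop a N)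
  have hdq : idealDepth (maximalIdeal R) (QuotSMulTop a N) = d'' := hd''
  rw [hdq] at h1
  have h2 : d'' + 1 = d + 1 := by exact_mod_cast h1
  have h2' : d'' = d := by omega
  subst h2'
  refine ⟨?_, hd'', nonempty_canonMod_quotSMulTop N K' d'' hdepth eK' a hreg⟩
  have h3 := Module.supportDim_quotSMulTop_succ_eq_supportDim hreg ha
  rw [hdim] at h3
  generalize Module.supportDim R (QuotSMulTop a N) = x at h3 ⊢
  induction x with
  | bot =>
    rw [WithBot.bot_add] at h3
    exact absurd h3 WithBot.bot_ne_coe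
  | coe x =>
    induction x with
    | top =>
      exfalso
      have : ((⊤ : ℕ∞) : WithBot ℕ∞) + 1 = ((⊤ : ℕ∞) : WithBot ℕ∞) := rfl
      rw [this] at h3
      have h4 : (⊤ : ℕ∞) = ((d'' + 1 : ℕ) : ℕ∞) := by exact_mod_cast h3
      exact absurd h4 (ENat.top_ne_coe _)
    | coe x =>
      have h4 : x + 1 = d'' + 1 := by exact_mod_cast h3
      have h5 : x = d'' := by omega
      rw [h5]
      rfl

/-- endomorphisms of the canonical module of a cyclic Cohen–Macaulay module. -/
theorem endo_cm (hf : IsInjectiveHull f) :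
    ∀ (d : ℕ) (N K' : Type u) [AddCommGroup N] [Module R N] [Module.Finite R N]
      [Nontrivial N] [AddCommGroup K'] [Module R K'] [Module.Finite R K']
      (_ : Module.supportDim R N = d) (_ : LocCoh.depth R N = d)
      (_ : (K' →ₗ[R] E) ≃ₗ[R] H (maximalIdeal R) d N) (πN : R →ₗ[R] N)
      (_ : Function.Surjective πN),
      (∀ g : K' →ₗ[R] K', ∃ r : R, g = r • LinearMap.id) ∧
      (∀ r : R, (∀ k : K', r • k = 0) → ∀ x : N, r • x = 0) := by
  intro d
  induction d with
  | zero =>
    intro N K' _ _ _ _ _ _ _ hdim hdepth eK' πN hπ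
    exact endo_base hf N K' (by exact_mod_cast hdim) πN hπ eK'
  | succ d ih =>
    intro N K' _ _ _ _ _ _ _ hdim hdepth eK' πN hπ
    have hIM := maximalIdeal_smul_top_ne_top (R := R) N
    have hdN : idealDepth (maximalIdeal R) N = (d + 1 : ℕ) := hdepth
    obtain ⟨rs, hlen, hrs, hmem⟩ := (le_idealDepth_iff hIM 1).mp (by
      rw [hdN]
      exact_mod_cast Nat.le_add_left 1 d)
    obtain ⟨a, rfl⟩ := List.length_eq_one_iff.mp hlen
    have ha : a ∈ maximalIdeal R := hmem a (List.mem_singleton_self a)
    have hreg : IsSMulRegular N a := ((isWeaklyRegular_cons_iff N a []).mp hrs).1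
    have hK : IsSMulRegular K' a :=
      (isSMulRegular_cm_iff_canonMod hf N K' (d + 1) hdim hdepth eK' a ha).mp hreg
    obtain ⟨hdim', hdepth', ⟨eK''⟩⟩ := quotient_data N K' d hdim hdepth eK' a ha hreg
    haveI := nontrivial_quotSMulTop_of_mem_maximalIdeal N ha
    have hπ' : Function.Surjective ((Submodule.mkQ (a • (⊤ : Submodule R N))) ∘ₗ πN) :=
      (Submodule.mkQ_surjective _).comp hπ
    have ih' := ih (QuotSMulTop a N) (QuotSMulTop a K') hdim' hdepth' eK'' _ hπ'
    exact endo_step N K' πN hπ a ha hK (ann_le_ann_canonMod hf N K' (d + 1) eK') ih'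

/-- `R → End(K)` is bijective for a Cohen–Macaulay local ring. -/
theorem toEnd_bijective (n : ℕ) (hn : ringKrullDim R = n) (hd : LocCoh.depth R R = n)
    (hf : IsInjectiveHull f) (K : Type u) [AddCommGroup K] [Module R K] [Module.Finite R K]
    (eK : (K →ₗ[R] E) ≃ₗ[R] H (maximalIdeal R) n R) :
    Function.Bijective (fun r : R => r • (LinearMap.id : K →ₗ[R] K)) := by
  have hdim : Module.supportDim R R = n := by
    rw [Module.supportDim_self_eq_ringKrullDim, hn]
  obtain ⟨h1, h2⟩ := endo_cm hf n R K hdim hd eK LinearMap.id Function.surjective_id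
  constructor
  · intro r s hrs
    have hrs' : r • (LinearMap.id : K →ₗ[R] K) = s • (LinearMap.id : K →ₗ[R] K) := hrs
    have h3 : ∀ k : K, (r - s) • k = 0 := by
      intro k
      have := LinearMap.congr_fun hrs' k
      rw [sub_smul, sub_eq_zero]
      exact this
    have h4 := h2 (r - s) h3 (1 : R)
    rw [smul_eq_mul, mul_one, sub_eq_zero] at h4
    exact h4
  · intro g
    obtain ⟨r, hr⟩ := h1 g
    exact ⟨r, hr.symm⟩

end Groth.Agent.H8.Canon
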