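import Mathlib
import Groth.Prelude.Def_Wider
import Groth.Agent.Lib.helper8.CanonI

/-!
# Canonical modules, part J (helper8): lifting homomorphisms modulo powers of an ideal
(Artin–Rees), and uniqueness of the canonical module.
-/

universe u

set_option linter.unusedSectionVars false

namespace Groth.Agent.H8.Canon

open CategoryTheory Abelian LocCoh InjHull IsLocalRing Groth.Agent.H21.LC Groth.Agent.H8.NonVan
open Groth.Agent.H8.Matlis
open Pointwise

section Lift

variable {R : Type u} [CommRing R] [IsNoetherianRing R]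

/-- components of an element of `J • ⊤` lie in `J • ⊤`. -/
theorem apply_mem_smul_top {ι : Type} [Fintype ι] {K : Type u} [AddCommGroup K] [Module R K]
    (J : Ideal R) (z : ι → K) (hz : z ∈ J • (⊤ : Submodule R (ι → K))) (i : ι) :
    z i ∈ J • (⊤ : Submodule R K) := by
  have h1 : (LinearMap.proj i : (ι → K) →ₗ[R] K) z ∈
      (J • (⊤ : Submodule R (ι → K))).map (LinearMap.proj i) := Submodule.mem_map_of_mem hz
  rw [Submodule.map_smul''] at h1
  exact Submodule.smul_mono le_rfl le_top h1

/-- an element all of whose components lie in `J • ⊤` lies in `J • ⊤`. -/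
theorem mem_smul_top_of_apply {ι : Type} [Fintype ι] [DecidableEq ι] {K : Type u}
    [AddCommGroup K] [Module R K]
    (J : Ideal R) (z : ι → K) (hz : ∀ i, z i ∈ J • (⊤ : Submodule R K)) :
    z ∈ J • (⊤ : Submodule R (ι → K)) := by
  have h1 : z = ∑ i, (LinearMap.single R (fun _ => K) i) (z i) := by
    ext j
    simp [Finset.sum_apply, Pi.single_apply]
  rw [h1]
  refine Submodule.sum_mem _ fun i _ => ?_
  have h2 : (LinearMap.single R (fun _ => K) i) (z i) ∈
      (J • (⊤ : Submodule R K)).map (LinearMap.single R (fun _ => K) i) :=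
    Submodule.mem_map_of_mem (hz i)
  rw [Submodule.map_smul''] at h2
  exact Submodule.smul_mono le_rfl le_top h2

/-- Artin–Rees lifting of homomorphisms: a homomorphism `K' → K/I^{s+c}K` agrees modulo `I^s`
with an honest homomorphism `K' → K`. -/
theorem exists_lift_mod (I : Ideal R) (K' K : Type u) [AddCommGroup K'] [Module R K']
    [Module.Finite R K'] [AddCommGroup K] [Module R K] [Module.Finite R K] :
    ∃ c : ℕ, ∀ (s : ℕ) (φ : K' →ₗ[R] K ⧸ (I ^ (s + c) • (⊤ : Submodule R K))),
      ∃ ψ : K' →ₗ[R] K, ∀ (x : K') (y₀ : K),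
        Submodule.mkQ (I ^ (s + c) • (⊤ : Submodule R K)) y₀ = φ x →
          ψ x - y₀ ∈ I ^ s • (⊤ : Submodule R K) := by
  classical
  obtain ⟨a, π, hπ⟩ := Module.Finite.exists_fin' R K'
  obtain ⟨b, ρ, hρ⟩ := Module.Finite.exists_fin' R (LinearMap.ker π)
  -- the generators of the kernel
  set nn : Fin b → (Fin a → R) := fun j => (ρ (Pi.single j 1) : Fin a → R) with hnn
  -- the matrix
  let A : (Fin a → K) →ₗ[R] (Fin b → K) :=
    { toFun := fun y j => Fintype.linearCombination R y (nn j)
      map_add' := fun y y' => by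
        ext j
        simp only [Fintype.linearCombination_apply, Pi.add_apply, smul_add,
          Finset.sum_add_distrib]
      map_smul' := fun r y => by
        ext j
        simp only [Fintype.linearCombination_apply, Pi.smul_apply, RingHom.id_apply,
          Finset.smul_sum]
        refine Finset.sum_congr rfl fun i _ => ?_
        rw [smul_comm] }
  have hA : ∀ (y : Fin a → K) (j : Fin b), A y j = Fintype.linearCombination R y (nn j) :=
    fun _ _ => rfl
  -- `ỹ` kills the kernel when `A y = 0`
  have hkill : ∀ y : Fin a → K, (∀ j, Fintype.linearCombination R y (nn j) ∈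
      (⊥ : Submodule R K)) → LinearMap.ker π ≤ LinearMap.ker (Fintype.linearCombination R y) := by
    intro y hy n hn
    obtain ⟨t, ht⟩ := hρ ⟨n, hn⟩
    have h1 : t = ∑ j, t j • (Pi.single j (1 : R) : Fin b → R) := by
      ext k
      simp [Finset.sum_apply, Pi.single_apply]
    have h2 : n = ∑ j, t j • nn j := by
      have h3 := congrArg (fun w : LinearMap.ker π => (w : Fin a → R)) ht
      simp only at h3
      rw [← h3, h1, map_sum]
      simp only [map_smul, Submodule.coe_sum, Submodule.coe_smul, hnn]
      rw [← h1]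
    rw [LinearMap.mem_ker, h2, map_sum]
    refine Finset.sum_eq_zero fun j _ => ?_
    rw [map_smul, (Submodule.mem_bot R).mp (hy j), smul_zero]
  obtain ⟨c, hc⟩ := Ideal.exists_pow_inf_eq_pow_smul I (LinearMap.range A)
  refine ⟨c, fun s φ => ?_⟩
  -- lifts of the images of the generators
  have hsurj := Submodule.mkQ_surjective (I ^ (s + c) • (⊤ : Submodule R K))
  set y : Fin a → K := fun i => Function.surjInv hsurj (φ (π (Pi.single i 1))) with hy
  have hyφ : ∀ r : Fin a → R, Submodule.mkQ (I ^ (s + c) • (⊤ : Submodule R K))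
      (Fintype.linearCombination R y r) = φ (π r) := by
    intro r
    have h1 : r = ∑ i, r i • (Pi.single i (1 : R) : Fin a → R) := by
      ext k
      simp [Finset.sum_apply, Pi.single_apply]
    rw [Fintype.linearCombination_apply, map_sum]
    conv_rhs => rw [h1, map_sum, map_sum]
    refine Finset.sum_congr rfl fun i _ => ?_
    rw [map_smul, map_smul, map_smul, hy]
    simp only
    rw [Function.surjInv_eq hsurj]
  -- `A y ∈ I^{s+c} • ⊤`
  have hAy : A y ∈ I ^ (s + c) • (⊤ : Submodule R (Fin b → K)) := by
    refine mem_smul_top_of_apply _ _ fun j => ?_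
    rw [hA]
    have h1 := hyφ (nn j)
    have h2 : π (nn j) = 0 := (ρ (Pi.single j 1)).2
    rw [h2, map_zero] at h1
    exact (Submodule.Quotient.mk_eq_zero _).mp h1
  have hmem : A y ∈ I ^ (s + c) • (⊤ : Submodule R (Fin b → K)) ⊓ LinearMap.range A :=
    ⟨hAy, ⟨y, rfl⟩⟩
  rw [hc (s + c) (Nat.le_add_left c s), Nat.add_sub_cancel] at hmem
  have hmem2 : A y ∈ (I ^ s • (⊤ : Submodule R (Fin a → K))).map A := by
    rw [Submodule.map_smul'', Submodule.map_top]
    exact Submodule.smul_mono le_rfl inf_le_right hmem
  obtain ⟨z, hz, hAz⟩ := hmem2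
  -- the corrected lifts
  have hy' : ∀ j, Fintype.linearCombination R (y - z) (nn j) ∈ (⊥ : Submodule R K) := by
    intro j
    rw [Submodule.mem_bot, ← hA, map_sub, hAz, sub_self]
    rfl
  have hle := hkill (y - z) hy'
  let e := LinearMap.quotKerEquivOfSurjective π hπ
  refine ⟨(Submodule.liftQ _ (Fintype.linearCombination R (y - z)) hle) ∘ₗ e.symm.toLinearMap,
    fun x y₀ hy₀ => ?_⟩
  obtain ⟨r, rfl⟩ := hπ x
  have h1 : e.symm (π r) = Submodule.Quotient.mk r := by
    apply e.injective
    rw [LinearEquiv.apply_symm_apply]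
    rfl
  have h2 : ((Submodule.liftQ _ (Fintype.linearCombination R (y - z)) hle) ∘ₗ
      e.symm.toLinearMap) (π r) = Fintype.linearCombination R (y - z) r := by
    rw [LinearMap.comp_apply]
    show Submodule.liftQ _ (Fintype.linearCombination R (y - z)) hle (e.symm (π r)) = _
    rw [h1, Submodule.liftQ_apply]
  rw [h2]
  have h3 : Fintype.linearCombination R (y - z) r =
      Fintype.linearCombination R y r - Fintype.linearCombination R z r := by
    simp only [Fintype.linearCombination_apply, Pi.sub_apply, smul_sub, Finset.sum_sub_distrib]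
  rw [h3]
  have h4 : Fintype.linearCombination R y r - y₀ ∈ I ^ s • (⊤ : Submodule R K) := by
    have h5 : Submodule.mkQ (I ^ (s + c) • (⊤ : Submodule R K))
        (Fintype.linearCombination R y r - y₀) = 0 := by
      rw [map_sub, hyφ, hy₀, sub_self]
    have h6 := (Submodule.Quotient.mk_eq_zero _).mp h5
    exact Submodule.smul_mono_left (Ideal.pow_le_pow_right (Nat.le_add_right s c)) h6
  have h7 : Fintype.linearCombination R z r ∈ I ^ s • (⊤ : Submodule R K) := by
    rw [Fintype.linearCombination_apply]
    refine Submodule.sum_mem _ fun i _ => Submodule.smul_mem _ _ ?_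
    exact apply_mem_smul_top _ z hz i
  have h8 : Fintype.linearCombination R y r - Fintype.linearCombination R z r - y₀ =
      (Fintype.linearCombination R y r - y₀) - Fintype.linearCombination R z r := by abel
  rw [h8]
  exact Submodule.sub_mem _ h4 h7

end Lift

end Groth.Agent.H8.Canon
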