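import Mathlib
import Groth.Prelude.Def_Wider
import Groth.Agent.Lib.helper8.CanonJ
import Groth.Agent.Lib.helper8.CanonA

/-!
# Canonical modules, part K (helper8): finite modules with isomorphic Matlis duals are
isomorphic; uniqueness of the canonical module.
-/

universe u

set_option linter.unusedSectionVars false

namespace Groth.Agent.H8.Canon

open CategoryTheory Abelian LocCoh InjHull IsLocalRing Groth.Agent.H21.LC Groth.Agent.H8.NonVan
open Groth.Agent.H8.Matlis
open Pointwise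

variable {R : Type u} [CommRing R] [IsNoetherianRing R] [IsLocalRing R]
  {E : Type u} [AddCommGroup E] [Module R E] {f : ResidueField R →ₗ[R] E}

/-- `D(K/JK) ≅ D(K)[J]`. -/
theorem nonempty_dual_quot_equiv (J : Ideal R) (K : Type u) [AddCommGroup K] [Module R K] :
    Nonempty (((K ⧸ (J • (⊤ : Submodule R K))) →ₗ[R] E) ≃ₗ[R] torsionBy J (K →ₗ[R] E)) := by
  set α : ((K ⧸ (J • (⊤ : Submodule R K))) →ₗ[R] E) →ₗ[R] (K →ₗ[R] E) :=
    LinearMap.lcomp R E (Submodule.mkQ (J • (⊤ : Submodule R K))) with hα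
  have hmem : ∀ g, α g ∈ torsionBy J (K →ₗ[R] E) := by
    intro g
    refine (Submodule.mem_torsionBySet_iff _ _).mpr ?_
    rintro ⟨a, ha⟩
    refine LinearMap.ext fun x => ?_
    show a • g (Submodule.Quotient.mk x) = 0
    rw [← map_smul, ← Submodule.Quotient.mk_smul]
    have : (Submodule.Quotient.mk (a • x) : K ⧸ (J • (⊤ : Submodule R K))) = 0 := by
      rw [Submodule.Quotient.mk_eq_zero]
      exact Submodule.smul_mem_smul ha Submodule.mem_top
    rw [this, map_zero]
  refine ⟨LinearEquiv.ofBijective (α.codRestrict _ hmem) ⟨?_, ?_⟩⟩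
  · intro g g' h
    apply dual_mkQ_injective (E := E) (J • (⊤ : Submodule R K))
    exact congrArg Subtype.val h
  · rintro ⟨ψ, hψ⟩
    have hle : J • (⊤ : Submodule R K) ≤ LinearMap.ker ψ := by
      rw [Submodule.smul_le]
      intro a ha x _
      rw [LinearMap.mem_ker, map_smul]
      have := (Submodule.mem_torsionBySet_iff _ _).mp hψ ⟨a, ha⟩
      exact LinearMap.congr_fun this x
    refine ⟨Submodule.liftQ _ ψ hle, Subtype.ext ?_⟩
    refine LinearMap.ext fun x => ?_
    rfl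

/-- modules of finite length with isomorphic Matlis duals are isomorphic. -/
theorem nonempty_equiv_of_dual_equiv_of_isFiniteLength (hf : IsInjectiveHull f) (M M' : Type u)
    [AddCommGroup M] [Module R M] [AddCommGroup M'] [Module R M'] (hM : IsFiniteLength R M)
    (hM' : IsFiniteLength R M') (e : (M →ₗ[R] E) ≃ₗ[R] (M' →ₗ[R] E)) : Nonempty (M ≃ₗ[R] M') := by
  let a : M ≃ₗ[R] ((M →ₗ[R] E) →ₗ[R] E) :=
    LinearEquiv.ofBijective _ (applyₗ_bijective_of_isFiniteLength f hf M hM)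
  let a' : M' ≃ₗ[R] ((M' →ₗ[R] E) →ₗ[R] E) :=
    LinearEquiv.ofBijective _ (applyₗ_bijective_of_isFiniteLength f hf M' hM')
  exact ⟨(a ≪≫ₗ LinearEquiv.congrLeft E R e) ≪≫ₗ a'.symm⟩

/-- `K/m^n K` has finite length. -/
theorem isFiniteLength_quot_pow_smul_top (K : Type u) [AddCommGroup K] [Module R K]
    [Module.Finite R K] (n : ℕ) :
    IsFiniteLength R (K ⧸ ((maximalIdeal R) ^ n • (⊤ : Submodule R K))) := by
  apply isFiniteLength_of_pow_smul_top_eq_bot n
  have h1 : ((maximalIdeal R) ^ n • (⊤ : Submodule R K)).map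
      (Submodule.mkQ ((maximalIdeal R) ^ n • (⊤ : Submodule R K))) = ⊥ := by
    rw [Submodule.mkQ_map_self]
  rw [Submodule.map_smul'', Submodule.map_top, Submodule.range_mkQ] at h1
  exact h1

/-- a surjection `K' → K` from an isomorphism of Matlis duals. -/
theorem exists_surjective_of_dual_equiv (hf : IsInjectiveHull f) (K K' : Type u)
    [AddCommGroup K] [Module R K] [Module.Finite R K] [AddCommGroup K'] [Module R K']
    [Module.Finite R K'] (θ : (K →ₗ[R] E) ≃ₗ[R] (K' →ₗ[R] E)) :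
    ∃ ψ : K' →ₗ[R] K, Function.Surjective ψ := by
  obtain ⟨c, hc⟩ := exists_lift_mod (maximalIdeal R) K' K
  obtain ⟨d1⟩ := nonempty_dual_quot_equiv (E := E) ((maximalIdeal R) ^ (1 + c)) K
  obtain ⟨d2⟩ := nonempty_dual_quot_equiv (E := E) ((maximalIdeal R) ^ (1 + c)) K'
  obtain ⟨eQ⟩ := nonempty_equiv_of_dual_equiv_of_isFiniteLength hf _ _
    (isFiniteLength_quot_pow_smul_top K (1 + c)) (isFiniteLength_quot_pow_smul_top K' (1 + c))
    ((d1 ≪≫ₗ torsionByEquiv ((maximalIdeal R) ^ (1 + c)) θ) ≪≫ₗ d2.symm)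
  set φ : K' →ₗ[R] K ⧸ ((maximalIdeal R) ^ (1 + c) • (⊤ : Submodule R K)) :=
    eQ.symm.toLinearMap ∘ₗ Submodule.mkQ ((maximalIdeal R) ^ (1 + c) • (⊤ : Submodule R K'))
    with hφ
  have hφs : Function.Surjective φ :=
    eQ.symm.surjective.comp (Submodule.mkQ_surjective _)
  obtain ⟨ψ, hψ⟩ := hc 1 φ
  refine ⟨ψ, ?_⟩
  have hjac : maximalIdeal R ≤ Ideal.jacobson ⊥ := by
    rw [IsLocalRing.jacobson_eq_maximalIdeal ⊥ bot_ne_top]
  have hfg : (⊤ : Submodule R K).FG := Module.finite_def.mp inferInstance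
  have hle : (⊤ : Submodule R K) ≤ LinearMap.range ψ ⊔ maximalIdeal R • ⊤ := by
    intro k _
    obtain ⟨x, hx⟩ := hφs (Submodule.mkQ _ k)
    have h1 := hψ x k hx.symm
    rw [pow_one] at h1
    have h2 : k = ψ x - (ψ x - k) := by abel
    rw [h2]
    exact Submodule.sub_mem _ (Submodule.mem_sup_left ⟨x, rfl⟩) (Submodule.mem_sup_right h1)
  have h3 := Submodule.le_of_le_smul_of_le_jacobson_bot hfg hjac hle
  rw [← LinearMap.range_eq_top]
  exact top_le_iff.mp h3

/-- finite modules with isomorphic Matlis duals are isomorphic. -/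
theorem nonempty_equiv_of_dual_equiv (hf : IsInjectiveHull f) (K K' : Type u)
    [AddCommGroup K] [Module R K] [Module.Finite R K] [AddCommGroup K'] [Module R K']
    [Module.Finite R K'] (θ : (K →ₗ[R] E) ≃ₗ[R] (K' →ₗ[R] E)) : Nonempty (K ≃ₗ[R] K') := by
  obtain ⟨ψ, hψ⟩ := exists_surjective_of_dual_equiv hf K K' θ
  obtain ⟨ψ', hψ'⟩ := exists_surjective_of_dual_equiv hf K' K θ.symm
  have h1 : Function.Injective (ψ ∘ₗ ψ') :=
    IsNoetherian.injective_of_surjective_endomorphism (ψ ∘ₗ ψ') (hψ.comp hψ')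
  have h2 : Function.Injective ψ' := by
    intro x y hxy
    apply h1
    show ψ (ψ' x) = ψ (ψ' y)
    rw [hxy]
  exact ⟨LinearEquiv.ofBijective ψ' ⟨h2, hψ'⟩⟩

end Groth.Agent.H8.Canon
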