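import Mathlib
import Groth.Prelude.Def_Wider
import Groth.Agent.Lib.helper8.CanonI

/-!
# Change of rings along a surjection, part A (helper8): finiteness and annihilators of `Ext`,
module structures over the quotient.
-/

universe u

set_option linter.unusedSectionVars false

namespace Groth.Agent.H8.RCh

open CategoryTheory Abelian LocCoh InjHull IsLocalRing Groth.Agent.H21.LC Groth.Agent.H8.NonVan
open Groth.Agent.H8.LDual

section ExtFacts

variable {S : Type u} [CommRing S]

/-- scalars killing `M` kill `Ext M N i`. -/
theorem ext_smul_eq_zero_of_kill (M N : ModuleCat.{u} S) (i : ℕ) (a : S)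
    (ha : ∀ x : M, a • x = 0) (y : Ext M N i) : a • y = 0 := by
  have h1 : a • y = (Ext.mk₀ (a • 𝟙 M)).comp y (zero_add i) := by
    rw [Ext.mk₀_smul, Ext.smul_comp, Ext.mk₀_id_comp]
  have h2 : a • 𝟙 M = 0 := by
    refine ModuleCat.hom_ext (LinearMap.ext fun x => ?_)
    exact ha x
  rw [h1, h2, Ext.mk₀_zero, Ext.zero_comp]

/-- finiteness of `Ext` over a Noetherian ring. -/
theorem finite_ext [IsNoetherianRing S] (N : Type u) [AddCommGroup N] [Module S N]
    [Module.Finite S N] :
    ∀ (i : ℕ) (M : Type u) [AddCommGroup M] [Module S M] [Module.Finite S M],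
      Module.Finite S (Ext (ModuleCat.of S M) (ModuleCat.of S N) i) := by
  intro i
  induction i with
  | zero =>
    intro M _ _ _
    exact Module.Finite.equiv (homExt0 M N)
  | succ i ih =>
    intro M _ _ _
    obtain ⟨b, π, hπ⟩ := Module.Finite.exists_fin' S M
    have hS := surjSES_shortExact π hπ
    haveI : Projective (ModuleCat.of S (Fin b → S)) :=
      (IsProjective.iff_projective (Fin b → S)).mp inferInstance
    haveI := ih (LinearMap.ker π)
    set Φ : Ext (ModuleCat.of S (LinearMap.ker π)) (ModuleCat.of S N) i →ₗ[S]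
        Ext (ModuleCat.of S M) (ModuleCat.of S N) (i + 1) :=
      hS.extClass.precompOfLinear S (ModuleCat.of S N) (show 1 + i = i + 1 by omega) with hΦ
    have hsurj : Function.Surjective Φ := by
      intro x₃
      have h0 : (Ext.mk₀ (surjSES π).g).comp x₃ (zero_add (i + 1)) = 0 :=
        Ext.eq_zero_of_projective _
      obtain ⟨x₁, hx₁⟩ := Ext.contravariant_sequence_exact₃ hS (ModuleCat.of S N) x₃ h0
        (show 1 + i = i + 1 by omega)
      exact ⟨x₁, hx₁⟩
    exact Module.Finite.of_surjective Φ hsurj

/-- the same for Mathlib's `Ext` bifunctor. -/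
theorem finite_ext_old [IsNoetherianRing S] (M N : Type u) [AddCommGroup M] [Module S M]
    [Module.Finite S M] [AddCommGroup N] [Module S N] [Module.Finite S N] (i : ℕ) :
    Module.Finite S (((_root_.Ext S (ModuleCat.{u} S) i).obj
      (Opposite.op (ModuleCat.of S M))).obj (ModuleCat.of S N)) := by
  haveI := finite_ext (S := S) N i M
  exact Module.Finite.equiv (oldNew (ModuleCat.of S M) (ModuleCat.of S N) i).symm

theorem ext_old_smul_eq_zero_of_kill (M N : ModuleCat.{u} S) (i : ℕ) (a : S)
    (ha : ∀ x : M, a • x = 0)
    (y : ((_root_.Ext S (ModuleCat.{u} S) i).obj (Opposite.op M)).obj N) : a • y = 0 := by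
  apply (oldNew M N i).injective
  rw [map_smul, map_zero]
  exact ext_smul_eq_zero_of_kill M N i a ha _

end ExtFacts

section ModSurj

variable {S R : Type u} [CommRing S] [CommRing R] [Algebra S R]

/-- the ring homomorphism `R → End_S(X)` for an `S`-module `X` killed by the kernel of a
surjection `S → R`. -/
noncomputable def toEndOfSurj (hg : Function.Surjective (algebraMap S R)) (X : Type u)
    [AddCommGroup X] [Module S X]
    (hker : ∀ a : S, algebraMap S R a = 0 → ∀ x : X, a • x = 0) : R →+* Module.End S X :=
  RingHom.liftOfSurjective (algebraMap S R) hg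
    ⟨Module.toModuleEnd S (S := S) X, fun a ha => by
      rw [RingHom.mem_ker] at ha ⊢
      refine LinearMap.ext fun x => ?_
      exact hker a ha x⟩

theorem toEndOfSurj_algebraMap (hg : Function.Surjective (algebraMap S R)) (X : Type u)
    [AddCommGroup X] [Module S X]
    (hker : ∀ a : S, algebraMap S R a = 0 → ∀ x : X, a • x = 0) (s : S) (x : X) :
    toEndOfSurj hg X hker (algebraMap S R s) x = s • x := by
  have := RingHom.liftOfSurjective_comp_apply (algebraMap S R) hg
    ⟨Module.toModuleEnd S (S := S) X, fun a ha => by
      rw [RingHom.mem_ker] at ha ⊢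
      refine LinearMap.ext fun x => ?_
      exact hker a ha x⟩ s
  exact LinearMap.congr_fun this x

/-- the `R`-module structure. -/
@[reducible] noncomputable def modOfSurj (hg : Function.Surjective (algebraMap S R)) (X : Type u)
    [AddCommGroup X] [Module S X]
    (hker : ∀ a : S, algebraMap S R a = 0 → ∀ x : X, a • x = 0) : Module R X :=
  Module.compHom X (toEndOfSurj hg X hker)

theorem modOfSurj_smul (hg : Function.Surjective (algebraMap S R)) (X : Type u)
    [AddCommGroup X] [Module S X]
    (hker : ∀ a : S, algebraMap S R a = 0 → ∀ x : X, a • x = 0) (s : S) (x : X) :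
    letI := modOfSurj hg X hker
    (algebraMap S R s) • x = s • x :=
  toEndOfSurj_algebraMap hg X hker s x

theorem isScalarTower_modOfSurj (hg : Function.Surjective (algebraMap S R)) (X : Type u)
    [AddCommGroup X] [Module S X]
    (hker : ∀ a : S, algebraMap S R a = 0 → ∀ x : X, a • x = 0) :
    letI := modOfSurj hg X hker
    IsScalarTower S R X := by
  letI := modOfSurj hg X hker
  refine IsScalarTower.of_algebraMap_smul fun s x => ?_
  exact modOfSurj_smul hg X hker s x

end ModSurj

end Groth.Agent.H8.RCh
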