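import Mathlib
import Groth.Prelude.Def_Wider
import Groth.Agent.Lib.helper8.RChA
import Groth.Agent.Lib.helper21.LC30

/-!
# Change of rings along a surjection, part B (helper8): `Hom` into a coextension, and local
cohomology over the quotient.
-/

universe u

set_option linter.unusedSectionVars false

namespace Groth.Agent.H8.RCh

open CategoryTheory Abelian LocCoh InjHull IsLocalRing Groth.Agent.H21.LC Groth.Agent.H8.NonVan
open Groth.Agent.H8.LDual Groth.Agent.H8.Matlis

section CoextAdj

variable {S R : Type u} [CommRing S] [CommRing R] [Algebra S R]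
  (X : Type u) [AddCommGroup X] [Module S X] [Module R X] [IsScalarTower S R X]
  (V : Type u) [AddCommGroup V] [Module S V]

/-- `Hom_R(X, Hom_S(R, V)) → Hom_S(X, V)`. -/
noncomputable def coextFwd (φ : X →ₗ[R] Coext S R V) : X →ₗ[S] V where
  toFun x := ofC (φ x) 1
  map_add' x y := by rw [map_add, ofC_add]
  map_smul' s x := by
    have h1 : s • x = (algebraMap S R s) • x := (algebraMap_smul R s x).symm
    rw [h1, map_smul, ofC_smul, one_mul, RingHom.id_apply]
    have h2 : algebraMap S R s = s • (1 : R) := by rw [Algebra.smul_def, mul_one]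
    rw [h2, map_smul]

/-- `Hom_S(X, V) → Hom_R(X, Hom_S(R, V))`. -/
noncomputable def coextBwd (ψ : X →ₗ[S] V) : X →ₗ[R] Coext S R V where
  toFun x := toC
    { toFun := fun r => ψ (r • x)
      map_add' := fun r r' => by rw [add_smul, map_add]
      map_smul' := fun s r => by
        rw [smul_assoc, map_smul, RingHom.id_apply] }
  map_add' x y := by
    apply coext_ext
    intro b
    rw [ofC_add, ofC_toC_apply, ofC_toC_apply, ofC_toC_apply]
    show ψ (b • (x + y)) = ψ (b • x) + ψ (b • y)
    rw [smul_add, map_add]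
  map_smul' r x := by
    apply coext_ext
    intro b
    rw [RingHom.id_apply, ofC_smul, ofC_toC_apply, ofC_toC_apply]
    show ψ (b • r • x) = ψ ((b * r) • x)
    rw [mul_smul]

theorem coextFwd_bwd (ψ : X →ₗ[S] V) :
    coextFwd (R := R) X V (coextBwd (R := R) X V ψ) = ψ := by
  refine LinearMap.ext fun x => ?_
  have h : coextFwd (R := R) X V (coextBwd (R := R) X V ψ) x = ψ ((1 : R) • x) := rfl
  rw [h, one_smul]

theorem coextBwd_fwd (φ : X →ₗ[R] Coext S R V) : coextBwd X V (coextFwd X V φ) = φ := by
  refine LinearMap.ext fun x => ?_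
  apply coext_ext
  intro b
  have h : ofC (coextBwd X V (coextFwd X V φ) x) b = ofC (φ (b • x)) 1 := rfl
  rw [h, map_smul, ofC_smul, one_mul]

/-- the adjunction isomorphism. -/
noncomputable def coextAdj : (X →ₗ[R] Coext S R V) ≃+ (X →ₗ[S] V) where
  toFun := coextFwd X V
  invFun := coextBwd X V
  left_inv := coextBwd_fwd X V
  right_inv := coextFwd_bwd (R := R) X V
  map_add' φ φ' := by
    refine LinearMap.ext fun x => ?_
    show ofC ((φ + φ') x) 1 = ofC (φ x) 1 + ofC (φ' x) 1
    rw [LinearMap.add_apply, ofC_add]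

theorem coextAdj_smul (s : S) (φ : X →ₗ[R] Coext S R V) :
    coextAdj X V (algebraMap S R s • φ) = s • coextAdj X V φ := by
  refine LinearMap.ext fun x => ?_
  show ofC ((algebraMap S R s • φ) x) 1 = s • ofC (φ x) 1
  rw [LinearMap.smul_apply, ofC_smul, one_mul]
  have h2 : algebraMap S R s = s • (1 : R) := by rw [Algebra.smul_def, mul_one]
  rw [h2, map_smul]

end CoextAdj

section HChange

variable {S R : Type u} [CommRing S] [CommRing R] [Algebra S R] [IsNoetherianRing S]
  [IsNoetherianRing R]

/-- local cohomology over `S` and over an `S`-algebra `R`. -/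
theorem exists_H_change (I : Ideal S) (J : Ideal R) (hJ : J = I.map (algebraMap S R)) (i : ℕ)
    (M' : Type u) [AddCommGroup M'] [Module R M'] [Module S M'] [IsScalarTower S R M'] :
    ∃ Ψ : H I i M' ≃+ H J i M', ∀ (s : S) (x : H I i M'),
      Ψ (s • x) = algebraMap S R s • Ψ x := by
  subst hJ
  obtain ⟨e⟩ := nonempty_FrEquiv (R := S) (R' := R) I i (ModuleCat.of R M')
  let e₀ : ((Fr S R).obj (ModuleCat.of R M')) ≃ₗ[S] M' :=
    { toFun := fun m => m
      invFun := fun m => m
      map_add' := fun _ _ => rfl
      map_smul' := fun r m => by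
        have h := algebraMap_smul R r (show M' from m)
        exact h
      left_inv := fun _ => rfl
      right_inv := fun _ => rfl }
  let e₁ : (localCohomology I i).obj ((Fr S R).obj (ModuleCat.of R M')) ≃ₗ[S]
      (localCohomology I i).obj (ModuleCat.of S M') :=
    ((localCohomology I i).mapIso e₀.toModuleIso).toLinearEquiv
  let Ψ₀ : H I i M' ≃ₗ[S]
      (Fr S R).obj ((localCohomology (I.map (algebraMap S R)) i).obj (ModuleCat.of R M')) :=
    e₁.symm.trans e.symm
  refine ⟨Ψ₀.toAddEquiv, fun s x => ?_⟩
  exact Ψ₀.map_smul s x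

end HChange

end Groth.Agent.H8.RCh
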