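import Mathlib
import Groth.Prelude.Def_Wider
import Groth.Agent.Lib.helper8.RChB
import Groth.Agent.Lib.helper8.LDualD
import Groth.Agent.Lib.helper1.InjHull2

/-!
# Change of rings along a surjection, part C (helper8): existence of a canonical module for a
quotient of a Gorenstein local ring.
-/

universe u

set_option linter.unusedSectionVars false

namespace Groth.Agent.H8.RCh

open CategoryTheory Abelian Opposite LocCoh InjHull IsLocalRing Groth.Agent.H21.LC
open Groth.Agent.H8.NonVan Groth.Agent.H8.LDual Groth.Agent.H8.Matlis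

/-- existence of a canonical module for a homomorphic image of a Gorenstein local ring. -/
theorem exists_canonMod (R : Type u) [CommRing R] [IsNoetherianRing R] [IsLocalRing R] (n : ℕ)
    (hn : ringKrullDim R = n) (E : Type u) [AddCommGroup E] [Module R E]
    (f : ResidueField R →ₗ[R] E) (hf : IsInjectiveHull f) (S : Type u) [CommRing S]
    [LocCoh.IsGorensteinLocalRing S] (g : S →+* R) (hg : Function.Surjective g) :
    ∃ K : ModuleCat.{u} R, Module.Finite R K ∧
      Nonempty ((K →ₗ[R] E) ≃ₗ[R] H (maximalIdeal R) n R) := by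
  letI : Algebra S R := g.toAlgebra
  have hg' : Function.Surjective (algebraMap S R) := hg
  haveI : Module.Finite S R := Module.Finite.of_surjective (Algebra.linearMap S R) hg'
  obtain ⟨N, hN⟩ := Groth.Agent.H8.NonVan.exists_supportDim_eq_nat (R := S) S
  rw [Module.supportDim_self_eq_ringKrullDim] at hN
  have hnN : n ≤ N := by
    have h1 := ringKrullDim_le_of_surjective g hg
    rw [hn, hN] at h1
    exact_mod_cast h1
  obtain ⟨ES, _, _, fS, hfS⟩ :=
    Groth.Agent.Lib.helper1.InjHullLib.exists_injective_hull (R := S) (ResidueField S)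
  obtain ⟨e1⟩ := gorenstein_duality S N hN ES fS hfS (N - n) (Nat.sub_le N n) R
  have hNn : N - (N - n) = n := by omega
  rw [hNn] at e1
  -- the `R`-module structure on `Ext`
  have hker : ∀ a : S, algebraMap S R a = 0 →
      ∀ x : ((Ext S (ModuleCat.{u} S) (N - n)).obj (op (ModuleCat.of S R))).obj (ModuleCat.of S S),
        a • x = 0 := by
    intro a ha x
    refine ext_old_smul_eq_zero_of_kill _ _ _ a (fun r => ?_) x
    show a • (show R from r) = 0
    rw [Algebra.smul_def, ha, zero_mul]
  letI : Module R (((Ext S (ModuleCat.{u} S) (N - n)).obj (op (ModuleCat.of S R))).obj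
      (ModuleCat.of S S)) := modOfSurj hg' _ hker
  haveI : IsScalarTower S R (((Ext S (ModuleCat.{u} S) (N - n)).obj
      (op (ModuleCat.of S R))).obj (ModuleCat.of S S)) := isScalarTower_modOfSurj hg' _ hker
  haveI : Module.Finite S (((Ext S (ModuleCat.{u} S) (N - n)).obj
      (op (ModuleCat.of S R))).obj (ModuleCat.of S S)) := finite_ext_old R S (N - n)
  haveI : Module.Finite R (((Ext S (ModuleCat.{u} S) (N - n)).obj
      (op (ModuleCat.of S R))).obj (ModuleCat.of S S)) :=
    Module.Finite.of_restrictScalars_finite S R _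
  refine ⟨ModuleCat.of R (((Ext S (ModuleCat.{u} S) (N - n)).obj
      (op (ModuleCat.of S R))).obj (ModuleCat.of S S)), inferInstance, ?_⟩
  -- the hull over `R`
  obtain ⟨fC, hfC⟩ := exists_hull_coext (B := R) fS hfS
  obtain ⟨eE, -⟩ := Groth.Agent.Lib.helper1.InjHullLib.unique f hf fC hfC
  -- local cohomology over `R`
  obtain ⟨Ψ, hΨ⟩ := exists_H_change (maximalIdeal S) (maximalIdeal R)
    (IsLocalRing.map_maximalIdeal_of_surjective (algebraMap S R) hg').symm n R
  let Φ : ((((Ext S (ModuleCat.{u} S) (N - n)).obj (op (ModuleCat.of S R))).obj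
      (ModuleCat.of S S)) →ₗ[R] E) ≃+ H (maximalIdeal R) n R :=
    (((LinearEquiv.congrRight eE).toAddEquiv.trans (coextAdj _ ES)).trans
      e1.symm.toAddEquiv).trans Ψ
  refine ⟨{ Φ with map_smul' := fun r a => ?_ }⟩
  obtain ⟨s, rfl⟩ := hg' r
  show Φ (algebraMap S R s • a) = algebraMap S R s • Φ a
  show Ψ (e1.symm (coextAdj _ ES (LinearEquiv.congrRight eE (algebraMap S R s • a)))) =
    algebraMap S R s • Ψ (e1.symm (coextAdj _ ES (LinearEquiv.congrRight eE a)))
  rw [map_smul, coextAdj_smul, map_smul, hΨ]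

end Groth.Agent.H8.RCh
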