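import Mathlib
import Groth.Prelude.Def_Wider
import Groth.Agent.Lib.helper8.RChC

/-!
# Change of rings along a surjection, part D (helper8): canonical modules of `R` and of `R/u`,
`u` the largest ideal of dimension less than `dim R`.
-/

universe u

set_option linter.unusedSectionVars false

namespace Groth.Agent.H8.RCh

open CategoryTheory Abelian Opposite LocCoh InjHull IsLocalRing Groth.Agent.H21.LC
open Groth.Agent.H8.NonVan Groth.Agent.H8.LDual Groth.Agent.H8.Matlis Groth.Agent.H8.CdDim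

variable {R : Type u} [CommRing R] [IsNoetherianRing R] [IsLocalRing R]

/-- `H^n_m(R) → H^n_m(R/u)` is bijective when `dim u < n = dim R`. -/
theorem H_top_mkQ_bijective (n : ℕ) (hn : ringKrullDim R = n) (a : Ideal R) (u : Ideal R)
    (hu : Module.supportDim R u < n) :
    Function.Bijective ((localCohomology a n).map
      (ModuleCat.ofHom (Submodule.mkQ u))).hom := by
  have hS := surjSES_shortExact (Submodule.mkQ u) (Submodule.mkQ_surjective u)
  have eker : LinearMap.ker (Submodule.mkQ u) ≃ₗ[R] u := LinearEquiv.ofEq _ _ (Submodule.ker_mkQ u)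
  have hdim : Module.supportDim R (LinearMap.ker (Submodule.mkQ u)) < n := by
    rw [Module.supportDim_eq_of_equiv eker]
    exact hu
  haveI h1 : Subsingleton (H a n (LinearMap.ker (Submodule.mkQ u))) :=
    subsingleton_H_of_supportDim_lt a _ n hdim
  have h2 : Subsingleton ((localCohomology a (n + 1)).obj
      (ModuleCat.of R (LinearMap.ker (Submodule.mkQ u)))) :=
    cdLE_of_ringKrullDim_le R a n hn.le _ (n + 1) (by omega)
  constructor
  · rw [← LinearMap.ker_eq_bot, LinearMap.ker_eq_bot']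
    intro y hy
    obtain ⟨z, rfl⟩ := (exact₂ a hS n y).1 hy
    have hz : z = 0 := Subsingleton.elim (α := H a n (LinearMap.ker (Submodule.mkQ u))) z 0
    rw [hz, map_zero]
  · exact map_g_surjective a hS n h2

/-- canonical modules of `R` and of `R/u`. -/
theorem canonMod_iff_quotient (n : ℕ) (hn : ringKrullDim R = n) (E : Type u) [AddCommGroup E]
    [Module R E] (f : ResidueField R →ₗ[R] E) (hf : IsInjectiveHull f) (u : Ideal R)
    (hu : Module.supportDim R u < n) [IsLocalRing (R ⧸ u)] (E' : Type u) [AddCommGroup E']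
    [Module (R ⧸ u) E'] (f' : ResidueField (R ⧸ u) →ₗ[R ⧸ u] E') (hf' : IsInjectiveHull f')
    (K : Type u) [AddCommGroup K] [Module R K] [Module (R ⧸ u) K] [IsScalarTower R (R ⧸ u) K] :
    Nonempty ((K →ₗ[R] E) ≃ₗ[R] H (maximalIdeal R) n R) ↔
      Nonempty ((K →ₗ[R ⧸ u] E') ≃ₗ[R ⧸ u] H (maximalIdeal (R ⧸ u)) n (R ⧸ u)) := by
  have hg' : Function.Surjective (algebraMap R (R ⧸ u)) := Ideal.Quotient.mk_surjective
  obtain ⟨fC, hfC⟩ := exists_hull_coext (A := R) (B := R ⧸ u) f hf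
  obtain ⟨eE, -⟩ := Groth.Agent.Lib.helper1.InjHullLib.unique f' hf' fC hfC
  let Φ₁ : (K →ₗ[R ⧸ u] E') ≃+ (K →ₗ[R] E) :=
    (LinearEquiv.congrRight eE).toAddEquiv.trans (coextAdj K E)
  have hΦ₁ : ∀ (r : R) (a : K →ₗ[R ⧸ u] E'), Φ₁ (algebraMap R (R ⧸ u) r • a) = r • Φ₁ a := by
    intro r a
    show coextAdj K E (LinearEquiv.congrRight eE (algebraMap R (R ⧸ u) r • a)) =
      r • coextAdj K E (LinearEquiv.congrRight eE a)
    rw [map_smul, coextAdj_smul]
  obtain ⟨Ψ, hΨ⟩ := exists_H_change (maximalIdeal R) (maximalIdeal (R ⧸ u))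
    (IsLocalRing.map_maximalIdeal_of_surjective (algebraMap R (R ⧸ u)) hg').symm n (R ⧸ u)
  let β : H (maximalIdeal R) n R ≃ₗ[R] H (maximalIdeal R) n (R ⧸ u) :=
    LinearEquiv.ofBijective _ (H_top_mkQ_bijective n hn (maximalIdeal R) u hu)
  constructor
  · rintro ⟨e⟩
    let Φ : (K →ₗ[R ⧸ u] E') ≃+ H (maximalIdeal (R ⧸ u)) n (R ⧸ u) :=
      ((Φ₁.trans e.toAddEquiv).trans β.toAddEquiv).trans Ψ
    refine ⟨{ Φ with map_smul' := fun q a => ?_ }⟩
    obtain ⟨r, rfl⟩ := hg' q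
    show Ψ (β (e (Φ₁ (algebraMap R (R ⧸ u) r • a)))) =
      algebraMap R (R ⧸ u) r • Ψ (β (e (Φ₁ a)))
    rw [hΦ₁, map_smul, map_smul, hΨ]
  · rintro ⟨e'⟩
    let Φ : (K →ₗ[R] E) ≃+ H (maximalIdeal R) n R :=
      ((Φ₁.symm.trans e'.toAddEquiv).trans Ψ.symm).trans β.symm.toAddEquiv
    refine ⟨{ Φ with map_smul' := fun r a => ?_ }⟩
    show β.symm (Ψ.symm (e' (Φ₁.symm (r • a)))) = r • β.symm (Ψ.symm (e' (Φ₁.symm a)))
    have h1 : Φ₁.symm (r • a) = algebraMap R (R ⧸ u) r • Φ₁.symm a := by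
      apply Φ₁.injective
      rw [hΦ₁, AddEquiv.apply_symm_apply, AddEquiv.apply_symm_apply]
    have h2 : ∀ y : H (maximalIdeal (R ⧸ u)) n (R ⧸ u),
        Ψ.symm (algebraMap R (R ⧸ u) r • y) = r • Ψ.symm y := by
      intro y
      apply Ψ.injective
      rw [hΨ, AddEquiv.apply_symm_apply, AddEquiv.apply_symm_apply]
    rw [h1, map_smul, h2, map_smul]

end Groth.Agent.H8.RCh
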