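import Mathlib
import Groth.Prelude.Def_Wider
import Groth.Agent.Lib.helper8.RChH
import Groth.Agent.Lib.helper8.CanonB
import Groth.Agent.Lib.helper8.CanonA
import Groth.Agent.S0341
import Groth.Agent.S0342

/-!
# Canonical modules, part N (helper8): the canonical module of a local domain (quotient of a
Gorenstein local ring) is isomorphic to a nonzero ideal.
-/

universe u

set_option linter.unusedSectionVars false

namespace Groth.Agent.H8.Canon

open CategoryTheory Abelian LocCoh InjHull IsLocalRing Groth.Agent.H21.LC Groth.Agent.H8.NonVan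
open Groth.Agent.H8.RCh

set_option maxHeartbeats 800000 in
theorem exists_ideal_equiv_canon (A : Type u) [CommRing A] [IsDomain A] [IsNoetherianRing A]
    [IsLocalRing A] (n : ℕ) (hn : ringKrullDim A = n) (E : Type u) [AddCommGroup E] [Module A E]
    (f : ResidueField A →ₗ[A] E) (hf : IsInjectiveHull f) (K : Type u) [AddCommGroup K]
    [Module A K] [Module.Finite A K] (eK : (K →ₗ[A] E) ≃ₗ[A] H (maximalIdeal A) n A)
    (S : Type u) [CommRing S] [LocCoh.IsGorensteinLocalRing S] (g : S →+* A)
    (hg : Function.Surjective g) :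
    ∃ I : Ideal A, I ≠ ⊥ ∧ Nonempty (K ≃ₗ[A] I) := by
  -- `K` is nontrivial
  haveI hKnt : Nontrivial K := by
    by_contra hK
    rw [not_nontrivial_iff_subsingleton] at hK
    haveI : Subsingleton (K →ₗ[A] E) :=
      ⟨fun a b => LinearMap.ext fun x => by rw [Subsingleton.elim x 0, map_zero, map_zero]⟩
    haveI : Subsingleton (H (maximalIdeal A) n A) := eK.symm.toEquiv.subsingleton
    have := nontrivial_H_supportDim n A
      ((Module.supportDim_self_eq_ringKrullDim (R := A)).trans hn)
    exact not_subsingleton _ ‹_›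
  -- `K` is torsion-free
  have hreg : ∀ a : A, a ≠ 0 → IsSMulRegular K a := by
    intro a ha
    rw [isSMulRegular_canon_iff n hn hf K eK a]
    intro p hp _ hap
    rw [IsDomain.minimalPrimes_eq_singleton_bot, Set.mem_singleton_iff] at hp
    rw [hp] at hap
    exact ha hap
  haveI hbot : (⊥ : Ideal A).IsPrime := Ideal.isPrime_bot
  have hcompl : ∀ a : A, a ∈ (⊥ : Ideal A).primeCompl ↔ a ≠ 0 := fun a => Iff.rfl
  -- the localization at `⊥` is a field
  have hL : IsField (Localization.AtPrime (⊥ : Ideal A)) := by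
    rw [IsLocalRing.isField_iff_maximalIdeal_eq, ← Localization.AtPrime.map_eq_maximalIdeal,
      Ideal.map_bot]
  have hdimL : ringKrullDim (Localization.AtPrime (⊥ : Ideal A)) = ((0 : ℕ) : WithBot ℕ∞) := by
    rw [ringKrullDim_eq_zero_of_isField hL]; rfl
  haveI : IsDomain (Localization.AtPrime (⊥ : Ideal A)) := hL.isDomain
  haveI : IsPrincipalIdealRing (Localization.AtPrime (⊥ : Ideal A)) := hL.isPrincipalIdealRing
  haveI : LocCoh.IsGorensteinLocalRing (Localization.AtPrime (⊥ : Ideal A)) :=
    Groth.Agent.S0342.result _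
  haveI : LocCoh.IsCohenMacaulayLocalRing (Localization.AtPrime (⊥ : Ideal A)) :=
    Groth.Agent.S0341.result _
  -- the localization of `K`
  have hmk_inj : Function.Injective (LocalizedModule.mkLinearMap (⊥ : Ideal A).primeCompl K) := by
    rw [← LinearMap.ker_eq_bot, LinearMap.ker_eq_bot']
    intro x hx
    rw [IsLocalizedModule.eq_zero_iff (⊥ : Ideal A).primeCompl] at hx
    obtain ⟨s, hs⟩ := hx
    have hs0 : (s : A) ≠ 0 := (hcompl _).mp s.2
    exact hreg (s : A) hs0 (by
      show (s : A) • x = (s : A) • (0 : K)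
      rw [smul_zero]; exact hs)
  haveI hnt : Nontrivial (LocalizedModule (⊥ : Ideal A).primeCompl K) := by
    obtain ⟨x, hx⟩ := exists_ne (0 : K)
    refine ⟨⟨LocalizedModule.mkLinearMap (⊥ : Ideal A).primeCompl K x, 0, fun h => hx ?_⟩⟩
    apply hmk_inj
    rw [h, map_zero]
  obtain ⟨E', _, _, f', hf'⟩ :=
    Groth.Agent.Lib.helper1.InjHullLib.exists_injective_hull
      (R := Localization.AtPrime (⊥ : Ideal A)) (ResidueField (Localization.AtPrime (⊥ : Ideal A)))
  obtain ⟨eK'⟩ := canonMod_localization A n hn E f hf K eK S g hg ⊥ hnt 0 hdimL E' f' hf'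
  haveI : Module.Finite (Localization.AtPrime (⊥ : Ideal A))
      (LocalizedModule (⊥ : Ideal A).primeCompl K) :=
    Module.Finite.of_isLocalizedModule (⊥ : Ideal A).primeCompl
      (LocalizedModule.mkLinearMap (⊥ : Ideal A).primeCompl K)
  obtain ⟨e⟩ := (gorenstein_iff_canon_free (Localization.AtPrime (⊥ : Ideal A)) 0 hdimL E' f' hf'
    (LocalizedModule (⊥ : Ideal A).primeCompl K) eK').mp inferInstance
  -- the embedding `K → L`
  let ψ : K →ₗ[A] Localization.AtPrime (⊥ : Ideal A) :=
    (e.restrictScalars A).toLinearMap ∘ₗ LocalizedModule.mkLinearMap (⊥ : Ideal A).primeCompl K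
  have hψ : Function.Injective ψ := (e.restrictScalars A).injective.comp hmk_inj
  have hinjL : Function.Injective (algebraMap A (Localization.AtPrime (⊥ : Ideal A))) :=
    IsLocalization.injective _ (fun a ha => mem_nonZeroDivisors_of_ne_zero ((hcompl a).mp ha))
  -- clear denominators
  classical
  obtain ⟨s, hs⟩ := (inferInstance : Module.Finite A K).fg_top
  obtain ⟨b, hb⟩ := IsLocalization.exist_integer_multiples_of_finset (⊥ : Ideal A).primeCompl
    (s.image ψ)
  have hb0 : (b : A) ≠ 0 := (hcompl _).mp b.2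
  have hint : ∀ k : K, (b : A) • ψ k ∈
      LinearMap.range (Algebra.linearMap A (Localization.AtPrime (⊥ : Ideal A))) := by
    intro k
    have hk : k ∈ Submodule.span A (s : Set K) := by rw [hs]; trivial
    induction hk using Submodule.span_induction with
    | mem y hy =>
      obtain ⟨a, ha⟩ := hb (ψ y) (Finset.mem_image_of_mem ψ hy)
      exact ⟨a, ha⟩
    | zero => rw [map_zero, smul_zero]; exact Submodule.zero_mem _
    | add y z _ _ hy hz => rw [map_add, smul_add]; exact Submodule.add_mem _ hy hz
    | smul r y _ hy => rw [map_smul, smul_comm]; exact Submodule.smul_mem _ r hy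
  let φ' : K →ₗ[A] LinearMap.range (Algebra.linearMap A (Localization.AtPrime (⊥ : Ideal A))) :=
    LinearMap.codRestrict _ ((b : A) • ψ) hint
  have hφ' : Function.Injective φ' := by
    intro x y hxy
    have h1 : (b : A) • ψ x = (b : A) • ψ y := congrArg Subtype.val hxy
    rw [← map_smul, ← map_smul] at h1
    exact hreg (b : A) hb0 (hψ h1)
  let ι := LinearEquiv.ofInjective (Algebra.linearMap A (Localization.AtPrime (⊥ : Ideal A))) hinjL
  let φ : K →ₗ[A] A := ι.symm.toLinearMap ∘ₗ φ'
  have hφ : Function.Injective φ := ι.symm.injective.comp hφ'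
  refine ⟨LinearMap.range φ, ?_, ⟨LinearEquiv.ofInjective φ hφ⟩⟩
  intro hbot'
  obtain ⟨x, hx⟩ := exists_ne (0 : K)
  apply hx
  apply hφ
  have : φ x ∈ LinearMap.range φ := ⟨x, rfl⟩
  rw [hbot'] at this
  rw [map_zero]
  exact this

end Groth.Agent.H8.Canon
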