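import Mathlib
import Groth.Prelude.Def_Wider
import Groth.Agent.Lib.helper8.RChH

/-!
# Change of rings, part I (helper8): annihilators of local cohomology via duality — generic lemmas.
-/

universe u

set_option linter.unusedSectionVars false

namespace Groth.Agent.H8.RCh

open CategoryTheory Abelian Opposite LocCoh InjHull IsLocalRing Groth.Agent.H21.LC TensorProduct
open Groth.Agent.H8.NonVan Groth.Agent.H8.LDual Groth.Agent.H8.Matlis

/-- the annihilator of a Matlis dual. -/
theorem annihilator_dual {R : Type u} [CommRing R] [IsNoetherianRing R] [IsLocalRing R]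
    {E : Type u} [AddCommGroup E] [Module R E] (f : ResidueField R →ₗ[R] E)
    (hf : IsInjectiveHull f) (T : Type u) [AddCommGroup T] [Module R T] :
    Module.annihilator R (T →ₗ[R] E) = Module.annihilator R T := by
  ext a
  rw [Module.mem_annihilator, Module.mem_annihilator]
  constructor
  · intro h t
    by_contra hne
    obtain ⟨φ, hφ⟩ := exists_hom_ne_zero f hf hne
    apply hφ
    have := h φ
    rw [map_smul, ← LinearMap.smul_apply, this, LinearMap.zero_apply]
  · intro h φ
    ext t
    rw [LinearMap.smul_apply, ← map_smul, h t, map_zero, LinearMap.zero_apply]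

/-- radicals of annihilators along a semilinear isomorphism. -/
theorem le_radical_annihilator_iff_of_semilinear {S R : Type u} [CommRing S] [CommRing R]
    [Algebra S R] (hg : Function.Surjective (algebraMap S R)) {X Y : Type u} [AddCommGroup X]
    [Module S X] [AddCommGroup Y] [Module R Y] (Ψ : X ≃+ Y)
    (hΨ : ∀ (s : S) (x : X), Ψ (s • x) = algebraMap S R s • Ψ x) (J : Ideal R) :
    J ≤ (Module.annihilator R Y).radical ↔
      J.comap (algebraMap S R) ≤ (Module.annihilator S X).radical := by
  constructor
  · intro h s hs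
    obtain ⟨k, hk⟩ := h (Ideal.mem_comap.mp hs)
    refine ⟨k, ?_⟩
    rw [Module.mem_annihilator] at hk ⊢
    intro x
    apply Ψ.injective
    rw [hΨ, map_pow, hk, map_zero]
  · intro h r hr
    obtain ⟨s, rfl⟩ := hg r
    obtain ⟨k, hk⟩ := h (Ideal.mem_comap.mpr hr)
    refine ⟨k, ?_⟩
    rw [Module.mem_annihilator] at hk ⊢
    intro y
    obtain ⟨x, rfl⟩ := Ψ.surjective y
    rw [← map_pow, ← hΨ, hk, map_zero]

/-- support criterion for `J ≤ rad Ann T`. -/
theorem le_radical_annihilator_iff_localization {S : Type u} [CommRing S] (T : Type u)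
    [AddCommGroup T] [Module S T] [Module.Finite S T] (J : Ideal S) :
    J ≤ (Module.annihilator S T).radical ↔
      ∀ (P : Ideal S) [P.IsPrime], ¬ J ≤ P → Subsingleton (LocalizedModule P.primeCompl T) := by
  constructor
  · intro h P _ hJP
    obtain ⟨s, hsJ, hsP⟩ := Set.not_subset.mp hJP
    obtain ⟨k, hk⟩ := h hsJ
    rw [LocalizedModule.subsingleton_iff]
    intro m
    refine ⟨s ^ k, ?_, ?_⟩
    · exact P.primeCompl.pow_mem hsP k
    · rw [Module.mem_annihilator] at hk
      exact hk m
  · intro h s hs
    rw [Ideal.radical_eq_sInf, Ideal.mem_sInf]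
    rintro P ⟨hP1, hP2⟩
    haveI := hP2
    by_contra hsP
    have h1 := h P (fun hJP => hsP (hJP hs))
    have h2 : (⟨P, hP2⟩ : PrimeSpectrum S) ∈ Module.support S T := by
      rw [Module.mem_support_iff_of_finite]
      exact hP1
    rw [Module.mem_support_iff] at h2
    exact not_subsingleton _ h1

/-- `dim R/p` is a natural number when `dim R` is. -/
theorem exists_nat_dim_quotient {R : Type u} [CommRing R] (n : ℕ) (hn : ringKrullDim R = n)
    (p : Ideal R) [p.IsPrime] : ∃ d : ℕ, ringKrullDim (R ⧸ p) = d := by
  have h1 : ringKrullDim (R ⧸ p) ≤ n := by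
    rw [← hn]
    exact ringKrullDim_le_of_surjective (Ideal.Quotient.mk p) Ideal.Quotient.mk_surjective
  have h2 : ringKrullDim (R ⧸ p) ≠ ⊥ := by
    have h3 : (0 : WithBot ℕ∞) ≤ ringKrullDim (R ⧸ p) := ringKrullDim_nonneg_of_nontrivial
    intro h4
    rw [h4] at h3
    exact absurd h3 (by simp)
  generalize ringKrullDim (R ⧸ p) = D at h1 h2
  induction D using WithBot.recBotCoe with
  | bot => exact absurd rfl h2
  | coe D =>
    induction D using ENat.recTopCoe with
    | top =>
      exfalso
      have : (⊤ : ℕ∞) ≤ (n : ℕ∞) := by exact_mod_cast h1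
      exact ENat.coe_ne_top n (top_le_iff.mp this)
    | coe d => exact ⟨d, rfl⟩

end Groth.Agent.H8.RCh
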