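import Mathlib
import Groth.Prelude.Def_Wider
import Groth.Agent.Lib.helper8.RChJ

/-!
# Change of rings, part K (helper8): the radical of the annihilator of `H^i_m(M)` over a quotient
of a Gorenstein local ring.
-/

universe u

set_option linter.unusedSectionVars false

namespace Groth.Agent.H8.RCh

open CategoryTheory Abelian Opposite LocCoh InjHull IsLocalRing Groth.Agent.H21.LC TensorProduct
open Groth.Agent.H8.NonVan Groth.Agent.H8.LDual Groth.Agent.H8.Matlis

set_option maxHeartbeats 800000 in
theorem le_radical_annihilator_H_iff (R : Type u) [CommRing R] [IsNoetherianRing R]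
    [IsLocalRing R] (S : Type u) [CommRing S] [LocCoh.IsGorensteinLocalRing S] (g : S →+* R)
    (hg : Function.Surjective g) (M : Type u) [AddCommGroup M] [Module R M] [Module.Finite R M]
    (J : Ideal R) (i : ℕ) :
    J ≤ (Module.annihilator R (H (maximalIdeal R) i M)).radical ↔
      ∀ (p : Ideal R) [p.IsPrime], ¬ J ≤ p → ∀ j : ℕ,
        (j : WithBot ℕ∞) + ringKrullDim (R ⧸ p) = i →
        Subsingleton (H (maximalIdeal (Localization.AtPrime p)) j
          (LocalizedModule p.primeCompl M)) := by
  letI : Algebra S R := g.toAlgebra
  have hg' : Function.Surjective (algebraMap S R) := hg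
  haveI : Module.Finite S R := Module.Finite.of_surjective (Algebra.linearMap S R) hg'
  letI : Module S M := Module.compHom M (algebraMap S R)
  haveI : IsScalarTower S R M := ⟨fun s r m => by
    change (s • r) • m = algebraMap S R s • (r • m)
    rw [Algebra.smul_def, mul_smul]⟩
  haveI : Module.Finite S M := Module.Finite.trans R M
  obtain ⟨N, hN⟩ := Groth.Agent.H8.NonVan.exists_supportDim_eq_nat (R := S) S
  rw [Module.supportDim_self_eq_ringKrullDim] at hN
  obtain ⟨n, hn⟩ := Groth.Agent.H8.NonVan.exists_supportDim_eq_nat (R := R) R
  rw [Module.supportDim_self_eq_ringKrullDim] at hn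
  have hnN : n ≤ N := by
    have h1 := ringKrullDim_le_of_surjective g hg
    rw [hn, hN] at h1
    exact_mod_cast h1
  by_cases hi : N < i
  · -- both sides hold
    have hH : Subsingleton (H (maximalIdeal R) i M) :=
      Groth.Agent.H8.CdDim.subsingleton_H_of_supportDim_lt _ M i
        (lt_of_le_of_lt (Module.supportDim_le_ringKrullDim R M) (by
          rw [hn]
          exact_mod_cast (hnN.trans_lt hi)))
    constructor
    · intro _ p _ hJp j hj
      obtain ⟨d, hd⟩ := exists_nat_dim_quotient n hn p
      rw [hd] at hj
      have hj' : j + d = i := by exact_mod_cast hj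
      have h2 := height_add_dim_quotient_le p
      rw [hn, hd] at h2
      apply Groth.Agent.H8.CdDim.subsingleton_H_of_supportDim_lt
      refine lt_of_le_of_lt (Module.supportDim_le_ringKrullDim _ _) ?_
      rw [IsLocalization.AtPrime.ringKrullDim_eq_height p (Localization.AtPrime p)]
      obtain ⟨h, hh⟩ : ∃ h : ℕ, p.height = h :=
        ⟨_, (ENat.coe_toNat (Ideal.height_ne_top (Ideal.IsPrime.ne_top inferInstance))).symm⟩
      rw [hh] at h2 ⊢
      have h2' : h + d ≤ n := by exact_mod_cast h2
      have : h < j := by omega
      exact_mod_cast this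
    · intro _
      rw [Module.annihilator_eq_top_iff.mpr hH, Ideal.radical_top]
      exact le_top
  · push Not at hi
    obtain ⟨ES, _, _, fS, hfS⟩ :=
      Groth.Agent.Lib.helper1.InjHullLib.exists_injective_hull (R := S) (ResidueField S)
    obtain ⟨e1⟩ := gorenstein_duality S N hN ES fS hfS (N - i) (Nat.sub_le N i) M
    have hNi : N - (N - i) = i := by omega
    rw [hNi] at e1
    obtain ⟨Ψ, hΨ⟩ := exists_H_change (maximalIdeal S) (maximalIdeal R)
      (IsLocalRing.map_maximalIdeal_of_surjective (algebraMap S R) hg').symm i M
    haveI : Module.Finite S (((Ext S (ModuleCat.{u} S) (N - i)).obj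
      (op (ModuleCat.of S M))).obj (ModuleCat.of S S)) := finite_ext_old M S (N - i)
    rw [le_radical_annihilator_iff_of_semilinear hg' Ψ hΨ J, e1.annihilator_eq,
      annihilator_dual fS hfS, le_radical_annihilator_iff_localization]
    constructor
    · intro h p _ hJp j hj
      haveI hPprime : (p.comap (algebraMap S R)).IsPrime := Ideal.comap_isPrime _ p
      obtain ⟨d, hd⟩ := exists_nat_dim_quotient n hn p
      rw [hd] at hj
      have hj' : j + d = i := by exact_mod_cast hj
      have h1 := h (p.comap (algebraMap S R)) (fun hle => hJp (by
        intro r hr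
        obtain ⟨s, rfl⟩ := hg' r
        exact hle (Ideal.mem_comap.mpr hr)))
      exact (subsingleton_localized_ext_iff R S hg' N hN M (N - i) (Nat.sub_le N i) p d hd).mp h1
        j (by omega)
    · intro h P _ hJP
      by_cases hker : RingHom.ker (algebraMap S R) ≤ P
      · -- `P` comes from a prime of `R`
        haveI : (P.map (algebraMap S R)).IsPrime :=
          Ideal.map_isPrime_of_surjective hg' hker
        have hPc : (P.map (algebraMap S R)).comap (algebraMap S R) = P := by
          rw [Ideal.comap_map_of_surjective _ hg', sup_eq_left]
          exact hker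
        obtain ⟨d, hd⟩ := exists_nat_dim_quotient n hn (P.map (algebraMap S R))
        have hJp : ¬ J ≤ P.map (algebraMap S R) := by
          intro hle
          apply hJP
          rw [← hPc]
          exact Ideal.comap_mono hle
        haveI hPprime : ((P.map (algebraMap S R)).comap (algebraMap S R)).IsPrime := by
          rw [hPc]; infer_instance
        have h2 := (subsingleton_localized_ext_iff R S hg' N hN M (N - i) (Nat.sub_le N i)
          (P.map (algebraMap S R)) d hd).mpr (fun j hj => h (P.map (algebraMap S R)) hJp j (by
            rw [hd]
            have : j + d = i := by omega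
            exact_mod_cast this))
        have hgoal : ∀ (Q : Ideal S) (hQ : Q.IsPrime), Q = P →
            Subsingleton (LocalizedModule Q.primeCompl (((Ext S (ModuleCat.{u} S) (N - i)).obj
              (op (ModuleCat.of S M))).obj (ModuleCat.of S S))) →
            Subsingleton (LocalizedModule P.primeCompl (((Ext S (ModuleCat.{u} S) (N - i)).obj
              (op (ModuleCat.of S M))).obj (ModuleCat.of S S))) := by
          intro Q hQ hQP hsub
          subst hQP
          exact hsub
        exact hgoal _ hPprime hPc h2
      · -- an element of the kernel outside `P` kills `T`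
        obtain ⟨a, haker, haP⟩ := Set.not_subset.mp hker
        rw [LocalizedModule.subsingleton_iff]
        intro t
        refine ⟨a, haP, ?_⟩
        refine ext_old_smul_eq_zero_of_kill _ _ _ a (fun m => ?_) t
        show a • (show M from m) = 0
        rw [← algebraMap_smul R a (show M from m), (RingHom.mem_ker).mp haker, zero_smul]

end Groth.Agent.H8.RCh
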