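import Mathlib
import Groth.Prelude.Def_Wider
import Groth.Agent.Lib.helper8.RChK
import Groth.Agent.Lib.helper8.MatlisG
import Groth.Agent.Lib.helper8.LCArt
import Groth.Agent.S0342

/-!
# Change of rings, part L (helper8): finite length of `H^i_m(M)` in terms of the localizations.
-/

universe u

set_option linter.unusedSectionVars false

namespace Groth.Agent.H8.RCh

open CategoryTheory Abelian Opposite LocCoh InjHull IsLocalRing Groth.Agent.H21.LC TensorProduct
open Groth.Agent.H8.NonVan Groth.Agent.H8.LDual Groth.Agent.H8.Matlis

section FL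

variable {R : Type u} [CommRing R] [IsLocalRing R] [IsNoetherianRing R]

/-- an Artinian module killed by a power of the maximal ideal has finite length. -/
theorem isFiniteLength_of_isArtinian_of_pow_smul_eq_zero (k : ℕ) :
    ∀ (H : Type u) [AddCommGroup H] [Module R H] [IsArtinian R H],
      (∀ a ∈ (maximalIdeal R) ^ k, ∀ x : H, a • x = 0) → IsFiniteLength R H := by
  induction k with
  | zero =>
    intro H _ _ _ h
    haveI : Subsingleton H := ⟨fun x y => by
      have h1 := h 1 (by simp) x
      have h2 := h 1 (by simp) y
      rw [one_smul] at h1 h2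
      rw [h1, h2]⟩
    exact IsFiniteLength.of_subsingleton
  | succ k ih =>
    intro H _ _ _ h
    have hS : IsFiniteLength R ↥(torsionBy (maximalIdeal R) H) := by
      rw [isFiniteLength_iff_isNoetherian_isArtinian]
      haveI := finite_socle_of_isArtinian (R := R) H
      haveI : Module.Finite R ↥(torsionBy (maximalIdeal R) H) :=
        Module.Finite.trans (R ⧸ maximalIdeal R) _
      exact ⟨inferInstance, inferInstance⟩
    have hQ : IsFiniteLength R (H ⧸ torsionBy (maximalIdeal R) H) := ih _ (by
      intro a ha x
      obtain ⟨y, rfl⟩ := Submodule.Quotient.mk_surjective _ x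
      rw [← Submodule.Quotient.mk_smul, Submodule.Quotient.mk_eq_zero,
        Submodule.mem_torsionBySet_iff]
      rintro ⟨b, hb⟩
      show b • a • y = 0
      rw [smul_smul]
      exact h (b * a) (by rw [pow_succ']; exact Ideal.mul_mem_mul hb ha) y)
    rw [isFiniteLength_iff_isNoetherian_isArtinian] at hS hQ ⊢
    exact ⟨(isNoetherian_iff_submodule_quotient (torsionBy (maximalIdeal R) H)).mpr ⟨hS.1, hQ.1⟩,
      inferInstance⟩

/-- a module of finite length is killed by a power of each element of the maximal ideal. -/
theorem maximalIdeal_le_radical_annihilator_of_isFiniteLength (H : Type u) [AddCommGroup H]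
    [Module R H] (h : IsFiniteLength R H) :
    maximalIdeal R ≤ (Module.annihilator R H).radical := by
  rw [isFiniteLength_iff_isNoetherian_isArtinian] at h
  obtain ⟨hN, hA⟩ := h
  intro a ha
  obtain ⟨s, hs⟩ := (inferInstance : Module.Finite R H).fg_top
  have hpt := isPowerTorsion_of_isArtinian (R := R) H
  choose n hn using hpt
  refine ⟨s.sup n, ?_⟩
  rw [Module.mem_annihilator]
  intro x
  have hx : x ∈ Submodule.span R (s : Set H) := by rw [hs]; trivial
  induction hx using Submodule.span_induction with
  | mem y hy =>
    refine hn y _ (Ideal.pow_le_pow_right (Finset.le_sup hy) ?_)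
    exact Ideal.pow_mem_pow ha _
  | zero => rw [smul_zero]
  | add y z _ _ hy hz => rw [smul_add, hy, hz, add_zero]
  | smul r y _ hy => rw [smul_comm, hy, smul_zero]

/-- finite length of `H^i_m(M)` in terms of its annihilator. -/
theorem isFiniteLength_H_iff (M : Type u) [AddCommGroup M] [Module R M] [Module.Finite R M]
    (i : ℕ) : IsFiniteLength R (H (maximalIdeal R) i M) ↔
      maximalIdeal R ≤ (Module.annihilator R (H (maximalIdeal R) i M)).radical := by
  constructor
  · exact maximalIdeal_le_radical_annihilator_of_isFiniteLength _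
  · intro h
    obtain ⟨k, hk⟩ := Ideal.exists_pow_le_of_le_radical_of_fg h
      (IsNoetherian.noetherian (maximalIdeal R))
    haveI : IsArtinian R (H (maximalIdeal R) i M) :=
      Groth.Agent.H8.LCArt.isArtinian_H_of_isMaximal (maximalIdeal R) i M
    exact isFiniteLength_of_isArtinian_of_pow_smul_eq_zero k _ (fun a ha x =>
      Module.mem_annihilator.mp (hk ha) x)

end FL

/-- finite length of `H^i_m(M)` over a quotient of a Gorenstein local ring. -/
theorem isFiniteLength_H_iff_localizations (R : Type u) [CommRing R] [IsNoetherianRing R]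
    [IsLocalRing R] (S : Type u) [CommRing S] [LocCoh.IsGorensteinLocalRing S] (g : S →+* R)
    (hg : Function.Surjective g) (M : Type u) [AddCommGroup M] [Module R M] [Module.Finite R M]
    (i : ℕ) :
    IsFiniteLength R (H (maximalIdeal R) i M) ↔
      ∀ p : PrimeSpectrum R, p.asIdeal ≠ maximalIdeal R → ∀ (e j : ℕ),
        ringKrullDim (R ⧸ p.asIdeal) = e → j + e = i →
        Subsingleton (H (maximalIdeal (Localization.AtPrime p.asIdeal)) j
          (LocalizedModule p.asIdeal.primeCompl M)) := by
  rw [isFiniteLength_H_iff, le_radical_annihilator_H_iff R S g hg M (maximalIdeal R) i]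
  constructor
  · intro h p hp e j he hj
    refine h p.asIdeal (fun hle => hp ?_) j ?_
    · exact (Ideal.IsMaximal.eq_of_le (inferInstance : (maximalIdeal R).IsMaximal)
          p.isPrime.ne_top hle).symm
    · rw [he]
      exact_mod_cast hj
  · intro h p _ hp j hj
    obtain ⟨n, hn⟩ := Groth.Agent.H8.NonVan.exists_supportDim_eq_nat (R := R) R
    rw [Module.supportDim_self_eq_ringKrullDim] at hn
    obtain ⟨d, hd⟩ := exists_nat_dim_quotient n hn p
    refine h ⟨p, inferInstance⟩ (fun heq => hp (le_of_eq heq.symm)) d j hd ?_
    rw [hd] at hj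
    exact_mod_cast hj

end Groth.Agent.H8.RCh
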