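import Mathlib
import Groth.Prelude.Def_Wider
import Groth.Agent.Lib.helper8.RChL
import Groth.Agent.Lib.helper21.LC9

/-!
# Change of rings, part M (helper8): finite length of `H^i_m(M)` for `i ≤ n` in terms of depths.
-/

universe u

set_option linter.unusedSectionVars false

namespace Groth.Agent.H8.RCh

open CategoryTheory Abelian Opposite LocCoh InjHull IsLocalRing Groth.Agent.H21.LC TensorProduct
open Groth.Agent.H8.NonVan Groth.Agent.H8.LDual Groth.Agent.H8.Matlis Groth.Agent.H8.CdDim
open Groth.Agent.Lib.helper9.Depth

/-- depth of a module over a local ring via vanishing of local cohomology. -/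
theorem forall_lt_subsingleton_H_iff (B : Type u) [CommRing B] [IsLocalRing B] [IsNoetherianRing B]
    (X : Type u) [AddCommGroup X] [Module B X] [Module.Finite B X] (t : ℕ) :
    (∀ j : ℕ, j < t → Subsingleton (H (maximalIdeal B) j X)) ↔ (t : ℕ∞) ≤ depth B X := by
  by_cases hX : Subsingleton X
  · have h1 : depth B X = ⊤ := by
      unfold depth idealDepth
      rw [if_pos (Subsingleton.elim _ _)]
    rw [h1]
    simp only [le_top, iff_true]
    intro j _
    exact subsingleton_H_of_subsingleton (maximalIdeal B) j (ModuleCat.of B X)
  · rw [not_subsingleton_iff_nontrivial] at hX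
    have hIM : (maximalIdeal B) • (⊤ : Submodule B X) ≠ ⊤ := by
      intro h
      have := Submodule.eq_bot_of_le_smul_of_le_jacobson_bot (maximalIdeal B) (⊤ : Submodule B X)
        Module.Finite.fg_top (le_of_eq h.symm) (IsLocalRing.maximalIdeal_le_jacobson _)
      exact top_ne_bot this
    constructor
    · intro h
      by_contra hlt
      push Not at hlt
      obtain ⟨d, hd⟩ := exists_nat_eq_idealDepth (I := maximalIdeal B) X hIM
      have hd' : depth B X = d := hd
      rw [hd'] at hlt
      have hdt : d < t := by exact_mod_cast hlt
      have := nontrivial_of_depth_eq (maximalIdeal B) X hIM d hd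
      exact not_subsingleton _ (h d hdt)
    · intro h j hj
      refine subsingleton_of_lt_depth (maximalIdeal B) X hIM j ?_
      refine le_trans ?_ h
      exact_mod_cast hj

theorem forall_isFiniteLength_H_iff_depth (R : Type u) [CommRing R] [IsNoetherianRing R]
    [IsLocalRing R] (S : Type u) [CommRing S] [LocCoh.IsGorensteinLocalRing S] (g : S →+* R)
    (hg : Function.Surjective g) (M : Type u) [AddCommGroup M] [Module R M] [Module.Finite R M]
    (n : ℕ) :
    (∀ i : ℕ, i ≤ n → IsFiniteLength R (H (maximalIdeal R) i M)) ↔
      ∀ p : PrimeSpectrum R, p.asIdeal ≠ maximalIdeal R → ∀ e : ℕ,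
        ringKrullDim (R ⧸ p.asIdeal) = e →
        (n : ℕ∞) < depth (Localization.AtPrime p.asIdeal)
          (LocalizedModule p.asIdeal.primeCompl M) + e := by
  have key : ∀ (D : ℕ∞) (e : ℕ), ((n + 1 - e : ℕ) : ℕ∞) ≤ D ↔ (n : ℕ∞) < D + e := by
    intro D e
    induction D using ENat.recTopCoe with
    | top => simp
    | coe d =>
      constructor
      · intro h
        have h' : n + 1 - e ≤ d := by exact_mod_cast h
        have : n < d + e := by omega
        exact_mod_cast this
      · intro h
        have h' : n < d + e := by exact_mod_cast h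
        have : n + 1 - e ≤ d := by omega
        exact_mod_cast this
  constructor
  · intro h p hp e he
    rw [← key, ← forall_lt_subsingleton_H_iff]
    intro j hj
    exact (isFiniteLength_H_iff_localizations R S g hg M (j + e)).mp (h (j + e) (by omega))
      p hp e j he rfl
  · intro h i hi
    rw [isFiniteLength_H_iff_localizations R S g hg M i]
    intro p hp e j he hj
    have h1 := h p hp e he
    rw [← key, ← forall_lt_subsingleton_H_iff] at h1
    exact h1 j (by omega)

end Groth.Agent.H8.RCh
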