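import Mathlib
import Groth.Prelude.Def_Wider
import Groth.Agent.Lib.helper8.CanonN
import Groth.Agent.Lib.helper8.CanonD
import Groth.Agent.Lib.helper8.RChM
import Groth.Agent.Lib.helper8.LCFDB
import Groth.Agent.Lib.helper8.LDualE

/-!
# Canonical modules, part O (helper8): an ideal isomorphic to the canonical module of a
Cohen–Macaulay local domain is unmixed of height one.
-/

universe u

set_option linter.unusedSectionVars false

namespace Groth.Agent.H8.Canon

open CategoryTheory Abelian LocCoh InjHull IsLocalRing Groth.Agent.H21.LC Groth.Agent.H8.NonVan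
open Groth.Agent.H8.RCh Groth.Agent.H8.FD Groth.Agent.Lib.helper9.Depth

/-- depth of a quotient by an ideal. -/
theorem depth_quotient_ge (A : Type u) [CommRing A] [IsNoetherianRing A] [IsLocalRing A]
    (I : Ideal A) (t : ℕ) (hA : ((t + 1 : ℕ) : ℕ∞) ≤ depth A A)
    (hI : ((t + 1 : ℕ) : ℕ∞) ≤ depth A I) : (t : ℕ∞) ≤ depth A (A ⧸ I) := by
  rw [← forall_lt_subsingleton_H_iff]
  intro j hj
  haveI h2 : Subsingleton (H (maximalIdeal A) j A) :=
    (forall_lt_subsingleton_H_iff A A (t + 1)).mpr hA j (by omega)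
  haveI h3 : Subsingleton (H (maximalIdeal A) (j + 1) I) :=
    (forall_lt_subsingleton_H_iff A I (t + 1)).mpr hI (j + 1) (by omega)
  have hS := subSES_shortExact (R := A) (M := A) I
  have key : ∀ x : (localCohomology (maximalIdeal A) j).obj (subSES (R := A) (M := A) I).X₃,
      x = 0 := by
    intro x
    have hx : δ (maximalIdeal A) hS j x = 0 := @Subsingleton.elim _ h3 _ _
    obtain ⟨y, rfl⟩ := ((exact₃ (maximalIdeal A) hS j) x).1 hx
    have hy : y = 0 := @Subsingleton.elim _ h2 _ _
    rw [hy, map_zero]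
  exact ⟨fun a b => (key a).trans (key b).symm⟩

/-- an ideal isomorphic to the canonical module of a CM local domain is unmixed of height one. -/
theorem height_eq_one_of_mem_associatedPrimes_quotient (A : Type u) [CommRing A] [IsDomain A]
    [LocCoh.IsCohenMacaulayLocalRing A] (n : ℕ) (hn : ringKrullDim A = n) (E : Type u)
    [AddCommGroup E] [Module A E]
    (f : ResidueField A →ₗ[A] E) (hf : IsInjectiveHull f) (K : Type u) [AddCommGroup K]
    [Module A K] [Module.Finite A K] (eK : (K →ₗ[A] E) ≃ₗ[A] H (maximalIdeal A) n A)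
    (I : Ideal A) (hI0 : I ≠ ⊥) (e : K ≃ₗ[A] I) (q : Ideal A)
    (hq : q ∈ associatedPrimes A (A ⧸ I)) : q.height = 1 := by
  haveI : q.IsPrime := hq.isPrime
  have hCM := LocCoh.IsCohenMacaulayLocalRing.supportDim_eq_depth (R := A)
  rw [Module.supportDim_self_eq_ringKrullDim, hn] at hCM
  have hd : LocCoh.depth A A = n := by
    have : ((n : ℕ∞) : WithBot ℕ∞) = ((LocCoh.depth A A : ℕ∞) : WithBot ℕ∞) := hCM
    exact (WithBot.coe_injective this).symm
  have hdK : LocCoh.depth A K = n := depth_canon n hn hd hf K eK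
  have hdI : LocCoh.depth A I = n := by
    rw [← hdK]
    exact (idealDepth_congr (maximalIdeal A) e).symm
  -- `dim A/q ≥ n - 1`
  have h1 : ((n - 1 : ℕ) : ℕ∞) ≤ depth A (A ⧸ I) := by
    rcases Nat.eq_zero_or_pos n with h0 | hpos
    · rw [h0]; exact zero_le
    · refine depth_quotient_ge A I (n - 1) ?_ ?_
      · rw [hd]; exact_mod_cast (by omega : n - 1 + 1 ≤ n)
      · rw [hdI]; exact_mod_cast (by omega : n - 1 + 1 ≤ n)
  have h2 := depth_le_ringKrullDim_quotient_of_mem_associatedPrimes (A ⧸ I) q hq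
  have h3 := Groth.Agent.H8.LDual.dim_quotient_add_height_prime A n hn q
  -- `q ≠ ⊥`
  have hIq : I ≤ q := by
    have := hq.annihilator_le
    rwa [Submodule.annihilator_top, Ideal.annihilator_quotient] at this
  have hq0 : q.height ≠ 0 := by
    rw [Ne, Ideal.height_eq_zero_iff_eq_bot]
    rintro rfl
    exact hI0 (le_bot_iff.mp hIq)
  obtain ⟨h, hh⟩ : ∃ h : ℕ, q.height = h :=
    ⟨_, (ENat.coe_toNat (Ideal.height_ne_top (Ideal.IsPrime.ne_top inferInstance))).symm⟩
  rw [hh] at h3 hq0 ⊢
  generalize ringKrullDim (A ⧸ q) = D at h2 h3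
  have h12 : (((n - 1 : ℕ) : ℕ∞) : WithBot ℕ∞) ≤ D := le_trans (by exact_mod_cast h1) h2
  induction D using WithBot.recBotCoe with
  | bot => simp at h3
  | coe D =>
    induction D using ENat.recTopCoe with
    | top =>
      exfalso
      have : ((⊤ : ℕ∞) : WithBot ℕ∞) + ((h : ℕ∞) : WithBot ℕ∞) = ((⊤ : ℕ∞) : WithBot ℕ∞) := by
        rw [← WithBot.coe_add, top_add]
      rw [this] at h3
      have h5 : (⊤ : ℕ∞) = (n : ℕ∞) := by exact_mod_cast h3
      exact ENat.top_ne_coe n h5
    | coe d =>
      have h3' : d + h = n := by exact_mod_cast h3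
      have h12' : n - 1 ≤ d := by exact_mod_cast h12
      have hq0' : h ≠ 0 := by exact_mod_cast hq0
      have : h = 1 := by omega
      rw [this]; rfl

end Groth.Agent.H8.Canon
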