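import Mathlib
import Groth.Prelude.Def_Wider
import Groth.Agent.Lib.helper8.CanonO

/-!
# Canonical modules, part P (helper8): the canonical module of a Cohen–Macaulay local domain is
the ring or an unmixed height-one ideal; Cohen–Macaulay factorial quotients of Gorenstein rings are
Gorenstein.
-/

universe u

set_option linter.unusedSectionVars false

namespace Groth.Agent.H8.Canon

open CategoryTheory Abelian LocCoh InjHull IsLocalRing Groth.Agent.H21.LC Groth.Agent.H8.NonVan
open Groth.Agent.H8.RCh Groth.Agent.H8.FD Groth.Agent.Lib.helper9.Depth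

section

variable (A : Type u) [CommRing A] [IsDomain A] [LocCoh.IsCohenMacaulayLocalRing A]
  (n : ℕ) (hn : ringKrullDim A = n) (E : Type u) [AddCommGroup E] [Module A E]
  (f : ResidueField A →ₗ[A] E) (hf : IsInjectiveHull f) (K : Type u) [AddCommGroup K]
  [Module A K] [Module.Finite A K] (eK : (K →ₗ[A] E) ≃ₗ[A] H (maximalIdeal A) n A)
  (S : Type u) [CommRing S] [LocCoh.IsGorensteinLocalRing S] (g : S →+* A)
  (hg : Function.Surjective g)

include hn hf eK hg

/-- the canonical module of a CM local domain is the ring or an unmixed ideal of height one. -/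
theorem canon_equiv_self_or_unmixed :
    Nonempty (K ≃ₗ[A] A) ∨ ∃ I : Ideal A, I ≠ ⊤ ∧
      (∀ q ∈ associatedPrimes A (A ⧸ I), q.height = 1) ∧ Nonempty (K ≃ₗ[A] I) := by
  obtain ⟨I, hI0, ⟨e⟩⟩ := exists_ideal_equiv_canon A n hn E f hf K eK S g hg
  by_cases hItop : I = ⊤
  · left
    exact ⟨e.trans ((LinearEquiv.ofEq _ _ hItop).trans Submodule.topEquiv)⟩
  · right
    exact ⟨I, hItop, fun q hq =>
      height_eq_one_of_mem_associatedPrimes_quotient A n hn E f hf K eK I hI0 e q hq, ⟨e⟩⟩

/-- a factorial CM local domain which is a quotient of a Gorenstein local ring is Gorenstein. -/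
theorem isGorensteinLocalRing_of_ufd [UniqueFactorizationMonoid A] :
    LocCoh.IsGorensteinLocalRing A := by
  rw [gorenstein_iff_canon_free A n hn E f hf K eK]
  obtain ⟨I₀, hI₀, ⟨e₀⟩⟩ := exists_ideal_equiv_canon A n hn E f hf K eK S g hg
  obtain ⟨I, ⟨hI0, ⟨e⟩⟩, hmax⟩ := set_has_maximal_iff_noetherian.mpr
    (inferInstance : IsNoetherian A A) {J : Ideal A | J ≠ ⊥ ∧ Nonempty (K ≃ₗ[A] J)}
    ⟨I₀, hI₀, ⟨e₀⟩⟩
  by_cases hItop : I = ⊤
  · exact ⟨e.trans ((LinearEquiv.ofEq _ _ hItop).trans Submodule.topEquiv)⟩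
  exfalso
  -- a minimal prime of `I`
  obtain ⟨P, hP, hPm⟩ := Ideal.exists_minimalPrimes_le (IsLocalRing.le_maximalIdeal hItop)
  haveI hPprime : P.IsPrime := hP.1.1
  have hPass : P ∈ associatedPrimes A (A ⧸ I) := by
    apply Module.associatedPrimes.minimalPrimes_annihilator_subset_associatedPrimes A (A ⧸ I)
    rwa [Ideal.annihilator_quotient]
  have hPht := height_eq_one_of_mem_associatedPrimes_quotient A n hn E f hf K eK I hI0 e P hPass
  have hP0 : P ≠ ⊥ := by
    rintro rfl
    exact hI0 (le_bot_iff.mp hP.1.2)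
  obtain ⟨π, hπP, hπ⟩ := Ideal.IsPrime.exists_mem_prime_of_ne_bot hPprime hP0
  haveI hspan : (Ideal.span {π}).IsPrime := (Ideal.span_singleton_prime hπ.ne_zero).mpr hπ
  have hle : Ideal.span {π} ≤ P := (Ideal.span_singleton_le_iff_mem _).mpr hπP
  have hPeq : P = Ideal.span {π} := by
    by_contra hne
    have hlt : Ideal.span {π} < P := lt_of_le_of_ne hle (fun h => hne h.symm)
    have h1 := Ideal.height_add_one_le_of_lt_of_isPrime hlt
    rw [hPht] at h1
    have h2 : (Ideal.span {π}).height = 0 := by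
      have : (Ideal.span {π}).height + 1 ≤ 0 + 1 := by simpa using h1
      exact le_antisymm (by
        have h3 := (ENat.add_le_add_iff_right ENat.one_ne_top).mp this
        exact h3) zero_le
    rw [Ideal.height_eq_zero_iff_eq_bot, Ideal.span_singleton_eq_bot] at h2
    exact hπ.ne_zero h2
  have hIπ : I ≤ Ideal.span {π} := hPeq ▸ hP.1.2
  -- the ideal `J = (I : π)`
  let J : Ideal A := Submodule.comap (LinearMap.mulLeft A π) I
  have hIJ : I ≤ J := fun a ha => by
    show π * a ∈ I
    exact Ideal.mul_mem_left _ _ ha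
  have hJ0 : J ≠ ⊥ := fun h => hI0 (le_bot_iff.mp (h ▸ hIJ))
  let μ : J →ₗ[A] I :=
    LinearMap.codRestrict I ((LinearMap.mulLeft A π) ∘ₗ J.subtype) (fun a => a.2)
  have hμinj : Function.Injective μ := by
    intro a b hab
    have h1 : π * (a : A) = π * (b : A) := congrArg Subtype.val hab
    exact Subtype.ext (mul_left_cancel₀ hπ.ne_zero h1)
  have hμsurj : Function.Surjective μ := by
    intro x
    obtain ⟨a, ha⟩ := Ideal.mem_span_singleton'.mp (hIπ x.2)
    refine ⟨⟨a, ?_⟩, Subtype.ext ?_⟩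
    · show π * a ∈ I
      rw [mul_comm, ha]; exact x.2
    · show π * a = x
      rw [mul_comm, ha]
  have eJ : K ≃ₗ[A] J := e.trans (LinearEquiv.ofBijective μ ⟨hμinj, hμsurj⟩).symm
  have hJI : J = I := by
    by_contra hne
    exact hmax J ⟨hJ0, ⟨eJ⟩⟩ (lt_of_le_of_ne hIJ (fun h => hne h.symm))
  -- Nakayama
  have hNak : I ≤ (maximalIdeal A) • I := by
    intro x hx
    obtain ⟨a, ha⟩ := Ideal.mem_span_singleton'.mp (hIπ hx)
    have haJ : a ∈ J := by
      show π * a ∈ I
      rw [mul_comm, ha]; exact hx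
    rw [hJI] at haJ
    rw [← ha, mul_comm]
    exact Submodule.smul_mem_smul (hPm hπP) haJ
  exact hI0 (Submodule.eq_bot_of_le_smul_of_le_jacobson_bot (maximalIdeal A) I
    (IsNoetherian.noetherian I) hNak (IsLocalRing.maximalIdeal_le_jacobson _))

end

end Groth.Agent.H8.Canon
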