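import Mathlib
import Groth.Prelude.Def_Wider
import Groth.Agent.Lib.helper8.CanonP
import Groth.Agent.Lib.helper8.RChE

/-!
# Canonical modules, part Q (helper8): quotients of a regular local ring by a prime.
-/

universe u

set_option linter.unusedSectionVars false

namespace Groth.Agent.H8.Canon

open CategoryTheory Abelian Opposite LocCoh InjHull IsLocalRing Groth.Agent.H21.LC
open Groth.Agent.H8.NonVan Groth.Agent.H8.RCh Groth.Agent.H8.FD Groth.Agent.Lib.helper9.Depth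
open Groth.Agent.H8.LDual

set_option maxHeartbeats 800000 in
theorem ext_height_quotient_prime (B : Type u) [CommRing B] [LocCoh.IsGorensteinLocalRing B]
    (p : Ideal B) [p.IsPrime] [LocCoh.IsCohenMacaulayLocalRing (B ⧸ p)] (r : ℕ)
    (hr : p.height = r) :
    (Nonempty (((Ext B (ModuleCat.{u} B) r).obj (op (ModuleCat.of B (B ⧸ p)))).obj
        (ModuleCat.of B B) ≃ₗ[B] (B ⧸ p)) ∨
      ∃ I : Ideal (B ⧸ p), I ≠ ⊤ ∧
        (∀ q ∈ associatedPrimes (B ⧸ p) ((B ⧸ p) ⧸ I), q.height = 1) ∧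
        Nonempty (((Ext B (ModuleCat.{u} B) r).obj (op (ModuleCat.of B (B ⧸ p)))).obj
          (ModuleCat.of B B) ≃ₗ[B] I)) ∧
    ((UniqueFactorizationMonoid (B ⧸ p)) → LocCoh.IsGorensteinLocalRing (B ⧸ p)) := by
  haveI := Groth.Agent.S0341.result B
  have hg' : Function.Surjective (algebraMap B (B ⧸ p)) := Ideal.Quotient.mk_surjective
  haveI : Module.Finite B (B ⧸ p) := Module.Finite.of_surjective (Algebra.linearMap B (B ⧸ p)) hg'
  obtain ⟨N, hN⟩ := Groth.Agent.H8.NonVan.exists_supportDim_eq_nat (R := B) B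
  rw [Module.supportDim_self_eq_ringKrullDim] at hN
  obtain ⟨n, hn⟩ := Groth.Agent.H8.NonVan.exists_supportDim_eq_nat (R := B ⧸ p) (B ⧸ p)
  rw [Module.supportDim_self_eq_ringKrullDim] at hn
  have hsum : n + r = N := dim_quotient_add_height B N hN p r n hr hn
  obtain ⟨E, _, _, f, hf⟩ :=
    Groth.Agent.Lib.helper1.InjHullLib.exists_injective_hull (R := B ⧸ p) (ResidueField (B ⧸ p))
  have hker : ∀ a : B, algebraMap B (B ⧸ p) a = 0 →
      ∀ x : ((Ext B (ModuleCat.{u} B) r).obj (op (ModuleCat.of B (B ⧸ p)))).obj (ModuleCat.of B B),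
        a • x = 0 := by
    intro a ha x
    refine ext_old_smul_eq_zero_of_kill _ _ _ a (fun y => ?_) x
    show a • (show B ⧸ p from y) = 0
    rw [Algebra.smul_def, ha, zero_mul]
  letI : Module (B ⧸ p) (((Ext B (ModuleCat.{u} B) r).obj (op (ModuleCat.of B (B ⧸ p)))).obj
      (ModuleCat.of B B)) := modOfSurj hg' _ hker
  haveI : IsScalarTower B (B ⧸ p) (((Ext B (ModuleCat.{u} B) r).obj
      (op (ModuleCat.of B (B ⧸ p)))).obj (ModuleCat.of B B)) := isScalarTower_modOfSurj hg' _ hker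
  haveI : Module.Finite B (((Ext B (ModuleCat.{u} B) r).obj
      (op (ModuleCat.of B (B ⧸ p)))).obj (ModuleCat.of B B)) := finite_ext_old (B ⧸ p) B r
  haveI : Module.Finite (B ⧸ p) (((Ext B (ModuleCat.{u} B) r).obj
      (op (ModuleCat.of B (B ⧸ p)))).obj (ModuleCat.of B B)) :=
    Module.Finite.of_restrictScalars_finite B (B ⧸ p) _
  obtain ⟨eK⟩ := canonMod_of_equiv_ext (B ⧸ p) n E f hf B hg' N hN r (by omega) (by omega)
    (((Ext B (ModuleCat.{u} B) r).obj (op (ModuleCat.of B (B ⧸ p)))).obj (ModuleCat.of B B))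
    (LinearEquiv.refl B _)
  constructor
  · rcases canon_equiv_self_or_unmixed (B ⧸ p) n hn E f hf _ eK B (algebraMap B (B ⧸ p)) hg' with
      ⟨⟨e⟩⟩ | ⟨I, hI, hq, ⟨e⟩⟩
    · left
      exact ⟨e.restrictScalars B⟩
    · right
      exact ⟨I, hI, hq, ⟨e.restrictScalars B⟩⟩
  · intro hufd
    exact isGorensteinLocalRing_of_ufd (B ⧸ p) n hn E f hf _ eK B (algebraMap B (B ⧸ p)) hg'

end Groth.Agent.H8.Canon
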