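import Mathlib
import Groth.Prelude.Def_Wider
import Groth.Agent.Lib.helper19.MvPSLemma
import Groth.Agent.Lib.helper8.DModB

/-!
# D-modules supported at the origin, part C (helper8): the power series ring.
-/

universe u

namespace Groth.Agent.H8.DMod

open LocCoh InjHull IsLocalRing Groth.Agent.H8.Matlis MvPowerSeries

theorem maximalIdeal_mvPowerSeries_eq_span (k : Type u) [Field k] (d : ℕ) :
    maximalIdeal (MvPowerSeries (Fin d) k) =
      Ideal.span (Set.range (X : Fin d → MvPowerSeries (Fin d) k)) := by
  apply le_antisymm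
  · intro p hp
    rw [mem_maximalIdeal, mem_nonunits_iff, MvPowerSeries.isUnit_iff_constantCoeff] at hp
    have hp0 : constantCoeff p = 0 := by simpa using hp
    have h1 := Groth.Agent.Lib.helper19.sub_truncTotal_mem_span_X_pow 1 p
    have h2 : truncTotal 1 p = 0 := by
      ext x
      rw [coeff_truncTotal_eq_ite, MvPolynomial.coeff_zero]
      split_ifs with hx
      · have : x = 0 := by
          have : Finsupp.degree x = 0 := by omega
          exact (Finsupp.degree_eq_zero_iff x).mp this
        rw [this]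
        exact hp0
      · rfl
    rw [h2, pow_one] at h1
    simpa using h1
  · rw [Ideal.span_le]
    rintro _ ⟨i, rfl⟩
    change X i ∈ maximalIdeal _
    rw [mem_maximalIdeal, mem_nonunits_iff, MvPowerSeries.isUnit_iff_constantCoeff]
    simp

/-- Lyubeznik: a power-torsion `D`-module over `k[[x₁,…,x_d]]` (char 0) is a sum of copies of `E`. -/
theorem exists_equiv_finsupp (k : Type u) [Field k] [CharZero k] (d : ℕ)
    (E : Type u) [AddCommGroup E] [Module (MvPowerSeries (Fin d) k) E]
    (e : ResidueField (MvPowerSeries (Fin d) k) →ₗ[MvPowerSeries (Fin d) k] E)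
    (he : IsInjectiveHull e)
    (θ : Fin d → Derivation k (MvPowerSeries (Fin d) k) (MvPowerSeries (Fin d) k))
    (hθ : ∀ i j : Fin d, θ i (MvPowerSeries.X j) = if i = j then 1 else 0)
    (M : Type u) [AddCommGroup M] [Module (MvPowerSeries (Fin d) k) M]
    (hM : IsPowerTorsion (maximalIdeal (MvPowerSeries (Fin d) k)) M)
    (D : Fin d → M →+ M)
    (hD : ∀ (i : Fin d) (f : MvPowerSeries (Fin d) k) (z : M),
      D i (f • z) = θ i f • z + f • D i z) :
    ∃ J : Type u, Nonempty (M ≃ₗ[MvPowerSeries (Fin d) k] (J →₀ E)) := by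
  have hx := maximalIdeal_mvPowerSeries_eq_span k d
  have hD' : ∀ (i j : Fin d) (z : M),
      D i ((X j : MvPowerSeries (Fin d) k) • z) =
        (if i = j then z else 0) + (X j : MvPowerSeries (Fin d) k) • D i z := by
    intro i j z
    rw [hD, hθ]
    split_ifs with h
    · rw [one_smul]
    · rw [zero_smul]
  have hu : ∀ n : ℕ, n ≠ 0 → IsUnit ((n : ℕ) : MvPowerSeries (Fin d) k) := by
    intro n hn
    have h1 : IsUnit ((n : ℕ) : k) := (Nat.cast_ne_zero.mpr hn).isUnit
    have h2 := h1.map (algebraMap k (MvPowerSeries (Fin d) k))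
    rwa [map_natCast] at h2
  have hT : ∀ z : M, ∃ n, z ∈ Fil (X : Fin d → MvPowerSeries (Fin d) k) (M := M) n := by
    intro z
    obtain ⟨n, hn⟩ := hM z
    refine ⟨n, mem_Fil_of_pow_smul _ n z ?_⟩
    rw [← hx]
    exact hn
  have hinj : Module.Injective (MvPowerSeries (Fin d) k) M :=
    injective_of_koszul (X : Fin d → MvPowerSeries (Fin d) k) hx hM
      (fun z hz => exists_smul_eq_of_cocycle _ D hD' hu hT z hz)
  exact exists_equiv_finsupp_of_injective e he hinj hM

end Groth.Agent.H8.DMod
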