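import Mathlib
import Groth.Prelude.Def_Wider
import Groth.Prelude.Def_CAlg
import Groth.Agent.Lib.helper9.Depth1
import Groth.Agent.Lib.helper9.Depth5
import Groth.Agent.Lib.helper8.MatlisD

/-!
# Depth along a local homomorphism, for modules finite over the source (helper8)
-/

set_option autoImplicit false
universe u

namespace Groth.Agent.H8.DepthHom

open LocCoh RingTheory.Sequence IsLocalRing Groth.Agent.Lib.helper9.Depth
open scoped Pointwise

variable {A B : Type u} [CommRing A] [CommRing B] [Algebra A B]

section Quot

variable (M : Type u) [AddCommGroup M] [Module B M] [Module A M] [IsScalarTower A B M]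

lemma smul_top_restrictScalars (a : A) :
    (a • (⊤ : Submodule A M)) =
      ((algebraMap A B a) • (⊤ : Submodule B M)).restrictScalars A := by
  ext x
  rw [Submodule.restrictScalars_mem, Submodule.mem_smul_pointwise_iff_exists,
    Submodule.mem_smul_pointwise_iff_exists]
  constructor
  · rintro ⟨y, _, rfl⟩
    exact ⟨y, Submodule.mem_top, algebraMap_smul B a y⟩
  · rintro ⟨y, _, rfl⟩
    exact ⟨y, Submodule.mem_top, (algebraMap_smul B a y).symm⟩

/-- `M/aM` computed over `A` and over `B`. -/
noncomputable def quotEquiv (a : A) :
    QuotSMulTop a M ≃ₗ[A] QuotSMulTop (algebraMap A B a) M :=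
  (Submodule.quotEquivOfEq _ _ (smul_top_restrictScalars M a)).trans
    (Submodule.Quotient.restrictScalarsEquiv A ((algebraMap A B a) • (⊤ : Submodule B M)))

end Quot

lemma isSMulRegular_algebraMap {M : Type u} [AddCommGroup M] [Module B M] [Module A M]
    [IsScalarTower A B M] {a : A} :
    IsSMulRegular M (algebraMap A B a) ↔ IsSMulRegular M a := by
  constructor
  · intro h x y hxy
    apply h
    show algebraMap A B a • x = algebraMap A B a • y
    rw [algebraMap_smul, algebraMap_smul]
    exact hxy
  · intro h x y hxy
    apply h
    have : algebraMap A B a • x = algebraMap A B a • y := hxy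
    rw [algebraMap_smul, algebraMap_smul] at this
    exact this

theorem isWeaklyRegular_map : ∀ (rs : List A) (M : Type u) [AddCommGroup M] [Module B M]
    [Module A M] [IsScalarTower A B M], IsWeaklyRegular M rs →
      IsWeaklyRegular M (rs.map (algebraMap A B)) := by
  intro rs
  induction rs with
  | nil =>
    intro M _ _ _ _ _
    exact IsWeaklyRegular.nil B M
  | cons a rs ih =>
    intro M _ _ _ _ h
    rw [List.map_cons, isWeaklyRegular_cons_iff]
    rw [isWeaklyRegular_cons_iff] at h
    refine ⟨isSMulRegular_algebraMap.2 h.1, ?_⟩
    apply ih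
    exact ((quotEquiv M a).isWeaklyRegular_congr rs).1 h.2

end Groth.Agent.H8.DepthHom
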