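import Mathlib
import Groth.Prelude.Def_Wider
import Groth.Prelude.Def_CAlg
import Groth.Agent.Lib.helper8.DepthHomA

/-!
# Depth along a local homomorphism, for modules finite over the source (helper8), part B
-/

set_option autoImplicit false
universe u

namespace Groth.Agent.H8.DepthHom

open LocCoh RingTheory.Sequence IsLocalRing Groth.Agent.Lib.helper9.Depth
open scoped Pointwise

variable {A B : Type u} [CommRing A] [CommRing B] [IsLocalRing A] [IsLocalRing B]
  [IsNoetherianRing A] [IsNoetherianRing B] [Algebra A B] [IsLocalHom (algebraMap A B)]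

/-- if `𝔪_A` consists of zero divisors on `M`, so does `𝔪_B`. -/
theorem not_isSMulRegular_of_forall (M : Type u) [AddCommGroup M] [Module B M] [Module A M]
    [IsScalarTower A B M] [Module.Finite A M]
    (hno : ∀ a ∈ maximalIdeal A, ¬ IsSMulRegular M a) :
    ∀ b ∈ maximalIdeal B, ¬ IsSMulRegular M b := by
  classical
  -- the maximal ideal of `A` is an associated prime
  have hsub : ((maximalIdeal A : Ideal A) : Set A) ⊆ ⋃ p ∈ associatedPrimes A M, (p : Set A) := by
    intro a ha
    rw [biUnion_associatedPrimes_eq_zero_divisors A M]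
    have h1 := hno a ha
    unfold IsSMulRegular at h1
    rw [Function.Injective] at h1
    push Not at h1
    obtain ⟨x, y, hxy, hne⟩ := h1
    refine ⟨x - y, sub_ne_zero.2 hne, ?_⟩
    rw [smul_sub]
    exact sub_eq_zero.2 hxy
  have hfin := associatedPrimes.finite A M
  have hprime : ∀ p ∈ associatedPrimes A M, p.IsPrime := fun p hp => hp.isPrime
  have hsub' : ((maximalIdeal A : Ideal A) : Set A) ⊆
      ⋃ p ∈ (hfin.toFinset : Set (Ideal A)), ((id p : Ideal A) : Set A) := by
    intro a ha
    obtain ⟨p, hp, hap⟩ := Set.mem_iUnion₂.1 (hsub ha)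
    refine Set.mem_iUnion₂.2 ⟨p, ?_, hap⟩
    rw [Finset.mem_coe, Set.Finite.mem_toFinset]
    exact hp
  obtain ⟨p, hp, hle⟩ := (Ideal.subset_union_prime (s := hfin.toFinset) (f := id) ⊥ ⊥
    (fun i hi _ _ => hprime i ((Set.Finite.mem_toFinset _).mp hi))).mp hsub'
  have hpass : p ∈ associatedPrimes A M := (Set.Finite.mem_toFinset _).mp hp
  have hpm : p = maximalIdeal A :=
    ((maximalIdeal.isMaximal A).eq_of_le (hprime p hpass).ne_top hle).symm
  obtain ⟨_, x, hx⟩ := (isAssociatedPrime_iff).1 (show IsAssociatedPrime p M from hpass)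
  have hxkill : ∀ a ∈ maximalIdeal A, a • x = 0 := by
    intro a ha
    rw [← hpm, hx, Submodule.mem_colon_singleton, Submodule.mem_bot] at ha
    exact ha
  have hx0 : x ≠ 0 := by
    intro h0
    have h1 : (1 : A) ∈ p := by
      rw [hx, Submodule.mem_colon_singleton, Submodule.mem_bot, h0, smul_zero]
    exact (hprime p hpass).ne_top ((Ideal.eq_top_iff_one _).2 h1)
  -- the `B`-submodule generated by `x`
  let N : Submodule B M := Submodule.span B {x}
  have hNkill : ∀ a ∈ maximalIdeal A, ∀ y : N, a • y = 0 := by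
    intro a ha y
    obtain ⟨b, hb⟩ := Submodule.mem_span_singleton.1 y.2
    apply Subtype.ext
    show a • (y : M) = 0
    rw [← hb, smul_comm, hxkill a ha, smul_zero]
  haveI : IsNoetherian A M := isNoetherian_of_isNoetherianRing_of_finite A M
  haveI : Module.Finite A (N.restrictScalars A) := Module.IsNoetherian.finite A _
  haveI : Module.Finite A N :=
    Module.Finite.equiv ((Submodule.restrictScalarsEquiv A B M N).restrictScalars A)
  have hfl : IsFiniteLength A N := by
    apply Groth.Agent.H8.Matlis.isFiniteLength_of_pow_smul_top_eq_bot 1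
    rw [pow_one, eq_bot_iff, Submodule.smul_le]
    intro a ha y _
    rw [Submodule.mem_bot]
    exact hNkill a ha y
  have hArtA : IsArtinian A N := (isFiniteLength_iff_isNoetherian_isArtinian.1 hfl).2
  haveI hArtB : IsArtinian B N := isArtinian_of_tower A hArtA
  haveI : Nontrivial N := ⟨⟨⟨x, Submodule.mem_span_singleton_self x⟩, 0, fun h => hx0 (congrArg Subtype.val h)⟩⟩
  haveI : Nontrivial (Submodule B N) := (Submodule.nontrivial_iff B).2 inferInstance
  haveI : IsAtomic (Submodule B N) := isAtomic_of_orderBot_wellFounded_lt wellFounded_lt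
  obtain ⟨S, hS⟩ := IsAtomic.exists_atom (Submodule B N)
  haveI hS' : IsSimpleModule B S := isSimpleModule_iff_isAtom.2 hS
  obtain ⟨I, hI, ⟨eS⟩⟩ := isSimpleModule_iff_quot_maximal.1 hS'
  obtain rfl : I = maximalIdeal B := IsLocalRing.eq_maximalIdeal hI
  let y : M := ((eS.symm 1 : S) : N)
  have hy0 : y ≠ 0 := by
    intro h0
    have h1 : eS.symm 1 = 0 := Subtype.ext (Subtype.ext h0)
    have h2 : (1 : B ⧸ maximalIdeal B) = 0 := by
      rw [← eS.apply_symm_apply 1, h1, map_zero]
    exact one_ne_zero h2
  have hykill : ∀ b ∈ maximalIdeal B, b • y = 0 := by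
    intro b hb
    have h1 : b • eS.symm 1 = 0 := by
      rw [← map_smul]
      have : b • (1 : B ⧸ maximalIdeal B) = 0 := by
        show Ideal.Quotient.mk (maximalIdeal B) (b * 1) = 0
        rw [mul_one]
        exact Ideal.Quotient.eq_zero_iff_mem.2 hb
      rw [this, map_zero]
    have h2 := congrArg (fun s : S => ((s : N) : M)) h1
    exact h2
  intro b hb hreg
  apply hy0
  apply hreg
  show b • y = b • 0
  rw [hykill b hb, smul_zero]

end Groth.Agent.H8.DepthHom
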