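import Mathlib
import Groth.Prelude.Def_Wider
import Groth.Prelude.Def_CAlg
import Groth.Agent.Lib.helper8.DepthHomB
import Groth.Agent.Lib.helper9.Depth2

/-!
# Depth along a local homomorphism, for modules finite over the source (helper8), part C
-/

set_option autoImplicit false
universe u

namespace Groth.Agent.H8.DepthHom

open LocCoh RingTheory.Sequence IsLocalRing Groth.Agent.Lib.helper9.Depth
open scoped Pointwise

variable {A B : Type u} [CommRing A] [CommRing B] [IsLocalRing A] [IsLocalRing B]
  [IsNoetherianRing A] [IsNoetherianRing B] [Algebra A B] [IsLocalHom (algebraMap A B)]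

omit [IsNoetherianRing A] [IsNoetherianRing B] in
lemma algebraMap_mem {a : A} (ha : a ∈ maximalIdeal A) : algebraMap A B a ∈ maximalIdeal B :=
  map_nonunit (algebraMap A B) a ha

theorem le_depth_of_le_depth : ∀ (n : ℕ) (M : Type u) [AddCommGroup M] [Module B M] [Module A M]
    [IsScalarTower A B M] [Module.Finite A M],
    (maximalIdeal A • (⊤ : Submodule A M) ≠ ⊤) → (maximalIdeal B • (⊤ : Submodule B M) ≠ ⊤) →
    (n : ℕ∞) ≤ idealDepth (maximalIdeal B) M → (n : ℕ∞) ≤ idealDepth (maximalIdeal A) M := by
  intro n
  induction n with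
  | zero =>
    intro M _ _ _ _ _ _ _ _
    exact zero_le
  | succ n ih =>
    intro M _ _ _ _ _ hA hB h
    haveI : Module.Finite B M := Module.Finite.of_restrictScalars_finite A B M
    obtain ⟨rs, hlen, hreg, hmem⟩ := (le_idealDepth_iff hB (n + 1)).1 h
    match rs, hlen, hreg, hmem with
    | [], hlen, _, _ => simp at hlen
    | b :: rs', _, hreg, hmem =>
      have hb : IsSMulRegular M b := ((isWeaklyRegular_cons_iff M b rs').1 hreg).1
      have hbm : b ∈ maximalIdeal B := hmem b (List.mem_cons_self)
      obtain ⟨a, ha, hareg⟩ : ∃ a ∈ maximalIdeal A, IsSMulRegular M a := by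
        by_contra hcon
        push Not at hcon
        exact not_isSMulRegular_of_forall M hcon b hbm hb
      have hregB : IsSMulRegular M (algebraMap A B a) := isSMulRegular_algebraMap.2 hareg
      have hρa : algebraMap A B a ∈ maximalIdeal B := algebraMap_mem ha
      have e1 := idealDepth_quotSMulTop_add_one hB hρa hregB
      have e2 := idealDepth_quotSMulTop_add_one hA ha hareg
      have h1 : (n : ℕ∞) ≤ idealDepth (maximalIdeal B) (QuotSMulTop (algebraMap A B a) M) := by
        apply ENat.le_of_add_one_le_add_one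
        rw [e1]
        exact h
      have hB₁ := smul_top_quotSMulTop_ne_top (I := maximalIdeal B) (M := M) hρa hB
      have hA₀ := smul_top_quotSMulTop_ne_top (I := maximalIdeal A) (M := M) ha hA
      have hA₁ : maximalIdeal A • (⊤ : Submodule A (QuotSMulTop (algebraMap A B a) M)) ≠ ⊤ :=
        fun h' => hA₀ ((smul_top_eq_top_congr _ (quotEquiv M a)).2 h')
      haveI : Module.Finite A (QuotSMulTop (algebraMap A B a) M) :=
        Module.Finite.equiv (quotEquiv M a)
      have h2 := ih (QuotSMulTop (algebraMap A B a) M) hA₁ hB₁ h1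
      rw [← idealDepth_congr _ (quotEquiv M a)] at h2
      rw [← e2]
      have h3 : ((n + 1 : ℕ) : ℕ∞) = (n : ℕ∞) + 1 := by push_cast; rfl
      rw [h3]
      gcongr

theorem depth_eq (M : Type u) [AddCommGroup M] [Module B M] [Module A M] [IsScalarTower A B M]
    [Module.Finite A M] : LocCoh.depth A M = LocCoh.depth B M := by
  haveI : Module.Finite B M := Module.Finite.of_restrictScalars_finite A B M
  have hsubs : ∀ (R : Type u) [CommRing R] [IsLocalRing R] [Module R M] [Module.Finite R M],
      maximalIdeal R • (⊤ : Submodule R M) = ⊤ → Subsingleton M := by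
    intro R _ _ _ _ h
    have h1 : (⊤ : Submodule R M) = ⊥ :=
      Submodule.eq_bot_of_le_smul_of_le_jacobson_bot (maximalIdeal R) ⊤ Module.Finite.fg_top
        h.ge (IsLocalRing.jacobson_eq_maximalIdeal ⊥ bot_ne_top).ge
    rw [← Submodule.subsingleton_iff R]
    exact subsingleton_of_bot_eq_top h1.symm
  have htop : ∀ (R : Type u) [CommRing R] [IsLocalRing R] [Module R M], Subsingleton M →
      maximalIdeal R • (⊤ : Submodule R M) = ⊤ := by
    intro R _ _ _ hs
    rw [eq_top_iff]
    intro x _
    rw [Subsingleton.elim x 0]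
    exact zero_mem _
  unfold LocCoh.depth
  by_cases hA : maximalIdeal A • (⊤ : Submodule A M) = ⊤
  · have hB := htop B (hsubs A hA)
    rw [idealDepth_eq_top _ _ hA, idealDepth_eq_top _ _ hB]
  · have hB : maximalIdeal B • (⊤ : Submodule B M) ≠ ⊤ := fun h => hA (htop A (hsubs B h))
    apply ENat.eq_of_forall_natCast_le_iff
    intro n
    constructor
    · rw [le_idealDepth_iff hA, le_idealDepth_iff hB]
      rintro ⟨rs, hlen, hreg, hmem⟩
      refine ⟨rs.map (algebraMap A B), by simp [hlen], isWeaklyRegular_map rs M hreg, ?_⟩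
      intro r hr
      obtain ⟨a, ha, rfl⟩ := List.mem_map.1 hr
      exact algebraMap_mem (hmem a ha)
    · exact le_depth_of_le_depth n M hA hB

end Groth.Agent.H8.DepthHom
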