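import Mathlib

/-! Group generated by two involutions (helper8). -/

set_option autoImplicit false

namespace Groth.Agent.H8

theorem card_closure_two_involutions {G : Type*} [Group G] (a b : G) (ha : a * a = 1)
    (hb : b * b = 1) (ha1 : a ≠ 1) (hb1 : b ≠ 1) :
    Nat.card (Subgroup.closure ({a, b} : Set G)) = 2 * orderOf (a * b) := by
  set r := a * b with hr
  set D := Subgroup.closure ({a, b} : Set G) with hD
  set H := Subgroup.zpowers r with hH
  have hainv : a⁻¹ = a := inv_eq_of_mul_eq_one_right ha
  have hbinv : b⁻¹ = b := inv_eq_of_mul_eq_one_right hb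
  have haD : a ∈ D := Subgroup.subset_closure (by simp)
  have hbD : b ∈ D := Subgroup.subset_closure (by simp)
  have hrD : r ∈ D := mul_mem haD hbD
  have hHD : H ≤ D := by
    rw [hH, Subgroup.zpowers_le]
    exact hrD
  have hrH : r ∈ H := Subgroup.mem_zpowers r
  have hrinv : r⁻¹ = b * a := by rw [hr, mul_inv_rev, hainv, hbinv]
  have stepa : ∀ x : G, (x * a ∈ H ∨ x ∈ H) → (x * a * a ∈ H ∨ x * a ∈ H) := by
    intro x ih
    rcases ih with h | h
    · exact Or.inr h
    · left
      rw [mul_assoc, ha, mul_one]; exact h
  have stepb : ∀ x : G, (x * a ∈ H ∨ x ∈ H) → (x * b * a ∈ H ∨ x * b ∈ H) := by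
    intro x ih
    rcases ih with h | h
    · right
      have : x * b = (x * a) * r := by rw [hr, mul_assoc, ← mul_assoc a a, ha, one_mul]
      rw [this]; exact mul_mem h hrH
    · left
      have : x * b * a = x * r⁻¹ := by rw [hrinv, mul_assoc]
      rw [this]; exact mul_mem h (inv_mem hrH)
  -- (i) every element of D is in H or H a
  have hi : ∀ g ∈ D, g * a ∈ H ∨ g ∈ H := by
    intro g hg
    induction hg using Subgroup.closure_induction_right with
    | one => exact Or.inr (one_mem _)
    | mul_right x _ y hy ih =>
      rcases hy with h | h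
      · rw [h]; exact stepa x ih
      · rw [Set.mem_singleton_iff] at h
        rw [h]; exact stepb x ih
    | mul_inv_cancel x _ y hy ih =>
      rcases hy with h | h
      · rw [h, hainv]; exact stepa x ih
      · rw [Set.mem_singleton_iff] at h
        rw [h, hbinv]; exact stepb x ih
  -- (ii) a ∉ H
  have hii : a ∉ H := by
    intro haH
    obtain ⟨k, hk⟩ := Subgroup.mem_zpowers_iff.mp haH
    have hcomm : r * a = a * r := by
      rw [← hk]
      exact ((Commute.refl r).zpow_right k).eq
    have haba : a * b * a = b := by
      have : a * b * a = a * (a * b) := hcomm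
      rw [this, ← mul_assoc, ha, one_mul]
    have hr2 : r ^ (2 : ℤ) = 1 := by
      rw [zpow_two, hr]
      calc a * b * (a * b) = (a * b * a) * b := by group
        _ = 1 := by rw [haba, hb]
    rcases Int.even_or_odd' k with ⟨m, hm | hm⟩
    · apply ha1
      rw [← hk, hm, zpow_mul, hr2, one_zpow]
    · apply hb1
      have : a = r := by
        rw [← hk, hm, zpow_add_one, zpow_mul, hr2, one_zpow, one_mul]
      have h2 : a * b = a * 1 := by rw [mul_one]; exact this.symm
      exact mul_left_cancel h2
  -- index two
  have hidx : (H.subgroupOf D).index = 2 := by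
    rw [Subgroup.index_eq_two_iff_exists_notMem_and]
    refine ⟨⟨a, haD⟩, ?_, ?_⟩
    · intro h
      exact hii (Subgroup.mem_subgroupOf.mp h)
    · intro g
      rcases hi g.1 g.2 with h | h
      · exact Or.inl (Subgroup.mem_subgroupOf.mpr h)
      · exact Or.inr (Subgroup.mem_subgroupOf.mpr h)
  have hcard := Subgroup.card_mul_index (H.subgroupOf D)
  rw [hidx] at hcard
  have hcardH : Nat.card (H.subgroupOf D) = orderOf r := by
    rw [Nat.card_congr (Subgroup.subgroupOfEquivOfLe hHD).toEquiv, hH, Nat.card_zpowers]
  rw [hcardH] at hcard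
  rw [← hcard, mul_comm]

end Groth.Agent.H8
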