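import Mathlib
import Groth.Prelude.Def_Wider
import Groth.Prelude.Def_CInt
import Groth.Agent.Lib.helper9.Depth24
import Groth.Agent.Lib.helper9.Depth10

/-!
# Schematic density vs. topological density under `S₁` (helper8)
-/

set_option autoImplicit false
universe u

namespace Groth.Agent.H8.SchemDense

open AlgebraicGeometry CategoryTheory TopologicalSpace PrimeSpectrum Opposite
open Groth.Agent.Lib.helper9.Depth

section Algebra

variable {A : Type u} [CommRing A] [IsNoetherianRing A]

/-- Around a minimal prime of a Noetherian ring there is an open set of specializations. -/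
lemma exists_open_specializes (P : PrimeSpectrum A) (hP : P.asIdeal ∈ minimalPrimes A) :
    ∃ O : Set (PrimeSpectrum A), IsOpen O ∧ P ∈ O ∧ ∀ q ∈ O, P ⤳ q := by
  have hfin : (minimalPrimes A \ {P.asIdeal}).Finite :=
    (minimalPrimes.finite_of_isNoetherianRing A).subset Set.diff_subset
  refine ⟨(⋃ Q ∈ (minimalPrimes A \ {P.asIdeal}), zeroLocus (Q : Set A))ᶜ, ?_, ?_, ?_⟩
  · rw [isOpen_compl_iff]
    exact hfin.isClosed_biUnion fun Q _ => isClosed_zeroLocus _
  · intro hmem
    simp only [Set.mem_iUnion] at hmem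
    obtain ⟨Q, ⟨hQmin, hQne⟩, hQ⟩ := hmem
    have hQP : Q ≤ P.asIdeal := hQ
    have hPQ : P.asIdeal ≤ Q := hP.2 ⟨hQmin.1.1, bot_le⟩ hQP
    exact hQne (le_antisymm hQP hPQ)
  · intro q hq
    obtain ⟨Q, hQmin, hQq⟩ := Ideal.exists_minimalPrimes_le (I := ⊥) (J := q.asIdeal) bot_le
    by_cases hQP : Q = P.asIdeal
    · rw [← PrimeSpectrum.le_iff_specializes]
      change P.asIdeal ≤ q.asIdeal
      rw [← hQP]
      exact hQq
    · exfalso
      apply hq
      simp only [Set.mem_iUnion]
      exact ⟨Q, ⟨hQmin, hQP⟩, hQq⟩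

/-- For a nonzero element of a Noetherian ring there is an associated prime containing its
annihilator. -/
lemma exists_ass (s : A) (hs : s ≠ 0) :
    ∃ P : Ideal A, P.IsPrime ∧ P ∈ associatedPrimes A A ∧ ∀ a : A, a * s = 0 → a ∈ P := by
  obtain ⟨P, hP, hle⟩ := exists_le_isAssociatedPrime_of_isNoetherianRing A s hs
  refine ⟨P, hP.isPrime, hP, fun a ha => hle ?_⟩
  rw [Submodule.mem_colon_singleton, Submodule.mem_bot]
  exact ha

/-- `P ∈ Ass A` with `min(1, dim A_P) ≤ depth A_P` forces `P` minimal. -/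
lemma minimal_of_ass (P : Ideal A) [P.IsPrime] (hP : P ∈ associatedPrimes A A)
    (R' : Type u) [CommRing R'] [IsLocalRing R'] [Algebra A R'] [IsLocalization.AtPrime R' P]
    (hS1 : min (1 : WithBot ℕ∞) (ringKrullDim R') ≤ ((LocCoh.depth R' R' : ℕ∞) : WithBot ℕ∞)) :
    P ∈ minimalPrimes A := by
  have h0 : LocCoh.depth R' R' = 0 := by
    rw [← depth_eq_of_isLocalizedModule P R' (Algebra.linearMap A R')]
    exact (depth_localization_eq_zero_iff P A).2 hP
  rw [h0, IsLocalization.AtPrime.ringKrullDim_eq_height P R'] at hS1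
  rw [← Ideal.height_eq_zero_iff]
  rcases min_le_iff.1 hS1 with h | h
  · exfalso
    have : ((1 : ℕ∞) : WithBot ℕ∞) ≤ ((0 : ℕ∞) : WithBot ℕ∞) := h
    rw [WithBot.coe_le_coe] at this
    exact absurd this (by decide)
  · have : ((P.height : ℕ∞) : WithBot ℕ∞) ≤ ((0 : ℕ∞) : WithBot ℕ∞) := h
    rw [WithBot.coe_le_coe] at this
    exact le_antisymm this bot_le

end Algebra

end Groth.Agent.H8.SchemDense
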