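import Groth.Agent.Lib.helper8.FTSpanC
import Groth.Agent.Lib.helper8.SchemDenseA
import Groth.Prelude.Def_CurvBase

/-!
# The dual of a finite type module has no closed non-isolated associated points on a reduced
locally Noetherian scheme (helper8)
-/

set_option autoImplicit false
universe u

namespace Groth.Agent.H8.DualAss

open AlgebraicGeometry CategoryTheory TopologicalSpace Opposite IsLocalRing
open Groth.Agent.Lib.helper9

/-- in a reduced ring, a prime annihilating a nonzero element is a minimal prime. -/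
lemma mem_minimalPrimes_of_ann {R : Type u} [CommRing R] [_root_.IsReduced R] (m : Ideal R)
    [hmp : m.IsPrime] (c : R) (hc : c ≠ 0) (hm : ∀ r ∈ m, r * c = 0) : m ∈ minimalPrimes R := by
  by_contra hnot
  apply hc
  have h4 : c ∈ sInf (minimalPrimes R) := by
    refine Ideal.mem_sInf.2 fun {q} hq => ?_
    have hqp : q.IsPrime := hq.1.1
    have hmq : ¬ m ≤ q := by
      intro hmq
      have hqm : q ≤ m := hq.2 ⟨hmp, bot_le⟩ hmq
      have : m = q := le_antisymm hmq hqm
      rw [this] at hnot
      exact hnot hq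
    obtain ⟨r, hrm, hrq⟩ := SetLike.not_le_iff_exists.1 hmq
    have h3 : r * c ∈ q := by rw [hm r hrm]; exact q.zero_mem
    exact (hqp.mem_or_mem h3).resolve_left hrq
  have h5 := Ideal.sInf_minimalPrimes (I := (⊥ : Ideal R))
  change sInf (minimalPrimes R) = nilradical R at h5
  rw [h5, nilradical_eq_zero] at h4
  exact h4

variable {X : Scheme.{u}}

/-- a closed point whose local ring has the maximal ideal as a minimal prime is isolated. -/
lemma isOpen_singleton_of_minimal [IsLocallyNoetherian X] (x : X) (hx : IsClosed ({x} : Set X))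
    (hmin : maximalIdeal (X.presheaf.stalk x) ∈ minimalPrimes (X.presheaf.stalk x)) :
    IsOpen ({x} : Set X) := by
  obtain ⟨_, ⟨W, hW, rfl⟩, hxW, -⟩ :=
    X.isBasis_affineOpens.exists_subset_of_mem_open (Set.mem_univ x) isOpen_univ
  haveI : IsNoetherianRing Γ(X, W) := IsLocallyNoetherian.component_noetherian ⟨W, hW⟩
  let P := hW.primeIdealOf ⟨x, hxW⟩
  letI : Algebra Γ(X, W) (X.presheaf.stalk x) :=
    TopCat.Presheaf.algebra_section_stalk X.presheaf ⟨x, hxW⟩
  haveI : IsLocalization.AtPrime (X.presheaf.stalk x) P.asIdeal := hW.isLocalization_stalk ⟨x, hxW⟩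
  have h0 : (maximalIdeal (X.presheaf.stalk x)).height = 0 := Ideal.height_eq_zero_iff.2 hmin
  have h1 : ringKrullDim (X.presheaf.stalk x) = 0 := by
    rw [← IsLocalRing.maximalIdeal_height_eq_ringKrullDim, h0]
    rfl
  rw [IsLocalization.AtPrime.ringKrullDim_eq_height P.asIdeal (X.presheaf.stalk x)] at h1
  have h2 : P.asIdeal.height = 0 := by exact_mod_cast h1
  have hPmin : P.asIdeal ∈ minimalPrimes Γ(X, W) := Ideal.height_eq_zero_iff.1 h2
  obtain ⟨O, hOo, hPO, hspec⟩ := SchemDense.exists_open_specializes P hPmin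
  have hopen : IsOpen (hW.fromSpec '' O) := hW.fromSpec.isOpenEmbedding.isOpenMap O hOo
  have hPx : hW.fromSpec P = x := hW.fromSpec_primeIdealOf ⟨x, hxW⟩
  have heq : hW.fromSpec '' O = {x} := by
    apply Set.eq_singleton_iff_unique_mem.2
    refine ⟨⟨P, hPO, hPx⟩, ?_⟩
    rintro _ ⟨q, hq, rfl⟩
    have hsp : hW.fromSpec P ⤳ hW.fromSpec q := (hspec q hq).map hW.fromSpec.continuous
    rw [hPx] at hsp
    have : hW.fromSpec q ∈ closure ({x} : Set X) := specializes_iff_mem_closure.1 hsp
    rw [hx.closure_eq] at this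
    exact this
  rw [← heq]
  exact hopen

end Groth.Agent.H8.DualAss
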