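import Groth.Agent.Lib.helper8.DualAssA

/-!
# The dual of a finite type module has no closed non-isolated associated points (helper8), part B
-/

set_option autoImplicit false
universe u

namespace Groth.Agent.H8.DualAss

open AlgebraicGeometry CategoryTheory TopologicalSpace Opposite IsLocalRing
open Groth.Agent.Lib.helper9

variable {X : Scheme.{u}}

/-- a nonzero element of the stalk of the structure *module* killed by the maximal ideal yields such
an element of the local ring. -/
lemma exists_ring_elt (x : X) (c : (Coh.structureModule X).presheaf.stalk x) (hc : c ≠ 0)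
    (hm : ∀ r ∈ maximalIdeal (X.presheaf.stalk x), r • c = 0) :
    ∃ c₀ : X.presheaf.stalk x, c₀ ≠ 0 ∧
      ∀ r ∈ maximalIdeal (X.presheaf.stalk x), r * c₀ = 0 := by
  obtain ⟨V, hxV, c', rfl⟩ := TopCat.Presheaf.exists_germ_eq (Coh.structureModule X).presheaf c
  let c'' : Γ(X, V) := c'
  refine ⟨X.presheaf.germ V x hxV c'', ?_, ?_⟩
  · intro h0
    apply hc
    have h1 : X.presheaf.germ V x hxV c'' = X.presheaf.germ V x hxV 0 := by rw [h0, map_zero]
    obtain ⟨W, hxW, iU, iV, hW⟩ := TopCat.Presheaf.germ_eq X.presheaf x hxV hxV _ _ h1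
    rw [← ZC.germ_res (Coh.structureModule X) iU.le x hxW c']
    have h2 : X.presheaf.map iU.op c'' = 0 := hW.trans (map_zero _)
    have h3 : ZC.res (Coh.structureModule X) iU.le c' = 0 := h2
    rw [h3, map_zero]
  · intro r hr
    obtain ⟨V', hxV', r', rfl⟩ := TopCat.Presheaf.exists_germ_eq X.presheaf r
    have h := hm _ hr
    have hx2 : x ∈ V' ⊓ V := ⟨hxV', hxV⟩
    rw [← TopCat.Presheaf.germ_res_apply X.presheaf (homOfLE (inf_le_left : V' ⊓ V ≤ V')) x hx2 r',
      ← ZC.germ_res (Coh.structureModule X) (inf_le_right : V' ⊓ V ≤ V) x hx2 c',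
      ← CohB.germ_smul] at h
    have h1 := h.trans (map_zero ((Coh.structureModule X).presheaf.germ (V' ⊓ V) x hx2).hom).symm
    obtain ⟨W, hxW, iU, iV, hW⟩ :=
      TopCat.Presheaf.germ_eq (Coh.structureModule X).presheaf x hx2 hx2 _ _ h1
    have e : X.presheaf.map iU.op (X.presheaf.map (homOfLE (inf_le_left : V' ⊓ V ≤ V')).op r' *
        X.presheaf.map (homOfLE (inf_le_right : V' ⊓ V ≤ V)).op c'') = 0 :=
      hW.trans (map_zero _)
    rw [← TopCat.Presheaf.germ_res_apply X.presheaf (homOfLE (inf_le_left : V' ⊓ V ≤ V')) x hx2 r',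
      ← TopCat.Presheaf.germ_res_apply X.presheaf (homOfLE (inf_le_right : V' ⊓ V ≤ V)) x hx2 c'',
      ← map_mul, ← TopCat.Presheaf.germ_res_apply X.presheaf iU x hxW, e, map_zero]

theorem not_isAssPoint_dual [IsLocallyNoetherian X] [AlgebraicGeometry.IsReduced X]
    (F : X.Modules) [SheafOfModules.IsFiniteType.{u} F] (x : X) (hx : IsClosed ({x} : Set X))
    (hno : ¬ IsOpen ({x} : Set X)) : ¬ Curv2.IsAssPoint (RefHull.dual F) x := by
  intro hass
  have hinj := FTSpan.evalStalk_injective F (Coh.structureModule X) x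
  have h2 : IsAssociatedPrime (maximalIdeal (X.presheaf.stalk x))
      (RefHull.StalkHom F (Coh.structureModule X) x) :=
    IsAssociatedPrime.map_of_injective (RefHull.evalStalk F (Coh.structureModule X) x) hass hinj
  haveI : IsNoetherianRing (X.presheaf.stalk x) := inferInstance
  obtain ⟨hprime, φ, hφ⟩ := isAssociatedPrime_iff.1 h2
  have hφ0 : φ ≠ 0 := by
    rintro rfl
    apply hprime.ne_top
    rw [hφ, Ideal.eq_top_iff_one, Submodule.mem_colon_singleton, Submodule.mem_bot, smul_zero]
  obtain ⟨v, hv⟩ : ∃ v, φ v ≠ 0 := by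
    by_contra hcon
    push Not at hcon
    exact hφ0 (LinearMap.ext hcon)
  have hm : ∀ r ∈ maximalIdeal (X.presheaf.stalk x), r • φ v = 0 := by
    intro r hr
    rw [hφ, Submodule.mem_colon_singleton, Submodule.mem_bot] at hr
    have := congrArg (fun ψ => ψ v) hr
    simpa using this
  obtain ⟨c₀, hc₀, hm₀⟩ := exists_ring_elt x (φ v) hv hm
  have hmin := mem_minimalPrimes_of_ann (maximalIdeal (X.presheaf.stalk x)) c₀ hc₀ hm₀
  exact hno (isOpen_singleton_of_minimal x hx hmin)

end Groth.Agent.H8.DualAss
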