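import Mathlib
import Groth.Agent.Lib.helper8.LCNonVanC
import Groth.Agent.Lib.helper8.LCNonVanE
import Groth.Agent.Lib.helper21.GorDim
import Groth.Agent.Lib.helper21.ExtBC3
import Groth.Agent.Lib.helper9.ExtCyclic
import Groth.Agent.Lib.helper9.Depth5
import Groth.Agent.Lib.helper21.LC3

/-!
# A faithful finite module of finite injective dimension forces Cohen–Macaulayness
-/

set_option autoImplicit false
universe u
open CategoryTheory Abelian

namespace Groth.Agent.H8.DualCM

section Vanish

variable {R : Type u} [CommRing R]

/-- local cohomology vanishes above the injective dimension. -/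
theorem subsingleton_H_of_hasInjectiveDimensionLT (I : Ideal R) (M : ModuleCat.{u} R) (n : ℕ)
    [HasInjectiveDimensionLT M n] (i : ℕ) (hi : n ≤ i) :
    Subsingleton ((localCohomology I i).obj M) := by
  refine ⟨fun x y => ?_⟩
  have key : ∀ z : (localCohomology I i).obj M, z = 0 := by
    intro z
    obtain ⟨k, w, rfl⟩ := Groth.Agent.H21.LC.ιH_surj I i M z
    have : w = 0 := Abelian.Ext.eq_zero_of_hasInjectiveDimensionLT w n hi
    rw [this, map_zero]
  rw [key x, key y]

end Vanish

section Local

variable {A : Type u} [CommRing A] [IsNoetherianRing A] [IsLocalRing A]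

/-- a finite module of finite injective dimension with full-dimensional support forces `A` to be
Cohen–Macaulay. -/
theorem supportDim_eq_depth_of_finite_injdim (W : Type u) [AddCommGroup W] [Module A W]
    [Module.Finite A W] (n : ℕ) (h : HasInjectiveDimensionLT (ModuleCat.of A W) n)
    (hsupp : Module.supportDim A W = ringKrullDim A) :
    Module.supportDim A A = ((LocCoh.depth A A : ℕ∞) : WithBot ℕ∞) := by
  have hle := Groth.Agent.Lib.helper9.Depth.depth_le_supportDim (R := A) A
  refine le_antisymm ?_ hle
  have hfin : LocCoh.depth A A ≠ ⊤ := by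
    intro htop
    rw [htop, Module.supportDim_self_eq_ringKrullDim] at hle
    exact absurd (lt_of_le_of_lt hle ringKrullDim_lt_top) (lt_irrefl _)
  obtain ⟨t, ht⟩ : ∃ t : ℕ, LocCoh.depth A A = t :=
    ⟨(LocCoh.depth A A).toNat, (ENat.coe_toNat hfin).symm⟩
  haveI : Module.Finite A (ModuleCat.of A W) := inferInstanceAs (Module.Finite A W)
  have h2 : HasInjectiveDimensionLT (ModuleCat.of A W) (t + 1) :=
    Groth.Agent.H21.GorDim.hasInjectiveDimensionLT_of_depth (ModuleCat.of A W) n t ht
  haveI : Nontrivial W := by
    rw [← Module.supportDim_ne_bot_iff_nontrivial A, hsupp]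
    exact ringKrullDim_ne_bot
  obtain ⟨d, hd⟩ := Groth.Agent.H8.NonVan.exists_supportDim_eq_nat (R := A) W
  have hnv := Groth.Agent.H8.NonVan.nontrivial_H_supportDim d W hd
  have hdt : d ≤ t := by
    by_contra hlt
    have := subsingleton_H_of_hasInjectiveDimensionLT (IsLocalRing.maximalIdeal A)
      (ModuleCat.of A W) (t + 1) d (by omega)
    exact not_subsingleton _ this
  rw [Module.supportDim_self_eq_ringKrullDim, ← hsupp, hd, ht]
  exact_mod_cast hdt

end Local

end Groth.Agent.H8.DualCM
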