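import Mathlib
import Groth.Agent.Lib.helper8.DualCMA

/-!
# Localizing injective dimension and faithfulness; the global Cohen–Macaulay criterion
-/

set_option autoImplicit false
universe u
open CategoryTheory Abelian

namespace Groth.Agent.H8.DualCM

open Groth.Agent.H21.ExtBC
open Groth.Agent.Lib.helper6.TorBC (bc)

variable {A : Type u} [CommRing A] [IsNoetherianRing A]

/-- finite injective dimension localizes. -/
theorem hasInjectiveDimensionLT_localization (W : Type u) [AddCommGroup W] [Module A W] (n : ℕ)
    (h : HasInjectiveDimensionLT (ModuleCat.of A W) (n + 1)) (p : Ideal A) [p.IsPrime] :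
    HasInjectiveDimensionLT (ModuleCat.of (Localization.AtPrime p)
      (LocalizedModule p.primeCompl W)) (n + 1) := by
  rw [Groth.Agent.Lib.helper9.ExtCyclic.hasInjectiveDimensionLT_iff_ext_cyclic]
  intro J
  set I : Ideal A := J.comap (algebraMap A (Localization.AtPrime p)) with hI
  have hJ : I.map (algebraMap A (Localization.AtPrime p)) = J :=
    IsLocalization.map_comap p.primeCompl _ J
  have h0 : Subsingleton (Ext (ModuleCat.of A (A ⧸ I)) (ModuleCat.of A W) (n + 1)) :=
    HasInjectiveDimensionLT.subsingleton (ModuleCat.of A W) (n + 1) (n + 1) le_rfl _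
  have h1 := subsingleton_ext_localization p (A ⧸ I) W (n + 1) h0
  have e : (bc A (Localization.AtPrime p)).obj (ModuleCat.of A (A ⧸ I)) ≅
      ModuleCat.of (Localization.AtPrime p) (Localization.AtPrime p ⧸ J) :=
    bcIsoQuot (Localization.AtPrime p) I ≪≫
      (Submodule.quotEquivOfEq _ _ hJ).toModuleIso
  exact subsingleton_ext_of_isos (Localization.AtPrime p) (n + 1) e (Iso.refl _) h1

/-- a faithful finite module stays faithful after localization. -/
theorem annihilator_localizedModule_eq_bot (W : Type u) [AddCommGroup W] [Module A W]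
    [Module.Finite A W] (hann : Module.annihilator A W = ⊥) (p : Ideal A) [p.IsPrime] :
    Module.annihilator (Localization.AtPrime p) (LocalizedModule p.primeCompl W) = ⊥ := by
  rw [eq_bot_iff]
  intro r hr
  rw [Module.mem_annihilator] at hr
  obtain ⟨a, s, rfl⟩ := IsLocalization.exists_mk'_eq p.primeCompl r
  have ha : ∀ w : W, ∃ t : p.primeCompl, (t : A) • a • w = 0 := by
    intro w
    have h1 := hr (LocalizedModule.mk w 1)
    rw [← Localization.mk_eq_mk', LocalizedModule.mk_smul_mk, ← LocalizedModule.zero_mk (1 : p.primeCompl),
      LocalizedModule.mk_eq] at h1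
    obtain ⟨u, hu⟩ := h1
    refine ⟨u, ?_⟩
    simpa [Submonoid.smul_def] using hu
  let φ : W →ₗ[A] W := LinearMap.lsmul A W a
  have hN : (⟨p, inferInstance⟩ : PrimeSpectrum A) ∉ Module.support A (LinearMap.range φ) := by
    rw [Module.notMem_support_iff']
    rintro ⟨_, w, rfl⟩
    obtain ⟨t, ht⟩ := ha w
    exact ⟨t, t.2, Subtype.ext (by simpa [φ, LinearMap.lsmul_apply] using ht)⟩
  rw [Module.mem_support_iff_of_finite] at hN
  obtain ⟨t, htann, htp⟩ := SetLike.not_le_iff_exists.mp hN
  have hta : t * a ∈ Module.annihilator A W := by
    rw [Module.mem_annihilator]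
    intro w
    have h3 := Module.mem_annihilator.mp htann ⟨a • w, w, rfl⟩
    rw [mul_smul]
    exact congrArg Subtype.val h3
  rw [hann, Submodule.mem_bot] at hta
  rw [Submodule.mem_bot]
  exact (IsLocalization.mk'_eq_zero_iff a s).mpr ⟨⟨t, htp⟩, hta⟩

/-- the support of a faithful finite module is everything, also after localization. -/
theorem supportDim_localizedModule_eq (W : Type u) [AddCommGroup W] [Module A W]
    [Module.Finite A W] (hann : Module.annihilator A W = ⊥) (p : Ideal A) [p.IsPrime] :
    Module.supportDim (Localization.AtPrime p) (LocalizedModule p.primeCompl W) =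
      ringKrullDim (Localization.AtPrime p) := by
  rw [Module.supportDim_eq_ringKrullDim_quotient_annihilator,
    annihilator_localizedModule_eq_bot W hann p]
  exact ringKrullDim_eq_of_ringEquiv (RingEquiv.quotientBot _)

/-- **Criterion.** A Noetherian ring with a faithful finite module of finite injective dimension is
Cohen–Macaulay. -/
theorem isCohenMacaulayRing_of_faithful_finite_injdim (W : Type u) [AddCommGroup W] [Module A W]
    [Module.Finite A W] (n : ℕ) (h : HasInjectiveDimensionLT (ModuleCat.of A W) (n + 1))
    (hann : Module.annihilator A W = ⊥) : LocCoh.IsCohenMacaulayRing A where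
  isCohenMacaulayLocalRing_localization p _ :=
    { supportDim_eq_depth :=
        supportDim_eq_depth_of_finite_injdim (LocalizedModule p.primeCompl W) (n + 1)
          (hasInjectiveDimensionLT_localization W n h p)
          (supportDim_localizedModule_eq W hann p) }

end Groth.Agent.H8.DualCM
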