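import Mathlib
import Groth.Prelude.Def_Wider
import Groth.Prelude.Def_CAlg

/-!
# Maps between shifted modules in `D(A)` and `Ext`

Bridge lemmas between morphisms `M[0] ⟶ N[i]` in `D(A)` (`Dual.inD`) and Mathlib's `Ext`, plus the
resulting characterization: `A[0]` is dualizing iff `A` has finite injective dimension.
-/

set_option autoImplicit false
universe u
open CategoryTheory Abelian

attribute [local instance] HasDerivedCategory.standard

namespace Groth.Agent.H8.DualSelf

variable (A : Type u) [CommRing A]

/-- No maps `M[0] ⟶ N[i]` for `i < 0`. -/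
theorem subsingleton_hom_shift_neg (M N : ModuleCat.{u} A) (i : ℤ) (hi : i < 0) :
    Subsingleton ((DerivedCategory.singleFunctor (ModuleCat.{u} A) 0).obj M ⟶
      ((DerivedCategory.singleFunctor (ModuleCat.{u} A) 0).obj N)⟦i⟧) := by
  refine ⟨fun f g => ?_⟩
  have hge : DerivedCategory.TStructure.t.IsGE
      (((DerivedCategory.singleFunctor (ModuleCat.{u} A) 0).obj N)⟦i⟧) (-i) :=
    DerivedCategory.TStructure.t.isGE_shift _ 0 i (-i) (by omega)
  have hle : DerivedCategory.TStructure.t.IsLE
      ((DerivedCategory.singleFunctor (ModuleCat.{u} A) 0).obj M) 0 := inferInstance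
  rw [DerivedCategory.TStructure.t.zero_of_isLE_of_isGE f 0 (-i) (by omega) hle hge,
    DerivedCategory.TStructure.t.zero_of_isLE_of_isGE g 0 (-i) (by omega) hle hge]

/-- `Hom(M[0], N[n]) ≃ Ext^n(M, N)`. -/
theorem subsingleton_hom_shift_iff (M N : ModuleCat.{u} A) (n : ℕ) :
    Subsingleton ((DerivedCategory.singleFunctor (ModuleCat.{u} A) 0).obj M ⟶
      ((DerivedCategory.singleFunctor (ModuleCat.{u} A) 0).obj N)⟦(n : ℤ)⟧) ↔
      Subsingleton (Ext.{u} M N n) := by
  constructor
  · intro h
    exact (Ext.homEquiv (X := M) (Y := N) (n := n)).subsingleton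
  · intro h
    exact (Ext.homEquiv (X := M) (Y := N) (n := n)).symm.subsingleton

end Groth.Agent.H8.DualSelf
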