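import Mathlib
import Groth.Agent.Lib.helper8.DualSelfA

/-!
# `A[0]` is a dualizing complex as soon as `A` has finite injective dimension
-/

set_option autoImplicit false
universe u
open CategoryTheory Abelian

attribute [local instance] HasDerivedCategory.standard

namespace Groth.Agent.H8.DualSelf

variable (A : Type u) [CommRing A]

/-- If the Noetherian ring `A` has finite injective dimension over itself then `A[0]` is a
dualizing complex. -/
theorem isDualizing_self_of_hasInjectiveDimensionLT [IsNoetherianRing A] (n : ℕ)
    (hn : HasInjectiveDimensionLT (ModuleCat.of A A) n) :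
    Dual.IsDualizing A (Dual.inD A A) := by
  refine ⟨inferInstance, ⟨0, (n : ℤ), ?_⟩, ?_, ?_, ?_⟩
  · intro M _ _ i hi
    rcases hi with hi | hi
    · exact subsingleton_hom_shift_neg A _ _ i hi
    · obtain ⟨k, rfl⟩ := Int.eq_ofNat_of_zero_le (show (0 : ℤ) ≤ i by omega)
      rw [subsingleton_hom_shift_iff]
      exact HasInjectiveDimensionLT.subsingleton (ModuleCat.of A A) n k (by omega) _
  · intro i
    by_cases hi : i = 0
    · subst hi
      have e := (DerivedCategory.singleFunctorCompHomologyFunctorIso (ModuleCat.{u} A) 0).app
        (ModuleCat.of A A)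
      haveI : Module.Finite A ↑((𝟭 (ModuleCat A)).obj (ModuleCat.of A A)) :=
        (inferInstance : Module.Finite A A)
      exact Module.Finite.equiv e.toLinearEquiv.symm
    · have hz : Limits.IsZero ((DerivedCategory.homologyFunctor (ModuleCat.{u} A) i).obj
          (Dual.inD A A)) := by
        rcases lt_or_gt_of_ne hi with h | h
        · exact DerivedCategory.isZero_of_isGE _ 0 i h
        · exact DerivedCategory.isZero_of_isLE _ 0 i h
      have : Subsingleton (Dual.HD A (Dual.inD A A) i) := ModuleCat.subsingleton_of_isZero hz
      infer_instance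
  · have hmap : ∀ a : A, a • (𝟙 (Dual.inD A A)) =
        (DerivedCategory.singleFunctor (ModuleCat.{u} A) 0).map
          (a • (𝟙 (ModuleCat.of A A))) := by
      intro a
      rw [CategoryTheory.Functor.map_smul, CategoryTheory.Functor.map_id]
    constructor
    · intro a b hab
      simp only [hmap] at hab
      have h2 := (DerivedCategory.singleFunctor (ModuleCat.{u} A) 0).map_injective hab
      have h3 := congrArg (fun f => f.hom (1 : A)) h2
      simpa using h3
    · intro f
      obtain ⟨g, rfl⟩ := (DerivedCategory.singleFunctor (ModuleCat.{u} A) 0).map_surjective f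
      refine ⟨g.hom (1 : A), ?_⟩
      show (g.hom (1 : A)) • (𝟙 (Dual.inD A A)) = _
      rw [hmap]
      congr 1
      ext
      simp
  · intro i hi
    rcases lt_or_gt_of_ne hi with h | h
    · exact subsingleton_hom_shift_neg A _ _ i h
    · obtain ⟨k, rfl⟩ := Int.eq_ofNat_of_zero_le (show (0 : ℤ) ≤ i by omega)
      rw [subsingleton_hom_shift_iff]
      have : Projective (ModuleCat.of A A) := inferInstance
      obtain ⟨k, rfl⟩ : ∃ j, k = j + 1 := ⟨k - 1, by omega⟩
      exact ⟨fun x y => by
        rw [Abelian.Ext.eq_zero_of_projective x, Abelian.Ext.eq_zero_of_projective y]⟩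

end Groth.Agent.H8.DualSelf
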