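import Mathlib
import Groth.Prelude.Def_Wider
import Groth.Prelude.Def_CAlg

/-!
# Cohomology of objects of `D(A)` and maps from `A[0]` (helper8)
-/

set_option autoImplicit false
universe u
open CategoryTheory Abelian CategoryTheory.Limits

attribute [local instance] HasDerivedCategory.standard

namespace Groth.Agent.H8.DualZero

variable (A : Type u) [CommRing A]

/-- If there are no nonzero maps `A[0] ⟶ L` in `D(A)`, then `H^0(L) = 0`. -/
theorem isZero_homology_zero_of_subsingleton (L : Dual.D A)
    (h : Subsingleton (Dual.inD A A ⟶ L)) :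
    IsZero ((DerivedCategory.homologyFunctor (ModuleCat.{u} A) 0).obj L) := by
  let C := DerivedCategory.Q.objPreimage L
  let e : DerivedCategory.Q.obj C ≅ L := DerivedCategory.Q.objObjPreimageIso L
  suffices hC : IsZero (C.homology 0) by
    have i1 := (DerivedCategory.homologyFunctor (ModuleCat.{u} A) 0).mapIso e
    have i2 := (DerivedCategory.homologyFunctorFactors (ModuleCat.{u} A) 0).app C
    exact hC.of_iso (i1.symm ≪≫ i2)
  suffices hx : ∀ x : C.homology 0, x = 0 by
    haveI : Subsingleton (C.homology 0) := ⟨fun a b => by rw [hx a, hx b]⟩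
    exact ModuleCat.isZero_of_subsingleton _
  intro x
  obtain ⟨z, rfl⟩ := (ModuleCat.epi_iff_surjective (C.homologyπ 0)).1 inferInstance x
  let y : C.X 0 := (C.iCycles 0) z
  have hy : (C.d 0 1) y = 0 := by
    have h2 : ((C.iCycles 0) ≫ C.d 0 1).hom z = (0 : C.cycles 0 ⟶ C.X 1).hom z := by
      rw [C.iCycles_d]
    exact h2
  let f : ModuleCat.of A A ⟶ C.X 0 := ModuleCat.ofHom (LinearMap.toSpanSingleton A _ y)
  have hf : f ≫ C.d 0 1 = 0 := by
    ext
    simp [f, hy]
  have hf' : ∀ k : ℤ, (ComplexShape.up ℤ).Rel 0 k → f ≫ C.d 0 k = 0 := by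
    intro k hk
    obtain rfl : k = 1 := by simpa using hk.symm
    exact hf
  let S := (HomologicalComplex.single (ModuleCat.{u} A) (ComplexShape.up ℤ) 0).obj (ModuleCat.of A A)
  let φ : S ⟶ C := HomologicalComplex.mkHomFromSingle f hf'
  have hQ : DerivedCategory.Q.map φ = 0 := by
    have h1 : DerivedCategory.Q.map φ ≫ e.hom = 0 :=
      Subsingleton.elim (α := Dual.inD A A ⟶ L) _ _
    have h2 := congrArg (fun g => g ≫ e.inv) h1
    simpa using h2
  have hH : HomologicalComplex.homologyMap φ 0 = 0 := by
    have := DerivedCategory.homologyFunctorFactors_hom_naturality φ 0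
    rw [hQ, Functor.map_zero, Limits.zero_comp] at this
    have h3 : ((DerivedCategory.homologyFunctorFactors (ModuleCat.{u} A) 0).app S).hom ≫
        HomologicalComplex.homologyMap φ 0 = ((DerivedCategory.homologyFunctorFactors
          (ModuleCat.{u} A) 0).app S).hom ≫ 0 := by
      rw [Limits.comp_zero]
      exact this.symm
    exact (Iso.cancel_iso_hom_left _ _ _).1 h3
  have hSd : (HomologicalComplex.singleObjXSelf (ComplexShape.up ℤ) 0 (ModuleCat.of A A)).inv ≫
      S.d 0 1 = 0 := by
    simp [S]
  have hcomp : (HomologicalComplex.singleObjXSelf (ComplexShape.up ℤ) 0 (ModuleCat.of A A)).inv ≫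
      φ.f 0 = f := by
    simp [φ]
  have hlift : C.liftCycles f 1 (by simp) hf =
      S.liftCycles (HomologicalComplex.singleObjXSelf (ComplexShape.up ℤ) 0
        (ModuleCat.of A A)).inv 1 (by simp) hSd ≫ HomologicalComplex.cyclesMap φ 0 := by
    rw [HomologicalComplex.liftCycles_comp_cyclesMap]
    congr 1
  have hzero : C.liftCycles f 1 (by simp) hf ≫ C.homologyπ 0 = 0 := by
    rw [hlift, Category.assoc, ← HomologicalComplex.homologyπ_naturality, hH, Limits.comp_zero,
      Limits.comp_zero]
  have hz : (C.liftCycles f 1 (by simp) hf).hom (1 : A) = z := by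
    apply (ModuleCat.mono_iff_injective (C.iCycles 0)).1 inferInstance
    have := C.liftCycles_i f 1 (by simp) hf
    have h2 := congrArg (fun g => g.hom (1 : A)) this
    simp only [ModuleCat.hom_comp, LinearMap.comp_apply] at h2
    rw [h2]
    simp [f, y]
  have h4 := congrArg (fun g => g.hom (1 : A)) hzero
  simp only [ModuleCat.hom_comp, LinearMap.comp_apply, ModuleCat.hom_zero,
    LinearMap.zero_apply] at h4
  rw [hz] at h4
  exact h4

end Groth.Agent.H8.DualZero
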