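import Mathlib
import Groth.Prelude.Def_Wider
import Groth.Prelude.Def_CAlg
import Groth.Agent.Lib.helper8.DualZeroA
import Groth.Agent.Lib.helper8.DualSelfA
import Groth.Agent.Lib.helper8.MatlisD

/-!
# Dualizing complexes in dimension zero (helper8), part B
-/

set_option autoImplicit false
universe u
open CategoryTheory Abelian CategoryTheory.Limits

attribute [local instance] HasDerivedCategory.standard

namespace Groth.Agent.H8.DualZero

variable (A : Type u) [CommRing A]

theorem isZero_homology_of_subsingleton (K : Dual.D A) (i : ℤ)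
    (h : Subsingleton (Dual.inD A A ⟶ K⟦i⟧)) :
    IsZero ((DerivedCategory.homologyFunctor (ModuleCat.{u} A) i).obj K) := by
  have h0 := isZero_homology_zero_of_subsingleton A (K⟦i⟧) h
  exact h0.of_iso
    (((DerivedCategory.homologyFunctor (ModuleCat.{u} A) 0).shiftIso i 0 i (by simp)).app K).symm

/-- maps out of `M[0]` vanish for all finite length `M` if they do for the residue field. -/
theorem subsingleton_hom_of_isFiniteLength [IsLocalRing A] (X : Dual.D A)
    (hκ : Subsingleton (Dual.inD A (IsLocalRing.ResidueField A) ⟶ X))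
    (M : Type u) [AddCommGroup M] [Module A M] (hM : IsFiniteLength A M) :
    Subsingleton (Dual.inD A M ⟶ X) := by
  induction hM with
  | of_subsingleton =>
    rename_i M _ _ _
    have hz : IsZero (Dual.inD A M) :=
      (DerivedCategory.singleFunctor (ModuleCat.{u} A) 0).map_isZero
        (ModuleCat.isZero_of_subsingleton _)
    exact ⟨fun f g => hz.eq_of_src f g⟩
  | of_simple_quotient hN ih =>
    rename_i M _ _ N hs
    obtain ⟨I, hI, ⟨e⟩⟩ := isSimpleModule_iff_quot_maximal.1 hs
    obtain rfl : I = IsLocalRing.maximalIdeal A := IsLocalRing.eq_maximalIdeal hI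
    let S : ShortComplex (ModuleCat.{u} A) :=
      ShortComplex.mk (ModuleCat.ofHom N.subtype) (ModuleCat.ofHom N.mkQ) (by
        ext x
        simp)
    have hS : S.ShortExact := by
      refine ShortComplex.ShortExact.mk' ?_ ?_ ?_
      · rw [ShortComplex.ShortExact.moduleCat_exact_iff_function_exact]
        exact LinearMap.exact_subtype_mkQ N
      · exact (ModuleCat.mono_iff_injective _).2 N.injective_subtype
      · exact (ModuleCat.epi_iff_surjective _).2 N.mkQ_surjective
    refine ⟨fun f g => ?_⟩
    suffices key : ∀ f : Dual.inD A M ⟶ X, f = 0 by rw [key f, key g]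
    intro f
    have h1 : (DerivedCategory.singleFunctor (ModuleCat.{u} A) 0).map S.f ≫ f = 0 :=
      Subsingleton.elim (α := Dual.inD A N ⟶ X) _ _
    obtain ⟨g, hg⟩ := Pretriangulated.Triangle.yoneda_exact₂ _ hS.singleTriangle_distinguished f h1
    let eκ : (M ⧸ N) ≃ₗ[A] IsLocalRing.ResidueField A := e
    let iso : Dual.inD A (M ⧸ N) ≅ Dual.inD A (IsLocalRing.ResidueField A) :=
      (DerivedCategory.singleFunctor (ModuleCat.{u} A) 0).mapIso eκ.toModuleIso
    obtain ⟨g', hg'⟩ : ∃ g' : Dual.inD A (M ⧸ N) ⟶ X,
        f = (DerivedCategory.singleFunctor (ModuleCat.{u} A) 0).map S.g ≫ g' := ⟨g, hg⟩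
    have hg0 : g' = 0 := by
      have h2 : iso.inv ≫ g' = 0 := Subsingleton.elim _ _
      have h3 := congrArg (fun t => iso.hom ≫ t) h2
      simpa using h3
    rw [hg', hg0, comp_zero]

end Groth.Agent.H8.DualZero
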