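import Mathlib
import Groth.Prelude.Def_Wider
import Groth.Agent.Lib.helper1.InjHull2

/-!
# An injectivity criterion via `Ext¹(B/q, N)` being killed by elements outside `q`
-/

set_option autoImplicit false
universe u
open CategoryTheory Abelian

namespace Groth.Agent.H8.InjBC

variable {B : Type u} [CommRing B]

/-- the map `B/q → C`, `1 ↦ c`, for `q` annihilating `c`. -/
noncomputable def toElt (q : Ideal B) {C : Type u} [AddCommGroup C] [Module B C] (c : C)
    (hq : ∀ r ∈ q, r • c = 0) : (B ⧸ q) →ₗ[B] C :=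
  Submodule.liftQ q (LinearMap.toSpanSingleton B C c) (fun r hr => by
    rw [LinearMap.mem_ker, LinearMap.toSpanSingleton_apply]
    exact hq r hr)

@[simp]
lemma toElt_mk (q : Ideal B) {C : Type u} [AddCommGroup C] [Module B C] (c : C)
    (hq : ∀ r ∈ q, r • c = 0) (b : B) :
    toElt q c hq (Submodule.Quotient.mk b) = b • c := by
  show Submodule.liftQ q (LinearMap.toSpanSingleton B C c) _ (Submodule.Quotient.mk b) = b • c
  rw [Submodule.liftQ_apply, LinearMap.toSpanSingleton_apply]

@[simp]
lemma toElt_one (q : Ideal B) {C : Type u} [AddCommGroup C] [Module B C] (c : C)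
    (hq : ∀ r ∈ q, r • c = 0) : toElt q c hq 1 = c := by
  show toElt q c hq (Submodule.Quotient.mk 1) = c
  rw [toElt_mk, one_smul]

variable [IsNoetherianRing B]

/-- **Criterion.** If for every prime `q` some element outside `q` kills `Ext¹(B/q, N)` then `N` is
injective. -/
theorem injective_of_ext_one_killed (N : Type u) [AddCommGroup N] [Module B N]
    (h : ∀ q : Ideal B, q.IsPrime → ∃ t : B, t ∉ q ∧
      ∀ x : Ext (ModuleCat.of B (B ⧸ q)) (ModuleCat.of B N) 1, t • x = 0) :
    Module.Injective B N := by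
  obtain ⟨E, _, _, f, hf⟩ := Groth.Agent.Lib.helper1.InjHullLib.exists_injective_hull (R := B) N
  have hE : Module.Injective B E := hf.isInjective
  suffices hsurj : Function.Surjective f by
    let e : N ≃ₗ[B] E := LinearEquiv.ofBijective f ⟨hf.injective, hsurj⟩
    exact (Module.Baer.iff_injective).mp
      (Module.Baer.of_equiv e.symm ((Module.Baer.iff_injective).mpr hE))
  by_contra hns
  -- the cokernel
  let C := E ⧸ LinearMap.range f
  have hC : Nontrivial C := by
    rw [Submodule.Quotient.nontrivial_iff]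
    intro htop
    exact hns (LinearMap.range_eq_top.mp htop)
  obtain ⟨q, hq⟩ := associatedPrimes.nonempty B C
  obtain ⟨hqp, c, hqc⟩ := (isAssociatedPrime_iff).mp hq
  have hmem : ∀ r : B, r ∈ q ↔ r • c = 0 := by
    intro r
    rw [hqc, Submodule.mem_colon_singleton, Submodule.mem_bot]
  obtain ⟨t, htq, ht⟩ := h q hqp
  -- the short exact sequence
  let S : ShortComplex (ModuleCat.{u} B) :=
    ModuleCat.shortComplexOfCompEqZero f (LinearMap.range f).mkQ (by
      ext n
      simp)
  have hS : S.ShortExact := ModuleCat.shortComplex_shortExact S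
    (by
      intro e
      constructor
      · intro he
        exact (Submodule.Quotient.mk_eq_zero _).mp he
      · intro he
        exact (Submodule.Quotient.mk_eq_zero _).mpr he)
    hf.injective (Submodule.mkQ_surjective _)
  let φ : ModuleCat.of B (B ⧸ q) ⟶ S.X₃ :=
    ModuleCat.ofHom (toElt q c (fun r hr => (hmem r).mp hr))
  have h1 : ((t • Ext.mk₀ φ).comp hS.extClass (zero_add 1)) = 0 := by
    rw [Ext.smul_comp]
    exact ht _
  obtain ⟨x₂, hx₂⟩ := Ext.covariant_sequence_exact₃ _ hS (t • Ext.mk₀ φ) (zero_add 1) h1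
  obtain ⟨ψ, rfl⟩ := (Ext.mk₀_bijective _ _).2 x₂
  rw [Ext.mk₀_comp_mk₀, ← Ext.mk₀_smul] at hx₂
  have hψ := (Ext.mk₀_bijective _ _).1 hx₂
  -- the element
  let e : E := ψ.hom (Submodule.Quotient.mk 1)
  have he : (LinearMap.range f).mkQ e = t • c := by
    have := congrArg (fun g => g.hom (Submodule.Quotient.mk (1 : B))) hψ
    simpa [S, φ, e] using this
  have htc : t • c ≠ 0 := fun h0 => htq ((hmem t).mpr h0)
  have he0 : e ≠ 0 := by
    intro h0
    rw [h0, map_zero] at he
    exact htc he.symm
  have hqe : ∀ r ∈ q, r • e = 0 := by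
    intro r hr
    show r • ψ.hom (Submodule.Quotient.mk 1) = 0
    rw [← map_smul, ← Submodule.Quotient.mk_smul, smul_eq_mul, mul_one,
      (Submodule.Quotient.mk_eq_zero q).mpr hr, map_zero]
  obtain ⟨r, hre, hrf⟩ := Groth.Agent.Lib.helper1.InjHullLib.ess_of_isEssentialInj
    hf.toIsEssentialInj e he0
  have hrq : r ∉ q := fun hr => hre (hqe r hr)
  have h2 : (LinearMap.range f).mkQ (r • e) = 0 := (Submodule.Quotient.mk_eq_zero _).mpr hrf
  rw [map_smul, he, smul_smul] at h2
  have h3 : r * t ∈ q := (hmem _).mpr h2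
  rcases hqp.mem_or_mem h3 with h4 | h4
  · exact hrq h4
  · exact htq h4

end Groth.Agent.H8.InjBC
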