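import Mathlib
import Groth.Prelude.Def_Wider
import Groth.Prelude.Def_CAlg
import Groth.Agent.Lib.helper8.InjBCA

/-!
# Dualizing complexes in dimension zero (helper8), part C: module-level recognition of `E(κ)`
-/

set_option autoImplicit false
universe u

namespace Groth.Agent.H8.DualZero

open IsLocalRing

variable {A : Type u} [CommRing A] [IsLocalRing A] [IsNoetherianRing A]

/-- A faithful injective module over an Artinian local ring all of whose endomorphisms are
scalars is an injective hull of the residue field. -/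
theorem nonempty_equiv_injHull [IsArtinianRing A] (W : Type u) [AddCommGroup W] [Module A W]
    [Module.Injective A W]
    (hsc : ∀ g : W →ₗ[A] W, ∃ a : A, g = a • LinearMap.id)
    (hfaith : ∀ a : A, (∀ w : W, a • w = 0) → a = 0)
    (E : Type u) [AddCommGroup E] [Module A E] (f : IsLocalRing.ResidueField A →ₗ[A] E)
    (hf : InjHull.IsInjectiveHull f) : Nonempty (E ≃ₗ[A] W) := by
  -- nilpotency of the maximal ideal
  obtain ⟨N, hN⟩ := (isArtinianRing_iff_isNilpotent_maximalIdeal A).1 inferInstance
  -- `W` is nontrivial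
  haveI : Nontrivial W := by
    by_contra hnt
    rw [not_nontrivial_iff_subsingleton] at hnt
    exact one_ne_zero (hfaith 1 (fun w => Subsingleton.elim _ _))
  -- a nonzero socle element
  have hex : ∃ n : ℕ, (maximalIdeal A) ^ n • (⊤ : Submodule A W) = ⊥ := by
    refine ⟨N, ?_⟩
    rw [hN, Submodule.zero_eq_bot, Submodule.bot_smul]
  classical
  let n := Nat.find hex
  have hn : (maximalIdeal A) ^ n • (⊤ : Submodule A W) = ⊥ := Nat.find_spec hex
  have hn0 : n ≠ 0 := by
    intro h0
    rw [h0, pow_zero, Ideal.one_eq_top, Submodule.top_smul] at hn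
    exact top_ne_bot hn
  obtain ⟨k, hk⟩ := Nat.exists_eq_succ_of_ne_zero hn0
  have hkne : (maximalIdeal A) ^ k • (⊤ : Submodule A W) ≠ ⊥ :=
    Nat.find_min hex (by omega : k < n)
  obtain ⟨x, hxmem, hx0⟩ := Submodule.exists_mem_ne_zero_of_ne_bot hkne
  have hxkill : ∀ r ∈ maximalIdeal A, r • x = 0 := by
    intro r hr
    have : r • x ∈ (maximalIdeal A) ^ n • (⊤ : Submodule A W) := by
      rw [hk, pow_succ', Submodule.mul_smul]
      exact Submodule.smul_mem_smul hr hxmem
    rw [hn] at this
    exact this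
  let f₀ : (A ⧸ maximalIdeal A) →ₗ[A] W := Groth.Agent.H8.InjBC.toElt (maximalIdeal A) x hxkill
  have hf₀ : Function.Injective f₀ := by
    rw [← LinearMap.ker_eq_bot, eq_bot_iff]
    intro z hz
    obtain ⟨a, rfl⟩ := Submodule.Quotient.mk_surjective _ z
    rw [LinearMap.mem_ker, Groth.Agent.H8.InjBC.toElt_mk] at hz
    rw [Submodule.mem_bot, Submodule.Quotient.mk_eq_zero]
    by_contra hmem
    have hu : IsUnit a := IsLocalRing.notMem_maximalIdeal.1 hmem
    obtain ⟨u, rfl⟩ := hu
    apply hx0
    have := congrArg (fun t => ((u⁻¹ : Aˣ) : A) • t) hz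
    simpa [smul_smul] using this
  let f' : (A ⧸ maximalIdeal A) →ₗ[A] E := f
  have hf'inj : Function.Injective f' := hf.injective
  -- extend
  obtain ⟨g, hg⟩ := Module.Injective.out (R := A) (Q := W) f' hf'inj f₀
  have hginj : Function.Injective g := by
    rw [← LinearMap.ker_eq_bot]
    by_contra hker
    have hess : LinearMap.ker g ⊓ LinearMap.range f' ≠ ⊥ := hf.essential (LinearMap.ker g) hker
    obtain ⟨y, hymem, hy0⟩ := Submodule.exists_mem_ne_zero_of_ne_bot hess
    obtain ⟨hy1, ⟨z, rfl⟩⟩ := hymem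
    have hy1' : g (f' z) = 0 := LinearMap.mem_ker.1 hy1
    have h1 : f₀ z = 0 := by rw [← hg z]; exact hy1'
    have h2 : z = 0 := hf₀ (h1.trans (map_zero f₀).symm)
    apply hy0
    rw [h2, map_zero]
  haveI : Module.Injective A E := hf.isInjective
  obtain ⟨r, hr⟩ := Module.Injective.out (R := A) (Q := E) g hginj LinearMap.id
  obtain ⟨a, ha⟩ := hsc (g ∘ₗ r)
  have hag : ∀ y : E, a • g y = g y := by
    intro y
    have := LinearMap.congr_fun ha (g y)
    simp only [LinearMap.comp_apply, LinearMap.smul_apply, LinearMap.id_apply] at this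
    rw [← this, hr y]
    rfl
  have hEnt : ∃ y : E, y ≠ 0 := by
    refine ⟨f' 1, fun h => ?_⟩
    have := hf'inj (h.trans (map_zero f').symm)
    exact one_ne_zero this
  have haunit : IsUnit a := by
    by_contra hna
    have h1 : IsUnit (1 - a) := IsLocalRing.isUnit_one_sub_self_of_mem_nonunits a hna
    obtain ⟨u, hu⟩ := h1
    obtain ⟨y, hy⟩ := hEnt
    apply hy
    apply hginj
    rw [map_zero]
    have h2 : (1 - a) • g y = 0 := by rw [sub_smul, one_smul, hag, sub_self]
    rw [← hu] at h2
    have := congrArg (fun t => ((u⁻¹ : Aˣ) : A) • t) h2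
    simpa [smul_smul] using this
  have hgsurj : Function.Surjective g := by
    intro w
    obtain ⟨u, rfl⟩ := haunit
    refine ⟨r (((u⁻¹ : Aˣ) : A) • w), ?_⟩
    have := LinearMap.congr_fun ha (((u⁻¹ : Aˣ) : A) • w)
    simp only [LinearMap.comp_apply, LinearMap.smul_apply, LinearMap.id_apply] at this
    rw [this, smul_smul, Units.mul_inv, one_smul]
  exact ⟨LinearEquiv.ofBijective g ⟨hginj, hgsurj⟩⟩

end Groth.Agent.H8.DualZero
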