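import Mathlib
import Groth.Prelude.Def_Wider
import Groth.Prelude.Def_CAlg
import Groth.Agent.Lib.helper8.DualZeroB
import Groth.Agent.Lib.helper8.DualZeroC
import Groth.Agent.Lib.helper9.ExtCyclic

/-!
# Dualizing complexes in dimension zero (helper8), part D: main theorem
-/

set_option autoImplicit false
universe u
open CategoryTheory Abelian CategoryTheory.Limits

attribute [local instance] HasDerivedCategory.standard

namespace Groth.Agent.H8.DualZero

variable (A : Type u) [CommRing A]

theorem nonempty_iso_inD_injHull [IsLocalRing A] [IsNoetherianRing A]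
    (h0 : ringKrullDim A = 0) (ω : Dual.D A) (hω : Dual.IsDualizing A ω)
    (hn : Dual.IsNormalized A ω) (E : Type u) [AddCommGroup E] [Module A E]
    (f : IsLocalRing.ResidueField A →ₗ[A] E) (hf : InjHull.IsInjectiveHull f) :
    Nonempty (ω ≅ Dual.inD A E) := by
  haveI : Ring.KrullDimLE 0 A := ringKrullDimZero_iff_ringKrullDim_eq_zero.2 h0
  haveI : IsArtinianRing A := isArtinianRing_iff_krullDimLE_zero.2 inferInstance
  have hAfl : IsFiniteLength A A := (isArtinianRing_iff_isFiniteLength A).1 inferInstance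
  -- vanishing of maps from finite length modules
  have hvan : ∀ (i : ℤ), i ≠ 0 → ∀ (M : Type u) [AddCommGroup M] [Module A M],
      IsFiniteLength A M → Subsingleton (Dual.inD A M ⟶ ω⟦i⟧) :=
    fun i hi M _ _ hM => subsingleton_hom_of_isFiniteLength A (ω⟦i⟧) (hn i hi) M hM
  have hH : ∀ i : ℤ, i ≠ 0 →
      IsZero ((DerivedCategory.homologyFunctor (ModuleCat.{u} A) i).obj ω) :=
    fun i hi => isZero_homology_of_subsingleton A ω i (hvan i hi A hAfl)
  haveI : DerivedCategory.IsGE ω 0 := by
    rw [DerivedCategory.isGE_iff]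
    intro i hi
    exact hH i (by omega)
  haveI : DerivedCategory.IsLE ω 0 := by
    rw [DerivedCategory.isLE_iff]
    intro i hi
    exact hH i (by omega)
  obtain ⟨W, ⟨e⟩⟩ := DerivedCategory.exists_iso_singleFunctor_obj_of_isGE_of_isLE ω 0
  -- `W` is injective
  have hext : ∀ I : Ideal A, Subsingleton (Abelian.Ext (ModuleCat.of A (A ⧸ I)) W (0 + 1)) := by
    intro I
    have hfl : IsFiniteLength A (A ⧸ I) :=
      IsFiniteLength.of_surjective hAfl (Submodule.mkQ_surjective I)
    have h1 := hvan ((1 : ℕ) : ℤ) (by simp) (A ⧸ I) hfl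
    have h2 : Subsingleton ((DerivedCategory.singleFunctor (ModuleCat.{u} A) 0).obj
        (ModuleCat.of A (A ⧸ I)) ⟶
        ((DerivedCategory.singleFunctor (ModuleCat.{u} A) 0).obj W)⟦((1 : ℕ) : ℤ)⟧) := by
      refine ⟨fun a b => ?_⟩
      have hiso := (shiftFunctor (Dual.D A) ((1 : ℕ) : ℤ)).mapIso e
      have ha : a ≫ hiso.inv = b ≫ hiso.inv := Subsingleton.elim _ _
      have := congrArg (fun t => t ≫ hiso.hom) ha
      simpa using this
    exact (Groth.Agent.H8.DualSelf.subsingleton_hom_shift_iff A _ W 1).1 h2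
  haveI hWinj : Injective W := Groth.Agent.Lib.helper9.ExtCyclic.injective_of_ext_one_cyclic A W hext
  haveI : Module.Injective A W := Module.injective_module_of_injective_object A W
  -- endomorphisms of `W` are scalars
  have hsc : ∀ g : W →ₗ[A] W, ∃ a : A, g = a • LinearMap.id := by
    intro g
    let G : ω ⟶ ω := e.hom ≫ (DerivedCategory.singleFunctor (ModuleCat.{u} A) 0).map
      (ModuleCat.ofHom g) ≫ e.inv
    obtain ⟨a, ha⟩ := hω.toEnd_bijective.2 G
    refine ⟨a, ?_⟩
    have h1 : (DerivedCategory.singleFunctor (ModuleCat.{u} A) 0).map (ModuleCat.ofHom g) =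
        (DerivedCategory.singleFunctor (ModuleCat.{u} A) 0).map (a • 𝟙 W) := by
      rw [CategoryTheory.Functor.map_smul, CategoryTheory.Functor.map_id]
      have h2 : e.inv ≫ G ≫ e.hom = (DerivedCategory.singleFunctor (ModuleCat.{u} A) 0).map
          (ModuleCat.ofHom g) := by simp [G]
      rw [← h2, ← ha]
      simp
    have h3 := (DerivedCategory.singleFunctor (ModuleCat.{u} A) 0).map_injective h1
    have h4 := congrArg (fun t => t.hom) h3
    simpa using h4
  have hfaith : ∀ a : A, (∀ w : W, a • w = 0) → a = 0 := by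
    intro a ha
    apply hω.toEnd_bijective.1
    show a • 𝟙 ω = (0 : A) • 𝟙 ω
    have h1 : a • 𝟙 W = 0 := by
      ext w
      show a • w = 0
      exact ha w
    have h2 : a • 𝟙 ω = e.hom ≫ (DerivedCategory.singleFunctor (ModuleCat.{u} A) 0).map
        (a • 𝟙 W) ≫ e.inv := by
      rw [CategoryTheory.Functor.map_smul, CategoryTheory.Functor.map_id]
      simp
    rw [h2, h1, Functor.map_zero, zero_comp, comp_zero, zero_smul]
  obtain ⟨eW⟩ := nonempty_equiv_injHull (A := A) W hsc hfaith E f hf
  exact ⟨e ≪≫ (DerivedCategory.singleFunctor (ModuleCat.{u} A) 0).mapIso eW.symm.toModuleIso⟩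

end Groth.Agent.H8.DualZero
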