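import Groth.Agent.Lib.helper9.FT1
import Groth.Agent.Lib.helper9.ZC10

/-!
# Stalks of a module with generating sections are spanned by the germs of those sections (helper8)
-/

set_option autoImplicit false
universe u

open CategoryTheory CategoryTheory.Limits AlgebraicGeometry TopologicalSpace Opposite

namespace Groth.Agent.H8.FTSpan

open Groth.Agent.Lib.helper9.ZC Groth.Agent.Lib.helper9 Groth.Agent.Lib.helper9.FT

variable {Y : Scheme.{u}}

/-- the image of `u : 𝒪 ⟶ N` on stalks lies in any submodule containing the germ of `u(1)`. -/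
lemma stalk_map_unit_mem (N : Y.Modules) (u : SheafOfModules.unit Y.ringCatSheaf ⟶ N) (y : Y)
    (P : Submodule (Y.presheaf.stalk y) (N.presheaf.stalk y))
    (h : N.presheaf.germ ⊤ y trivial (unitSec N u ⊤) ∈ P)
    (a : (Scheme.Modules.presheaf (SheafOfModules.unit Y.ringCatSheaf : Y.Modules)).stalk y) :
    ((stalkF y).map u a : N.presheaf.stalk y) ∈ P := by
  obtain ⟨V, hy, a', rfl⟩ := TopCat.Presheaf.exists_germ_eq _ a
  have e := stalk_map_germ (M := (SheafOfModules.unit Y.ringCatSheaf : Y.Modules)) u V y hy a'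
  rw [app_eq_smul_unitSec N u V a' a' rfl, CohB.germ_smul, ← unitSec_res N u (le_top : V ≤ ⊤),
    germ_res] at e
  rw [e]
  exact P.smul_mem _ h

/-- a submodule of the stalk containing the germs of generating sections is everything. -/
theorem eq_top_of_germs_mem (N : Y.Modules) (σ : N.GeneratingSections) (y : Y)
    (P : Submodule (Y.presheaf.stalk y) (N.presheaf.stalk y))
    (h : ∀ k : σ.I,
      N.presheaf.germ ⊤ y trivial (unitSec N (SheafOfModules.ιFree k ≫ σ.π) ⊤) ∈ P) :
    P = ⊤ := by
  classical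
  let Q : AddSubgroup ((stalkF y).obj N) := P.toAddSubgroup
  let qP : (stalkF y).obj N ⟶ AddCommGrpCat.of (((stalkF y).obj N) ⧸ Q) :=
    AddCommGrpCat.ofHom (QuotientAddGroup.mk' Q)
  have hzero : (stalkF y).map σ.π ≫ qP = 0 := by
    refine (isColimitOfPreserves (stalkF y) (SheafOfModules.isColimitFreeCofan σ.I)).hom_ext
      (fun ⟨k⟩ => ?_)
    refine Eq.trans ?_ comp_zero.symm
    change (stalkF y).map (SheafOfModules.ιFree k) ≫ (stalkF y).map σ.π ≫ qP = 0
    rw [← Category.assoc, ← Functor.map_comp]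
    ext a
    change QuotientAddGroup.mk' Q ((stalkF y).map (SheafOfModules.ιFree k ≫ σ.π) a) = 0
    rw [QuotientAddGroup.mk'_apply, QuotientAddGroup.eq_zero_iff]
    exact stalk_map_unit_mem N (SheafOfModules.ιFree k ≫ σ.π) y P (h k) a
  rw [eq_top_iff]
  intro n _
  obtain ⟨m, rfl⟩ := @stalk_surjective_of_epi Y _ N σ.π σ.epi y n
  have h1 : QuotientAddGroup.mk' Q ((stalkF y).map σ.π m) = 0 :=
    congrArg (fun ψ => (ConcreteCategory.hom ψ) m) hzero
  rw [QuotientAddGroup.mk'_apply, QuotientAddGroup.eq_zero_iff] at h1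
  exact h1

end Groth.Agent.H8.FTSpan
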