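import Groth.Agent.Lib.helper8.FTSpanA
import Groth.Agent.Lib.helper9.CohB3
import Groth.Agent.Lib.helper9.CohB2

/-!
# Finite type modules on a scheme: local finite families of sections spanning all nearby stalks
(helper8)
-/

set_option autoImplicit false
universe u

open CategoryTheory CategoryTheory.Limits AlgebraicGeometry TopologicalSpace Opposite

namespace Groth.Agent.H8.FTSpan

open Groth.Agent.Lib.helper9.ZC Groth.Agent.Lib.helper9 Groth.Agent.Lib.helper9.FT
open Scheme.Modules

variable {X Y : Scheme.{u}}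

/-- the comparison of stalks of a restriction along an open immersion. -/
noncomputable def eps (f : Y ⟶ X) [IsOpenImmersion f] (M : X.Modules) (y : Y) :
    (M.restrict f).presheaf.stalk y ≅ M.presheaf.stalk (f y) :=
  (restrictStalkNatIso f y).app M

lemma restrictStalk_germ (f : Y ⟶ X) [IsOpenImmersion f] (M : X.Modules) (y : Y) (V' : Y.Opens)
    (hy : y ∈ V') (s : Γ(M.restrict f, V')) :
    (eps f M y).hom ((M.restrict f).presheaf.germ V' y hy s) =
      M.presheaf.germ (f ''ᵁ V') (f y) ⟨y, hy, rfl⟩ s :=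
  congrArg (fun g => (ConcreteCategory.hom g) s) (germ_restrictStalkNatIso_hom_app f y M hy)

lemma restrictStalk_smul (f : Y ⟶ X) [IsOpenImmersion f] (M : X.Modules) (y : Y)
    (r : Y.presheaf.stalk y) (m : (M.restrict f).presheaf.stalk y) :
    (eps f M y).hom (r • m) =
      ((inv (f.stalkMap y)) r : X.presheaf.stalk (f y)) • (eps f M y).hom m := by
  obtain ⟨V', hy, a, t, rfl, rfl⟩ := CohB.exists_germs (M.restrict f) y r m
  rw [← CohB.germ_smul]
  rw [restrictStalk_germ, restrictStalk_germ]
  refine (CohB.germ_smul M (f y) (f ''ᵁ V') ⟨y, hy, rfl⟩ ((f.appIso V').inv a) t).trans ?_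
  congr 1
  rw [← CohB.stalkMap_germ_image f y V' hy a]
  have hz : ∀ z, (inv (f.stalkMap y)) ((f.stalkMap y) z) = z := fun z => by
    rw [← ConcreteCategory.comp_apply, IsIso.hom_inv_id]; rfl
  exact (hz _).symm

theorem exists_sections_span (F : X.Modules) [SheafOfModules.IsFiniteType.{u} F] (x : X) :
    ∃ (U : X.Opens) (_ : x ∈ U) (ι : Type u) (_ : Finite ι) (m : ι → Γ(F, U)),
      ∀ (y : X) (hy : y ∈ U) (P : Submodule (X.presheaf.stalk y) (F.presheaf.stalk y)),
        (∀ i, F.presheaf.germ U y hy (m i) ∈ P) → P = ⊤ := by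
  obtain ⟨I, W, hcov, hgen⟩ := CohB.exists_isOpenCover_generatingSections F
  obtain ⟨i, hxi⟩ := hcov.exists_mem x
  obtain ⟨σ, hσ⟩ := hgen i (W i) le_rfl
  let f := (W i).ι
  refine ⟨f ''ᵁ ⊤, ⟨⟨x, hxi⟩, trivial, rfl⟩, σ.I, hσ.finite,
    fun k => unitSec (F.restrict f) (SheafOfModules.ιFree k ≫ σ.π) ⊤, ?_⟩
  rintro _ ⟨y', hy'top, rfl⟩ P hP
  let ε := eps f F y'
  let P' : Submodule ((W i).toScheme.presheaf.stalk y') ((F.restrict f).presheaf.stalk y') :=
    { carrier := {n | (ε.hom n : F.presheaf.stalk (f y')) ∈ P}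
      add_mem' := by
        intro a b ha hb
        change (ε.hom (a + b) : F.presheaf.stalk (f y')) ∈ P
        rw [map_add]
        exact P.add_mem ha hb
      zero_mem' := by
        change (ε.hom 0 : F.presheaf.stalk (f y')) ∈ P
        rw [map_zero]
        exact P.zero_mem
      smul_mem' := by
        intro r n hn
        change (ε.hom (r • n) : F.presheaf.stalk (f y')) ∈ P
        rw [restrictStalk_smul]
        exact P.smul_mem _ hn }
  have htop := eq_top_of_germs_mem (F.restrict f) σ y' P' (fun k => by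
    change (ε.hom _ : F.presheaf.stalk (f y')) ∈ P
    rw [restrictStalk_germ]
    exact hP k)
  rw [eq_top_iff]
  intro v _
  have hv : ε.inv v ∈ P' := by rw [htop]; trivial
  have hv' : (ε.hom (ε.inv v) : F.presheaf.stalk (f y')) ∈ P := hv
  have e : ε.hom (ε.inv v) = v := by
    rw [← ConcreteCategory.comp_apply, Iso.inv_hom_id]; rfl
  rw [e] at hv'
  exact hv'

end Groth.Agent.H8.FTSpan
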