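import Groth.Agent.Lib.helper8.FTSpanB
import Groth.Agent.Lib.helper9.ZC6
import Groth.Prelude.Def_RefHull

/-!
# The evaluation map `𝓗om(F, G)_x → Hom(F_x, G_x)` is injective for `F` of finite type (helper8)
-/

set_option autoImplicit false
universe u

open CategoryTheory CategoryTheory.Limits AlgebraicGeometry TopologicalSpace Opposite

namespace Groth.Agent.H8.FTSpan

open Groth.Agent.Lib.helper9

variable {X : Scheme.{u}}

theorem evalStalk_injective (F G : X.Modules) [SheafOfModules.IsFiniteType.{u} F] (x : X) :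
    Function.Injective (RefHull.evalStalk F G x) := by
  rw [injective_iff_map_eq_zero]
  intro θ hθ
  obtain ⟨U₀, hx₀, g, rfl⟩ := TopCat.Presheaf.exists_germ_eq (RefHull.homSh F G).presheaf θ
  rw [RefHull.evalStalk_germ] at hθ
  obtain ⟨U, hxU, ι, hfin, m, hspan⟩ := exists_sections_span F x
  let V : X.Opens := U₀ ⊓ U
  have hxV : x ∈ V := ⟨hx₀, hxU⟩
  have hloc := RefHull.isLocSect_of_mem g
  choose Wk hxW jk nk hk using fun i : ι => hloc V (homOfLE inf_le_left)
    (F.presheaf.map (homOfLE (inf_le_right : V ≤ U)).op (m i)) ⟨x, hxV⟩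
  let T : Set X := (V : Set X) ∩
    ⋂ i, {y | ∃ hy : y ∈ Wk i, G.presheaf.germ (Wk i) y hy (nk i) = 0}
  have hT : IsOpen T :=
    V.2.inter (isOpen_iInter_of_finite fun i => ZC.isOpen_germ_eq_zero G (Wk i) (nk i))
  have hxT : x ∈ T := by
    refine ⟨hxV, Set.mem_iInter.2 fun i => ⟨hxW i, ?_⟩⟩
    have e := hk i ⟨x, hxW i⟩
    rw [← e]
    have h0 : g.1 ⟨x, (homOfLE (inf_le_left : V ≤ U₀)).le ((jk i).le (hxW i))⟩ = 0 := hθ
    rw [h0]
    rfl
  let W : X.Opens := ⟨T, hT⟩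
  have hWU₀ : W ≤ U₀ := fun y hy => hy.1.1
  have hres : (RefHull.homSh F G).presheaf.map (homOfLE hWU₀).op g = 0 := by
    apply Subtype.ext
    funext y
    change g.1 ⟨y.1, hWU₀ y.2⟩ = 0
    have hyV : y.1 ∈ V := y.2.1
    have := hspan y.1 hyV.2 (LinearMap.ker (g.1 ⟨y.1, hWU₀ y.2⟩)) (fun i => by
      rw [LinearMap.mem_ker]
      obtain ⟨hyW, h0⟩ := Set.mem_iInter.1 y.2.2 i
      have e := hk i ⟨y.1, hyW⟩
      rw [TopCat.Presheaf.germ_res_apply] at e
      rw [h0] at e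
      exact e)
    exact LinearMap.ker_eq_top.1 this
  rw [← TopCat.Presheaf.germ_res_apply (RefHull.homSh F G).presheaf (homOfLE hWU₀) x hxT g, hres,
    map_zero]

end Groth.Agent.H8.FTSpan
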