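import Mathlib
import Groth.Prelude.Def_Wider
import Groth.Agent.Lib.helper8.MatlisD
import Groth.Agent.Lib.helper8.InjBCA

/-!
# Self-equivalences of the category of finite length modules (helper8), part A
-/

universe u

namespace Groth.Agent.H8.FinLenEq

open CategoryTheory IsLocalRing

variable {A : Type u} [CommRing A]

/-- the underlying linear map of a morphism of `FinLen A`. -/
def toLin {X Y : Dual.FinLen A} (f : X ⟶ Y) : X.obj →ₗ[A] Y.obj := f.hom.hom

/-- the morphism of `FinLen A` of a linear map. -/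
def ofLin {X Y : Dual.FinLen A} (g : X.obj →ₗ[A] Y.obj) : X ⟶ Y :=
  ObjectProperty.homMk (ModuleCat.ofHom g)

@[simp] lemma toLin_ofLin {X Y : Dual.FinLen A} (g : X.obj →ₗ[A] Y.obj) : toLin (ofLin g) = g := rfl

@[simp] lemma ofLin_toLin {X Y : Dual.FinLen A} (f : X ⟶ Y) : ofLin (toLin f) = f := rfl

lemma toLin_injective {X Y : Dual.FinLen A} : Function.Injective (toLin : (X ⟶ Y) → _) := by
  intro f g h
  rw [← ofLin_toLin f, ← ofLin_toLin g, h]

@[simp] lemma toLin_comp {X Y Z : Dual.FinLen A} (f : X ⟶ Y) (g : Y ⟶ Z) :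
    toLin (f ≫ g) = (toLin g).comp (toLin f) := rfl

@[simp] lemma toLin_id (X : Dual.FinLen A) : toLin (𝟙 X) = LinearMap.id := rfl

@[simp] lemma toLin_zero {X Y : Dual.FinLen A} : toLin (0 : X ⟶ Y) = 0 := rfl

@[simp] lemma toLin_add {X Y : Dual.FinLen A} (f g : X ⟶ Y) : toLin (f + g) = toLin f + toLin g := rfl

@[simp] lemma toLin_smul {X Y : Dual.FinLen A} (a : A) (f : X ⟶ Y) :
    toLin (a • f) = a • toLin f := rfl

/-- the object of `FinLen A` of a finite length module. -/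
abbrev mkObj (M : Type u) [AddCommGroup M] [Module A M] (h : IsFiniteLength A M) : Dual.FinLen A :=
  ⟨ModuleCat.of A M, h⟩

section Functor

variable (Φ : Dual.FinLen A ⥤ Dual.FinLen A) [Φ.Additive] [Φ.Linear A]

lemma kill_map {X : Dual.FinLen A} (r : A) (h : ∀ x : X.obj, r • x = 0) (y : (Φ.obj X).obj) :
    r • y = 0 := by
  have h0 : r • (𝟙 X) = 0 := by
    apply toLin_injective
    ext x
    simpa using h x
  have h1 : r • (𝟙 (Φ.obj X)) = 0 := by
    rw [← Φ.map_id, ← CategoryTheory.Functor.map_smul, h0, Φ.map_zero]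
  have h2 := congrArg (fun f => toLin f y) h1
  simpa using h2

lemma kill_of_map [Φ.Faithful] {X : Dual.FinLen A} (r : A) (h : ∀ y : (Φ.obj X).obj, r • y = 0)
    (x : X.obj) : r • x = 0 := by
  have h1 : r • (𝟙 (Φ.obj X)) = 0 := by
    apply toLin_injective
    ext y
    simpa using h y
  have h0 : r • (𝟙 X) = 0 := by
    apply Φ.map_injective
    rw [CategoryTheory.Functor.map_smul, Φ.map_id, h1, Φ.map_zero]
  have h2 := congrArg (fun f => toLin f x) h0
  simpa using h2

end Functor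

section Local

variable [IsLocalRing A] [IsNoetherianRing A]

lemma exists_pow_kill (X : Dual.FinLen A) :
    ∃ n : ℕ, ∀ r ∈ (maximalIdeal A) ^ n, ∀ x : X.obj, r • x = 0 := by
  have hX : IsFiniteLength A X.obj := X.property
  obtain ⟨hN, hAr⟩ := isFiniteLength_iff_isNoetherian_isArtinian.1 hX
  let c : ℕ →o (Submodule A X.obj)ᵒᵈ :=
    ⟨fun n => OrderDual.toDual ((maximalIdeal A) ^ n • (⊤ : Submodule A X.obj)), by
      intro a b hab
      show (maximalIdeal A) ^ b • (⊤ : Submodule A X.obj) ≤ (maximalIdeal A) ^ a • ⊤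
      exact Submodule.smul_mono_left (Ideal.pow_le_pow_right hab)⟩
  obtain ⟨n, hn⟩ := IsArtinian.monotone_stabilizes c
  have h1 : (maximalIdeal A) ^ n • (⊤ : Submodule A X.obj) =
      (maximalIdeal A) ^ (n + 1) • (⊤ : Submodule A X.obj) := hn (n + 1) (Nat.le_succ n)
  have h2 : (maximalIdeal A) ^ n • (⊤ : Submodule A X.obj) = ⊥ := by
    apply Submodule.eq_bot_of_le_smul_of_le_jacobson_bot (maximalIdeal A) _
      (IsNoetherian.noetherian _)
    · conv_lhs => rw [h1, pow_succ', Submodule.mul_smul]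
    · exact (IsLocalRing.jacobson_eq_maximalIdeal ⊥ bot_ne_top).ge
  refine ⟨n, fun r hr x => ?_⟩
  have : r • x ∈ (maximalIdeal A) ^ n • (⊤ : Submodule A X.obj) :=
    Submodule.smul_mem_smul hr Submodule.mem_top
  rw [h2] at this
  exact this

/-- the object `A/𝔪^n`. -/
noncomputable abbrev Rn (n : ℕ) : Dual.FinLen A :=
  mkObj (A ⧸ (maximalIdeal A) ^ n) (Groth.Agent.H8.Matlis.isFiniteLength_quot_pow n)

lemma Rn_kill (n : ℕ) (r : A) (hr : r ∈ (maximalIdeal A) ^ n) (x : (Rn (A := A) n).obj) :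
    r • x = 0 := by
  obtain ⟨a, rfl⟩ := Ideal.Quotient.mk_surjective (I := (maximalIdeal A) ^ n) x
  show (Ideal.Quotient.mk ((maximalIdeal A) ^ n)) (r * a) = 0
  exact Ideal.Quotient.eq_zero_iff_mem.mpr (Ideal.mul_mem_right _ _ hr)

/-- evaluation morphism `A/𝔪^n → X`, `1 ↦ x`. -/
noncomputable def ev {X : Dual.FinLen A} (n : ℕ)
    (hn : ∀ r ∈ (maximalIdeal A) ^ n, ∀ x : X.obj, r • x = 0) (x : X.obj) : Rn n ⟶ X :=
  ofLin (Groth.Agent.H8.InjBC.toElt ((maximalIdeal A) ^ n) x (fun r hr => hn r hr x))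

lemma ev_mk {X : Dual.FinLen A} (n : ℕ)
    (hn : ∀ r ∈ (maximalIdeal A) ^ n, ∀ x : X.obj, r • x = 0) (x : X.obj) (a : A) :
    toLin (ev n hn x) (Submodule.Quotient.mk a) = a • x := by
  show Groth.Agent.H8.InjBC.toElt ((maximalIdeal A) ^ n) x (fun r hr => hn r hr x)
    (Submodule.Quotient.mk a) = a • x
  rw [Groth.Agent.H8.InjBC.toElt_mk]

lemma hom_Rn_ext {X : Dual.FinLen A} (n : ℕ) (f g : Rn (A := A) n ⟶ X)
    (h : toLin f (Submodule.Quotient.mk 1) = toLin g (Submodule.Quotient.mk 1)) : f = g := by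
  apply toLin_injective
  apply LinearMap.ext
  intro x
  obtain ⟨a, rfl⟩ := Submodule.Quotient.mk_surjective _ x
  have : (Submodule.Quotient.mk a : A ⧸ (maximalIdeal A) ^ n) =
      a • (Submodule.Quotient.mk 1 : A ⧸ (maximalIdeal A) ^ n) := by
    rw [← Submodule.Quotient.mk_smul, smul_eq_mul, mul_one]
  show toLin f (Submodule.Quotient.mk a) = toLin g (Submodule.Quotient.mk a)
  rw [this, map_smul, map_smul, h]

lemma eq_ev {X : Dual.FinLen A} (n : ℕ)
    (hn : ∀ r ∈ (maximalIdeal A) ^ n, ∀ x : X.obj, r • x = 0) (f : Rn n ⟶ X) :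
    f = ev n hn (toLin f (Submodule.Quotient.mk 1)) := by
  apply hom_Rn_ext
  rw [ev_mk, one_smul]

end Local

end Groth.Agent.H8.FinLenEq
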