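import Mathlib
import Groth.Prelude.Def_Wider
import Groth.Agent.Lib.helper8.FinLenEqA

/-!
# Self-equivalences of the category of finite length modules (helper8), part B:
simple objects.
-/

universe u

namespace Groth.Agent.H8.FinLenEq

open CategoryTheory IsLocalRing

variable {A : Type u} [CommRing A] [IsLocalRing A] [IsNoetherianRing A]

lemma isIso_of_bijective {X Y : Dual.FinLen A} (f : X ⟶ Y) (h : Function.Bijective (toLin f)) :
    IsIso f := by
  rw [← ObjectProperty.isIso_hom_iff]
  exact (ConcreteCategory.isIso_iff_bijective f.hom).2 h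

lemma bijective_of_isIso {X Y : Dual.FinLen A} (f : X ⟶ Y) [IsIso f] :
    Function.Bijective (toLin f) := by
  have : IsIso f.hom := inferInstance
  exact (ConcreteCategory.isIso_iff_bijective f.hom).1 this

/-- categorical characterization of the simple object. -/
def IsK (X : Dual.FinLen A) : Prop :=
  (𝟙 X ≠ 0) ∧ ∀ f : X ⟶ X, f ≠ 0 → IsIso f

instance : IsSimpleModule A (A ⧸ maximalIdeal A) :=
  isSimpleModule_iff_quot_maximal.2 ⟨maximalIdeal A, inferInstance, ⟨LinearEquiv.refl _ _⟩⟩

lemma isFiniteLength_K : IsFiniteLength A (A ⧸ maximalIdeal A) :=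
  isFiniteLength_iff_isNoetherian_isArtinian.2 ⟨inferInstance, inferInstance⟩

/-- the simple object. -/
noncomputable abbrev K : Dual.FinLen A := mkObj (A ⧸ maximalIdeal A) isFiniteLength_K

lemma isK_of_simple (X : Dual.FinLen A) [IsSimpleModule A X.obj] : IsK X := by
  refine ⟨fun h => ?_, fun f hf => ?_⟩
  · haveI : Nontrivial X.obj := IsSimpleModule.nontrivial A X.obj
    obtain ⟨x, hx⟩ := exists_ne (0 : X.obj)
    have := congrArg (fun f => toLin f x) h
    exact hx (by simpa using this)
  · apply isIso_of_bijective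
    apply LinearMap.bijective_of_ne_zero
    intro h
    apply hf
    apply toLin_injective
    rw [h, toLin_zero]

lemma isK_map (Φ : Dual.FinLen A ⥤ Dual.FinLen A) [Φ.Additive] [Φ.Full] [Φ.Faithful]
    {X : Dual.FinLen A} (h : IsK X) : IsK (Φ.obj X) := by
  refine ⟨fun h0 => ?_, fun g hg => ?_⟩
  · apply h.1
    apply Φ.map_injective
    rw [Φ.map_id, h0, Φ.map_zero]
  · obtain ⟨f, rfl⟩ := Φ.map_surjective g
    have hf : f ≠ 0 := by
      rintro rfl
      exact hg (Φ.map_zero _ _)
    haveI := h.2 f hf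
    infer_instance

lemma simple_of_isK {X : Dual.FinLen A} (h : IsK X) :
    Nonempty (X.obj ≃ₗ[A] (A ⧸ maximalIdeal A)) := by
  have hX : IsFiniteLength A X.obj := X.property
  obtain ⟨hN, hAr⟩ := isFiniteLength_iff_isNoetherian_isArtinian.1 hX
  haveI : Nontrivial X.obj := by
    by_contra hnt
    rw [not_nontrivial_iff_subsingleton] at hnt
    apply h.1
    apply toLin_injective
    ext x
    exact Subsingleton.elim _ _
  haveI : Nontrivial (Submodule A X.obj) := Submodule.nontrivial_iff A |>.2 inferInstance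
  haveI : IsAtomic (Submodule A X.obj) := isAtomic_of_orderBot_wellFounded_lt wellFounded_lt
  obtain ⟨S, hS⟩ := IsAtomic.exists_atom (Submodule A X.obj)
  obtain ⟨N, hNc⟩ := IsCoatomic.exists_coatom (Submodule A X.obj)
  haveI hS' : IsSimpleModule A S := isSimpleModule_iff_isAtom.2 hS
  haveI hN' : IsSimpleModule A (X.obj ⧸ N) := isSimpleModule_iff_isCoatom.2 hNc
  obtain ⟨I, hI, ⟨eS⟩⟩ := isSimpleModule_iff_quot_maximal.1 hS'
  obtain ⟨J, hJ, ⟨eN⟩⟩ := isSimpleModule_iff_quot_maximal.1 hN'
  obtain rfl : I = maximalIdeal A := IsLocalRing.eq_maximalIdeal hI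
  obtain rfl : J = maximalIdeal A := IsLocalRing.eq_maximalIdeal hJ
  let φ : X.obj →ₗ[A] X.obj := S.subtype ∘ₗ eS.symm.toLinearMap ∘ₗ eN.toLinearMap ∘ₗ N.mkQ
  have hφ : ofLin (X := X) (Y := X) φ ≠ 0 := by
    intro h0
    have h1 : φ = 0 := by
      have := congrArg toLin h0
      simpa using this
    obtain ⟨y, hy⟩ := N.mkQ_surjective (eN.symm 1)
    have h2 := LinearMap.congr_fun h1 y
    simp only [φ, LinearMap.comp_apply, LinearMap.zero_apply, hy, LinearEquiv.coe_coe,
      LinearEquiv.apply_symm_apply, Submodule.subtype_apply] at h2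
    have h3 : eS.symm 1 = 0 := Subtype.ext h2
    have h4 : (1 : A ⧸ maximalIdeal A) = 0 := by
      rw [← eS.apply_symm_apply 1, h3, map_zero]
    exact one_ne_zero h4
  haveI := h.2 _ hφ
  have hbij := bijective_of_isIso (ofLin (X := X) (Y := X) φ)
  rw [toLin_ofLin] at hbij
  have hinj : Function.Injective N.mkQ := by
    intro a b hab
    apply hbij.1
    simp only [φ, LinearMap.comp_apply, hab]
  have hNbot : N = ⊥ := by
    rw [← N.ker_mkQ]
    exact LinearMap.ker_eq_bot.2 hinj
  exact ⟨(LinearEquiv.ofBijective N.mkQ ⟨hinj, N.mkQ_surjective⟩).trans eN⟩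

/-- an iso in `FinLen A` from a linear equivalence. -/
noncomputable def isoOfEquiv {X Y : Dual.FinLen A} (e : X.obj ≃ₗ[A] Y.obj) : X ≅ Y where
  hom := ofLin e.toLinearMap
  inv := ofLin e.symm.toLinearMap
  hom_inv_id := by
    apply toLin_injective
    ext x
    simp
  inv_hom_id := by
    apply toLin_injective
    ext x
    simp

end Groth.Agent.H8.FinLenEq
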