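import Mathlib
import Groth.Prelude.Def_Wider
import Groth.Agent.Lib.helper8.FinLenEqB

/-!
# Self-equivalences of the category of finite length modules (helper8), part C:
`Φ(A/𝔪^n)` is cyclic with annihilator `𝔪^n`.
-/

universe u

namespace Groth.Agent.H8.FinLenEq

open CategoryTheory IsLocalRing

variable {A : Type u} [CommRing A] [IsLocalRing A] [IsNoetherianRing A]

lemma homK_cyclic0 (n : ℕ) (π ψ : Rn (A := A) n ⟶ K) (hπ : π ≠ 0) : ∃ a : A, ψ = a • π := by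
  have h1 : toLin π (Submodule.Quotient.mk 1) ≠ 0 := by
    intro h0
    apply hπ
    apply hom_Rn_ext
    rw [h0, toLin_zero, LinearMap.zero_apply]
  obtain ⟨u, hu⟩ := Ideal.Quotient.mk_surjective (I := maximalIdeal A)
    (toLin π (Submodule.Quotient.mk 1))
  obtain ⟨v, hv⟩ := Ideal.Quotient.mk_surjective (I := maximalIdeal A)
    (toLin ψ (Submodule.Quotient.mk 1))
  have hu' : IsUnit u := by
    rw [← IsLocalRing.notMem_maximalIdeal]
    intro hmem
    apply h1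
    rw [← hu]
    exact Ideal.Quotient.eq_zero_iff_mem.2 hmem
  obtain ⟨u', rfl⟩ := hu'
  refine ⟨v * ((u'⁻¹ : Aˣ) : A), ?_⟩
  apply hom_Rn_ext
  rw [toLin_smul, LinearMap.smul_apply, ← hu, ← hv]
  show Ideal.Quotient.mk (maximalIdeal A) v =
    Ideal.Quotient.mk (maximalIdeal A) (v * ((u'⁻¹ : Aˣ) : A) * (u' : A))
  rw [mul_assoc, Units.inv_mul, mul_one]

section Functor

variable (Φ : Dual.FinLen A ⥤ Dual.FinLen A) [Φ.Additive] [Φ.Linear A] [Φ.Full] [Φ.Faithful]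

lemma nonempty_iso_K : Nonempty (Φ.obj (K (A := A)) ≅ K) := by
  haveI : IsSimpleModule A (K (A := A)).obj :=
    inferInstanceAs (IsSimpleModule A (A ⧸ maximalIdeal A))
  obtain ⟨e⟩ := simple_of_isK (isK_map Φ (isK_of_simple (K (A := A))))
  exact ⟨isoOfEquiv e⟩

lemma homK_cyclic (n : ℕ) (π ψ : Φ.obj (Rn (A := A) n) ⟶ K) (hπ : π ≠ 0) :
    ∃ a : A, ψ = a • π := by
  obtain ⟨θ⟩ := nonempty_iso_K Φ
  obtain ⟨π₁, hπ₁⟩ := Φ.map_surjective (π ≫ θ.inv)
  obtain ⟨ψ₁, hψ₁⟩ := Φ.map_surjective (ψ ≫ θ.inv)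
  have h1 : π₁ ≠ 0 := by
    rintro rfl
    apply hπ
    rw [Φ.map_zero] at hπ₁
    have : π = (π ≫ θ.inv) ≫ θ.hom := by simp
    rw [this, ← hπ₁, Limits.zero_comp]
  obtain ⟨a, ha⟩ := homK_cyclic0 n π₁ ψ₁ h1
  refine ⟨a, ?_⟩
  have e1 : ψ = (ψ ≫ θ.inv) ≫ θ.hom := by simp
  have e2 : π = (π ≫ θ.inv) ≫ θ.hom := by simp
  rw [e1, ← hψ₁, ha, CategoryTheory.Functor.map_smul, hπ₁, Linear.smul_comp, ← e2]

lemma exists_gen (n : ℕ) :
    ∃ g : (Φ.obj (Rn (A := A) n)).obj, ∀ y : (Φ.obj (Rn (A := A) n)).obj, ∃ a : A, y = a • g := by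
  set X := Φ.obj (Rn (A := A) n) with hXdef
  have hX : IsFiniteLength A X.obj := X.property
  obtain ⟨hN, hAr⟩ := isFiniteLength_iff_isNoetherian_isArtinian.1 hX
  haveI : Module.Finite A X.obj := Module.IsNoetherian.finite A X.obj
  by_cases hnt : Nontrivial X.obj
  swap
  · rw [not_nontrivial_iff_subsingleton] at hnt
    exact ⟨0, fun y => ⟨1, Subsingleton.elim _ _⟩⟩
  haveI : Nontrivial (Submodule A X.obj) := Submodule.nontrivial_iff A |>.2 inferInstance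
  obtain ⟨N, hNc⟩ := IsCoatomic.exists_coatom (Submodule A X.obj)
  haveI hN' : IsSimpleModule A (X.obj ⧸ N) := isSimpleModule_iff_isCoatom.2 hNc
  obtain ⟨J, hJ, ⟨eN⟩⟩ := isSimpleModule_iff_quot_maximal.1 hN'
  obtain rfl : J = maximalIdeal A := IsLocalRing.eq_maximalIdeal hJ
  let π₀ : X.obj →ₗ[A] (A ⧸ maximalIdeal A) := eN.toLinearMap ∘ₗ N.mkQ
  have hπsurj : Function.Surjective π₀ := eN.surjective.comp N.mkQ_surjective
  obtain ⟨g, hg⟩ := hπsurj 1
  have key : (⊤ : Submodule A X.obj) ≤ Submodule.span A {g} ⊔ maximalIdeal A • ⊤ := by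
    by_contra hcon
    have hne : Submodule.span A {g} ⊔ maximalIdeal A • (⊤ : Submodule A X.obj) ≠ ⊤ := by
      intro h
      exact hcon h.ge
    obtain ⟨T, hTc, hT⟩ := (IsCoatomic.eq_top_or_exists_le_coatom _).resolve_left hne
    haveI hT' : IsSimpleModule A (X.obj ⧸ T) := isSimpleModule_iff_isCoatom.2 hTc
    obtain ⟨J, hJ, ⟨eT⟩⟩ := isSimpleModule_iff_quot_maximal.1 hT'
    obtain rfl : J = maximalIdeal A := IsLocalRing.eq_maximalIdeal hJ
    let ψ₀ : X.obj →ₗ[A] (A ⧸ maximalIdeal A) := eT.toLinearMap ∘ₗ T.mkQ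
    have hψsurj : Function.Surjective ψ₀ := eT.surjective.comp T.mkQ_surjective
    have hψg : ψ₀ g = 0 := by
      have : g ∈ T := hT (Submodule.mem_sup_left (Submodule.mem_span_singleton_self g))
      show eT (T.mkQ g) = 0
      rw [Submodule.mkQ_apply, (Submodule.Quotient.mk_eq_zero T).2 this, map_zero]
    have hπne : ofLin (X := X) (Y := K) π₀ ≠ 0 := by
      intro h0
      have h1 : π₀ = 0 := by
        have := congrArg toLin h0
        simpa using this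
      rw [h1, LinearMap.zero_apply] at hg
      exact zero_ne_one hg
    obtain ⟨a, ha⟩ := homK_cyclic Φ n (ofLin (X := X) (Y := K) π₀) (ofLin (X := X) (Y := K) ψ₀) hπne
    have ha' : ψ₀ = a • π₀ := by
      have := congrArg toLin ha
      simpa using this
    have hmem : a ∈ maximalIdeal A := by
      have h2 : ψ₀ g = a • π₀ g := by rw [ha', LinearMap.smul_apply]
      rw [hψg, hg] at h2
      have h3 : (Ideal.Quotient.mk (maximalIdeal A)) a = 0 := by
        rw [h2]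
        show Ideal.Quotient.mk (maximalIdeal A) a = Ideal.Quotient.mk (maximalIdeal A) (a * 1)
        rw [mul_one]
      exact Ideal.Quotient.eq_zero_iff_mem.1 h3
    obtain ⟨y, hy⟩ := hψsurj 1
    have h4 : ψ₀ y = a • π₀ y := by rw [ha', LinearMap.smul_apply]
    obtain ⟨b, hb⟩ := Ideal.Quotient.mk_surjective (I := maximalIdeal A) (π₀ y)
    rw [hy, ← hb] at h4
    have h5 : (1 : A ⧸ maximalIdeal A) = 0 := by
      rw [h4]
      show Ideal.Quotient.mk (maximalIdeal A) (a * b) = 0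
      exact Ideal.Quotient.eq_zero_iff_mem.2 (Ideal.mul_mem_right _ _ hmem)
    exact one_ne_zero h5
  have hle : (⊤ : Submodule A X.obj) ≤ Submodule.span A {g} :=
    Submodule.le_of_le_smul_of_le_jacobson_bot (Module.Finite.fg_top)
      (IsLocalRing.jacobson_eq_maximalIdeal ⊥ bot_ne_top).ge key
  refine ⟨g, fun y => ?_⟩
  obtain ⟨a, ha⟩ := Submodule.mem_span_singleton.1 (hle (Submodule.mem_top : y ∈ ⊤))
  exact ⟨a, ha.symm⟩

/-- a generator of `Φ(A/𝔪^n)` with annihilator `𝔪^n`. -/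
def IsGen (n : ℕ) (g : (Φ.obj (Rn (A := A) n)).obj) : Prop :=
  (∀ y : (Φ.obj (Rn (A := A) n)).obj, ∃ a : A, y = a • g) ∧
    ∀ a : A, a • g = 0 → a ∈ (maximalIdeal A) ^ n

lemma exists_isGen (n : ℕ) : ∃ g, IsGen Φ n g := by
  obtain ⟨g, hg⟩ := exists_gen Φ n
  refine ⟨g, hg, fun a ha => ?_⟩
  have h1 : ∀ y : (Φ.obj (Rn (A := A) n)).obj, a • y = 0 := by
    intro y
    obtain ⟨b, rfl⟩ := hg y
    rw [smul_comm, ha, smul_zero]
  have h2 := kill_of_map Φ a h1 (Submodule.Quotient.mk 1 : A ⧸ (maximalIdeal A) ^ n)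
  have h3 : (Ideal.Quotient.mk ((maximalIdeal A) ^ n)) a = 0 := by
    rw [← h2]
    show Ideal.Quotient.mk ((maximalIdeal A) ^ n) a =
      Ideal.Quotient.mk ((maximalIdeal A) ^ n) (a * 1)
    rw [mul_one]
  exact Ideal.Quotient.eq_zero_iff_mem.1 h3

lemma IsGen.unit_smul {n : ℕ} {g : (Φ.obj (Rn (A := A) n)).obj} (h : IsGen Φ n g) (u : Aˣ) :
    IsGen Φ n ((u : A) • g) := by
  refine ⟨fun y => ?_, fun a ha => ?_⟩
  · obtain ⟨b, rfl⟩ := h.1 y
    refine ⟨b * ((u⁻¹ : Aˣ) : A), ?_⟩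
    rw [smul_smul, mul_assoc, Units.inv_mul, mul_one]
  · have : (a * (u : A)) • g = 0 := by rw [mul_smul]; exact ha
    have h1 := h.2 _ this
    have h2 : a = a * (u : A) * ((u⁻¹ : Aˣ) : A) := by
      rw [mul_assoc, Units.mul_inv, mul_one]
    rw [h2]
    exact Ideal.mul_mem_right _ _ h1

lemma IsGen.kill {n : ℕ} {g : (Φ.obj (Rn (A := A) n)).obj} (_h : IsGen Φ n g)
    (r : A) (hr : r ∈ (maximalIdeal A) ^ n) (y : (Φ.obj (Rn (A := A) n)).obj) : r • y = 0 :=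
  kill_map Φ r (Rn_kill n r hr) y

end Functor

end Groth.Agent.H8.FinLenEq
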