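import Mathlib
import Groth.Prelude.Def_Wider
import Groth.Agent.Lib.helper8.FinLenEqC

/-!
# Self-equivalences of the category of finite length modules (helper8), part D:
compatible generators and the natural isomorphism.
-/

universe u

namespace Groth.Agent.H8.FinLenEq

open CategoryTheory IsLocalRing

variable {A : Type u} [CommRing A] [IsLocalRing A] [IsNoetherianRing A]

/-- the projection `A/𝔪^N → A/𝔪^n`. -/
noncomputable def proj {n N : ℕ} (h : n ≤ N) : Rn (A := A) N ⟶ Rn n :=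
  ofLin (Submodule.mapQ ((maximalIdeal A) ^ N) ((maximalIdeal A) ^ n) LinearMap.id
    (Ideal.pow_le_pow_right h))

lemma proj_mk {n N : ℕ} (h : n ≤ N) (a : A) :
    toLin (proj (A := A) h) (Submodule.Quotient.mk a) = Submodule.Quotient.mk a := rfl

lemma proj_refl (n : ℕ) : proj (A := A) (le_refl n) = 𝟙 _ := by
  apply hom_Rn_ext
  rw [proj_mk, toLin_id, LinearMap.id_apply]

lemma proj_trans {n N M : ℕ} (h : n ≤ N) (h' : N ≤ M) :
    proj (A := A) (h.trans h') = proj h' ≫ proj h := by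
  apply hom_Rn_ext
  rw [proj_mk, toLin_comp, LinearMap.comp_apply, proj_mk, proj_mk]

lemma epi_of_surjective {X Y : Dual.FinLen A} (f : X ⟶ Y) (hf : Function.Surjective (toLin f)) :
    Epi f := by
  refine ⟨fun g h hgh => ?_⟩
  apply toLin_injective
  apply LinearMap.ext
  intro y
  obtain ⟨x, rfl⟩ := hf y
  have := congrArg (fun k => toLin k x) hgh
  simpa using this

lemma surjective_of_epi {X Y : Dual.FinLen A} (f : X ⟶ Y) [Epi f] :
    Function.Surjective (toLin f) := by
  let I := LinearMap.range (toLin f)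
  have hQ : IsFiniteLength A (Y.obj ⧸ I) :=
    IsFiniteLength.of_surjective Y.property I.mkQ_surjective
  let Q : Dual.FinLen A := mkObj (Y.obj ⧸ I) hQ
  let q : Y ⟶ Q := ofLin I.mkQ
  have h0 : f ≫ q = 0 := by
    apply toLin_injective
    apply LinearMap.ext
    intro x
    show I.mkQ (toLin f x) = 0
    rw [Submodule.mkQ_apply, Submodule.Quotient.mk_eq_zero]
    exact LinearMap.mem_range_self _ x
  have h1 : q = 0 := Limits.zero_of_epi_comp f h0
  have h2 : I.mkQ = 0 := by
    have := congrArg toLin h1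
    simpa [q] using this
  have h3 : I = ⊤ := by
    rw [← I.ker_mkQ, h2, LinearMap.ker_zero]
  exact LinearMap.range_eq_top.1 h3

section Functor

variable (Φ : Dual.FinLen A ⥤ Dual.FinLen A) [Φ.Additive] [Φ.Linear A] [Φ.Full] [Φ.Faithful]
  [Φ.PreservesEpimorphisms]

lemma map_proj_surjective {n N : ℕ} (h : n ≤ N) :
    Function.Surjective (toLin (Φ.map (proj (A := A) h))) := by
  haveI : Epi (proj (A := A) h) := by
    apply epi_of_surjective
    intro y
    obtain ⟨a, rfl⟩ := Submodule.Quotient.mk_surjective _ y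
    exact ⟨Submodule.Quotient.mk a, proj_mk h a⟩
  haveI : Epi (Φ.map (proj (A := A) h)) := inferInstance
  exact surjective_of_epi _

lemma exists_next (n : ℕ) (g : (Φ.obj (Rn (A := A) n)).obj) (hg : IsGen Φ n g) :
    ∃ g' : (Φ.obj (Rn (A := A) (n + 1))).obj, IsGen Φ (n + 1) g' ∧
      toLin (Φ.map (proj (A := A) (Nat.le_succ n))) g' = g := by
  obtain ⟨g'', hg''⟩ := exists_isGen Φ (n + 1)
  obtain ⟨u, hu⟩ := hg.1 (toLin (Φ.map (proj (A := A) (Nat.le_succ n))) g'')
  by_cases hunit : IsUnit u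
  · obtain ⟨u', rfl⟩ := hunit
    refine ⟨((u'⁻¹ : Aˣ) : A) • g'', hg''.unit_smul Φ _, ?_⟩
    rw [map_smul, hu, smul_smul, Units.inv_mul, one_smul]
  · have humem : u ∈ maximalIdeal A := by
      by_contra hcon
      exact hunit (IsLocalRing.notMem_maximalIdeal.1 hcon)
    obtain ⟨z, hz⟩ := map_proj_surjective Φ (Nat.le_succ n) g
    obtain ⟨a, rfl⟩ := hg''.1 z
    rw [map_smul, hu, smul_smul] at hz
    have hunit2 : IsUnit (1 - a * u) := by
      have hmem : a * u ∈ maximalIdeal A := Ideal.mul_mem_left _ _ humem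
      have : ¬ IsUnit (a * u) := fun hc => IsLocalRing.notMem_maximalIdeal.2 hc hmem
      exact IsLocalRing.isUnit_one_sub_self_of_mem_nonunits _ this
    have h0 : (1 - a * u) • g = 0 := by
      rw [sub_smul, one_smul, hz, sub_self]
    obtain ⟨w, hw⟩ := hunit2
    have hg0 : g = 0 := by
      have := congrArg (fun t => ((w⁻¹ : Aˣ) : A) • t) h0
      simp only [smul_zero] at this
      rw [← hw, smul_smul, Units.inv_mul, one_smul] at this
      exact this
    refine ⟨g'', hg'', ?_⟩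
    rw [hu, hg0, smul_zero]

/-- the compatible system of generators. -/
noncomputable def seq : (n : ℕ) → {g : (Φ.obj (Rn (A := A) n)).obj // IsGen Φ n g}
  | 0 => ⟨Classical.choose (exists_isGen Φ 0), Classical.choose_spec (exists_isGen Φ 0)⟩
  | n + 1 => ⟨Classical.choose (exists_next Φ n (seq n).1 (seq n).2),
      (Classical.choose_spec (exists_next Φ n (seq n).1 (seq n).2)).1⟩

lemma seq_compat (n : ℕ) :
    toLin (Φ.map (proj (A := A) (Nat.le_succ n))) (seq Φ (n + 1)).1 = (seq Φ n).1 :=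
  (Classical.choose_spec (exists_next Φ n (seq Φ n).1 (seq Φ n).2)).2

lemma seq_compat_le {n N : ℕ} (h : n ≤ N) :
    toLin (Φ.map (proj (A := A) h)) (seq Φ N).1 = (seq Φ n).1 := by
  induction N, h using Nat.le_induction with
  | base => rw [proj_refl, Φ.map_id, toLin_id, LinearMap.id_apply]
  | succ N h ih =>
    have : proj (A := A) (Nat.le_succ_of_le h) = proj (Nat.le_succ N) ≫ proj h :=
      proj_trans h (Nat.le_succ N)
    rw [this, Φ.map_comp, toLin_comp, LinearMap.comp_apply, seq_compat, ih]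

lemma ev_add {X : Dual.FinLen A} (n : ℕ)
    (hn : ∀ r ∈ (maximalIdeal A) ^ n, ∀ x : X.obj, r • x = 0) (x y : X.obj) :
    ev n hn (x + y) = ev n hn x + ev n hn y := by
  apply hom_Rn_ext
  rw [toLin_add, LinearMap.add_apply, ev_mk, ev_mk, ev_mk, smul_add]

lemma ev_smul {X : Dual.FinLen A} (n : ℕ)
    (hn : ∀ r ∈ (maximalIdeal A) ^ n, ∀ x : X.obj, r • x = 0) (a : A) (x : X.obj) :
    ev n hn (a • x) = a • ev n hn x := by
  apply hom_Rn_ext
  rw [toLin_smul, LinearMap.smul_apply, ev_mk, ev_mk, one_smul, one_smul]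

lemma ev_comp {X Y : Dual.FinLen A} (n : ℕ)
    (hn : ∀ r ∈ (maximalIdeal A) ^ n, ∀ x : X.obj, r • x = 0)
    (hn' : ∀ r ∈ (maximalIdeal A) ^ n, ∀ x : Y.obj, r • x = 0) (f : X ⟶ Y) (x : X.obj) :
    ev n hn x ≫ f = ev n hn' (toLin f x) := by
  apply hom_Rn_ext
  rw [toLin_comp, LinearMap.comp_apply, ev_mk, ev_mk, map_smul]

lemma proj_ev {X : Dual.FinLen A} {n N : ℕ} (h : n ≤ N)
    (hn : ∀ r ∈ (maximalIdeal A) ^ n, ∀ x : X.obj, r • x = 0)
    (hN : ∀ r ∈ (maximalIdeal A) ^ N, ∀ x : X.obj, r • x = 0) (x : X.obj) :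
    proj h ≫ ev n hn x = ev N hN x := by
  apply hom_Rn_ext
  rw [toLin_comp, LinearMap.comp_apply, proj_mk, ev_mk, ev_mk]

/-- the comparison map `X → Φ X`. -/
noncomputable def beta (X : Dual.FinLen A) (n : ℕ)
    (hn : ∀ r ∈ (maximalIdeal A) ^ n, ∀ x : X.obj, r • x = 0) : X.obj →ₗ[A] (Φ.obj X).obj where
  toFun x := toLin (Φ.map (ev n hn x)) (seq Φ n).1
  map_add' x y := by
    rw [ev_add, Φ.map_add, toLin_add, LinearMap.add_apply]
  map_smul' a x := by
    rw [ev_smul, CategoryTheory.Functor.map_smul, toLin_smul, LinearMap.smul_apply]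
    rfl

lemma beta_apply (X : Dual.FinLen A) (n : ℕ)
    (hn : ∀ r ∈ (maximalIdeal A) ^ n, ∀ x : X.obj, r • x = 0) (x : X.obj) :
    beta Φ X n hn x = toLin (Φ.map (ev n hn x)) (seq Φ n).1 := rfl

lemma beta_indep (X : Dual.FinLen A) {n N : ℕ} (h : n ≤ N)
    (hn : ∀ r ∈ (maximalIdeal A) ^ n, ∀ x : X.obj, r • x = 0)
    (hN : ∀ r ∈ (maximalIdeal A) ^ N, ∀ x : X.obj, r • x = 0) :
    beta Φ X n hn = beta Φ X N hN := by
  apply LinearMap.ext
  intro x
  rw [beta_apply, beta_apply, ← proj_ev h hn hN, Φ.map_comp, toLin_comp, LinearMap.comp_apply,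
    seq_compat_le]

lemma beta_natural {X Y : Dual.FinLen A} (f : X ⟶ Y) (n : ℕ)
    (hn : ∀ r ∈ (maximalIdeal A) ^ n, ∀ x : X.obj, r • x = 0)
    (hn' : ∀ r ∈ (maximalIdeal A) ^ n, ∀ x : Y.obj, r • x = 0) (x : X.obj) :
    toLin (Φ.map f) (beta Φ X n hn x) = beta Φ Y n hn' (toLin f x) := by
  rw [beta_apply, beta_apply, ← ev_comp n hn hn' f x, Φ.map_comp, toLin_comp,
    LinearMap.comp_apply]

lemma beta_bijective (X : Dual.FinLen A) (n : ℕ)
    (hn : ∀ r ∈ (maximalIdeal A) ^ n, ∀ x : X.obj, r • x = 0) :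
    Function.Bijective (beta Φ X n hn) := by
  have hgen := (seq Φ n).2
  constructor
  · rw [← LinearMap.ker_eq_bot, eq_bot_iff]
    intro x hx
    rw [LinearMap.mem_ker, beta_apply] at hx
    rw [Submodule.mem_bot]
    have h1 : Φ.map (ev n hn x) = 0 := by
      apply toLin_injective
      apply LinearMap.ext
      intro y
      obtain ⟨a, rfl⟩ := hgen.1 y
      rw [map_smul, hx, smul_zero, toLin_zero, LinearMap.zero_apply]
    have h2 : ev n hn x = 0 := by
      apply Φ.map_injective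
      rw [h1, Φ.map_zero]
    have h3 := ev_mk n hn x 1
    rw [h2, toLin_zero, LinearMap.zero_apply, one_smul] at h3
    exact h3.symm
  · intro y
    have hkillg : ∀ r ∈ (maximalIdeal A) ^ n, r • (seq Φ n).1 = 0 :=
      fun r hr => hgen.kill Φ r hr _
    let t := Groth.Agent.H8.InjBC.toElt ((maximalIdeal A) ^ n) (seq Φ n).1 hkillg
    have htbij : Function.Bijective t := by
      constructor
      · rw [← LinearMap.ker_eq_bot, eq_bot_iff]
        intro z hz
        obtain ⟨a, rfl⟩ := Submodule.Quotient.mk_surjective _ z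
        rw [LinearMap.mem_ker, Groth.Agent.H8.InjBC.toElt_mk] at hz
        rw [Submodule.mem_bot, Submodule.Quotient.mk_eq_zero]
        exact hgen.2 a hz
      · intro w
        obtain ⟨a, rfl⟩ := hgen.1 w
        exact ⟨Submodule.Quotient.mk a, Groth.Agent.H8.InjBC.toElt_mk _ _ _ a⟩
    let eN := LinearEquiv.ofBijective t htbij
    have hkilly : ∀ r ∈ (maximalIdeal A) ^ n, r • y = 0 :=
      fun r hr => kill_map Φ r (hn r hr) y
    let h : Φ.obj (Rn (A := A) n) ⟶ Φ.obj X :=
      ofLin ((Groth.Agent.H8.InjBC.toElt ((maximalIdeal A) ^ n) y hkilly) ∘ₗ eN.symm.toLinearMap)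
    have hh : toLin h (seq Φ n).1 = y := by
      have e1 : eN.symm (seq Φ n).1 = Submodule.Quotient.mk 1 := by
        rw [LinearEquiv.symm_apply_eq]
        show (seq Φ n).1 = t (Submodule.Quotient.mk 1)
        rw [Groth.Agent.H8.InjBC.toElt_mk, one_smul]
      show (Groth.Agent.H8.InjBC.toElt ((maximalIdeal A) ^ n) y hkilly) (eN.symm (seq Φ n).1) = y
      rw [e1, Groth.Agent.H8.InjBC.toElt_mk, one_smul]
    obtain ⟨f, hf⟩ := Φ.map_surjective h
    refine ⟨toLin f (Submodule.Quotient.mk 1), ?_⟩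
    rw [beta_apply, ← eq_ev n hn f, hf, hh]

end Functor

theorem nonempty_iso_id (F : Dual.FinLen A ≌ Dual.FinLen A) [F.functor.Additive]
    [F.functor.Linear A] : Nonempty (F.functor ≅ 𝟭 (Dual.FinLen A)) := by
  let Φ := F.functor
  let nX : Dual.FinLen A → ℕ := fun X => Classical.choose (exists_pow_kill X)
  have hnX : ∀ X : Dual.FinLen A, ∀ r ∈ (maximalIdeal A) ^ (nX X), ∀ x : X.obj, r • x = 0 :=
    fun X => Classical.choose_spec (exists_pow_kill X)
  have hmono : ∀ (X : Dual.FinLen A) (N : ℕ), nX X ≤ N →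
      ∀ r ∈ (maximalIdeal A) ^ N, ∀ x : X.obj, r • x = 0 :=
    fun X N h r hr x => hnX X r (Ideal.pow_le_pow_right h hr) x
  let η : ∀ X : Dual.FinLen A, (𝟭 (Dual.FinLen A)).obj X ≅ Φ.obj X := fun X =>
    isoOfEquiv (LinearEquiv.ofBijective (beta Φ X (nX X) (hnX X)) (beta_bijective Φ X _ _))
  refine ⟨(NatIso.ofComponents η ?_).symm⟩
  intro X Y f
  apply toLin_injective
  apply LinearMap.ext
  intro x
  show beta Φ Y (nX Y) (hnX Y) (toLin f x) = toLin (Φ.map f) (beta Φ X (nX X) (hnX X) x)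
  rw [beta_indep Φ X (le_max_left (nX X) (nX Y)) (hnX X) (hmono X _ (le_max_left _ _)),
    beta_indep Φ Y (le_max_right (nX X) (nX Y)) (hnX Y) (hmono Y _ (le_max_right _ _)),
    beta_natural]

end Groth.Agent.H8.FinLenEq
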