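import Mathlib

/-! FlatInj (helper8): for a flat surjective morphism of schemes, pullback of sections is injective. -/

set_option autoImplicit false
universe u

open CategoryTheory AlgebraicGeometry

namespace Groth.Agent.H8.FlatInj

theorem app_injective_of_flat_of_surjective {X' X : Scheme.{u}} (g : X' ⟶ X) [Flat g] [Surjective g]
    (V : X.Opens) : Function.Injective (g.app V) := by
  rw [injective_iff_map_eq_zero]
  intro t ht
  apply TopCat.Presheaf.section_ext X.sheaf V
  intro x hx
  obtain ⟨x', rfl⟩ := g.surjective x
  change (X.presheaf.germ V (g x') hx) t = (X.presheaf.germ V (g x') hx) 0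
  rw [map_zero]
  have hflat : (g.stalkMap x').hom.Flat := Flat.stalkMap g x'
  have hinj : Function.Injective (g.stalkMap x').hom := by
    algebraize [(g.stalkMap x').hom]
    have hloc : IsLocalHom (algebraMap (X.presheaf.stalk (g x')) (X'.presheaf.stalk x')) := by
      change IsLocalHom (g.stalkMap x').hom
      infer_instance
    have : Module.FaithfullyFlat (X.presheaf.stalk (g x')) (X'.presheaf.stalk x') :=
      Module.FaithfullyFlat.of_flat_of_isLocalHom
    exact FaithfulSMul.algebraMap_injective _ _
  apply hinj
  rw [map_zero]
  have := Scheme.Hom.germ_stalkMap_apply g V x' hx t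
  rw [ht, map_zero] at this
  exact this

end Groth.Agent.H8.FlatInj
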