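import Mathlib
import Groth.Prelude.Def_GrLC
import Groth.Prelude.Def_GrSeg
import Groth.Prelude.Def_Wider
import Groth.Agent.Lib.helper8.GDualG

/-!
# Graded `k`-duals, part H (helper8): the graded dual of a finitely generated graded module is
power torsion with finite socle, hence Artinian.
-/

universe u

set_option linter.unusedSectionVars false

namespace Groth.Agent.H8.GDual

open DirectSum GrSeg GrLC LocCoh

section Irr

variable {k : Type u} [Field k] {R : Type u} [CommRing R] [Algebra k R]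
  (𝒜 : ℤ → Submodule k R) [GradedAlgebra 𝒜]

/-- the irrelevant ideal `R_+`. -/
abbrev irr : Ideal R := Ideal.span (⋃ n ∈ Set.Ioi (0 : ℤ), (𝒜 n : Set R))

theorem exists_sub_mem_irr (hposR : ∀ n : ℤ, n < 0 → 𝒜 n = ⊥)
    (h0R : 𝒜 0 = Submodule.span k {(1 : R)}) (r : R) : ∃ c : k, r - c • (1 : R) ∈ irr 𝒜 := by
  have key : r - (decompose 𝒜 r 0 : R) ∈ irr 𝒜 := by
    induction r using DirectSum.Decomposition.inductionOn 𝒜 with
    | zero => simp
    | @homogeneous i a =>
      rcases lt_trichotomy i 0 with h | h | h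
      · have h3 : ∀ z ∈ 𝒜 i, z = 0 := by
          rw [hposR i h]
          intro z hz
          exact (Submodule.mem_bot k).mp hz
        rw [h3 a a.2]
        simp
      · subst h
        rw [decompose_of_mem_same 𝒜 a.2, sub_self]
        exact zero_mem _
      · rw [decompose_of_mem_ne 𝒜 a.2 (by omega), sub_zero]
        apply Ideal.subset_span
        simp only [Set.mem_iUnion, Set.mem_Ioi, SetLike.mem_coe]
        exact ⟨i, h, a.2⟩
    | add a b ha hb =>
      rw [decompose_add, DirectSum.add_apply, Submodule.coe_add]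
      have : a + b - ((decompose 𝒜 a 0 : R) + (decompose 𝒜 b 0 : R)) =
          (a - (decompose 𝒜 a 0 : R)) + (b - (decompose 𝒜 b 0 : R)) := by ring
      rw [this]
      exact add_mem ha hb
  have h0 : (decompose 𝒜 r 0 : R) ∈ 𝒜 0 := SetLike.coe_mem _
  obtain ⟨c, hc⟩ := mem_span_one_of_nonpos 𝒜 hposR h0R le_rfl h0
  exact ⟨c, by rw [← hc]; exact key⟩

theorem irr_isMaximal [Nontrivial R] (hposR : ∀ n : ℤ, n < 0 → 𝒜 n = ⊥)
    (h0R : 𝒜 0 = Submodule.span k {(1 : R)}) : (irr 𝒜).IsMaximal := by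
  rw [Ideal.isMaximal_iff]
  refine ⟨one_notMem_irrelevant 𝒜 hposR, ?_⟩
  intro J x hJ hx hxJ
  obtain ⟨c, hc⟩ := exists_sub_mem_irr 𝒜 hposR h0R x
  have hc0 : c ≠ 0 := by
    rintro rfl
    rw [zero_smul, sub_zero] at hc
    exact hx hc
  have h1 : c • (1 : R) ∈ J := by
    have : c • (1 : R) = x - (x - c • (1 : R)) := by ring
    rw [this]
    exact sub_mem hxJ (hJ hc)
  have h2 : (1 : R) = algebraMap k R c⁻¹ * (c • (1 : R)) := by
    rw [Algebra.algebraMap_eq_smul_one, smul_mul_assoc, one_mul, smul_smul, inv_mul_cancel₀ hc0,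
      one_smul]
  rw [h2]
  exact J.mul_mem_left _ h1

end Irr

section DualOfFinite

variable {k : Type u} [Field k] {R : Type u} [CommRing R] [Algebra k R]
  (𝒜 : ℤ → Submodule k R) [GradedAlgebra 𝒜]
  {M : Type u} [AddCommGroup M] [Module R M] [Module k M] [IsScalarTower k R M]
  (ℳ : ℤ → AddSubgroup M) [DirectSum.Decomposition ℳ] [SetLike.GradedSMul 𝒜 ℳ]
  {D : Type u} [AddCommGroup D] [Module R D] [Module k D] [IsScalarTower k R D]
  (𝒟 : ℤ → AddSubgroup D) [DirectSum.Decomposition 𝒟] [SetLike.GradedSMul 𝒜 𝒟]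
  {β : D →ₗ[k] M →ₗ[k] k}

/-- a finitely generated graded module over a non-negatively graded ring is bounded below. -/
theorem exists_lower_bound (hposR : ∀ n : ℤ, n < 0 → 𝒜 n = ⊥) [Module.Finite R M] :
    ∃ j₀ : ℤ, ∀ j, j < j₀ → ∀ x ∈ ℳ j, x = 0 := by
  classical
  obtain ⟨Z, hZ, hspan⟩ := exists_homogeneous_generators (R := R) ℳ
  choose! e he using hZ
  obtain ⟨b, hb⟩ := Finset.exists_le (Z.image (fun z => -(e z)))
  refine ⟨-b, ?_⟩
  intro j hj x hx
  have hxI : x ∈ Submodule.span R (Z : Set M) := by rw [hspan]; trivial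
  obtain ⟨f, hf⟩ := Submodule.mem_span_finset'.mp hxI
  have hx' : x = (decompose ℳ x j : M) := (decompose_of_mem_same ℳ hx).symm
  rw [hx', ← hf, decompose_sum, DFinsupp.finsetSum_apply, AddSubmonoidClass.coe_finsetSum]
  apply Finset.sum_eq_zero
  intro z _
  have hz : -(e z) ≤ b := hb _ (Finset.mem_image.mpr ⟨z, z.2, rfl⟩)
  rw [coe_decompose_smul_of_right_mem' 𝒜 ℳ (he z z.2),
    decompose_ring_eq_zero_of_neg 𝒜 hposR _ (by omega), zero_smul]

theorem apply_eq_zero_of_mem_geSub (hD : IsGDual R ℳ 𝒟 β) (hposR : ∀ n : ℤ, n < 0 → 𝒜 n = ⊥)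
    (d : D) (s₁ : ℤ) (hs : ∀ j, (decompose 𝒟 d j : D) ≠ 0 → -j ≤ s₁) {y : M}
    (hy : y ∈ geSub 𝒜 ℳ hposR (s₁ + 1)) : β d y = 0 := by
  classical
  rw [← DirectSum.sum_support_decompose ℳ y, map_sum]
  apply Finset.sum_eq_zero
  intro j _
  by_cases hj : j < s₁ + 1
  · rw [hy j hj, map_zero]
  · have hmem : (decompose ℳ y j : M) ∈ ℳ (-(-j)) := by
      rw [neg_neg]; exact SetLike.coe_mem _
    rw [apply_eq_apply_decompose hD d (-j) _ hmem]
    have : (decompose 𝒟 d (-j) : D) = 0 := by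
      by_contra h
      have := hs (-j) h
      omega
    rw [this, map_zero, LinearMap.zero_apply]

theorem isPowerTorsion_gdual (hD : IsGDual R ℳ 𝒟 β) (hposR : ∀ n : ℤ, n < 0 → 𝒜 n = ⊥)
    [Module.Finite R M] : IsPowerTorsion (irr 𝒜) D := by
  classical
  intro d
  obtain ⟨j₀, hj₀⟩ := exists_lower_bound 𝒜 ℳ hposR
  obtain ⟨s₁, hs₁⟩ := Finset.exists_le ((DFinsupp.support (decompose 𝒟 d)).image (fun j => -j))
  have hs : ∀ j, (decompose 𝒟 d j : D) ≠ 0 → -j ≤ s₁ := by
    intro j hj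
    apply hs₁
    apply Finset.mem_image.mpr
    refine ⟨j, ?_, rfl⟩
    rw [DFinsupp.mem_support_iff]
    intro h
    apply hj
    rw [h]; rfl
  refine ⟨(s₁ + 1 - j₀).toNat, ?_⟩
  intro a ha
  apply beta_injective hD
  ext x
  rw [hD.map_smul, map_zero, LinearMap.zero_apply]
  apply apply_eq_zero_of_mem_geSub 𝒜 ℳ 𝒟 hD hposR d s₁ hs
  have htop : geSub 𝒜 ℳ hposR j₀ = ⊤ := geSub_eq_top 𝒜 ℳ hposR hj₀
  have h1 : a • x ∈ (irr 𝒜) ^ (s₁ + 1 - j₀).toNat • geSub 𝒜 ℳ hposR j₀ := by
    apply Submodule.smul_mem_smul ha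
    rw [htop]; trivial
  have h2 := pow_smul_le_geSub 𝒜 ℳ hposR j₀ (s₁ + 1 - j₀).toNat h1
  exact geSub_mono 𝒜 ℳ hposR (by omega) h2

theorem finite_socle_gdual (hD : IsGDual R ℳ 𝒟 β) (hposR : ∀ n : ℤ, n < 0 → 𝒜 n = ⊥)
    (h0R : 𝒜 0 = Submodule.span k {(1 : R)}) [Module.Finite R M] :
    Module.Finite k ↥(torsionBy (irr 𝒜) D) := by
  classical
  obtain ⟨Z, hZ, hspan⟩ := exists_homogeneous_generators (R := R) ℳ
  let L : ↥(torsionBy (irr 𝒜) D) →ₗ[k] (Z → k) :=
    { toFun := fun d z => β (d : D) (z : M)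
      map_add' := fun a b => by
        ext z
        simp only [Submodule.coe_add, map_add, LinearMap.add_apply, Pi.add_apply]
      map_smul' := fun c a => by
        ext z
        simp only [Submodule.coe_smul_of_tower, map_smul, LinearMap.smul_apply, Pi.smul_apply,
          RingHom.id_apply] }
  have hL : Function.Injective L := by
    rw [← LinearMap.ker_eq_bot, LinearMap.ker_eq_bot']
    intro d hd
    apply Subtype.ext
    apply beta_injective hD
    ext x
    rw [ZeroMemClass.coe_zero, map_zero, LinearMap.zero_apply]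
    have hxI : x ∈ Submodule.span R (Z : Set M) := by rw [hspan]; trivial
    induction hxI using Submodule.span_induction with
    | mem z hz => exact congrFun hd ⟨z, hz⟩
    | zero => simp
    | add a b _ _ ha hb => rw [map_add, ha, hb, add_zero]
    | smul r y _ hy =>
      obtain ⟨c, hc⟩ := exists_sub_mem_irr 𝒜 hposR h0R r
      have h1 : (r - c • (1 : R)) • (d : D) = 0 := by
        have := d.2
        rw [Submodule.mem_torsionBySet_iff] at this
        exact this ⟨_, hc⟩
      have h2 : r • (d : D) = c • (d : D) := by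
        rw [sub_smul, smul_assoc, one_smul, sub_eq_zero] at h1
        exact h1
      rw [← hD.map_smul, h2, map_smul, LinearMap.smul_apply, hy, smul_zero]
  exact Module.Finite.of_injective L hL

theorem isArtinian_gdual_of_finite (hD : IsGDual R ℳ 𝒟 β) (hposR : ∀ n : ℤ, n < 0 → 𝒜 n = ⊥)
    (h0R : 𝒜 0 = Submodule.span k {(1 : R)}) [IsNoetherianRing R] [Module.Finite R M] :
    IsArtinian R D := by
  by_cases hR : Nontrivial R
  · haveI := irr_isMaximal 𝒜 hposR h0R
    haveI := finite_socle_gdual 𝒜 ℳ 𝒟 hD hposR h0R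
    haveI : Module.Finite R ↥(torsionBy (irr 𝒜) D) :=
      Module.Finite.of_restrictScalars_finite k R _
    haveI : Module.Finite (R ⧸ irr 𝒜) ↥(torsionBy (irr 𝒜) D) :=
      Module.Finite.of_restrictScalars_finite R (R ⧸ irr 𝒜) _
    exact isArtinian_of_isPowerTorsion_of_finite_socle (irr 𝒜) D
      (isPowerTorsion_gdual 𝒜 ℳ 𝒟 hD hposR)
  · rw [not_nontrivial_iff_subsingleton] at hR
    haveI : Subsingleton D := Module.subsingleton R D
    infer_instance

end DualOfFinite

end Groth.Agent.H8.GDual
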