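import Mathlib
import Groth.Prelude.Def_GrLC
import Groth.Prelude.Def_GrSeg
import Groth.Prelude.Def_Wider
import Groth.Agent.Lib.helper8.GDualH

/-!
# Graded `k`-duals, part I (helper8): Artinian graded modules: finite dimensional pieces,
boundedness above, finite socle, power torsion.
-/

universe u

set_option linter.unusedSectionVars false

namespace Groth.Agent.H8.GDual

open DirectSum GrSeg GrLC LocCoh

section ArtinianGraded

variable {k : Type u} [Field k] {R : Type u} [CommRing R] [Algebra k R]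
  (𝒜 : ℤ → Submodule k R) [GradedAlgebra 𝒜]
  {M : Type u} [AddCommGroup M] [Module R M] [Module k M] [IsScalarTower k R M]
  (ℳ : ℤ → AddSubgroup M) [DirectSum.Decomposition ℳ] [SetLike.GradedSMul 𝒜 ℳ]

/-- `r • x = c • x + a • x` with `c ∈ k`, `a ∈ R_+`. -/
theorem exists_smul_eq (hposR : ∀ n : ℤ, n < 0 → 𝒜 n = ⊥)
    (h0R : 𝒜 0 = Submodule.span k {(1 : R)}) (r : R) :
    ∃ (c : k) (a : R), a ∈ irr 𝒜 ∧ ∀ x : M, r • x = c • x + a • x := by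
  obtain ⟨c, hc⟩ := exists_sub_mem_irr 𝒜 hposR h0R r
  refine ⟨c, _, hc, fun x => ?_⟩
  rw [sub_smul, smul_assoc, one_smul]
  abel

/-- the submodule of `M` attached to a subspace `V` of the piece `M_n`: elements of `M_{≥ n}` whose
degree `n` component lies in `V`. -/
def pieceLift (hposR : ∀ n : ℤ, n < 0 → 𝒜 n = ⊥) (h0R : 𝒜 0 = Submodule.span k {(1 : R)})
    (n : ℤ) (V : Submodule k (pieceSub 𝒜 ℳ n)) : Submodule R M where
  carrier := {x | x ∈ geSub 𝒜 ℳ hposR n ∧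
    (⟨(decompose ℳ x n : M), (decompose ℳ x n).2⟩ : pieceSub 𝒜 ℳ n) ∈ V}
  add_mem' {a b} ha hb := by
    refine ⟨add_mem ha.1 hb.1, ?_⟩
    have : (⟨(decompose ℳ (a + b) n : M), (decompose ℳ (a + b) n).2⟩ : pieceSub 𝒜 ℳ n) =
        ⟨(decompose ℳ a n : M), (decompose ℳ a n).2⟩ + ⟨(decompose ℳ b n : M), (decompose ℳ b n).2⟩ := by
      apply Subtype.ext
      show (decompose ℳ (a + b) n : M) = (decompose ℳ a n : M) + (decompose ℳ b n : M)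
      rw [decompose_add, DirectSum.add_apply, AddSubgroup.coe_add]
    rw [this]
    exact add_mem ha.2 hb.2
  zero_mem' := by
    refine ⟨zero_mem _, ?_⟩
    have : (⟨(decompose ℳ (0 : M) n : M), (decompose ℳ (0 : M) n).2⟩ : pieceSub 𝒜 ℳ n) = 0 := by
      apply Subtype.ext
      simp
    rw [this]
    exact zero_mem _
  smul_mem' r x hx := by
    refine ⟨Submodule.smul_mem _ r hx.1, ?_⟩
    obtain ⟨c, a, ha, hra⟩ := exists_smul_eq 𝒜 (M := M) hposR h0R r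
    have h1 : (decompose ℳ (a • x) n : M) = 0 :=
      smul_mem_geSub_succ 𝒜 ℳ hposR ha hx.1 n (by omega)
    have : (⟨(decompose ℳ (r • x) n : M), (decompose ℳ (r • x) n).2⟩ : pieceSub 𝒜 ℳ n) =
        c • ⟨(decompose ℳ x n : M), (decompose ℳ x n).2⟩ := by
      apply Subtype.ext
      show (decompose ℳ (r • x) n : M) = c • (decompose ℳ x n : M)
      rw [hra x, decompose_add, DirectSum.add_apply, AddSubgroup.coe_add, h1, add_zero,
        decompose_ksmul 𝒜 ℳ]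
    rw [this]
    exact Submodule.smul_mem _ c hx.2

theorem mem_pieceLift (hposR : ∀ n : ℤ, n < 0 → 𝒜 n = ⊥)
    (h0R : 𝒜 0 = Submodule.span k {(1 : R)}) {n : ℤ} {V : Submodule k (pieceSub 𝒜 ℳ n)} {x : M} :
    x ∈ pieceLift 𝒜 ℳ hposR h0R n V ↔ x ∈ geSub 𝒜 ℳ hposR n ∧
    (⟨(decompose ℳ x n : M), (decompose ℳ x n).2⟩ : pieceSub 𝒜 ℳ n) ∈ V := Iff.rfl

theorem pieceLift_strictMono (hposR : ∀ n : ℤ, n < 0 → 𝒜 n = ⊥)
    (h0R : 𝒜 0 = Submodule.span k {(1 : R)}) (n : ℤ) :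
    StrictMono (pieceLift 𝒜 ℳ hposR h0R n) := by
  intro V V' hVV'
  rw [lt_iff_le_and_ne] at hVV' ⊢
  refine ⟨fun x hx => ⟨hx.1, hVV'.1 hx.2⟩, fun heq => hVV'.2 ?_⟩
  have key : ∀ W : Submodule k (pieceSub 𝒜 ℳ n), ∀ v : pieceSub 𝒜 ℳ n,
      v ∈ W ↔ (v : M) ∈ pieceLift 𝒜 ℳ hposR h0R n W := by
    intro W v
    have hv : (v : M) ∈ ℳ n := v.2
    have : (⟨(decompose ℳ (v : M) n : M), (decompose ℳ (v : M) n).2⟩ : pieceSub 𝒜 ℳ n) = v := by
      apply Subtype.ext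
      exact decompose_of_mem_same ℳ hv
    rw [mem_pieceLift, this]
    exact ⟨fun h => ⟨mem_geSub_of_mem 𝒜 ℳ hposR le_rfl hv, h⟩, fun h => h.2⟩
  ext v
  rw [key V v, key V' v, heq]

theorem finite_piece_of_isArtinian (hposR : ∀ n : ℤ, n < 0 → 𝒜 n = ⊥)
    (h0R : 𝒜 0 = Submodule.span k {(1 : R)}) [IsArtinian R M] (n : ℤ) :
    Module.Finite k (pieceSub 𝒜 ℳ n) := by
  have h1 : IsArtinian k (pieceSub 𝒜 ℳ n) :=
    (pieceLift_strictMono 𝒜 ℳ hposR h0R n).wellFoundedLT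
  exact (IsSemisimpleModule.finite_tfae.out 0 2).mpr h1

/-- an Artinian graded module is bounded above. -/
theorem exists_upper_bound (hposR : ∀ n : ℤ, n < 0 → 𝒜 n = ⊥) [IsArtinian R M] :
    ∃ j₁ : ℤ, ∀ j, j₁ < j → ∀ x ∈ ℳ j, x = 0 := by
  let F : ℕ →o (Submodule R M)ᵒᵈ :=
    ⟨fun i => OrderDual.toDual (geSub 𝒜 ℳ hposR (i : ℤ)), by
      intro a b hab
      show geSub 𝒜 ℳ hposR (b : ℤ) ≤ geSub 𝒜 ℳ hposR (a : ℤ)
      exact geSub_mono 𝒜 ℳ hposR (by exact_mod_cast hab)⟩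
  obtain ⟨n, hn⟩ := IsArtinian.monotone_stabilizes F
  refine ⟨n, ?_⟩
  intro j hj x hx
  have h1 : x ∈ geSub 𝒜 ℳ hposR (n : ℤ) := mem_geSub_of_mem 𝒜 ℳ hposR hj.le hx
  have h2 : geSub 𝒜 ℳ hposR (n : ℤ) = geSub 𝒜 ℳ hposR (((j + 1).toNat : ℕ) : ℤ) :=
    hn (j + 1).toNat (by omega)
  rw [h2] at h1
  have h3 := h1 j (by omega)
  rw [decompose_of_mem_same ℳ hx] at h3
  exact h3

theorem geSub_eq_bot (hposR : ∀ n : ℤ, n < 0 → 𝒜 n = ⊥) {j₁ : ℤ}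
    (h : ∀ j, j₁ < j → ∀ x ∈ ℳ j, x = 0) : geSub 𝒜 ℳ hposR (j₁ + 1) = ⊥ := by
  rw [eq_bot_iff]
  intro y hy
  rw [Submodule.mem_bot]
  have h2 : decompose ℳ y = 0 := by
    ext j
    by_cases hj : j < j₁ + 1
    · rw [hy j hj]; rfl
    · rw [h j (by omega) _ (SetLike.coe_mem _)]; rfl
  exact (decompose ℳ).injective (h2.trans (decompose_zero ℳ).symm)

include ℳ in
theorem isPowerTorsion_of_isArtinian_graded (hposR : ∀ n : ℤ, n < 0 → 𝒜 n = ⊥)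
    [IsArtinian R M] : IsPowerTorsion (irr 𝒜) M := by
  classical
  obtain ⟨j₁, hj₁⟩ := exists_upper_bound 𝒜 ℳ hposR
  intro x
  obtain ⟨b, hb⟩ := Finset.exists_le ((DFinsupp.support (decompose ℳ x)).image (fun j => -j))
  have hx : x ∈ geSub 𝒜 ℳ hposR (-b) := by
    intro j hj
    by_contra h
    have : j ∈ DFinsupp.support (decompose ℳ x) := by
      rw [DFinsupp.mem_support_iff]
      intro h'
      apply h
      rw [h']; rfl
    have := hb _ (Finset.mem_image.mpr ⟨j, this, rfl⟩)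
    omega
  refine ⟨(j₁ + 1 + b).toNat, ?_⟩
  intro a ha
  have h1 : a • x ∈ (irr 𝒜) ^ (j₁ + 1 + b).toNat • geSub 𝒜 ℳ hposR (-b) :=
    Submodule.smul_mem_smul ha hx
  have h2 := pow_smul_le_geSub 𝒜 ℳ hposR (-b) (j₁ + 1 + b).toNat h1
  have h3 := geSub_mono 𝒜 ℳ hposR (by omega : j₁ + 1 ≤ -b + ((j₁ + 1 + b).toNat : ℤ)) h2
  rw [geSub_eq_bot 𝒜 ℳ hposR hj₁] at h3
  exact (Submodule.mem_bot R).mp h3

/-- the socle as a `k`-subspace. -/
def socK : Submodule k M := (torsionBy (irr 𝒜) M).restrictScalars k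

theorem mem_socK {x : M} : x ∈ socK 𝒜 (M := M) ↔ ∀ a ∈ irr 𝒜, a • x = 0 := by
  show x ∈ torsionBy (irr 𝒜) M ↔ _
  rw [Submodule.mem_torsionBySet_iff]
  exact ⟨fun h a ha => h ⟨a, ha⟩, fun h a => h a a.2⟩

/-- a subspace of the socle is an `R`-submodule. -/
def socLift (hposR : ∀ n : ℤ, n < 0 → 𝒜 n = ⊥) (h0R : 𝒜 0 = Submodule.span k {(1 : R)})
    (V : Submodule k (socK 𝒜 (M := M))) : Submodule R M where
  carrier := {x | ∃ h : x ∈ socK 𝒜 (M := M), (⟨x, h⟩ : socK 𝒜 (M := M)) ∈ V}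
  add_mem' {a b} ha hb := by
    obtain ⟨ha1, ha2⟩ := ha
    obtain ⟨hb1, hb2⟩ := hb
    exact ⟨add_mem ha1 hb1, V.add_mem ha2 hb2⟩
  zero_mem' := ⟨zero_mem _, V.zero_mem⟩
  smul_mem' r x hx := by
    obtain ⟨hx1, hx2⟩ := hx
    obtain ⟨c, a, ha, hra⟩ := exists_smul_eq 𝒜 (M := M) hposR h0R r
    have h0 : a • x = 0 := (mem_socK 𝒜).mp hx1 a ha
    have h1 : r • x = c • x := by rw [hra x, h0, add_zero]
    have h2 : c • x ∈ socK 𝒜 (M := M) := Submodule.smul_mem _ c hx1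
    refine ⟨h1 ▸ h2, ?_⟩
    have : (⟨r • x, h1 ▸ h2⟩ : socK 𝒜 (M := M)) = c • ⟨x, hx1⟩ := by
      apply Subtype.ext
      exact h1
    rw [this]
    exact V.smul_mem c hx2

theorem socLift_strictMono (hposR : ∀ n : ℤ, n < 0 → 𝒜 n = ⊥)
    (h0R : 𝒜 0 = Submodule.span k {(1 : R)}) :
    StrictMono (socLift 𝒜 (M := M) hposR h0R) := by
  intro V V' hVV'
  rw [lt_iff_le_and_ne] at hVV' ⊢
  refine ⟨fun x ⟨h1, h2⟩ => ⟨h1, hVV'.1 h2⟩, fun heq => hVV'.2 ?_⟩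
  have key : ∀ W : Submodule k (socK 𝒜 (M := M)), ∀ v : socK 𝒜 (M := M),
      v ∈ W ↔ (v : M) ∈ socLift 𝒜 hposR h0R W := by
    intro W v
    exact ⟨fun h => ⟨v.2, h⟩, fun ⟨_, h⟩ => h⟩
  ext v
  rw [key V v, key V' v, heq]

theorem finite_socK_of_isArtinian (hposR : ∀ n : ℤ, n < 0 → 𝒜 n = ⊥)
    (h0R : 𝒜 0 = Submodule.span k {(1 : R)}) [IsArtinian R M] :
    Module.Finite k (socK 𝒜 (M := M)) := by
  have h1 : IsArtinian k (socK 𝒜 (M := M)) :=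
    (socLift_strictMono 𝒜 (M := M) hposR h0R).wellFoundedLT
  exact (IsSemisimpleModule.finite_tfae.out 0 2).mpr h1

end ArtinianGraded

end Groth.Agent.H8.GDual
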