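import Mathlib
import Groth.Prelude.Def_GrLC
import Groth.Prelude.Def_GrSeg
import Groth.Prelude.Def_Wider
import Groth.Agent.Lib.helper8.GDualI

/-!
# Graded `k`-duals, part J (helper8): the ring as a graded module over itself; functionals vanishing
on a proper graded submodule; socle functionals of an Artinian graded module.
-/

universe u

set_option linter.unusedSectionVars false

namespace Groth.Agent.H8.GDual

open DirectSum GrSeg GrLC LocCoh

section RingPieces

variable {k : Type u} [Field k] {R : Type u} [CommRing R] [Algebra k R]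
  (𝒜 : ℤ → Submodule k R) [GradedAlgebra 𝒜]

/-- the pieces of the ring as additive subgroups. -/
def ringPieces : ℤ → AddSubgroup R := fun n => (𝒜 n).toAddSubgroup

theorem mem_ringPieces {n : ℤ} {x : R} : x ∈ ringPieces 𝒜 n ↔ x ∈ 𝒜 n := Iff.rfl

/-- the identity `𝒜 n → ringPieces 𝒜 n`. -/
def toRP (n : ℤ) : ↥(𝒜 n) →+ ↥(ringPieces 𝒜 n) where
  toFun x := ⟨x.1, x.2⟩
  map_zero' := rfl
  map_add' _ _ := rfl

/-- the decomposition map for `ringPieces`. -/
noncomputable def decRP : R →+ ⨁ n, ↥(ringPieces 𝒜 n) :=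
  (DFinsupp.mapRange.addMonoidHom (toRP 𝒜)).comp (decomposeAddEquiv 𝒜).toAddMonoidHom

theorem decRP_of_mem {i : ℤ} {r : R} (hr : r ∈ 𝒜 i) :
    decRP 𝒜 r = DirectSum.of (fun n => ↥(ringPieces 𝒜 n)) i ⟨r, hr⟩ := by
  show DFinsupp.mapRange (fun n => toRP 𝒜 n) (fun n => map_zero (toRP 𝒜 n)) (decompose 𝒜 r) = _
  rw [decompose_of_mem 𝒜 hr]
  exact DFinsupp.mapRange_single

noncomputable instance : DirectSum.Decomposition (ringPieces 𝒜) :=
  DirectSum.Decomposition.ofAddHom _ (decRP 𝒜)
    (by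
      ext r
      induction r using DirectSum.Decomposition.inductionOn 𝒜 with
      | zero => simp
      | @homogeneous i a =>
        simp only [AddMonoidHom.comp_apply, AddMonoidHom.id_apply]
        rw [decRP_of_mem 𝒜 a.2, DirectSum.coeAddMonoidHom_of]
      | add a b ha hb =>
        simp only [AddMonoidHom.comp_apply, AddMonoidHom.id_apply] at ha hb ⊢
        rw [map_add, map_add, ha, hb])
    (by
      apply DirectSum.addHom_ext
      intro i x
      simp only [AddMonoidHom.comp_apply, AddMonoidHom.id_apply]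
      rw [DirectSum.coeAddMonoidHom_of, decRP_of_mem 𝒜 x.2])

instance : SetLike.GradedSMul 𝒜 (ringPieces 𝒜) where
  smul_mem {i j} a b ha hb := by
    show a * b ∈ 𝒜 (i + j)
    exact SetLike.GradedMul.mul_mem ha hb

variable {D : Type u} [AddCommGroup D] [Module R D] [Module k D] [IsScalarTower k R D]
  {𝒟 : ℤ → AddSubgroup D} [DirectSum.Decomposition 𝒟] [SetLike.GradedSMul 𝒜 𝒟]
  {β : D →ₗ[k] R →ₗ[k] k}

theorem isGDual_ringPieces (hD : IsGDual R 𝒜 𝒟 β) : IsGDual R (ringPieces 𝒜) 𝒟 β :=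
  ⟨hD.map_smul, fun n d hd m hm x hx => hD.vanish n d hd m hm x hx,
    fun n d hd h => hD.eq_zero n d hd h, fun n g => hD.exists_eq n g⟩

/-- the graded dual `R^*` is an Artinian `R`-module. -/
theorem isArtinian_gdual_self (hD : IsGDual R 𝒜 𝒟 β) (hposR : ∀ n : ℤ, n < 0 → 𝒜 n = ⊥)
    (h0R : 𝒜 0 = Submodule.span k {(1 : R)}) [IsNoetherianRing R] : IsArtinian R D :=
  isArtinian_gdual_of_finite 𝒜 (ringPieces 𝒜) 𝒟 (isGDual_ringPieces 𝒜 hD) hposR h0R

end RingPieces

section Perp

variable {k : Type u} [Field k] {R : Type u} [CommRing R] [Algebra k R]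
  (𝒜 : ℤ → Submodule k R) [GradedAlgebra 𝒜]
  {N : Type u} [AddCommGroup N] [Module R N] [Module k N] [IsScalarTower k R N]
  (𝒩 : ℤ → AddSubgroup N) [DirectSum.Decomposition 𝒩] [SetLike.GradedSMul 𝒜 𝒩]
  {E : Type u} [AddCommGroup E] [Module R E] [Module k E] [IsScalarTower k R E]
  {ℰ : ℤ → AddSubgroup E} [DirectSum.Decomposition ℰ]
  {βE : E →ₗ[k] N →ₗ[k] k}

include 𝒜 in
/-- a proper graded submodule of `N` is killed by a nonzero element of the graded dual. -/
theorem exists_ne_zero_vanishing (hE : IsGDual R 𝒩 ℰ βE) (P : Submodule R N)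
    (hP : P.IsHomogeneous 𝒩) (hne : P ≠ ⊤) : ∃ e : E, e ≠ 0 ∧ ∀ y ∈ P, βE e y = 0 := by
  classical
  obtain ⟨y, hy⟩ : ∃ y : N, y ∉ P := by
    by_contra hcon
    push Not at hcon
    exact hne (eq_top_iff.mpr fun y _ => hcon y)
  obtain ⟨j, hj⟩ : ∃ j, (decompose 𝒩 y j : N) ∉ P := by
    by_contra hcon
    push Not at hcon
    apply hy
    rw [← DirectSum.sum_support_decompose 𝒩 y]
    exact Submodule.sum_mem _ fun j _ => hcon j
  obtain ⟨φ, hφ, hPφ⟩ := Submodule.exists_le_ker_of_notMem (p := P.restrictScalars k) hj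
  obtain ⟨e, he⟩ := exists_rep hE (φ.comp (proj 𝒜 𝒩 j)) {j} (by
    intro m hm x hx
    rw [LinearMap.comp_apply, proj_of_mem_ne 𝒜 𝒩 hx (by simpa using hm), map_zero])
  refine ⟨e, ?_, ?_⟩
  · intro h0
    apply hφ
    have := DFunLike.congr_fun he (decompose 𝒩 y j : N)
    rw [h0, map_zero, LinearMap.zero_apply, LinearMap.comp_apply,
      proj_of_mem 𝒜 𝒩 (SetLike.coe_mem _)] at this
    exact this.symm
  · intro y' hy'
    rw [he, LinearMap.comp_apply]
    exact hPφ (hP j hy')

end Perp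

section SocleFunctionals

variable {k : Type u} [Field k] {R : Type u} [CommRing R] [Algebra k R]
  (𝒜 : ℤ → Submodule k R) [GradedAlgebra 𝒜]
  {M : Type u} [AddCommGroup M] [Module R M] [Module k M] [IsScalarTower k R M]
  (ℳ : ℤ → AddSubgroup M) [DirectSum.Decomposition ℳ] [SetLike.GradedSMul 𝒜 ℳ]

/-- finitely many homogeneous functionals detecting the socle of an Artinian graded module. -/
theorem exists_socle_functionals (hposR : ∀ n : ℤ, n < 0 → 𝒜 n = ⊥)
    (h0R : 𝒜 0 = Submodule.span k {(1 : R)}) [IsArtinian R M] :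
    ∃ (t : ℕ) (deg : Fin t → ℤ) (ψ : Fin t → (M →ₗ[k] k)),
      (∀ i, ∀ n, n ≠ deg i → ∀ x ∈ ℳ n, ψ i x = 0) ∧
      (∀ s ∈ socK 𝒜 (M := M), (∀ i, ψ i s = 0) → s = 0) := by
  classical
  have := finite_socK_of_isArtinian 𝒜 (M := M) hposR h0R
  let V : Submodule k M := socK 𝒜 (M := M)
  let t' := Module.finrank k V
  let b : Module.Basis (Fin t') k V := Module.finBasis k V
  choose Ex hEx using fun i => LinearMap.exists_extend (b.coord i)
  let J : Finset ℤ := Finset.univ.biUnion (fun i => DFinsupp.support (decompose ℳ (b i : M)))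
  -- components outside `J` vanish on the socle
  have hJ : ∀ j, j ∉ J → ∀ s : V, proj 𝒜 ℳ j (s : M) = 0 := by
    intro j hj
    have h0 : (proj 𝒜 ℳ j).comp V.subtype = 0 := by
      apply b.ext
      intro i
      rw [LinearMap.comp_apply, LinearMap.zero_apply, Submodule.subtype_apply, proj_apply]
      by_contra hne
      apply hj
      apply Finset.mem_biUnion.mpr
      refine ⟨i, Finset.mem_univ _, ?_⟩
      rw [DFinsupp.mem_support_iff]
      intro h'
      apply hne
      rw [h']; rfl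
    intro s
    exact DFunLike.congr_fun h0 s
  have hsum : ∀ s : V, (s : M) = ∑ j ∈ J, proj 𝒜 ℳ j (s : M) := by
    intro s
    conv_lhs => rw [← DirectSum.sum_support_decompose ℳ (s : M)]
    apply Finset.sum_subset_zero_on_sdiff
    · intro j hj
      by_contra hjJ
      rw [DFinsupp.mem_support_iff] at hj
      apply hj
      apply Subtype.ext
      exact hJ j hjJ s
    · intro j hj
      rw [Finset.mem_sdiff, DFinsupp.mem_support_iff, not_not] at hj
      rw [proj_apply, hj.2]; rfl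
    · intro j _
      rfl
  let e := Fintype.equivFin (Fin t' × J)
  refine ⟨Fintype.card (Fin t' × J), fun i => ((e.symm i).2 : ℤ),
    fun i => (Ex (e.symm i).1).comp (proj 𝒜 ℳ ((e.symm i).2 : ℤ)), ?_, ?_⟩
  · intro i n hn x hx
    rw [LinearMap.comp_apply, proj_of_mem_ne 𝒜 ℳ hx hn, map_zero]
  · intro s hs h
    have hcoord : ∀ i, b.coord i ⟨s, hs⟩ = 0 := by
      intro i
      have h1 : b.coord i ⟨s, hs⟩ = Ex i s := by
        rw [← hEx i]; rfl
      have hs' : s = ∑ j ∈ J, proj 𝒜 ℳ j s := hsum ⟨s, hs⟩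
      rw [h1, (congrArg (Ex i) hs' : Ex i s = Ex i (∑ j ∈ J, proj 𝒜 ℳ j s)), map_sum]
      apply Finset.sum_eq_zero
      intro j hj
      have := h (e (i, ⟨j, hj⟩))
      simp only [Equiv.symm_apply_apply, LinearMap.comp_apply] at this
      exact this
    have h2 : (⟨s, hs⟩ : V) = 0 := by
      apply b.repr.injective
      ext i
      rw [map_zero, Finsupp.zero_apply]
      exact hcoord i
    exact congrArg Subtype.val h2

end SocleFunctionals

end Groth.Agent.H8.GDual
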