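import Mathlib
import Groth.Prelude.Def_GrLC
import Groth.Prelude.Def_GrSeg
import Groth.Prelude.Def_Wider
import Groth.Agent.Lib.helper8.GDualJ

/-!
# Graded `k`-duals, part K (helper8): homogeneous submodules (kernels, sums, `R_+ M`, annihilators
under the pairing), graded Nakayama, separating functionals.
-/

universe u

set_option linter.unusedSectionVars false

namespace Groth.Agent.H8.GDual

open DirectSum GrSeg GrLC LocCoh

section Homog

variable {k : Type u} [Field k] {R : Type u} [CommRing R] [Algebra k R]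
  (𝒜 : ℤ → Submodule k R) [GradedAlgebra 𝒜]
  {F : Type u} [AddCommGroup F] [Module R F]
  (ℱ : ℤ → AddSubgroup F) [DirectSum.Decomposition ℱ] [SetLike.GradedSMul 𝒜 ℱ]
  {M : Type u} [AddCommGroup M] [Module R M]
  (ℳ : ℤ → AddSubgroup M) [DirectSum.Decomposition ℳ] [SetLike.GradedSMul 𝒜 ℳ]

theorem decompose_map {f : F →ₗ[R] M} (hf : IsGrHom ℱ ℳ f) (x : F) (j : ℤ) :
    (decompose ℳ (f x) j : M) = f (decompose ℱ x j : F) := by
  induction x using DirectSum.Decomposition.inductionOn ℱ with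
  | zero => simp
  | @homogeneous i a =>
    have h1 : f (a : F) ∈ ℳ i := hf i a a.2
    by_cases h : i = j
    · subst h
      rw [decompose_of_mem_same ℳ h1, decompose_of_mem_same ℱ a.2]
    · rw [decompose_of_mem_ne ℳ h1 h, decompose_of_mem_ne ℱ a.2 h, map_zero]
  | add a b ha hb =>
    rw [map_add, decompose_add, decompose_add, DirectSum.add_apply, DirectSum.add_apply,
      AddSubgroup.coe_add, AddSubgroup.coe_add, ha, hb, map_add]

theorem isHomogeneous_ker {f : F →ₗ[R] M} (hf : IsGrHom ℱ ℳ f) :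
    (LinearMap.ker f).IsHomogeneous ℱ := by
  intro j x hx
  rw [LinearMap.mem_ker] at hx ⊢
  rw [← decompose_map ℱ ℳ hf, hx]
  simp

theorem isHomogeneous_sup {P Q : Submodule R F} (hP : P.IsHomogeneous ℱ)
    (hQ : Q.IsHomogeneous ℱ) : (P ⊔ Q).IsHomogeneous ℱ := by
  intro j x hx
  obtain ⟨p, hp, q, hq, rfl⟩ := Submodule.mem_sup.mp hx
  rw [decompose_add, DirectSum.add_apply, AddSubgroup.coe_add]
  exact Submodule.add_mem_sup (hP j hp) (hQ j hq)

theorem span_homogeneous_eq_top :
    Submodule.span R (⋃ j, (ℱ j : Set F)) = ⊤ := by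
  classical
  rw [eq_top_iff]
  intro x _
  rw [← DirectSum.sum_support_decompose ℱ x]
  apply Submodule.sum_mem
  intro j _
  apply Submodule.subset_span
  exact Set.mem_iUnion.mpr ⟨j, SetLike.coe_mem _⟩

theorem isHomogeneous_irr_smul_top :
    (irr 𝒜 • (⊤ : Submodule R F)).IsHomogeneous ℱ := by
  rw [← span_homogeneous_eq_top ℱ, irr, Submodule.span_smul_span]
  apply isHomogeneous_span 𝒜 ℱ
  intro s hs
  obtain ⟨a, ha, y, hy, rfl⟩ := Set.mem_smul.mp hs
  simp only [Set.mem_iUnion, Set.mem_Ioi, SetLike.mem_coe] at ha hy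
  obtain ⟨c, _, hac⟩ := ha
  obtain ⟨j, hyj⟩ := hy
  exact ⟨c + j, smul_mem_add' 𝒜 ℱ hac hyj⟩

/-- graded Nakayama for finitely generated graded modules over a non-negatively graded ring. -/
theorem eq_top_of_sup_irr_smul_eq_top [Module k F] [IsScalarTower k R F]
    (hposR : ∀ n : ℤ, n < 0 → 𝒜 n = ⊥) [Module.Finite R F]
    (Q : Submodule R F) (hQ : Q.IsHomogeneous ℱ)
    (h : Q ⊔ irr 𝒜 • (⊤ : Submodule R F) = ⊤) : Q = ⊤ := by
  classical
  obtain ⟨j₀, hj₀⟩ := exists_lower_bound 𝒜 ℱ hposR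
  -- the components of elements of `R_+ F`
  have hcomp : ∀ z ∈ irr 𝒜 • (⊤ : Submodule R F), ∀ n : ℤ,
      (∀ j, j < n → ∀ x ∈ ℱ j, x ∈ Q) → (decompose ℱ z n : F) ∈ Q := by
    intro z hz
    refine Submodule.smul_induction_on hz ?_ ?_
    · intro a ha y _ n hn
      rw [coe_decompose_smul 𝒜 ℱ]
      apply Submodule.sum_mem
      intro c _
      by_cases hc : c ≤ 0
      · rw [decompose_eq_zero_of_mem_irrelevant 𝒜 hposR ha c hc, zero_smul]
        exact zero_mem _
      · exact Submodule.smul_mem _ _ (hn (n - c) (by omega) _ (SetLike.coe_mem _))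
    · intro z z' hz hz' n hn
      rw [decompose_add, DirectSum.add_apply, AddSubgroup.coe_add]
      exact add_mem (hz n hn) (hz' n hn)
  have key : ∀ N : ℕ, ∀ j, j < j₀ + N → ∀ x ∈ ℱ j, x ∈ Q := by
    intro N
    induction N with
    | zero =>
      intro j hj x hx
      rw [hj₀ j (by simpa using hj) x hx]
      exact zero_mem _
    | succ N ih =>
      intro j hj x hx
      by_cases hj' : j < j₀ + N
      · exact ih j hj' x hx
      · have hjeq : j = j₀ + N := by push_cast at hj; omega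
        have hx' : x ∈ Q ⊔ irr 𝒜 • (⊤ : Submodule R F) := by rw [h]; trivial
        obtain ⟨q, hq, z, hz, hqz⟩ := Submodule.mem_sup.mp hx'
        have h1 : x = (decompose ℱ q j : F) + (decompose ℱ z j : F) := by
          conv_lhs => rw [← decompose_of_mem_same ℱ hx, ← hqz]
          rw [decompose_add, DirectSum.add_apply, AddSubgroup.coe_add]
        rw [h1]
        refine add_mem (hQ j hq) (hcomp z hz j ?_)
        intro i hi y hy
        exact ih i (by omega) y hy
  rw [eq_top_iff]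
  intro x _
  rw [← DirectSum.sum_support_decompose ℱ x]
  apply Submodule.sum_mem
  intro j _
  exact key (j + 1 - j₀).toNat j (by omega) _ (SetLike.coe_mem _)

end Homog

section Separate

variable {k : Type u} [Field k] {R : Type u} [CommRing R] [Algebra k R]
  (𝒜 : ℤ → Submodule k R) [GradedAlgebra 𝒜]
  {N : Type u} [AddCommGroup N] [Module R N] [Module k N] [IsScalarTower k R N]
  (𝒩 : ℤ → AddSubgroup N) [DirectSum.Decomposition 𝒩] [SetLike.GradedSMul 𝒜 𝒩]
  {E : Type u} [AddCommGroup E] [Module R E] [Module k E] [IsScalarTower k R E]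
  {ℰ : ℤ → AddSubgroup E} [DirectSum.Decomposition ℰ]
  {βE : E →ₗ[k] N →ₗ[k] k}

include 𝒜 in
/-- an element outside a graded submodule is separated from it by a homogeneous element of the
graded dual. -/
theorem exists_vanishing_apply_ne_zero (hE : IsGDual R 𝒩 ℰ βE) (P : Submodule R N)
    (hP : P.IsHomogeneous 𝒩) {y : N} (hy : y ∉ P) :
    ∃ e : E, (∃ n, e ∈ ℰ n) ∧ βE e y ≠ 0 ∧ ∀ y' ∈ P, βE e y' = 0 := by
  classical
  obtain ⟨j, hj⟩ : ∃ j, (decompose 𝒩 y j : N) ∉ P := by
    by_contra hcon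
    push Not at hcon
    apply hy
    rw [← DirectSum.sum_support_decompose 𝒩 y]
    exact Submodule.sum_mem _ fun j _ => hcon j
  obtain ⟨φ, hφ, hPφ⟩ := Submodule.exists_le_ker_of_notMem (p := P.restrictScalars k) hj
  have hsupp : ∀ m, m ∉ ({j} : Finset ℤ) → ∀ x : N, x ∈ 𝒩 m → (φ.comp (proj 𝒜 𝒩 j)) x = 0 := by
    intro m hm x hx
    rw [LinearMap.comp_apply, proj_of_mem_ne 𝒜 𝒩 hx (by simpa using hm), map_zero]
  obtain ⟨e, he⟩ := exists_rep hE (φ.comp (proj 𝒜 𝒩 j)) {j} hsupp
  refine ⟨e, ⟨-j, ?_⟩, ?_, ?_⟩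
  · apply mem_piece_of_vanish hE
    intro m hm x hx
    rw [he]
    exact hsupp m (by simpa using hm) x hx
  · rw [he, LinearMap.comp_apply, proj_apply]
    exact hφ
  · intro y' hy'
    rw [he, LinearMap.comp_apply]
    exact hPφ (hP j hy')

end Separate

section PerpSub

variable {k : Type u} [Field k] {R : Type u} [CommRing R] [Algebra k R]
  {M : Type u} [AddCommGroup M] [Module R M] [Module k M] [IsScalarTower k R M]
  {ℳ : ℤ → AddSubgroup M} [DirectSum.Decomposition ℳ]
  {D : Type u} [AddCommGroup D] [Module R D] [Module k D] [IsScalarTower k R D]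
  {𝒟 : ℤ → AddSubgroup D} [DirectSum.Decomposition 𝒟]
  {β : D →ₗ[k] M →ₗ[k] k}

/-- the annihilator in `M` of a submodule of `D` under the pairing. -/
def perpSub (hD : IsGDual R ℳ 𝒟 β) (P : Submodule R D) : Submodule R M where
  carrier := {x | ∀ d ∈ P, β d x = 0}
  add_mem' {a b} ha hb d hd := by rw [map_add, ha d hd, hb d hd, add_zero]
  zero_mem' d _ := by simp
  smul_mem' r x hx d hd := by
    rw [← hD.map_smul]
    exact hx _ (P.smul_mem r hd)

theorem mem_perpSub (hD : IsGDual R ℳ 𝒟 β) {P : Submodule R D} {x : M} :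
    x ∈ perpSub hD P ↔ ∀ d ∈ P, β d x = 0 := Iff.rfl

theorem isHomogeneous_perpSub (hD : IsGDual R ℳ 𝒟 β) (hflip : IsGDual R 𝒟 ℳ β.flip)
    {P : Submodule R D} (hP : P.IsHomogeneous 𝒟) : (perpSub hD P).IsHomogeneous ℳ := by
  intro j x hx d hd
  have hmem : (decompose ℳ x j : M) ∈ ℳ (-(-j)) := by
    rw [neg_neg]; exact SetLike.coe_mem _
  rw [apply_eq_apply_decompose hD d (-j) _ hmem]
  have h1 : (decompose 𝒟 d (-j) : D) ∈ P := hP (-j) hd
  have h2 := apply_eq_apply_decompose hflip x j (decompose 𝒟 d (-j) : D) (SetLike.coe_mem _)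
  change β (decompose 𝒟 d (-j) : D) x = β (decompose 𝒟 d (-j) : D) (decompose ℳ x j : M) at h2
  rw [← h2]
  exact hx _ h1

end PerpSub

end Groth.Agent.H8.GDual
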