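import Mathlib
import Groth.Prelude.Def_Wider
import Groth.Prelude.Def_CAlg
import Groth.Agent.Lib.helper8.MatlisH
import Groth.Agent.Lib.helper8.DualZeroC
import Groth.Agent.Lib.helper9.Depth5
import Groth.Agent.Lib.helper21.GorDim
import Groth.Agent.Lib.helper1.InjHull2

/-!
# Artinian Gorenstein local rings have a simple socle (helper8)
-/

set_option autoImplicit false
universe u

namespace Groth.Agent.H8.GorFib

open CategoryTheory IsLocalRing Groth.Agent.H8.Matlis

/-- An Artinian Gorenstein local ring is self-injective. -/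
theorem injective_self (F : Type u) [CommRing F] (hG : LocCoh.IsGorensteinLocalRing F)
    [IsArtinianRing F] : Module.Injective F F := by
  haveI := hG
  haveI : IsNoetherianRing F := inferInstance
  haveI : IsLocalRing F := inferInstance
  obtain ⟨n, hn⟩ := hG.exists_hasInjectiveDimensionLT
  have hd : LocCoh.depth F F = 0 := by
    have h1 := Groth.Agent.Lib.helper9.Depth.depth_le_supportDim (R := F) F
    rw [Module.supportDim_self_eq_ringKrullDim,
      ringKrullDimZero_iff_ringKrullDim_eq_zero.1 inferInstance] at h1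
    have h2 : ((LocCoh.depth F F : ℕ∞) : WithBot ℕ∞) ≤ ((0 : ℕ∞) : WithBot ℕ∞) := h1
    have h3 : (LocCoh.depth F F : ℕ∞) ≤ 0 := WithBot.coe_le_coe.1 h2
    exact le_antisymm h3 zero_le
  haveI := hn
  have h1 := Groth.Agent.H21.GorDim.hasInjectiveDimensionLT_of_depth (A := F)
    (ModuleCat.of F F) n 0 hd
  have h2 : Injective (ModuleCat.of F F) :=
    injective_iff_hasInjectiveDimensionLT_one.2 h1
  exact Module.injective_module_of_injective_object F F

/-- An Artinian Gorenstein local ring has a simple socle. -/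
theorem exists_socle_generator (F : Type u) [CommRing F] (hG : LocCoh.IsGorensteinLocalRing F)
    [IsArtinianRing F] [IsLocalRing F] :
    ∃ σ : F, σ ≠ 0 ∧ (∀ b ∈ maximalIdeal F, b * σ = 0) ∧
      ∀ x : F, (∀ b ∈ maximalIdeal F, b * x = 0) → ∃ c : F, x = c * σ := by
  haveI : IsNoetherianRing F := by
    haveI := hG
    infer_instance
  haveI := injective_self F hG
  obtain ⟨E, _, _, f, hf⟩ :=
    Groth.Agent.Lib.helper1.InjHullLib.exists_injective_hull (R := F) (ResidueField F)
  have hsc : ∀ g : F →ₗ[F] F, ∃ a : F, g = a • LinearMap.id := by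
    intro g
    refine ⟨g 1, ?_⟩
    ext
    simp
  have hfaith : ∀ a : F, (∀ w : F, a • w = 0) → a = 0 := by
    intro a ha
    simpa using ha 1
  obtain ⟨e⟩ := Groth.Agent.H8.DualZero.nonempty_equiv_injHull (A := F) F hsc hfaith E f hf
  refine ⟨e (f 1), ?_, ?_, ?_⟩
  · intro h0
    have h1 : f 1 = 0 := e.injective (h0.trans (map_zero e).symm)
    exact one_ne_zero (hf.injective (h1.trans (map_zero f).symm))
  · intro b hb
    rw [← smul_eq_mul, ← map_smul, smul_range_eq_zero f hb ⟨1, rfl⟩, map_zero]
  · intro x hx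
    have hy : ∀ a ∈ maximalIdeal F, a • e.symm x = 0 := by
      intro a ha
      rw [← map_smul, smul_eq_mul, hx a ha, map_zero]
    obtain ⟨z, hz⟩ := mem_range_of_smul_eq_zero f hf.toIsEssentialInj hy
    obtain ⟨c, rfl⟩ := IsLocalRing.residue_surjective z
    refine ⟨c, ?_⟩
    have h1 : f (IsLocalRing.residue F c) = c • f 1 := by
      rw [← map_smul, smul_residue, mul_one]
    rw [← smul_eq_mul, ← map_smul, ← h1, hz, e.apply_symm_apply]

end Groth.Agent.H8.GorFib
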