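import Mathlib
import Groth.Prelude.Def_Wider
import Groth.Prelude.Def_CAlg
import Groth.Agent.Lib.helper8.GorFibA

/-!
# Flat base change of the injective hull with Artinian Gorenstein closed fibre (helper8)
-/

set_option autoImplicit false
universe u

namespace Groth.Agent.H8.GorFib

open CategoryTheory IsLocalRing Groth.Agent.H8.Matlis LocCoh InjHull
open scoped TensorProduct

variable {A : Type u} [CommRing A] [IsLocalRing A] [IsNoetherianRing A]
  {B : Type u} [CommRing B] [IsLocalRing B] [IsNoetherianRing B] [Algebra A B] [Module.Flat A B]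
  {E : Type u} [AddCommGroup E] [Module A E] (f : ResidueField A →ₗ[A] E)

omit [IsLocalRing B] [IsNoetherianRing B] in
/-- elements killed by `𝔪_A` come from `B ⊗ κ_A`. -/
theorem mem_range_lTensor_of_kill (hf : IsEssentialInj f) (t : B ⊗[A] E)
    (ht : ∀ a ∈ maximalIdeal A, a • t = 0) : t ∈ LinearMap.range (f.lTensor B) := by
  classical
  obtain ⟨s, hs⟩ := (maximalIdeal A).fg_of_isNoetherianRing
  let φ : E →ₗ[A] (s → E) := LinearMap.pi (fun a => (a : A) • LinearMap.id)
  have hex : Function.Exact f φ := by
    intro x
    constructor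
    · intro hx
      apply mem_range_of_smul_eq_zero f hf
      intro a ha
      rw [← hs] at ha
      refine Submodule.span_induction ?_ ?_ ?_ ?_ ha
      · intro a has
        exact congrFun hx ⟨a, has⟩
      · exact zero_smul _ _
      · intro p q _ _ hp hq
        rw [add_smul, hp, hq, add_zero]
      · intro p q _ hq
        rw [smul_eq_mul, mul_smul, hq, smul_zero]
    · rintro ⟨z, rfl⟩
      funext a
      show (a : A) • f z = 0
      apply smul_range_eq_zero f _ ⟨z, rfl⟩
      rw [← hs]
      exact Submodule.subset_span a.2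
  have hexB := Module.Flat.lTensor_exact B hex
  have key : ∀ t : B ⊗[A] E,
      TensorProduct.piRightHom A A B (fun _ : s => E) ((φ.lTensor B) t)
        = fun a : s => ((a : A) • t : B ⊗[A] E) := by
    intro t
    induction t using TensorProduct.induction_on with
    | zero =>
      rw [map_zero, map_zero]
      funext a
      exact (smul_zero _).symm
    | tmul b e =>
      funext a
      rw [LinearMap.lTensor_tmul, TensorProduct.piRightHom_tmul]
      show b ⊗ₜ[A] ((a : A) • e) = _
      rw [TensorProduct.tmul_smul]
    | add t t' ht ht' =>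
      rw [map_add, map_add, ht, ht']
      funext a
      simp
  have hzero : (φ.lTensor B) t = 0 := by
    apply (TensorProduct.piRight A A B (fun _ : s => E)).injective
    rw [TensorProduct.piRight_apply, key, map_zero]
    funext a
    show (a : A) • t = 0
    apply ht
    rw [← hs]
    exact Submodule.subset_span a.2
  exact (hexB t).mp hzero

omit [IsLocalRing B] [IsNoetherianRing B] [IsNoetherianRing A] [Module.Flat A B] in
theorem exists_eq_tmul_one (u : B ⊗[A] ResidueField A) : ∃ b : B, u = b ⊗ₜ[A] (1 : ResidueField A) := by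
  induction u using TensorProduct.induction_on with
  | zero => exact ⟨0, (TensorProduct.zero_tmul _ _).symm⟩
  | tmul b z =>
    obtain ⟨a, rfl⟩ := IsLocalRing.residue_surjective z
    refine ⟨a • b, ?_⟩
    have : IsLocalRing.residue A a = a • (1 : ResidueField A) := by
      rw [smul_residue, mul_one]
    rw [this, TensorProduct.tmul_smul, TensorProduct.smul_tmul']
  | add u u' hu hu' =>
    obtain ⟨b, rfl⟩ := hu
    obtain ⟨b', rfl⟩ := hu'
    exact ⟨b + b', (TensorProduct.add_tmul _ _ _).symm⟩

/-- the map `κ_A → B/𝔪_A B`. -/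
noncomputable def resToFib :
    ResidueField A →ₗ[A] (B ⧸ (maximalIdeal A).map (algebraMap A B)) :=
  (Submodule.liftQ (maximalIdeal A)
      (Algebra.linearMap A (B ⧸ (maximalIdeal A).map (algebraMap A B))) (by
        intro a ha
        rw [LinearMap.mem_ker, Algebra.linearMap_apply]
        show Ideal.Quotient.mk ((maximalIdeal A).map (algebraMap A B)) (algebraMap A B a) = 0
        exact Ideal.Quotient.eq_zero_iff_mem.2 (Ideal.mem_map_of_mem _ ha)) :
    (A ⧸ maximalIdeal A) →ₗ[A] (B ⧸ (maximalIdeal A).map (algebraMap A B)))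

omit [IsLocalRing B] [IsNoetherianRing B] [IsNoetherianRing A] [Module.Flat A B] in
theorem resToFib_one : resToFib (A := A) (B := B) 1 = 1 := by
  show (Submodule.liftQ (maximalIdeal A)
    (Algebra.linearMap A (B ⧸ (maximalIdeal A).map (algebraMap A B))) _)
      (Submodule.Quotient.mk (1 : A)) = 1
  rw [Submodule.liftQ_apply, Algebra.linearMap_apply, map_one]

/-- the comparison `B ⊗ κ_A → B/𝔪_A B`. -/
noncomputable def toFib : B ⊗[A] ResidueField A →ₗ[B] (B ⧸ (maximalIdeal A).map (algebraMap A B)) :=
  LinearMap.liftBaseChange B (resToFib (A := A) (B := B))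

omit [IsLocalRing B] [IsNoetherianRing B] [IsNoetherianRing A] [Module.Flat A B] in
theorem toFib_tmul_one (b : B) :
    toFib (A := A) (B := B) (b ⊗ₜ[A] (1 : ResidueField A)) =
      Ideal.Quotient.mk ((maximalIdeal A).map (algebraMap A B)) b := by
  unfold toFib
  rw [LinearMap.liftBaseChange_tmul, resToFib_one]
  show Ideal.Quotient.mk _ (b * 1) = _
  rw [mul_one]

end Groth.Agent.H8.GorFib
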