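import Mathlib
import Groth.Prelude.Def_Wider
import Groth.Prelude.Def_CAlg
import Groth.Agent.Lib.helper8.GorFibB

/-!
# Flat base change of the injective hull with Artinian Gorenstein closed fibre (helper8), main
-/

set_option autoImplicit false
universe u

namespace Groth.Agent.H8.GorFib

open CategoryTheory IsLocalRing Groth.Agent.H8.Matlis LocCoh InjHull
open scoped TensorProduct

variable {A : Type u} [CommRing A] [IsLocalRing A] [IsNoetherianRing A]
  {B : Type u} [CommRing B] [IsLocalRing B] [IsNoetherianRing B] [Algebra A B] [Module.Flat A B]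
  {E : Type u} [AddCommGroup E] [Module A E] (f : ResidueField A →ₗ[A] E)

theorem exists_hull_baseChange_gorenstein
    (hG : LocCoh.IsGorensteinLocalRing (B ⧸ (maximalIdeal A).map (algebraMap A B)))
    (hArt : IsArtinianRing (B ⧸ (maximalIdeal A).map (algebraMap A B)))
    (hf : IsInjectiveHull f) : ∃ g : ResidueField B →ₗ[B] (B ⊗[A] E), IsInjectiveHull g := by
  classical
  set 𝔞 : Ideal B := (maximalIdeal A).map (algebraMap A B) with h𝔞
  haveI := hG
  haveI : IsLocalRing (B ⧸ 𝔞) := inferInstance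
  haveI : IsNoetherianRing (B ⧸ 𝔞) := inferInstance
  have hne : 𝔞 ≠ ⊤ := by
    intro h
    have : Subsingleton (B ⧸ 𝔞) := Ideal.Quotient.subsingleton_iff.2 h
    exact not_subsingleton (B ⧸ 𝔞) this
  have hle : 𝔞 ≤ maximalIdeal B := IsLocalRing.le_maximalIdeal hne
  haveI : IsLocalHom (algebraMap A B) := ((IsLocalRing.local_hom_TFAE (algebraMap A B)).out 0 2).2 hle
  -- `mk` maps the maximal ideal to the maximal ideal and conversely
  have hmk : ∀ c : B, c ∈ maximalIdeal B ↔ Ideal.Quotient.mk 𝔞 c ∈ maximalIdeal (B ⧸ 𝔞) := by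
    intro c
    constructor
    · intro hc hcon
      have hu : IsUnit (Ideal.Quotient.mk 𝔞 c) := hcon
      obtain ⟨d', hd'⟩ := hu.exists_right_inv
      obtain ⟨d, rfl⟩ := Ideal.Quotient.mk_surjective d'
      have h0 : c * d - 1 ∈ 𝔞 := by
        rw [← Ideal.Quotient.eq, map_mul, map_one]
        exact hd'
      have h1 : c * d - 1 ∈ maximalIdeal B := hle h0
      have h2 : c * d ∈ maximalIdeal B := Ideal.mul_mem_right _ _ hc
      have h3 : (1 : B) ∈ maximalIdeal B := by
        have := Ideal.sub_mem _ h2 h1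
        simpa using this
      exact (Ideal.ne_top_iff_one _).1 (maximalIdeal.isMaximal B).ne_top h3
    · intro hc
      by_contra hcon
      have hu : IsUnit c := IsLocalRing.notMem_maximalIdeal.1 hcon
      exact IsLocalRing.notMem_maximalIdeal.2 (hu.map (Ideal.Quotient.mk 𝔞)) hc
  -- socle generator
  obtain ⟨σ, hσ0, hσm, hσgen⟩ := exists_socle_generator (B ⧸ 𝔞) hG
  obtain ⟨s, rfl⟩ := Ideal.Quotient.mk_surjective σ
  have hkillA : ∀ a ∈ maximalIdeal A, a • ((1 : B) ⊗ₜ[A] f 1) = 0 := by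
    intro a ha
    rw [TensorProduct.smul_tmul', TensorProduct.smul_tmul, smul_range_eq_zero f ha ⟨1, rfl⟩,
      TensorProduct.tmul_zero]
  have hkill1 : ∀ c ∈ 𝔞, c • ((1 : B) ⊗ₜ[A] f 1) = 0 :=
    map_smul_eq_zero (B := B) (T := B ⊗[A] E) (I := maximalIdeal A) hkillA
  have htmul : ∀ b : B, b ⊗ₜ[A] f 1 = b • ((1 : B) ⊗ₜ[A] f 1) := by
    intro b
    rw [TensorProduct.smul_tmul', smul_eq_mul, mul_one]
  have hlT : ∀ b : B, (f.lTensor B) (b ⊗ₜ[A] (1 : ResidueField A)) = b ⊗ₜ[A] f 1 :=
    fun b => LinearMap.lTensor_tmul _ _ _ _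
  have hlTinj : Function.Injective (f.lTensor B) :=
    Module.Flat.lTensor_preserves_injective_linearMap f hf.injective
  have hzero_iff : ∀ b : B, b ⊗ₜ[A] f 1 = 0 → b ∈ 𝔞 := by
    intro b hb
    rw [← hlT] at hb
    have h1 : b ⊗ₜ[A] (1 : ResidueField A) = 0 := hlTinj (hb.trans (map_zero _).symm)
    have h2 := toFib_tmul_one (A := A) (B := B) b
    rw [h1, map_zero] at h2
    exact Ideal.Quotient.eq_zero_iff_mem.1 h2.symm
  let t₀ : B ⊗[A] E := s ⊗ₜ[A] f 1
  have ht₀m : ∀ c ∈ maximalIdeal B, c • t₀ = 0 := by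
    intro c hc
    have h1 : c * s ∈ 𝔞 := by
      rw [← Ideal.Quotient.eq_zero_iff_mem, map_mul]
      exact hσm _ ((hmk c).1 hc)
    show c • (s ⊗ₜ[A] f 1) = 0
    rw [htmul, smul_smul]
    exact hkill1 _ h1
  have ht₀0 : t₀ ≠ 0 := by
    intro h0
    exact hσ0 (Ideal.Quotient.eq_zero_iff_mem.2 (hzero_iff s h0))
  let g₀ : ResidueField B →ₗ[B] (B ⊗[A] E) := socleHom t₀ ht₀m
  have hg₀1 : g₀ 1 = t₀ := socleHom_one _ _
  have hg₀inj : Function.Injective g₀ := by
    haveI := isSimpleModule_residueField B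
    refine (LinearMap.injective_or_eq_zero _).resolve_right ?_
    intro h0
    rw [h0] at hg₀1
    exact ht₀0 hg₀1.symm
  -- the socle is in the range of `g₀`
  have hsoc : ∀ t : B ⊗[A] E, (∀ c ∈ maximalIdeal B, c • t = 0) → t ∈ LinearMap.range g₀ := by
    intro t ht
    have htA : ∀ a ∈ maximalIdeal A, a • t = 0 := by
      intro a ha
      rw [← algebraMap_smul B a t]
      exact ht _ (hle (Ideal.mem_map_of_mem _ ha))
    obtain ⟨u, rfl⟩ := mem_range_lTensor_of_kill f hf.toIsEssentialInj t htA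
    obtain ⟨b, rfl⟩ := exists_eq_tmul_one (A := A) (B := B) u
    rw [hlT] at ht ⊢
    have hb : ∀ β ∈ maximalIdeal (B ⧸ 𝔞), β * Ideal.Quotient.mk 𝔞 b = 0 := by
      intro β hβ
      obtain ⟨c, rfl⟩ := Ideal.Quotient.mk_surjective β
      have hc : c ∈ maximalIdeal B := (hmk c).2 hβ
      have h1 := ht c hc
      rw [htmul, smul_smul, ← htmul] at h1
      rw [← map_mul]
      exact Ideal.Quotient.eq_zero_iff_mem.2 (hzero_iff _ h1)
    obtain ⟨γ, hγ⟩ := hσgen _ hb
    obtain ⟨c, rfl⟩ := Ideal.Quotient.mk_surjective γ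
    rw [← map_mul, Ideal.Quotient.eq] at hγ
    refine ⟨c • 1, ?_⟩
    rw [map_smul, hg₀1]
    show c • (s ⊗ₜ[A] f 1) = b ⊗ₜ[A] f 1
    rw [htmul s, smul_smul, htmul b]
    have h2 := hkill1 _ hγ
    have h3 : b • ((1 : B) ⊗ₜ[A] f 1) = (b - c * s) • ((1 : B) ⊗ₜ[A] f 1) +
        (c * s) • ((1 : B) ⊗ₜ[A] f 1) := by
      rw [← add_smul, sub_add_cancel]
    rw [h3, h2, zero_add]
  -- power torsion
  obtain ⟨k, hk⟩ := (isArtinianRing_iff_isNilpotent_maximalIdeal (B ⧸ 𝔞)).1 hArt
  have hpowle : (maximalIdeal B) ^ k ≤ 𝔞 := by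
    intro x hx
    have h1 : Ideal.Quotient.mk 𝔞 x ∈ ((maximalIdeal B).map (Ideal.Quotient.mk 𝔞)) ^ k := by
      rw [← Ideal.map_pow]
      exact Ideal.mem_map_of_mem _ hx
    have h2 : (maximalIdeal B).map (Ideal.Quotient.mk 𝔞) ≤ maximalIdeal (B ⧸ 𝔞) := by
      rw [Ideal.map_le_iff_le_comap]
      intro c hc
      exact (hmk c).1 hc
    have h3 := Ideal.pow_right_mono h2 k h1
    rw [hk] at h3
    exact Ideal.Quotient.eq_zero_iff_mem.1 h3
  have hET := isPowerTorsion_of_essential f hf.toIsEssentialInj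
  have hT𝔞 : ∀ t : B ⊗[A] E, ∃ n : ℕ, ∀ c ∈ 𝔞 ^ n, c • t = 0 := by
    intro t
    induction t using TensorProduct.induction_on with
    | zero => exact ⟨0, fun a _ => smul_zero a⟩
    | tmul b e =>
      obtain ⟨n, hn⟩ := hET e
      refine ⟨n, ?_⟩
      rw [h𝔞, ← Ideal.map_pow]
      refine map_smul_eq_zero (B := B) (T := B ⊗[A] E) ?_
      intro a ha
      rw [TensorProduct.smul_tmul', TensorProduct.smul_tmul, hn a ha, TensorProduct.tmul_zero]
    | add t t' ht ht' =>
      obtain ⟨n, hn⟩ := ht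
      obtain ⟨n', hn'⟩ := ht'
      refine ⟨max n n', fun a ha => ?_⟩
      rw [smul_add, hn a (Ideal.pow_le_pow_right (le_max_left _ _) ha),
        hn' a (Ideal.pow_le_pow_right (le_max_right _ _) ha), add_zero]
  have hT : IsPowerTorsion (maximalIdeal B) (B ⊗[A] E) := by
    intro t
    obtain ⟨n, hn⟩ := hT𝔞 t
    refine ⟨k * n, fun c hc => hn c ?_⟩
    rw [pow_mul] at hc
    exact Ideal.pow_right_mono hpowle n hc
  -- the hull of `κ_B`
  obtain ⟨E', _, _, f', hf'⟩ :=
    Groth.Agent.Lib.helper1.InjHullLib.exists_injective_hull (R := B) (ResidueField B)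
  haveI := hf'.isInjective
  obtain ⟨ι, hι⟩ := Module.Injective.extension_property B E' _ _ g₀ hg₀inj f'
  have hιinj : Function.Injective ι := by
    rw [← LinearMap.ker_eq_bot, LinearMap.ker_eq_bot']
    intro t ht
    by_contra ht0
    obtain ⟨b, hb0, hb⟩ := exists_socle_mem hT ht0
    obtain ⟨z, hz⟩ := hsoc (b • t) hb
    have h1 : ι (b • t) = 0 := by rw [map_smul, ht, smul_zero]
    rw [← hz] at h1
    have h2 : f' z = 0 := by
      rw [← hι]; exact h1
    have h3 : z = 0 := hf'.injective (h2.trans (map_zero f').symm)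
    apply hb0
    rw [← hz, h3, map_zero]
  -- lengths
  have hℓ : Module.length B (B ⧸ 𝔞) ≠ ⊤ := by
    have h1 : Module.length B (B ⧸ 𝔞) = Module.length (B ⧸ 𝔞) (B ⧸ 𝔞) :=
      Module.length_eq_of_surjective Ideal.Quotient.mk_surjective
    rw [h1, Module.length_ne_top_iff]
    exact (isArtinianRing_iff_isFiniteLength (B ⧸ 𝔞)).1 hArt
  have hιsurj : Function.Surjective ι := by
    intro y
    obtain ⟨n, hn⟩ := isPowerTorsion_of_essential f' hf'.toIsEssentialInj y
    set 𝔞n : Ideal B := ((maximalIdeal A) ^ n).map (algebraMap A B) with h𝔞n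
    have h𝔞nle : 𝔞n ≤ (maximalIdeal B) ^ n := by
      rw [h𝔞n, Ideal.map_pow]
      exact Ideal.pow_right_mono hle n
    let T : Submodule B E' := Submodule.torsionBySet B E' (𝔞n : Set B)
    have hyT : y ∈ T := by
      rw [Submodule.mem_torsionBySet_iff]
      intro c
      exact hn c (h𝔞nle c.2)
    let j : B ⊗[A] (En A E n) →ₗ[B] B ⊗[A] E := LinearMap.baseChange B (En A E n).subtype
    have hj : Function.Injective j :=
      Module.Flat.lTensor_preserves_injective_linearMap _ (Submodule.injective_subtype _)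
    have hjkill : ∀ u : B ⊗[A] (En A E n), ∀ c ∈ 𝔞n, c • j u = 0 := by
      intro u
      induction u using TensorProduct.induction_on with
      | zero => intro c _; rw [map_zero, smul_zero]
      | tmul b e =>
        rw [LinearMap.baseChange_tmul]
        refine map_smul_eq_zero (B := B) (T := B ⊗[A] E) ?_
        intro a ha
        rw [TensorProduct.smul_tmul', TensorProduct.smul_tmul]
        have : a • ((En A E n).subtype e) = 0 := mem_En_iff.mp e.2 a ha
        rw [this, TensorProduct.tmul_zero]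
      | add u u' hu hu' =>
        intro c hc
        rw [map_add, smul_add, hu c hc, hu' c hc, add_zero]
    have hmem : ∀ u, ι (j u) ∈ T := by
      intro u
      rw [Submodule.mem_torsionBySet_iff]
      intro c
      show (c : B) • ι (j u) = 0
      rw [← map_smul, hjkill u c c.2, map_zero]
    let ιn : B ⊗[A] (En A E n) →ₗ[B] T := (ι.comp j).codRestrict _ hmem
    have hιn_inj : Function.Injective ιn := by
      intro u u' h
      have h1 : ι (j u) = ι (j u') := congrArg Subtype.val h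
      exact hj (hιinj h1)
    have hlenQ : Module.length B (B ⧸ 𝔞n) =
        Module.length A (A ⧸ (maximalIdeal A) ^ n) * Module.length B (B ⧸ 𝔞) := by
      have e := Algebra.TensorProduct.quotIdealMapEquivTensorQuot B ((maximalIdeal A) ^ n)
      rw [e.toLinearEquiv.length_eq, IsLocalRing.length_baseChange A B]
    have hflQ : IsFiniteLength B (B ⧸ 𝔞n) := by
      rw [← Module.length_ne_top_iff, hlenQ]
      refine WithTop.mul_ne_top ?_ hℓ
      exact Module.length_ne_top_iff.2 (isFiniteLength_quot_pow n)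
    have hlenT : Module.length B T = Module.length B (B ⧸ 𝔞n) :=
      (homQuotIdealEquiv (E := E') 𝔞n).length_eq.symm.trans (length_hom f' hf' _ hflQ)
    have hlenS : Module.length B (B ⊗[A] (En A E n)) = Module.length B (B ⧸ 𝔞n) := by
      rw [IsLocalRing.length_baseChange A B, length_En f hf n, hlenQ]
    have hfin : Module.length B (B ⊗[A] (En A E n)) ≠ ⊤ := by
      rw [hlenS, Module.length_ne_top_iff]
      exact hflQ
    have hsurj := surjective_of_injective_of_length_le ιn hιn_inj hfin (by rw [hlenT, hlenS])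
    obtain ⟨u, hu⟩ := hsurj ⟨y, hyT⟩
    exact ⟨j u, congrArg Subtype.val hu⟩
  let e : (B ⊗[A] E) ≃ₗ[B] E' := LinearEquiv.ofBijective ι ⟨hιinj, hιsurj⟩
  exact ⟨e.symm.toLinearMap.comp f', isInjectiveHull_of_equiv f' hf' e.symm⟩

end Groth.Agent.H8.GorFib
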