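import Mathlib
import Groth.Prelude.Def_GrLC
import Groth.Prelude.Def_Wider
import Groth.Agent.Lib.helper8.GrLCE
import Groth.Agent.Lib.helper8.LCArt

/-!
# Graded local cohomology, part F (helper8): Artinian graded modules over a positively graded ring;
the *maximal ideal of a positively graded *local ring is maximal; `H^i_m(M)` is Artinian with Artinian
pieces vanishing in large degrees.
-/

universe u

set_option linter.unusedSectionVars false

namespace Groth.Agent.H8.Gr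

open DirectSum GrLC LocCoh CategoryTheory

section IntGraded

variable {R : Type u} [CommRing R] (𝒜 : ℤ → AddSubgroup R) [GradedRing 𝒜]
  {M : Type u} [AddCommGroup M] [Module R M] (ℳ : ℤ → AddSubgroup M)
  [DirectSum.Decomposition ℳ] [SetLike.GradedSMul 𝒜 ℳ]

theorem sub_decompose_zero_mem_irr (hpos : ∀ n : ℤ, n < 0 → 𝒜 n = ⊥) (x : R) :
    x - (decompose 𝒜 x 0 : R) ∈ irrI 𝒜 := by
  induction x using Decomposition.inductionOn 𝒜 with
  | zero => simp
  | homogeneous y =>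
    rename_i i
    rcases lt_trichotomy i 0 with hi | hi | hi
    · have h3 : ∀ z ∈ 𝒜 i, z = 0 := by
        rw [hpos i hi]
        intro z hz
        exact (AddSubgroup.mem_bot).mp hz
      rw [h3 _ y.2]
      simp
    · subst hi
      rw [decompose_of_mem_same 𝒜 y.2, sub_self]
      exact zero_mem _
    · rw [decompose_of_mem_ne 𝒜 y.2 (by omega), sub_zero]
      apply Ideal.subset_span
      simp only [Set.mem_iUnion, Set.mem_Ioi, SetLike.mem_coe]
      exact ⟨i, hi, y.2⟩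
  | add a b ha hb =>
    have : a + b - (decompose 𝒜 (a + b) 0 : R) =
        (a - (decompose 𝒜 a 0 : R)) + (b - (decompose 𝒜 b 0 : R)) := by
      rw [decompose_add, DirectSum.add_apply, AddSubgroup.coe_add]
      ring
    rw [this]
    exact add_mem ha hb

/-- in a positively graded ring a *maximal ideal is a maximal ideal. -/
theorem isMaximal_of_isCoatom (hpos : ∀ n : ℤ, n < 0 → 𝒜 n = ⊥) (m : HomogeneousIdeal 𝒜)
    (hm : IsCoatom m) : m.toIdeal.IsMaximal := by
  classical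
  have h1 : (1 : R) ∉ m.toIdeal := by
    intro h
    apply hm.1
    rw [HomogeneousIdeal.eq_top_iff]
    exact (Ideal.eq_top_iff_one _).mpr h
  have hirr : irrI 𝒜 ≤ m.toIdeal := by
    let J : HomogeneousIdeal 𝒜 := m ⊔ ⟨irrI 𝒜, isHomogeneous_irrI 𝒜⟩
    have hJ : J.toIdeal = m.toIdeal ⊔ irrI 𝒜 := HomogeneousIdeal.toIdeal_sup _ _
    by_cases heq : m = J
    · have : irrI 𝒜 ≤ J.toIdeal := by rw [hJ]; exact le_sup_right
      rw [← heq] at this
      exact this
    · exfalso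
      have hlt : m < J := lt_of_le_of_ne le_sup_left heq
      have hJtop := hm.2 J hlt
      have h1J : (1 : R) ∈ m.toIdeal ⊔ irrI 𝒜 := by
        rw [← hJ, hJtop, HomogeneousIdeal.toIdeal_top]
        trivial
      obtain ⟨a, ha, b, hb, hab⟩ := Submodule.mem_sup.mp h1J
      have h0 : (decompose 𝒜 (1 : R) 0 : R) = (decompose 𝒜 a 0 : R) + (decompose 𝒜 b 0 : R) := by
        rw [← hab, decompose_add, DirectSum.add_apply, AddSubgroup.coe_add]
      rw [decompose_eq_zero_of_mem_irr 𝒜 hpos hb 0 le_rfl, add_zero,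
        decompose_of_mem_same 𝒜 SetLike.GradedOne.one_mem] at h0
      apply h1
      rw [h0]
      exact m.isHomogeneous 0 ha
  rw [Ideal.isMaximal_iff]
  refine ⟨h1, fun J x hmJ hxm hxJ => ?_⟩
  obtain ⟨x0, hx0def⟩ : ∃ x0 : R, x0 = (decompose 𝒜 x 0 : R) := ⟨_, rfl⟩
  have hx0 : x - x0 ∈ irrI 𝒜 := by rw [hx0def]; exact sub_decompose_zero_mem_irr 𝒜 hpos x
  have hx0m : x0 ∉ m.toIdeal := by
    intro h
    apply hxm
    have := add_mem (hirr hx0) h
    simpa using this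
  have hhom : (Ideal.span ({x0} : Set R)).IsHomogeneous 𝒜 := by
    apply Ideal.homogeneous_span
    rintro _ rfl
    exact ⟨0, by rw [hx0def]; exact SetLike.coe_mem _⟩
  let K : HomogeneousIdeal 𝒜 := m ⊔ ⟨Ideal.span {x0}, hhom⟩
  have hK : K.toIdeal = m.toIdeal ⊔ Ideal.span {x0} := HomogeneousIdeal.toIdeal_sup _ _
  have hne : m ≠ K := by
    intro heq
    apply hx0m
    have : Ideal.span {x0} ≤ K.toIdeal := by rw [hK]; exact le_sup_right
    rw [← heq] at this
    exact this (Ideal.mem_span_singleton_self x0)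
  have hKtop := hm.2 K (lt_of_le_of_ne le_sup_left hne)
  have hKJ : K.toIdeal ≤ J := by
    rw [hK]
    apply sup_le hmJ
    rw [Ideal.span_singleton_le_iff_mem]
    have : x0 = x - (x - x0) := by ring
    rw [this]
    exact sub_mem hxJ (hmJ (hirr hx0))
  apply hKJ
  rw [hKtop, HomogeneousIdeal.toIdeal_top]
  trivial

theorem GE_antitone {a b : ℤ} (h : a ≤ b) : GE (R := R) ℳ b ≤ GE ℳ a := by
  apply Submodule.span_mono
  intro x hx
  simp only [Set.mem_iUnion, Set.mem_Ici, SetLike.mem_coe] at hx ⊢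
  obtain ⟨j, hj, hxj⟩ := hx
  exact ⟨j, by omega, hxj⟩

theorem decompose_eq_zero_of_mem_GE (hpos : ∀ n : ℤ, n < 0 → 𝒜 n = ⊥) {n : ℤ} {y : M}
    (hy : y ∈ GE (R := R) ℳ n) : ∀ j : ℤ, j < n → (decompose ℳ y j : M) = 0 := by
  classical
  induction hy using Submodule.span_induction with
  | mem z hz =>
    intro j hj
    simp only [Set.mem_iUnion, Set.mem_Ici, SetLike.mem_coe] at hz
    obtain ⟨k, hk, hz⟩ := hz
    exact decompose_of_mem_ne ℳ hz (by omega)
  | zero => intro j _; simp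
  | add a b _ _ ha hb =>
    intro j hj
    rw [decompose_add, DirectSum.add_apply, AddSubgroup.coe_add, ha j hj, hb j hj, add_zero]
  | smul r z _ hz =>
    intro j hj
    rw [coe_decompose_smul_gen 𝒜 ℳ r z j]
    apply Finset.sum_eq_zero
    intro c _
    by_cases hc : c < 0
    · rw [ring_piece_eq_zero_of_neg 𝒜 hpos r hc, zero_smul]
    · rw [hz (j - c) (by omega), smul_zero]

/-- an Artinian graded module over a positively graded ring vanishes in large degrees. -/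
theorem eventually_bot_of_isArtinian (hpos : ∀ n : ℤ, n < 0 → 𝒜 n = ⊥) [IsArtinian R M] :
    ∃ n₀ : ℤ, ∀ n : ℤ, n₀ ≤ n → ℳ n = ⊥ := by
  let f : ℕ →o (Submodule R M)ᵒᵈ :=
    ⟨fun k => OrderDual.toDual (GE (R := R) ℳ (k : ℤ)), fun a b hab =>
      GE_antitone ℳ (by exact_mod_cast hab)⟩
  obtain ⟨N, hN⟩ := IsArtinian.monotone_stabilizes f
  refine ⟨N, fun n hn => ?_⟩
  rw [AddSubgroup.eq_bot_iff_forall]
  intro x hx
  obtain ⟨k, rfl⟩ : ∃ k : ℕ, n = k := ⟨n.toNat, by omega⟩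
  have hk : N ≤ k := by exact_mod_cast hn
  have h1 : x ∈ GE (R := R) ℳ (k : ℤ) := mem_GE_of_mem ℳ le_rfl hx
  have h2 : GE (R := R) ℳ (k : ℤ) = GE ℳ ((k + 1 : ℕ) : ℤ) := by
    have e1 : f N = f k := hN k hk
    have e2 : f N = f (k + 1) := hN (k + 1) (by omega)
    exact OrderDual.toDual.injective (e1.symm.trans e2)
  rw [h2] at h1
  have := decompose_eq_zero_of_mem_GE 𝒜 ℳ hpos h1 k (by push_cast; omega)
  rwa [decompose_of_mem_same ℳ hx] at this

/-- the pieces of an Artinian graded module are Artinian over `R_0`. -/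
theorem isArtinian_of_isArtinian_graded [IsArtinian R M] (n : ℤ) (P : Submodule (deg0 𝒜) M)
    (hP : ∀ x, x ∈ P ↔ x ∈ ℳ n) : IsArtinian (deg0 𝒜) P := by
  classical
  let φ : Submodule (deg0 𝒜) P → Submodule R M := fun N =>
    Submodule.span R ((fun z : P => (z : M)) '' (N : Set P))
  have key : ∀ (N : Submodule (deg0 𝒜) P) (y : M), y ∈ φ N →
      ∀ s : R, ∃ z ∈ N, (z : M) = (decompose ℳ (s • y) n : M) := by
    intro N y hy
    induction hy using Submodule.span_induction with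
    | mem y hy =>
      intro s
      obtain ⟨z, hz, rfl⟩ := hy
      have hzn : (z : M) ∈ ℳ n := (hP _).mp z.2
      refine ⟨(⟨(decompose 𝒜 s 0 : R), SetLike.coe_mem _⟩ : deg0 𝒜) • z, N.smul_mem _ hz, ?_⟩
      rw [coe_decompose_smul_right 𝒜 ℳ hzn, sub_self]
      rfl
    | zero => intro s; exact ⟨0, zero_mem _, by simp⟩
    | add a b _ _ ha hb =>
      intro s
      obtain ⟨za, hza, ha⟩ := ha s
      obtain ⟨zb, hzb, hb⟩ := hb s
      refine ⟨za + zb, add_mem hza hzb, ?_⟩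
      rw [smul_add, decompose_add, DirectSum.add_apply, AddSubgroup.coe_add, ← ha, ← hb]
      rfl
    | smul r y _ hy =>
      intro s
      obtain ⟨z, hz, h⟩ := hy (s * r)
      exact ⟨z, hz, by rw [h, mul_smul]⟩
  have hmono : Monotone φ := fun N₁ N₂ h =>
    Submodule.span_mono (Set.image_mono h)
  have hinj : Function.Injective φ := by
    have half : ∀ N₁ N₂, φ N₁ = φ N₂ → N₁ ≤ N₂ := by
      intro N₁ N₂ h z hz
      have h1 : (z : M) ∈ φ N₂ := by
        rw [← h]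
        exact Submodule.subset_span ⟨z, hz, rfl⟩
      obtain ⟨z', hz', h2⟩ := key N₂ _ h1 1
      rw [one_smul, decompose_of_mem_same ℳ ((hP _).mp z.2)] at h2
      have : z' = z := Subtype.ext h2
      rw [← this]
      exact hz'
    intro N₁ N₂ h
    exact le_antisymm (half _ _ h) (half _ _ h.symm)
  exact (hmono.strictMono_of_injective hinj).wellFoundedLT

end IntGraded

section HGr

variable {R : Type u} [CommRing R] (𝒜 : ℤ → AddSubgroup R) [GradedRing 𝒜]
  {M : Type u} [AddCommGroup M] [Module R M] (ℳ : ℤ → AddSubgroup M)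
  [DirectSum.Decomposition ℳ] [SetLike.GradedSMul 𝒜 ℳ] (E : StarInjRes 𝒜 ℳ)
  (a : HomogeneousIdeal 𝒜)

theorem eventually_bot_of_isArtinian_gmod (hpos : ∀ n : ℤ, n < 0 → 𝒜 n = ⊥) (X : GMod.{u} 𝒜)
    (h : IsArtinian R X.carrier) : ∃ n₀ : ℤ, ∀ n : ℤ, n₀ ≤ n → X.gr n = ⊥ :=
  eventually_bot_of_isArtinian 𝒜 X.gr hpos

theorem isArtinian_of_isArtinian_gmod (X : GMod.{u} 𝒜) (h : IsArtinian R X.carrier) (n : ℤ)
    (P : Submodule (deg0 𝒜) X.carrier) (hP : ∀ x, x ∈ P ↔ x ∈ X.gr n) :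
    IsArtinian (deg0 𝒜) P :=
  isArtinian_of_isArtinian_graded 𝒜 X.gr n P hP

/-- the graded local cohomology computed from a *injective resolution as a bundled graded module. -/
noncomputable def HGMod (i : ℕ) : GMod.{u} 𝒜 :=
  quotGMod (subGMod (E.X i) (E.cocyc a i) (isHomogeneous_cocyc 𝒜 ℳ E a i))
    ((E.cobdy a i).comap (subIncl (E.X i) (E.cocyc a i) (isHomogeneous_cocyc 𝒜 ℳ E a i)))
    (isHomogeneous_comap_subIncl 𝒜 (E.X i) (E.cocyc a i) (E.cobdy a i)
      (isHomogeneous_cocyc 𝒜 ℳ E a i) (isHomogeneous_cobdy 𝒜 ℳ E a i))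

theorem HGMod_carrier (i : ℕ) : (HGMod 𝒜 ℳ E a i).carrier = E.H a i := rfl

theorem mem_HGMod_gr (i : ℕ) (g : ℤ) (x : E.H a i) :
    x ∈ (HGMod 𝒜 ℳ E a i).gr g ↔ x ∈ E.Hcomp a i g := by
  constructor
  · rintro ⟨z, hz, rfl⟩
    exact ⟨z, hz, rfl⟩
  · rintro ⟨z, hz, rfl⟩
    exact ⟨z, hz, rfl⟩

theorem Hcomp_eventually_bot (hpos : ∀ n : ℤ, n < 0 → 𝒜 n = ⊥) (i : ℕ)
    (h : IsArtinian R (E.H a i)) : ∃ N : ℤ, ∀ n : ℤ, N ≤ n → E.Hcomp a i n = ⊥ := by
  obtain ⟨N, hN⟩ := eventually_bot_of_isArtinian_gmod 𝒜 hpos (HGMod 𝒜 ℳ E a i) h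
  refine ⟨N, fun n hn => ?_⟩
  rw [Submodule.eq_bot_iff]
  intro x hx
  have h1 := (mem_HGMod_gr 𝒜 ℳ E a i n x).mpr hx
  rw [hN n hn] at h1
  exact AddSubgroup.mem_bot.mp h1

theorem isArtinian_Hcomp (i : ℕ) (n : ℤ) (h : IsArtinian R (E.H a i)) :
    IsArtinian (deg0 𝒜) (E.Hcomp a i n) :=
  isArtinian_of_isArtinian_gmod 𝒜 (HGMod 𝒜 ℳ E a i) h n (E.Hcomp a i n)
    (fun x => (mem_HGMod_gr 𝒜 ℳ E a i n x).symm)

/-- `H^i_m(M)` is Artinian for a *maximal ideal `m` of a positively graded Noetherian ring. -/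
theorem isArtinian_H_of_isCoatom [IsNoetherianRing R] [Module.Finite R M]
    (hpos : ∀ n : ℤ, n < 0 → 𝒜 n = ⊥) (m : HomogeneousIdeal 𝒜) (hm : IsCoatom m) (i : ℕ) :
    IsArtinian R (E.H m i) := by
  haveI := isMaximal_of_isCoatom 𝒜 hpos m hm
  obtain ⟨e⟩ := nonempty_H_equiv E m
    (fun n k => subsingleton_H_of_isStarInj 𝒜 (E.X n) (E.starInj n) m k) i
  haveI : IsArtinian R (LocCoh.H m.toIdeal i M) :=
    Groth.Agent.H8.LCArt.isArtinian_H_of_isMaximal m.toIdeal i M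
  exact e.symm.isArtinian_iff.mp inferInstance

end HGr

end Groth.Agent.H8.Gr
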