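import Mathlib
import Groth.Agent.Lib.helper8.InjBCA
import Groth.Agent.Lib.helper21.ExtBC3

/-!
# Base change of injective modules along flat maps with `pB_q = qB_q`
-/

set_option autoImplicit false
universe u
open CategoryTheory Abelian TensorProduct

namespace Groth.Agent.H8.InjBC

open Groth.Agent.H21.ExtBC
open Groth.Agent.Lib.helper6.TorBC (bc)

section Killer

variable {B : Type u} [CommRing B] [IsNoetherianRing B]

/-- if `J ≤ q` agree locally at `q` and `Ext¹(B/J, N) = 0` then some `t ∉ q` kills `Ext¹(B/q, N)`. -/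
theorem exists_killer (J q : Ideal B) [hq : q.IsPrime] (hJq : J ≤ q)
    (hloc : ∀ b ∈ q, ∃ r : B, r ∉ q ∧ r * b ∈ J) (N : Type u) [AddCommGroup N] [Module B N]
    (hJ : Subsingleton (Ext (ModuleCat.of B (B ⧸ J)) (ModuleCat.of B N) 1)) :
    ∃ t : B, t ∉ q ∧ ∀ x : Ext (ModuleCat.of B (B ⧸ q)) (ModuleCat.of B N) 1, t • x = 0 := by
  let g : (B ⧸ J) →ₗ[B] (B ⧸ q) := Submodule.mapQ J q LinearMap.id hJq
  have hg : ∀ b : B, g (Submodule.Quotient.mk b) = Submodule.Quotient.mk b := fun b => rfl
  let K := LinearMap.ker g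
  have hK : ∀ k : K, ∃ r : B, r ∉ q ∧ r • k = 0 := by
    rintro ⟨k, hk⟩
    obtain ⟨b, rfl⟩ := Submodule.Quotient.mk_surjective J k
    have hb : b ∈ q := by
      have : g (Submodule.Quotient.mk b) = 0 := hk
      rw [hg] at this
      exact (Submodule.Quotient.mk_eq_zero q).mp this
    obtain ⟨r, hr, hrb⟩ := hloc b hb
    refine ⟨r, hr, Subtype.ext ?_⟩
    show r • (Submodule.Quotient.mk b : B ⧸ J) = 0
    rw [← Submodule.Quotient.mk_smul]
    exact (Submodule.Quotient.mk_eq_zero J).mpr hrb
  have hsupp : (⟨q, hq⟩ : PrimeSpectrum B) ∉ Module.support B K := by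
    rw [Module.notMem_support_iff']
    intro k
    obtain ⟨r, hr, hrk⟩ := hK k
    exact ⟨r, hr, hrk⟩
  rw [Module.mem_support_iff_of_finite] at hsupp
  obtain ⟨t, htann, htq⟩ := SetLike.not_le_iff_exists.mp hsupp
  refine ⟨t, htq, fun x => ?_⟩
  let S : ShortComplex (ModuleCat.{u} B) :=
    ModuleCat.shortComplexOfCompEqZero K.subtype g (by
      ext k
      exact k.2)
  have hS : S.ShortExact := ModuleCat.shortComplex_shortExact S
    (LinearMap.exact_subtype_ker_map g) (Submodule.injective_subtype K)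
    (by
      intro y
      obtain ⟨b, rfl⟩ := Submodule.Quotient.mk_surjective q y
      exact ⟨Submodule.Quotient.mk b, rfl⟩)
  have h0 : (Ext.mk₀ S.g).comp x (zero_add 1) = 0 := Subsingleton.elim _ _
  obtain ⟨x₁, rfl⟩ := Ext.contravariant_sequence_exact₃ hS _ x h0 (show 1 + 0 = 1 from rfl)
  obtain ⟨ρ, rfl⟩ := (Ext.mk₀_bijective _ _).2 x₁
  rw [← Ext.comp_smul, ← Ext.mk₀_smul]
  have hρ : t • ρ = 0 := by
    ext k
    show t • ρ.hom k = 0
    rw [← map_smul, Module.mem_annihilator.mp htann k, map_zero]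
  rw [hρ, Ext.mk₀_zero, Ext.comp_zero]

end Killer

section Main

variable (A B : Type u) [CommRing A] [CommRing B] [Algebra A B] [IsNoetherianRing A]
  [IsNoetherianRing B] [Module.Flat A B]

/-- `Ext¹_B(B/pB, B ⊗ I) = 0` for `I` injective over `A`. -/
theorem subsingleton_ext_one_baseChange (I : Type u) [AddCommGroup I] [Module A I]
    [Module.Injective A I] (p : Ideal A) :
    Subsingleton (Ext (ModuleCat.of B (B ⧸ p.map (algebraMap A B)))
      (ModuleCat.of B (B ⊗[A] I)) 1) := by
  haveI : Injective (ModuleCat.of A I) := Module.injective_object_of_injective_module A I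
  have h0 : Subsingleton (Ext (ModuleCat.of A (A ⧸ p)) (ModuleCat.of A I) 1) :=
    ⟨fun a b => by rw [Ext.eq_zero_of_injective a, Ext.eq_zero_of_injective b]⟩
  have h1 := subsingleton_ext_bc A B (ModuleCat.of A I) 1 (A ⧸ p) h0
  exact subsingleton_ext_of_isos B 1 (bcIsoQuot B p) (Iso.refl _) h1

/-- **Base change of injectives.** -/
theorem injective_baseChange
    (h : ∀ q : PrimeSpectrum B, Ideal.map (algebraMap B (Localization.AtPrime q.asIdeal))
      ((q.asIdeal.comap (algebraMap A B)).map (algebraMap A B)) =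
        IsLocalRing.maximalIdeal (Localization.AtPrime q.asIdeal))
    (I : Type u) [AddCommGroup I] [Module A I] [Module.Injective A I] :
    Module.Injective B (B ⊗[A] I) := by
  apply injective_of_ext_one_killed
  intro q hq
  haveI := hq
  refine exists_killer ((q.comap (algebraMap A B)).map (algebraMap A B)) q Ideal.map_comap_le ?_ _
    (subsingleton_ext_one_baseChange A B I _)
  intro b hb
  have h1 : algebraMap B (Localization.AtPrime q) b ∈
      IsLocalRing.maximalIdeal (Localization.AtPrime q) :=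
    (IsLocalization.AtPrime.to_map_mem_maximal_iff _ q b).mpr hb
  rw [← h ⟨q, hq⟩] at h1
  obtain ⟨⟨a, s⟩, has⟩ := (IsLocalization.mem_map_algebraMap_iff q.primeCompl _).mp h1
  rw [← map_mul] at has
  obtain ⟨c, hc⟩ := (IsLocalization.eq_iff_exists q.primeCompl _).mp has
  refine ⟨c * s, (c * s).2, ?_⟩
  have : (c : B) * (s : B) * b = (c : B) * (a : B) := by
    rw [← hc]; ring
  show (c : B) * (s : B) * b ∈ _
  rw [this]
  exact Ideal.mul_mem_left _ _ a.2

end Main

end Groth.Agent.H8.InjBC
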