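import Mathlib
import Groth.Prelude.Def_Wider
import Groth.Agent.Lib.helper1.InjHull3

/-!
# Matlis' decomposition of injective modules over a Noetherian ring (helper8).
-/

universe u

namespace Groth.Agent.H8.InjDecomp

open InjHull Groth.Agent.Lib.helper1.InjHullLib

variable {R : Type u} [CommRing R] [IsNoetherianRing R] {I : Type u} [AddCommGroup I] [Module R I]

/-- a nonzero submodule of an injective module gives an indecomposable injective submodule, disjoint
from everything the given submodule is disjoint from. -/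
theorem exists_indecomposable_injective_submodule (hI : Module.Injective R I)
    (C : Submodule R I) (hC : C ≠ ⊥) :
    ∃ H : Submodule R I, IsIndecomposable R H ∧ Module.Injective R H ∧
      ∀ T : Submodule R I, Disjoint C T → Disjoint H T := by
  haveI : Nontrivial C := Submodule.nontrivial_iff_ne_bot.mpr hC
  obtain ⟨p, hp⟩ := associatedPrimes.nonempty R C
  obtain ⟨hpp, x, hx⟩ := (isAssociatedPrime_iff).mp hp
  have hker : LinearMap.ker (LinearMap.toSpanSingleton R C x) = p := by
    ext r
    rw [hx, Submodule.mem_colon_singleton, LinearMap.mem_ker, LinearMap.toSpanSingleton_apply,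
      Submodule.mem_bot]
  let φ : (R ⧸ p) →ₗ[R] C := Submodule.liftQ p (LinearMap.toSpanSingleton R C x) hker.ge
  have hφ : Function.Injective φ := by
    rw [← LinearMap.ker_eq_bot]
    exact Submodule.ker_liftQ_eq_bot _ _ _ hker.le
  let ψ : (R ⧸ p) →ₗ[R] I := C.subtype ∘ₗ φ
  have hψ : Function.Injective ψ := C.injective_subtype.comp hφ
  obtain ⟨H, ⟨hNH, hess⟩, C', hHC'⟩ := exists_hull_in hI (LinearMap.range ψ)
  have hHinj : Module.Injective R H := injective_of_isCompl hI H C' hHC'
  let f : (R ⧸ p) →ₗ[R] H := ψ.codRestrict H (fun z => hNH ⟨z, rfl⟩)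
  have hfinj : Function.Injective f := fun a b hab =>
    hψ (congrArg (Subtype.val : H → I) hab)
  have hf : IsInjectiveHull f := by
    refine ⟨isEssentialInj_of_ess f hfinj ?_, hHinj⟩
    intro y hy0
    obtain ⟨r, hr0, hr⟩ := hess y.1 y.2 (fun h => hy0 (Subtype.ext h))
    refine ⟨r, fun h => hr0 (congrArg Subtype.val h), ?_⟩
    obtain ⟨z, hz⟩ := hr
    exact ⟨z, Subtype.ext hz⟩
  refine ⟨H, indecomposable_of_hull_quotient_prime p f hf, hHinj, fun T hCT => ?_⟩
  rw [Submodule.disjoint_def] at hCT ⊢
  intro y hyH hyT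
  by_contra hy0
  obtain ⟨r, hr0, hr⟩ := hess y hyH hy0
  apply hr0
  apply hCT _ _ (T.smul_mem r hyT)
  obtain ⟨z, hz⟩ := hr
  rw [← hz]
  exact (φ z).2

/-- the sum of an independent family of injective submodules is injective. -/
theorem injective_sSup (𝒮 : Set (Submodule R I)) (hind : sSupIndep 𝒮)
    (hinj : ∀ N ∈ 𝒮, Module.Injective R N) : Module.Injective R (sSup 𝒮 : Submodule R I) := by
  classical
  have hind' : iSupIndep ((↑) : 𝒮 → Submodule R I) := (sSupIndep_iff 𝒮).mp hind
  let Φ : (DirectSum 𝒮 fun N => (N : Submodule R I)) →ₗ[R] I :=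
    DirectSum.coeLinearMap (fun N : 𝒮 => (N : Submodule R I))
  have hΦ : Function.Injective Φ := hind'.dfinsupp_lsum_injective
  have hrange : LinearMap.range Φ = sSup 𝒮 := by
    rw [sSup_eq_iSup']
    exact DirectSum.range_coeLinearMap
  have h1 : Module.Injective R (DirectSum 𝒮 fun N => (N : Submodule R I)) :=
    injective_directSum (fun N : 𝒮 => (N : Submodule R I)) (fun N => hinj N.1 N.2)
  let e : (DirectSum 𝒮 fun N => (N : Submodule R I)) ≃ₗ[R] (sSup 𝒮 : Submodule R I) :=
    (LinearEquiv.ofInjective Φ hΦ).trans (LinearEquiv.ofEq _ _ hrange)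
  exact Module.Baer.injective (Module.Baer.of_equiv e (Module.Baer.of_injective h1))

open Classical in
/-- **Matlis**: an injective module over a Noetherian ring is an internal direct sum of indecomposable
injective submodules. -/
theorem exists_isInternal_indecomposable (hI : Module.Injective R I) :
    ∃ (ι : Type u) (E : ι → Submodule R I), DirectSum.IsInternal E ∧
      ∀ i, IsIndecomposable R ↥(E i) ∧ Module.Injective R ↥(E i) := by
  let 𝒵 : Set (Set (Submodule R I)) :=
    {𝒮 | (∀ N ∈ 𝒮, IsIndecomposable R N ∧ Module.Injective R N) ∧ sSupIndep 𝒮}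
  obtain ⟨𝒮, h𝒮⟩ : ∃ 𝒮, Maximal (· ∈ 𝒵) 𝒮 := by
    apply zorn_subset
    intro c hc hchain
    refine ⟨⋃₀ c, ⟨?_, ?_⟩, fun s hs => Set.subset_sUnion_of_mem hs⟩
    · rintro N ⟨s, hs, hN⟩
      exact (hc hs).1 N hN
    · exact iSupIndep_sUnion_of_directed hchain.directedOn (fun s hs => (hc hs).2)
  obtain ⟨hP, hind⟩ := h𝒮.prop
  have hTinj : Module.Injective R (sSup 𝒮 : Submodule R I) :=
    injective_sSup 𝒮 hind (fun N hN => (hP N hN).2)
  -- `sSup 𝒮` is a direct summand
  obtain ⟨r, hr⟩ := exists_retraction hTinj (sSup 𝒮 : Submodule R I).subtype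
    (Submodule.injective_subtype _)
  have hcompl := isCompl_range_ker (sSup 𝒮 : Submodule R I).subtype r hr
  rw [Submodule.range_subtype] at hcompl
  have htop : sSup 𝒮 = (⊤ : Submodule R I) := by
    by_contra hne
    have hCne : LinearMap.ker r ≠ ⊥ := by
      intro hbot
      apply hne
      have := hcompl.sup_eq_top
      rwa [hbot, sup_bot_eq] at this
    obtain ⟨H, hHind, hHinj, hHdisj⟩ :=
      exists_indecomposable_injective_submodule hI (LinearMap.ker r) hCne
    have hHT : Disjoint H (sSup 𝒮) := hHdisj _ hcompl.disjoint.symm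
    have hHbot : H ≠ ⊥ := by
      haveI := hHind.1
      exact Submodule.nontrivial_iff_ne_bot.mp inferInstance
    have hHnot : H ∉ 𝒮 := by
      intro hH
      exact hHbot (disjoint_self.mp (hHT.mono_right (le_sSup hH)))
    have hmem : insert H 𝒮 ∈ 𝒵 := by
      refine ⟨?_, ?_⟩
      · intro N hN
        rcases hN with rfl | hN
        · exact ⟨hHind, hHinj⟩
        · exact hP N hN
      · intro a ha
        rcases ha with rfl | ha
        · refine hHT.mono_right (sSup_le_sSup ?_)
          intro b hb
          rcases hb.1 with rfl | hb'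
          · exact (hb.2 rfl).elim
          · exact hb'
        · have haH : a ≠ H := fun h => hHnot (h ▸ ha)
          have hset : insert H 𝒮 \ {a} = insert H (𝒮 \ {a}) := by
            ext b
            simp only [Set.mem_sdiff, Set.mem_insert_iff, Set.mem_singleton_iff]
            constructor
            · rintro ⟨hb | hb, hba⟩
              · exact Or.inl hb
              · exact Or.inr ⟨hb, hba⟩
            · rintro (hb | ⟨hb, hba⟩)
              · exact ⟨Or.inl hb, fun h => haH (h.symm.trans hb)⟩
              · exact ⟨Or.inr hb, hba⟩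
          rw [hset, sSup_insert, sup_comm]
          apply Disjoint.disjoint_sup_right_of_disjoint_sup_left (hind ha)
          refine hHT.symm.mono_left ?_
          apply sup_le (le_sSup ha)
          exact sSup_le_sSup Set.sdiff_subset
    have := h𝒮.le_of_ge hmem (Set.subset_insert H 𝒮)
    exact hHnot (this (Set.mem_insert H 𝒮))
  refine ⟨𝒮, fun N => (N : Submodule R I), ?_, fun N => hP N.1 N.2⟩
  have h1 : iSupIndep (fun N : 𝒮 => (N : Submodule R I)) := (sSupIndep_iff 𝒮).mp hind
  have h2 : iSup (fun N : 𝒮 => (N : Submodule R I)) = ⊤ := by rw [← sSup_eq_iSup', htop]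
  exact DirectSum.isInternal_submodule_of_iSupIndep_of_iSup_eq_top (dec_ι := _) h1 h2

end Groth.Agent.H8.InjDecomp
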