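import Mathlib
import Groth.Prelude.Def_Wider
import Groth.Agent.Lib.helper8.LCFDB
import Groth.Agent.Lib.helper8.CdDimB

/-!
# Finiteness of `H^1_I(M)` via associated primes, part A (helper8)
-/

universe u

set_option linter.unusedSectionVars false

namespace Groth.Agent.H8.H1Ass

open LocCoh CategoryTheory Groth.Agent.H21.LC Groth.Agent.H8.LCFin Groth.Agent.H8.ExtVan
  Groth.Agent.H8.FD Groth.Agent.H8.CdDim

variable {R : Type u} [CommRing R] [IsNoetherianRing R]

/-- the middle term of an exact sequence with finite ends is finite. -/
theorem finite_of_exact {L M N : Type u} [AddCommGroup L] [Module R L] [AddCommGroup M]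
    [Module R M] [AddCommGroup N] [Module R N] (f : L →ₗ[R] M) (g : M →ₗ[R] N)
    (hfg : Function.Exact f g) [Module.Finite R L] [Module.Finite R N] : Module.Finite R M := by
  haveI : IsNoetherian R N := isNoetherian_of_isNoetherianRing_of_finite R N
  haveI : Module.Finite R (LinearMap.range g) :=
    Module.Finite.of_injective (LinearMap.range g).subtype Subtype.val_injective
  have hex : Function.Exact f g.rangeRestrict := by
    intro z
    rw [← hfg z]
    constructor
    · intro h
      have := congrArg Subtype.val h
      simpa using this
    · intro h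
      apply Subtype.ext
      simpa using h
  exact Module.Finite.of_exact hex (LinearMap.surjective_rangeRestrict _)

/-- `H^1` finiteness passes to submodules of finite modules. -/
theorem finite_H1_of_injective (I : Ideal R) {G' G : Type u} [AddCommGroup G'] [Module R G']
    [AddCommGroup G] [Module R G] [Module.Finite R G] (j : G' →ₗ[R] G)
    (hj : Function.Injective j) (h : Module.Finite R (H I 1 G)) : Module.Finite R (H I 1 G') := by
  have hS := hullSES_shortExact j hj
  haveI : Module.Finite R ((localCohomology I 0).obj (hullSES j).X₃) :=
    finite_H0 I (G ⧸ LinearMap.range j)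
  haveI : Module.Finite R ((localCohomology I 1).obj (hullSES j).X₂) := h
  exact finite_of_exact (δ I hS 0) ((localCohomology I 1).map (hullSES j).f).hom (exact₁ I hS 0)

/-- `H^1` finiteness passes to extensions. -/
theorem finite_H1_of_shortExact (I : Ideal R) {S : ShortComplex (ModuleCat.{u} R)}
    (hS : S.ShortExact) (h1 : Module.Finite R ((localCohomology I 1).obj S.X₁))
    (h3 : Module.Finite R ((localCohomology I 1).obj S.X₃)) :
    Module.Finite R ((localCohomology I 1).obj S.X₂) :=
  finite_of_exact _ _ (exact₂ I hS 1)

/-- the quotient version. -/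
theorem finite_H1_of_sub_quot (I : Ideal R) {G : Type u} [AddCommGroup G] [Module R G]
    (N : Submodule R G) (h1 : Module.Finite R (H I 1 N)) (h3 : Module.Finite R (H I 1 (G ⧸ N))) :
    Module.Finite R (H I 1 G) :=
  finite_H1_of_shortExact I (subSES_shortExact N) h1 h3

/-- products. -/
theorem finite_H1_prod (I : Ideal R) {G1 G2 : Type u} [AddCommGroup G1] [Module R G1]
    [AddCommGroup G2] [Module R G2] (h1 : Module.Finite R (H I 1 G1))
    (h2 : Module.Finite R (H I 1 G2)) : Module.Finite R (H I 1 (G1 × G2)) := by
  have hS : (ShortComplex.mk (ModuleCat.ofHom (LinearMap.inl R G1 G2))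
      (ModuleCat.ofHom (LinearMap.snd R G1 G2)) (by
        refine ModuleCat.hom_ext (LinearMap.ext fun m => ?_)
        rfl)).ShortExact := by
    refine ModuleCat.shortComplex_shortExact _ ?_ LinearMap.inl_injective LinearMap.snd_surjective
    intro e
    constructor
    · intro he
      refine ⟨e.1, ?_⟩
      apply Prod.ext
      · rfl
      · exact he.symm
    · rintro ⟨m, rfl⟩
      rfl
  exact finite_H1_of_shortExact I hS h1 h2

/-- `H^1` of a subsingleton module. -/
theorem finite_H1_of_subsingleton (I : Ideal R) (G : Type u) [AddCommGroup G] [Module R G]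
    [Subsingleton G] : Module.Finite R (H I 1 G) := by
  haveI : Subsingleton (H I 1 G) := subsingleton_H_of_subsingleton I 1 (ModuleCat.of R G)
  infer_instance

/-- `H^1_I` of an `I`-power torsion module vanishes. -/
theorem finite_H1_of_isPowerTorsion (I : Ideal R) (G : Type u) [AddCommGroup G] [Module R G]
    (hG : IsPowerTorsion I G) : Module.Finite R (H I 1 G) := by
  haveI : Subsingleton (H I 1 G) :=
    subsingleton_of_torsion I 1 one_pos (ModuleCat.of R G) (fun m => hG m)
  infer_instance

end Groth.Agent.H8.H1Ass
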