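import Mathlib
import Groth.Prelude.Def_Wider
import Groth.Agent.Lib.helper8.LCH1A

/-!
# Finiteness of `H^1_I(M)` via associated primes, part B (helper8)
-/

universe u

set_option linter.unusedSectionVars false

namespace Groth.Agent.H8.H1Ass

open LocCoh CategoryTheory Groth.Agent.H21.LC Groth.Agent.H8.LCFin Groth.Agent.H8.ExtVan
  Groth.Agent.H8.FD Groth.Agent.H8.CdDim

variable {R : Type u} [CommRing R] [IsNoetherianRing R]

/-- the saturation of `R ∙ n1` with respect to the complement of a prime. -/
def sat (p : Ideal R) [p.IsPrime] {N : Type u} [AddCommGroup N] [Module R N] (n1 : N) :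
    Submodule R N where
  carrier := {n | ∃ a : R, a ∉ p ∧ a • n ∈ Submodule.span R {n1}}
  zero_mem' := ⟨1, (Ideal.ne_top_iff_one p).mp Ideal.IsPrime.ne_top', by simp⟩
  add_mem' := by
    rintro x y ⟨a, ha, hax⟩ ⟨b, hb, hby⟩
    refine ⟨a * b, fun h => (Ideal.IsPrime.mem_or_mem inferInstance h).elim ha hb, ?_⟩
    rw [smul_add]
    refine Submodule.add_mem _ ?_ ?_
    · rw [mul_comm, mul_smul]
      exact Submodule.smul_mem _ _ hax
    · rw [mul_smul]
      exact Submodule.smul_mem _ _ hby
  smul_mem' := by
    rintro c x ⟨a, ha, hax⟩
    refine ⟨a, ha, ?_⟩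
    rw [smul_comm]
    exact Submodule.smul_mem _ _ hax

/-- modules killed by `p` on which the complement of `p` acts injectively. -/
theorem finite_H1_of_killed (I p : Ideal R) [p.IsPrime]
    (hp : Module.Finite R (H I 1 (R ⧸ p))) :
    ∀ (k : ℕ) (N : Type u) [AddCommGroup N] [Module R N] (v : Fin k → N),
      Submodule.span R (Set.range v) = ⊤ → (∀ a ∈ p, ∀ n : N, a • n = 0) →
      (∀ r : R, r ∉ p → ∀ n : N, r • n = 0 → n = 0) → Module.Finite R (H I 1 N) := by
  classical
  intro k
  induction k with
  | zero =>
    intro N _ _ v hv _ _
    haveI : Subsingleton N := by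
      have : (⊤ : Submodule R N) = ⊥ := by
        rw [← hv]
        simp
      exact (Submodule.subsingleton_iff R).mp (subsingleton_of_top_le_bot this.le)
    exact finite_H1_of_subsingleton I N
  | succ k ih =>
    intro N _ _ v hv hkill hinj
    haveI hNfin : Module.Finite R N := by
      refine ⟨?_⟩
      rw [← hv]
      exact Submodule.fg_span (Set.finite_range v)
    have hrange : Set.range v = insert (v 0) (Set.range (fun i : Fin k => v i.succ)) := by
      ext x
      constructor
      · rintro ⟨i, rfl⟩
        refine Fin.cases ?_ (fun j => ?_) i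
        · exact Set.mem_insert _ _
        · exact Set.mem_insert_of_mem _ ⟨j, rfl⟩
      · rintro (rfl | ⟨j, rfl⟩)
        · exact ⟨0, rfl⟩
        · exact ⟨j.succ, rfl⟩
    by_cases h0 : v 0 = 0
    · refine ih N (fun i => v i.succ) ?_ hkill hinj
      rw [← hv, hrange, h0]
      exact (Submodule.span_insert_zero).symm
    · -- the saturation of `R ∙ v 0`
      have hn1 : v 0 ∈ sat p (v 0) :=
        ⟨1, (Ideal.ne_top_iff_one p).mp Ideal.IsPrime.ne_top', by
          rw [one_smul]; exact Submodule.mem_span_singleton_self _⟩
      -- finiteness for the saturation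
      have hF1 : Module.Finite R (H I 1 (sat p (v 0))) := by
        haveI : IsNoetherian R N := isNoetherian_of_isNoetherianRing_of_finite R N
        obtain ⟨G, hG⟩ := (IsNoetherian.noetherian (sat p (v 0)) : (sat p (v 0)).FG)
        have hGs : ∀ g : N, ∃ a : R, g ∈ G → a ∉ p ∧ a • g ∈ Submodule.span R {v 0} := by
          intro g
          by_cases hg : g ∈ G
          · have hgs : g ∈ sat p (v 0) := hG ▸ Submodule.subset_span hg
            obtain ⟨a, ha, hag⟩ := hgs
            exact ⟨a, fun _ => ⟨ha, hag⟩⟩
          · exact ⟨1, fun h => absurd h hg⟩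
        choose af haf using hGs
        set d : R := ∏ g ∈ G, af g with hd
        have hdp : d ∉ p := by
          rw [hd, Ideal.IsPrime.prod_mem_iff]
          rintro ⟨g, hg, hmem⟩
          exact (haf g hg).1 hmem
        have hdN : ∀ n ∈ sat p (v 0), d • n ∈ Submodule.span R {v 0} := by
          intro n hn
          rw [← hG] at hn
          induction hn using Submodule.span_induction with
          | mem g hg =>
            rw [hd, ← Finset.mul_prod_erase G af hg, mul_comm, mul_smul]
            exact Submodule.smul_mem _ _ (haf g hg).2
          | zero => rw [smul_zero]; exact Submodule.zero_mem _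
          | add a b _ _ ha hb => rw [smul_add]; exact Submodule.add_mem _ ha hb
          | smul r a _ ha => rw [smul_comm]; exact Submodule.smul_mem _ _ ha
        let ψ : sat p (v 0) →ₗ[R] Submodule.span R {v 0} :=
          ((DistribMulAction.toLinearMap R N d).comp (sat p (v 0)).subtype).codRestrict _
            (fun n => hdN n.1 n.2)
        have hψ : Function.Injective ψ := by
          rw [injective_iff_map_eq_zero]
          intro n hn
          have h1 : d • n.1 = 0 := congrArg Subtype.val hn
          exact Subtype.ext (hinj d hdp n.1 h1)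
        -- `R ∙ v 0 ≃ R ⧸ p`
        have htors : Ideal.torsionOf R N (v 0) = p := by
          ext a
          rw [Ideal.mem_torsionOf_iff]
          constructor
          · intro ha
            by_contra hap
            exact h0 (hinj a hap _ ha)
          · intro ha
            exact hkill a ha _
        let e : Submodule.span R {v 0} ≃ₗ[R] (R ⧸ p) :=
          (Ideal.quotTorsionOfEquivSpanSingleton R N (v 0)).symm.trans
            (Submodule.quotEquivOfEq _ _ htors)
        have hFspan : Module.Finite R (H I 1 (Submodule.span R {v 0})) :=
          finite_H1_of_injective I e.toLinearMap e.injective hp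
        haveI : Module.Finite R (Submodule.span R {v 0}) :=
          Module.Finite.of_injective (Submodule.span R {v 0}).subtype Subtype.val_injective
        exact finite_H1_of_injective I ψ hψ hFspan
      -- finiteness for the quotient
      have hF2 : Module.Finite R (H I 1 (N ⧸ sat p (v 0))) := by
        refine ih (N ⧸ sat p (v 0)) (fun i => (sat p (v 0)).mkQ (v i.succ)) ?_ ?_ ?_
        · have h1 : Submodule.map (sat p (v 0)).mkQ (Submodule.span R (Set.range v)) = ⊤ := by
            rw [hv, Submodule.map_top, Submodule.range_mkQ]
          rw [Submodule.map_span, hrange, Set.image_insert_eq] at h1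
          have h2 : (sat p (v 0)).mkQ (v 0) = 0 := (Submodule.Quotient.mk_eq_zero _).mpr hn1
          rw [h2, Submodule.span_insert_zero] at h1
          rw [← h1]
          congr 1
          ext x
          constructor
          · rintro ⟨i, rfl⟩
            exact ⟨v i.succ, ⟨i, rfl⟩, rfl⟩
          · rintro ⟨_, ⟨i, rfl⟩, rfl⟩
            exact ⟨i, rfl⟩
        · intro a ha n
          obtain ⟨n, rfl⟩ := Submodule.Quotient.mk_surjective _ n
          rw [← Submodule.Quotient.mk_smul, hkill a ha n, Submodule.Quotient.mk_zero]
        · intro r hr n hn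
          obtain ⟨n, rfl⟩ := Submodule.Quotient.mk_surjective _ n
          rw [← Submodule.Quotient.mk_smul, Submodule.Quotient.mk_eq_zero] at hn
          obtain ⟨a, ha, harn⟩ := hn
          rw [Submodule.Quotient.mk_eq_zero]
          refine ⟨a * r, fun h => (Ideal.IsPrime.mem_or_mem inferInstance h).elim ha hr, ?_⟩
          rw [mul_smul]
          exact harn
      exact finite_H1_of_sub_quot I (sat p (v 0)) hF1 hF2

/-- modules killed by a power of `p` on which the complement of `p` acts injectively. -/
theorem finite_H1_of_cop (I p : Ideal R) [p.IsPrime] (hp : Module.Finite R (H I 1 (R ⧸ p))) :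
    ∀ (m : ℕ) (N : Type u) [AddCommGroup N] [Module R N] [Module.Finite R N],
      (∀ a ∈ p ^ m, ∀ n : N, a • n = 0) →
      (∀ r : R, r ∉ p → ∀ n : N, r • n = 0 → n = 0) → Module.Finite R (H I 1 N) := by
  intro m
  induction m with
  | zero =>
    intro N _ _ _ hkill _
    haveI : Subsingleton N := by
      refine ⟨fun x y => ?_⟩
      have hx := hkill 1 (by rw [pow_zero, Ideal.one_eq_top]; trivial) x
      have hy := hkill 1 (by rw [pow_zero, Ideal.one_eq_top]; trivial) y
      rw [one_smul] at hx hy
      rw [hx, hy]
    exact finite_H1_of_subsingleton I N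
  | succ m ih =>
    intro N _ _ _ hkill hinj
    haveI : IsNoetherian R N := isNoetherian_of_isNoetherianRing_of_finite R N
    -- the `p`-torsion
    have hF1 : Module.Finite R (H I 1 (torsionBy p N)) := by
      haveI : Module.Finite R (torsionBy p N) :=
        Module.Finite.of_injective (torsionBy p N).subtype Subtype.val_injective
      obtain ⟨k, v, hv⟩ := Module.Finite.exists_fin (R := R) (M := torsionBy p N)
      refine finite_H1_of_killed I p hp k (torsionBy p N) v hv ?_ ?_
      · intro a ha n
        apply Subtype.ext
        exact (Submodule.mem_torsionBySet_iff _ _).mp n.2 ⟨a, ha⟩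
      · intro r hr n hn
        apply Subtype.ext
        exact hinj r hr n.1 (congrArg Subtype.val hn)
    have hF2 : Module.Finite R (H I 1 (N ⧸ torsionBy p N)) := by
      refine ih (N ⧸ torsionBy p N) ?_ ?_
      · intro a ha n
        obtain ⟨n, rfl⟩ := Submodule.Quotient.mk_surjective _ n
        rw [← Submodule.Quotient.mk_smul, Submodule.Quotient.mk_eq_zero]
        refine (Submodule.mem_torsionBySet_iff _ _).mpr ?_
        rintro ⟨b, hb⟩
        show b • a • n = 0
        rw [← mul_smul]
        refine hkill _ ?_ n
        rw [pow_succ']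
        exact Ideal.mul_mem_mul hb ha
      · intro r hr n hn
        obtain ⟨n, rfl⟩ := Submodule.Quotient.mk_surjective _ n
        rw [← Submodule.Quotient.mk_smul, Submodule.Quotient.mk_eq_zero] at hn
        rw [Submodule.Quotient.mk_eq_zero]
        refine (Submodule.mem_torsionBySet_iff _ _).mpr ?_
        rintro ⟨b, hb⟩
        show b • n = 0
        have h1 : b • r • n = 0 := (Submodule.mem_torsionBySet_iff _ _).mp hn ⟨b, hb⟩
        rw [smul_comm] at h1
        exact hinj r hr _ h1
    exact finite_H1_of_sub_quot I (torsionBy p N) hF1 hF2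

end Groth.Agent.H8.H1Ass
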