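import Mathlib
import Groth.Prelude.Def_Wider
import Groth.Agent.Lib.helper8.LCH1B

/-!
# Finiteness of `H^1_I(M)` via associated primes, part C (helper8)
-/

universe u

set_option linter.unusedSectionVars false

namespace Groth.Agent.H8.H1Ass

open LocCoh CategoryTheory Groth.Agent.H21.LC Groth.Agent.H8.LCFin Groth.Agent.H8.ExtVan
  Groth.Agent.H8.FD Groth.Agent.H8.CdDim

variable {R : Type u} [CommRing R] [IsNoetherianRing R]

theorem finite_H1_quot_congr (I : Ideal R) {M : Type u} [AddCommGroup M] [Module R M]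
    (N N' : Submodule R M) (h : N = N') (hF : Module.Finite R (H I 1 (M ⧸ N'))) :
    Module.Finite R (H I 1 (M ⧸ N)) := by
  subst h
  exact hF

/-- quotient by a primary submodule. -/
theorem finite_H1_quot_primary (I : Ideal R) (M : Type u) [AddCommGroup M] [Module R M]
    [Module.Finite R M] (Q : Submodule R M) (hQ : Q.IsPrimary)
    (h : ¬ I ≤ (Q.colon Set.univ).radical →
      Module.Finite R (H I 1 (R ⧸ (Q.colon Set.univ).radical))) :
    Module.Finite R (H I 1 (M ⧸ Q)) := by
  haveI hprime : (Q.colon Set.univ).radical.IsPrime := hQ.isPrime_radical_colon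
  obtain ⟨m, hm⟩ := Ideal.exists_radical_pow_le_of_fg (Q.colon Set.univ)
    (IsNoetherian.noetherian _)
  have hkill : ∀ a ∈ (Q.colon Set.univ).radical ^ m, ∀ n : M ⧸ Q, a • n = 0 := by
    intro a ha n
    obtain ⟨n, rfl⟩ := Submodule.Quotient.mk_surjective _ n
    rw [← Submodule.Quotient.mk_smul, Submodule.Quotient.mk_eq_zero]
    exact Submodule.mem_colon.mp (hm ha) n (Set.mem_univ n)
  by_cases hIp : I ≤ (Q.colon Set.univ).radical
  · apply finite_H1_of_isPowerTorsion
    intro n
    exact ⟨m, fun a ha => hkill a (Ideal.pow_right_mono hIp m ha) n⟩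
  · refine finite_H1_of_cop I _ (h hIp) m (M ⧸ Q) hkill ?_
    intro r hr n hn
    obtain ⟨n, rfl⟩ := Submodule.Quotient.mk_surjective _ n
    rw [← Submodule.Quotient.mk_smul, Submodule.Quotient.mk_eq_zero] at hn
    rw [Submodule.Quotient.mk_eq_zero]
    rcases hQ.mem_or_mem hn with h1 | h1
    · exact h1
    · exact absurd h1 hr

/-- quotient by an intersection. -/
theorem finite_H1_quot_inf (I : Ideal R) (M : Type u) [AddCommGroup M] [Module R M]
    [Module.Finite R M] (Q1 Q2 : Submodule R M) (h1 : Module.Finite R (H I 1 (M ⧸ Q1)))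
    (h2 : Module.Finite R (H I 1 (M ⧸ Q2))) : Module.Finite R (H I 1 (M ⧸ (Q1 ⊓ Q2))) := by
  let φ : (M ⧸ (Q1 ⊓ Q2)) →ₗ[R] (M ⧸ Q1) × (M ⧸ Q2) :=
    (Q1 ⊓ Q2).liftQ (Q1.mkQ.prod Q2.mkQ) (by
      rw [LinearMap.ker_prod, Submodule.ker_mkQ, Submodule.ker_mkQ])
  have hφ : Function.Injective φ := by
    rw [← LinearMap.ker_eq_bot]
    apply Submodule.ker_liftQ_eq_bot
    rw [LinearMap.ker_prod, Submodule.ker_mkQ, Submodule.ker_mkQ]
  exact finite_H1_of_injective I φ hφ (finite_H1_prod I h1 h2)

/-- the main criterion. -/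
theorem finite_H1_of_ass (I : Ideal R) (M : Type u) [AddCommGroup M] [Module R M]
    [Module.Finite R M]
    (h : ∀ p : Ideal R, p ∈ associatedPrimes R M → ¬ I ≤ p → Module.Finite R (H I 1 (R ⧸ p))) :
    Module.Finite R (H I 1 M) := by
  classical
  haveI : IsNoetherian R M := isNoetherian_of_isNoetherianRing_of_finite R M
  obtain ⟨t, ht⟩ := Submodule.IsLasker.exists_isMinimalPrimaryDecomposition (Submodule.isLasker R M)
    (⊥ : Submodule R M)
  have hQ : ∀ Q ∈ t, Module.Finite R (H I 1 (M ⧸ Q)) := by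
    intro Q hQt
    refine finite_H1_quot_primary I M Q (ht.primary hQt) (fun hIp => ?_)
    exact h _ (ht.mem_associatedPrimes hQt) hIp
  have key : ∀ s : Finset (Submodule R M), s ⊆ t → Module.Finite R (H I 1 (M ⧸ s.inf id)) := by
    intro s
    induction s using Finset.induction_on with
    | empty =>
      intro _
      haveI : Subsingleton (M ⧸ (∅ : Finset (Submodule R M)).inf id) := by
        rw [Finset.inf_empty]
        exact Submodule.Quotient.subsingleton_iff.mpr rfl
      exact finite_H1_of_subsingleton I _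
    | insert Q s hQs ih =>
      intro hsub
      refine finite_H1_quot_congr I _ (Q ⊓ s.inf id) (by rw [Finset.inf_insert]; rfl) ?_
      exact finite_H1_quot_inf I M Q (s.inf id) (hQ Q (hsub (Finset.mem_insert_self Q s)))
        (ih (fun x hx => hsub (Finset.mem_insert_of_mem hx)))
  have h1 := key t (Finset.Subset.refl t)
  have h2 : Module.Finite R (H I 1 (M ⧸ (⊥ : Submodule R M))) :=
    finite_H1_quot_congr I _ _ ht.inf_eq.symm h1
  haveI : Module.Finite R (M ⧸ (⊥ : Submodule R M)) := inferInstance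
  refine finite_H1_of_injective I (⊥ : Submodule R M).mkQ ?_ h2
  rw [← LinearMap.ker_eq_bot, Submodule.ker_mkQ]

/-- S1763. -/
theorem finite_H1_iff_ass (I : Ideal R) (M : Type u) [AddCommGroup M] [Module R M]
    [Module.Finite R M] :
    Module.Finite R (LocCoh.H I 1 M) ↔ ∀ p : Ideal R, p ∈ associatedPrimes R M → ¬ I ≤ p →
      Module.Finite R (LocCoh.H I 1 (R ⧸ p)) := by
  constructor
  · intro hF p hp _
    obtain ⟨_, ι, hι⟩ := (isAssociatedPrime_iff_exists_injective_linearMap p M).mp hp
    exact finite_H1_of_injective I ι hι hF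
  · exact finite_H1_of_ass I M

end Groth.Agent.H8.H1Ass
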