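import Mathlib
import Groth.Prelude.Def_Wider
import Groth.Prelude.Def_ARSys
import Groth.Agent.Lib.helper17.ARSysBasic
import Groth.Agent.Lib.helper8.LCArt

/-!
# Mittag-Leffler for inverse systems of Artinian modules (helper8)
-/

universe u

namespace Groth.Agent.H8.LCArt

open CategoryTheory CategoryTheory.Limits Opposite Groth.Agent.Lib.helper17.ARSysBasic

variable {A : Type u} [CommRing A]

instance wellFoundedLT_subobject (M : ModuleCat.{u} A) [IsArtinian A M] :
    WellFoundedLT (Subobject M) :=
  (ModuleCat.subobjectModule M).toOrderEmbedding.wellFoundedLT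

/-- an inverse system of Artinian modules satisfies the Mittag-Leffler condition. -/
theorem isML_of_isArtinian (X : ARSys.PS (ModuleCat.{u} A))
    (h : ∀ n : ℕ, IsArtinian A (X.obj (op n))) : ARSys.IsML X := by
  intro n
  haveI := h n
  let F : ℕ →o (Subobject (X.obj (op n)))ᵒᵈ :=
    ⟨fun s => OrderDual.toDual (imageSubobject (ARSys.shiftMap X s n)), fun s t hst => by
      have := imageSubobject_tr_le X (Nat.le_add_right n s) (Nat.add_le_add_left hst n)
      exact this⟩
  obtain ⟨r, hr⟩ := WellFoundedGT.monotone_chain_condition F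
  refine ⟨r, fun s hs => ?_⟩
  exact OrderDual.toDual.injective (hr s hs).symm

/-- the inverse system `H^i_m(M_n)` is Mittag-Leffler (`m` maximal, `M_n` finitely generated). -/
theorem isML_localCohomology [IsNoetherianRing A] (m : Ideal A) [m.IsMaximal]
    (Msys : ℕᵒᵖ ⥤ ModuleCat.{u} A) (hfin : ∀ n : ℕᵒᵖ, Module.Finite A (Msys.obj n)) (i : ℕ) :
    ARSys.IsML (Msys ⋙ localCohomology m i) := by
  apply isML_of_isArtinian
  intro n
  haveI := hfin (op n)
  exact isArtinian_H_of_isMaximal m i (Msys.obj (op n))

end Groth.Agent.H8.LCArt
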