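import Mathlib
import Groth.Prelude.Def_CAlg
import Groth.Agent.Lib.helper9.Depth11
import Groth.Agent.Lib.helper9.Depth24
import Groth.Agent.S0341

/-!
# Liaison, part A (helper8): associated primes of Cohen–Macaulay quotients, geometric linkage
-/

universe u

set_option linter.unusedSectionVars false

namespace Groth.Agent.H8.Liaison

open LocCoh IsLocalRing Groth.Agent.Lib.helper9.Depth

/-- a Gorenstein ring is Cohen–Macaulay. -/
theorem isCohenMacaulayRing_of_isGorensteinRing (A : Type u) [CommRing A]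
    [LocCoh.IsGorensteinRing A] : LocCoh.IsCohenMacaulayRing A :=
  { isCohenMacaulayLocalRing_localization := fun p _ => by
      haveI := LocCoh.IsGorensteinRing.isGorensteinLocalRing_localization p
      exact Groth.Agent.S0341.result _ }

/-- If `R/𝔠` is a Cohen–Macaulay ring, every associated prime of `R/𝔠` is minimal over `𝔠`. -/
theorem mem_minimalPrimes_of_mem_associatedPrimes_quotient {R : Type u} [CommRing R]
    [IsNoetherianRing R] (𝔠 : Ideal R) [hCM : LocCoh.IsCohenMacaulayRing (R ⧸ 𝔠)] {P : Ideal R}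
    (hP : P ∈ associatedPrimes R (R ⧸ 𝔠)) : P ∈ 𝔠.minimalPrimes := by
  haveI hPp : P.IsPrime := hP.isPrime
  have hann : Module.annihilator R (R ⧸ 𝔠) = 𝔠 := Ideal.annihilator_quotient
  have h𝔠P : 𝔠 ≤ P := by
    have := hP.annihilator_le
    rwa [Submodule.annihilator_top, hann] at this
  -- the prime of `R/𝔠`
  let Pb : Ideal (R ⧸ 𝔠) := P.map (Ideal.Quotient.mk 𝔠)
  have hcomap : Pb.comap (algebraMap R (R ⧸ 𝔠)) = P := by
    show (P.map (Ideal.Quotient.mk 𝔠)).comap (Ideal.Quotient.mk 𝔠) = P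
    rw [Ideal.comap_map_of_surjective _ Ideal.Quotient.mk_surjective]
    rw [sup_eq_left]
    rw [← RingHom.ker_eq_comap_bot, Ideal.mk_ker]
    exact h𝔠P
  haveI hPb : Pb.IsPrime := by
    apply Ideal.map_isPrime_of_surjective Ideal.Quotient.mk_surjective
    rw [Ideal.mk_ker]; exact h𝔠P
  have hsurj : Function.Surjective (algebraMap R (R ⧸ 𝔠)) := Ideal.Quotient.mk_surjective
  obtain ⟨h1, h2⟩ := depth_supportDim_localization_of_surjective (R := R) (S := R ⧸ 𝔠)
    (M := R ⧸ 𝔠) hsurj Pb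
  have hd0 : depth (Localization.AtPrime (Pb.comap (algebraMap R (R ⧸ 𝔠))))
      (LocalizedModule (Pb.comap (algebraMap R (R ⧸ 𝔠))).primeCompl (R ⧸ 𝔠)) = 0 := by
    rw [depth_localization_eq_zero_iff, hcomap]
    exact hP
  haveI hloc : LocCoh.IsCohenMacaulayLocalRing (Localization.AtPrime Pb) :=
    hCM.isCohenMacaulayLocalRing_localization Pb
  have hdim0 : Module.supportDim (Localization.AtPrime (Pb.comap (algebraMap R (R ⧸ 𝔠))))
      (LocalizedModule (Pb.comap (algebraMap R (R ⧸ 𝔠))).primeCompl (R ⧸ 𝔠)) ≤ 0 := by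
    rw [h2, Module.supportDim_eq_of_equiv (localizedModuleSelfEquiv Pb),
      hloc.supportDim_eq_depth, ← depth_localizedModule_self, ← h1, hd0]
    rfl
  have hle : Module.annihilator R (R ⧸ 𝔠) ≤ Pb.comap (algebraMap R (R ⧸ 𝔠)) := by
    rw [hcomap, hann]; exact h𝔠P
  have := (supportDim_localization_le_zero_iff (Pb.comap (algebraMap R (R ⧸ 𝔠)))
    (R ⧸ 𝔠) hle).mp hdim0
  rwa [hcomap, hann] at this

/-- Directly linked ideals without common associated primes are geometrically linked. -/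
theorem inf_eq_of_linked {R : Type u} [CommRing R] [IsNoetherianRing R] (𝔠 I J : Ideal R)
    [LocCoh.IsCohenMacaulayRing (R ⧸ 𝔠)]
    (hIJ : 𝔠.colon (I : Set R) = J) (hJI : 𝔠.colon (J : Set R) = I)
    (hdisj : Disjoint (associatedPrimes R (R ⧸ I)) (associatedPrimes R (R ⧸ J))) :
    I ⊓ J = 𝔠 := by
  have h𝔠I : 𝔠 ≤ I := by
    rw [← hJI]
    intro x hx
    rw [Submodule.mem_colon]
    intro y _
    exact 𝔠.mul_mem_right _ hx
  have h𝔠J : 𝔠 ≤ J := by
    rw [← hIJ]
    intro x hx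
    rw [Submodule.mem_colon]
    intro y _
    exact 𝔠.mul_mem_right _ hx
  apply le_antisymm _ (le_inf h𝔠I h𝔠J)
  intro x hx
  by_contra hx𝔠
  have hne : (Ideal.Quotient.mk 𝔠 x : R ⧸ 𝔠) ≠ 0 := by
    rwa [Ne, Ideal.Quotient.eq_zero_iff_mem]
  obtain ⟨P, hP, hle⟩ := exists_le_isAssociatedPrime_of_isNoetherianRing R
    (Ideal.Quotient.mk 𝔠 x : R ⧸ 𝔠) hne
  have hPmin : P ∈ 𝔠.minimalPrimes :=
    mem_minimalPrimes_of_mem_associatedPrimes_quotient 𝔠 hP
  haveI := hP.isPrime
  have hannx : ∀ a : R, a * x ∈ 𝔠 → a ∈ P := by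
    intro a ha
    apply hle
    rw [Submodule.mem_colon_singleton, Submodule.mem_bot]
    show a • (Ideal.Quotient.mk 𝔠 x) = 0
    rw [Algebra.smul_def, Ideal.Quotient.algebraMap_eq, ← map_mul, Ideal.Quotient.eq_zero_iff_mem]
    exact ha
  -- `I ≤ P` and `J ≤ P` would make `P` a common associated prime
  have hIP : ¬ (I ≤ P ∧ J ≤ P) := by
    rintro ⟨h1, h2⟩
    have hPI : P ∈ associatedPrimes R (R ⧸ I) := by
      have hmin : P ∈ I.minimalPrimes :=
        ⟨⟨inferInstance, h1⟩, fun Q hQ hQP => hPmin.2 ⟨hQ.1, h𝔠I.trans hQ.2⟩ hQP⟩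
      have := Module.associatedPrimes.minimalPrimes_annihilator_subset_associatedPrimes R (R ⧸ I)
      rw [Ideal.annihilator_quotient] at this
      exact this hmin
    have hPJ : P ∈ associatedPrimes R (R ⧸ J) := by
      have hmin : P ∈ J.minimalPrimes :=
        ⟨⟨inferInstance, h2⟩, fun Q hQ hQP => hPmin.2 ⟨hQ.1, h𝔠J.trans hQ.2⟩ hQP⟩
      have := Module.associatedPrimes.minimalPrimes_annihilator_subset_associatedPrimes R (R ⧸ J)
      rw [Ideal.annihilator_quotient] at this
      exact this hmin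
    exact (Set.disjoint_left.mp hdisj hPI) hPJ
  apply hIP
  constructor
  · intro a ha
    apply hannx
    have hxJ : x ∈ 𝔠.colon (I : Set R) := by rw [hIJ]; exact hx.2
    rw [Submodule.mem_colon] at hxJ
    have := hxJ a ha
    rwa [smul_eq_mul, mul_comm] at this
  · intro b hb
    apply hannx
    have hxI : x ∈ 𝔠.colon (J : Set R) := by rw [hJI]; exact hx.1
    rw [Submodule.mem_colon] at hxI
    have := hxI b hb
    rwa [smul_eq_mul, mul_comm] at this

end Groth.Agent.H8.Liaison
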