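import Mathlib
import Groth.Prelude.Def_CAlg
import Groth.Agent.Lib.helper8.LCGorC
import Groth.Agent.Lib.helper8.CanonI

/-!
# Liaison, part B (helper8): double annihilators in Artinian Gorenstein local rings
-/

universe u

set_option linter.unusedSectionVars false

namespace Groth.Agent.H8.Liaison

open LocCoh IsLocalRing InjHull Groth.Agent.H21.LC Groth.Agent.H8.Matlis

variable (B : Type u) [CommRing B] [LocCoh.IsGorensteinLocalRing B]

/-- `Hom(B/𝔞, B) ≃ ann 𝔞`. -/
noncomputable def homQuotEquivAnn (𝔞 : Ideal B) :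
    ((B ⧸ 𝔞) →ₗ[B] B) ≃ₗ[B] (Submodule.annihilator 𝔞 : Ideal B) where
  toFun φ := ⟨φ (Ideal.Quotient.mk 𝔞 1), by
    rw [Submodule.mem_annihilator]
    intro a ha
    have h1 : φ (Ideal.Quotient.mk 𝔞 1) • a = φ (a • Ideal.Quotient.mk 𝔞 1) := by
      rw [map_smul, smul_eq_mul, smul_eq_mul, mul_comm]
    have h2 : a • (Ideal.Quotient.mk 𝔞 1 : B ⧸ 𝔞) = 0 := by
      rw [Algebra.smul_def, Ideal.Quotient.algebraMap_eq, map_one, mul_one,
        Ideal.Quotient.eq_zero_iff_mem]
      exact ha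
    rw [h1, h2, map_zero]⟩
  map_add' φ ψ := rfl
  map_smul' r φ := rfl
  invFun b := Submodule.liftQ 𝔞 (LinearMap.toSpanSingleton B B b.1) (by
    intro a ha
    rw [LinearMap.mem_ker, LinearMap.toSpanSingleton_apply, smul_eq_mul, mul_comm]
    exact (Submodule.mem_annihilator.mp b.2) a ha)
  left_inv φ := by
    ext
    simp [LinearMap.toSpanSingleton_apply]
  right_inv b := by
    ext
    show (Submodule.liftQ 𝔞 (LinearMap.toSpanSingleton B B b.1) _)
      (Submodule.Quotient.mk (1 : B)) = b.1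
    rw [Submodule.liftQ_apply, LinearMap.toSpanSingleton_apply, one_smul]

/-- In an Artinian Gorenstein local ring, `length (ann 𝔞) = length (B/𝔞)`. -/
theorem length_annihilator (h0 : ringKrullDim B = 0) (𝔞 : Ideal B) :
    Module.length B (Submodule.annihilator 𝔞 : Ideal B) = Module.length B (B ⧸ 𝔞) := by
  haveI : IsArtinianRing B := by
    rw [isArtinianRing_iff_krullDimLE_zero, Ring.krullDimLE_iff, h0]; rfl
  obtain ⟨g, hg⟩ := Groth.Agent.H8.LCGor.exists_isInjectiveHull_H_of_gorenstein B 0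
    (by rw [h0]; rfl)
  have hT := isPowerTorsion_of_isArtinian (R := B) B
  have htop : DRing.torsionSub (maximalIdeal B) B = ⊤ := by
    rw [eq_top_iff]
    intro y _
    exact hT y
  have e0 : H (maximalIdeal B) 0 B ≃ₗ[B] B :=
    (H0Equiv (maximalIdeal B) (ModuleCat.of B B)).trans (LinearEquiv.ofTop _ htop)
  have hfl : IsFiniteLength B (B ⧸ 𝔞) := by
    rw [isFiniteLength_iff_isNoetherian_isArtinian]
    exact ⟨inferInstance, inferInstance⟩
  rw [← (homQuotEquivAnn B 𝔞).length_eq, ← length_hom g hg (B ⧸ 𝔞) hfl]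
  exact (LinearEquiv.congrRight e0).symm.length_eq

/-- In an Artinian Gorenstein local ring, `ann (ann 𝔞) = 𝔞`. -/
theorem annihilator_annihilator (h0 : ringKrullDim B = 0) (𝔞 : Ideal B) :
    (Submodule.annihilator (Submodule.annihilator 𝔞 : Ideal B) : Ideal B) = 𝔞 := by
  haveI : IsArtinianRing B := by
    rw [isArtinianRing_iff_krullDimLE_zero, Ring.krullDimLE_iff, h0]; rfl
  have hflB : Module.length B B ≠ ⊤ := by
    rw [Module.length_ne_top_iff, isFiniteLength_iff_isNoetherian_isArtinian]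
    exact ⟨inferInstance, inferInstance⟩
  set 𝔞' : Ideal B := Submodule.annihilator 𝔞 with h𝔞'
  have hle : 𝔞 ≤ Submodule.annihilator 𝔞' := by
    intro a ha
    rw [Submodule.mem_annihilator]
    intro b hb
    rw [smul_eq_mul, mul_comm]
    exact (Submodule.mem_annihilator.mp hb) a ha
  have hadd : ∀ 𝔟 : Ideal B, Module.length B B = Module.length B 𝔟 + Module.length B (B ⧸ 𝔟) :=
    fun 𝔟 => Module.length_eq_add_of_exact 𝔟.subtype 𝔟.mkQ 𝔟.injective_subtype
      𝔟.mkQ_surjective (LinearMap.exact_subtype_mkQ 𝔟)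
  have h1 := length_annihilator B h0 𝔞
  have h2 := length_annihilator B h0 𝔞'
  have h3 := hadd 𝔞
  have h4 := hadd 𝔞'
  -- lengths
  have hlen : Module.length B (Submodule.annihilator 𝔞' : Ideal B) ≤ Module.length B 𝔞 := by
    rw [h2]
    rw [← h𝔞'] at h1
    rw [h1] at h4
    -- h3 : L = l(𝔞) + l(B/𝔞); h4 : L = l(B/𝔞) + l(B/𝔞')
    have hne : Module.length B (B ⧸ 𝔞) ≠ ⊤ := by
      intro h
      rw [h, add_top] at h3
      exact hflB h3
    have : Module.length B (B ⧸ 𝔞') + Module.length B (B ⧸ 𝔞) =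
        Module.length B 𝔞 + Module.length B (B ⧸ 𝔞) := by
      rw [← h3, h4, add_comm]
    exact le_of_eq (ENat.add_left_injective_of_ne_top hne this)
  have hfin𝔞 : Module.length B 𝔞 ≠ ⊤ := by
    intro h
    rw [h, top_add] at h3
    exact hflB h3
  have hsurj := surjective_of_injective_of_length_le (Submodule.inclusion hle)
    (Submodule.inclusion_injective hle) hfin𝔞 hlen
  apply le_antisymm _ hle
  intro x hx
  obtain ⟨⟨a, ha⟩, h⟩ := hsurj ⟨x, hx⟩
  have : a = x := congrArg Subtype.val h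
  rw [← this]; exact ha

end Groth.Agent.H8.Liaison
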