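import Mathlib
import Groth.Prelude.Def_CAlg
import Groth.Agent.Lib.helper8.LiaisonA
import Groth.Agent.Lib.helper8.LiaisonB

/-!
# Liaison, part C (helper8): `𝔠 : (𝔠 : I) = I` for unmixed `I` over a Gorenstein quotient
-/

universe u

set_option linter.unusedSectionVars false

namespace Groth.Agent.H8.Liaison

open LocCoh IsLocalRing

section

variable {R : Type u} [CommRing R] (𝔠 P : Ideal R)

theorem comap_map_mk_eq (h : 𝔠 ≤ P) :
    (P.map (Ideal.Quotient.mk 𝔠)).comap (Ideal.Quotient.mk 𝔠) = P := by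
  rw [Ideal.comap_map_of_surjective _ Ideal.Quotient.mk_surjective, sup_eq_left,
    ← RingHom.ker_eq_comap_bot, Ideal.mk_ker]
  exact h

theorem map_mk_isPrime [P.IsPrime] (h : 𝔠 ≤ P) : (P.map (Ideal.Quotient.mk 𝔠)).IsPrime := by
  apply Ideal.map_isPrime_of_surjective Ideal.Quotient.mk_surjective
  rw [Ideal.mk_ker]; exact h

theorem mk_mem_map_iff (h : 𝔠 ≤ P) (t : R) :
    Ideal.Quotient.mk 𝔠 t ∈ P.map (Ideal.Quotient.mk 𝔠) ↔ t ∈ P := by
  rw [← Ideal.mem_comap, comap_map_mk_eq 𝔠 P h]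

theorem map_mk_mem_minimalPrimes [P.IsPrime] (hP : P ∈ 𝔠.minimalPrimes) :
    P.map (Ideal.Quotient.mk 𝔠) ∈ minimalPrimes (R ⧸ 𝔠) := by
  have h := hP.1.2
  haveI := map_mk_isPrime 𝔠 P h
  refine ⟨⟨inferInstance, bot_le⟩, fun Q hQ hQP => ?_⟩
  haveI := hQ.1
  have h1 : Q.comap (Ideal.Quotient.mk 𝔠) ≤ P := by
    rw [← comap_map_mk_eq 𝔠 P h]
    exact Ideal.comap_mono hQP
  have h2 : 𝔠 ≤ Q.comap (Ideal.Quotient.mk 𝔠) := by
    intro r hr
    rw [Ideal.mem_comap, Ideal.Quotient.eq_zero_iff_mem.mpr hr]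
    exact Q.zero_mem
  have h3 := hP.2 ⟨inferInstance, h2⟩ h1
  calc P.map (Ideal.Quotient.mk 𝔠) ≤ (Q.comap (Ideal.Quotient.mk 𝔠)).map (Ideal.Quotient.mk 𝔠) :=
        Ideal.map_mono h3
    _ = Q := Ideal.map_comap_of_surjective _ Ideal.Quotient.mk_surjective Q

end

set_option maxHeartbeats 800000 in
/-- `𝔠 : (𝔠 : I) ≤ I` when `R/𝔠` is Gorenstein and all associated primes of `R/I` are minimal
over `𝔠`. -/
theorem colon_colon_le {R : Type u} [CommRing R] [IsNoetherianRing R] (𝔠 I : Ideal R)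
    [hG : LocCoh.IsGorensteinRing (R ⧸ 𝔠)] (h𝔠I : 𝔠 ≤ I)
    (hAss : ∀ P ∈ associatedPrimes R (R ⧸ I), P ∈ 𝔠.minimalPrimes) :
    𝔠.colon ((𝔠.colon (I : Set R) : Ideal R) : Set R) ≤ I := by
  classical
  intro x hx
  by_contra hxI
  have hne : (Ideal.Quotient.mk I x : R ⧸ I) ≠ 0 := by
    rwa [Ne, Ideal.Quotient.eq_zero_iff_mem]
  obtain ⟨P, hP, hle⟩ := exists_le_isAssociatedPrime_of_isNoetherianRing R
    (Ideal.Quotient.mk I x : R ⧸ I) hne
  haveI hPp : P.IsPrime := hP.isPrime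
  have hannx : ∀ a : R, a * x ∈ I → a ∈ P := by
    intro a ha
    apply hle
    rw [Submodule.mem_colon_singleton, Submodule.mem_bot]
    show a • (Ideal.Quotient.mk I x) = 0
    rw [Algebra.smul_def, Ideal.Quotient.algebraMap_eq, ← map_mul, Ideal.Quotient.eq_zero_iff_mem]
    exact ha
  have hPmin := hAss P hP
  have h𝔠P : 𝔠 ≤ P := hPmin.1.2
  set Pb : Ideal (R ⧸ 𝔠) := P.map (Ideal.Quotient.mk 𝔠) with hPb
  haveI : Pb.IsPrime := map_mk_isPrime 𝔠 P h𝔠P
  let B := Localization.AtPrime Pb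
  haveI : LocCoh.IsGorensteinLocalRing B := hG.isGorensteinLocalRing_localization Pb
  have h0 : ringKrullDim B = 0 := by
    rw [IsLocalization.AtPrime.ringKrullDim_eq_height Pb B,
      Ideal.height_eq_zero_iff.mpr (map_mk_mem_minimalPrimes 𝔠 P hPmin)]
    rfl
  let alg : (R ⧸ 𝔠) →+* B := algebraMap (R ⧸ 𝔠) B
  let ψ : R →+* B := alg.comp (Ideal.Quotient.mk 𝔠)
  -- units
  have hunit : ∀ t : R, t ∉ P → IsUnit (ψ t) := by
    intro t ht
    exact IsLocalization.map_units B (⟨Ideal.Quotient.mk 𝔠 t, by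
      show Ideal.Quotient.mk 𝔠 t ∉ Pb
      rw [hPb, mk_mem_map_iff 𝔠 P h𝔠P]; exact ht⟩ : Pb.primeCompl)
  -- kernel
  have hker : ∀ r : R, ψ r = 0 → ∃ t : R, t ∉ P ∧ t * r ∈ 𝔠 := by
    intro r hr
    obtain ⟨⟨m, hm⟩, hmr⟩ := (IsLocalization.map_eq_zero_iff Pb.primeCompl B _).mp hr
    obtain ⟨t, rfl⟩ := Ideal.Quotient.mk_surjective m
    refine ⟨t, ?_, ?_⟩
    · intro ht
      apply hm
      show Ideal.Quotient.mk 𝔠 t ∈ Pb
      rw [hPb, mk_mem_map_iff 𝔠 P h𝔠P]; exact ht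
    · rw [← Ideal.Quotient.eq_zero_iff_mem, map_mul]
      exact hmr
  set 𝔞 : Ideal B := I.map ψ with h𝔞
  -- `ψ x ∈ ann (ann 𝔞)`
  have hxann : ψ x ∈ (Submodule.annihilator (Submodule.annihilator 𝔞 : Ideal B) : Ideal B) := by
    rw [Submodule.mem_annihilator]
    intro y hy
    rw [Submodule.mem_annihilator] at hy
    obtain ⟨⟨a', ⟨s, hs⟩⟩, hys⟩ := IsLocalization.surj Pb.primeCompl y
    simp only at hys
    obtain ⟨y', rfl⟩ := Ideal.Quotient.mk_surjective a'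
    obtain ⟨s', rfl⟩ := Ideal.Quotient.mk_surjective s
    have hs'P : s' ∉ P := by
      intro h
      apply hs
      show Ideal.Quotient.mk 𝔠 s' ∈ Pb
      rw [hPb, mk_mem_map_iff 𝔠 P h𝔠P]; exact h
    have hψy' : ψ y' = y * ψ s' := hys.symm
    -- for each `i ∈ I`, some `t ∉ P` with `t * y' * i ∈ 𝔠`
    have hi : ∀ i ∈ I, ∃ t : R, t ∉ P ∧ t * (y' * i) ∈ 𝔠 := by
      intro i hiI
      apply hker
      have h1 : y * ψ i = 0 := by
        have := hy (ψ i) (Ideal.mem_map_of_mem ψ hiI)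
        rwa [smul_eq_mul] at this
      rw [map_mul, hψy']
      calc y * ψ s' * ψ i = (y * ψ i) * ψ s' := by ring
        _ = 0 := by rw [h1, zero_mul]
    obtain ⟨G, hG⟩ := (IsNoetherian.noetherian I : I.FG)
    have hGI : ∀ i ∈ G, i ∈ I := fun i hi' => hG ▸ Ideal.subset_span hi'
    choose! τ hτP hτ using hi
    let t : R := ∏ i ∈ G, τ i
    have htP : t ∉ P := by
      intro h
      obtain ⟨i, hiG, hiP⟩ := (Ideal.IsPrime.prod_mem_iff).mp h
      exact hτP i (hGI i hiG) hiP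
    have hspan : ∀ i ∈ Submodule.span R (G : Set R), t * y' * i ∈ 𝔠 := by
      intro i hiS
      induction hiS using Submodule.span_induction with
      | mem j hj =>
        obtain ⟨u, hu⟩ := Finset.dvd_prod_of_mem τ hj
        have : t * y' * j = u * (τ j * (y' * j)) := by
          show (∏ i ∈ G, τ i) * y' * j = _
          rw [hu]; ring
        rw [this]
        exact 𝔠.mul_mem_left _ (hτ j (hGI j hj))
      | zero => rw [mul_zero]; exact 𝔠.zero_mem
      | add a b _ _ ha hb => rw [mul_add]; exact 𝔠.add_mem ha hb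
      | smul r a _ ha =>
        rw [smul_eq_mul]
        have : t * y' * (r * a) = r * (t * y' * a) := by ring
        rw [this]; exact 𝔠.mul_mem_left _ ha
    have hty : t * y' ∈ 𝔠.colon (I : Set R) := by
      rw [Submodule.mem_colon]
      intro i hiI
      rw [smul_eq_mul]
      apply hspan
      rw [hG]; exact hiI
    have hxty : x * (t * y') ∈ 𝔠 := by
      rw [Submodule.mem_colon] at hx
      have := hx (t * y') hty
      rwa [smul_eq_mul] at this
    have h2 : ψ x * ψ t * (y * ψ s') = 0 := by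
      rw [← hψy', ← map_mul, ← map_mul]
      show alg (Ideal.Quotient.mk 𝔠 (x * t * y')) = 0
      have : x * t * y' = x * (t * y') := by ring
      rw [this, Ideal.Quotient.eq_zero_iff_mem.mpr hxty, map_zero]
    have h3 : (ψ x * y) * (ψ t * ψ s') = 0 := by
      calc (ψ x * y) * (ψ t * ψ s') = ψ x * ψ t * (y * ψ s') := by ring
        _ = 0 := h2
    have hu : IsUnit (ψ t * ψ s') := (hunit t htP).mul (hunit s' hs'P)
    rw [smul_eq_mul]
    exact (hu.mul_left_eq_zero).mp h3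
  rw [annihilator_annihilator B h0 𝔞] at hxann
  -- so `s x ∈ I` for some `s ∉ P`
  have h𝔞' : 𝔞 = (I.map (Ideal.Quotient.mk 𝔠)).map alg := by
    rw [h𝔞, Ideal.map_map]
  rw [h𝔞', IsLocalization.mem_map_algebraMap_iff Pb.primeCompl B] at hxann
  obtain ⟨⟨⟨ā, hā⟩, ⟨m, hm⟩⟩, hxm⟩ := hxann
  simp only at hxm
  obtain ⟨a, haI, rfl⟩ := (Ideal.mem_map_iff_of_surjective _ Ideal.Quotient.mk_surjective).mp hā
  obtain ⟨s, rfl⟩ := Ideal.Quotient.mk_surjective m
  have hsP : s ∉ P := by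
    intro h
    apply hm
    show Ideal.Quotient.mk 𝔠 s ∈ Pb
    rw [hPb, mk_mem_map_iff 𝔠 P h𝔠P]; exact h
  have hz : ψ (x * s - a) = 0 := by
    rw [map_sub, map_mul]
    show ψ x * alg (Ideal.Quotient.mk 𝔠 s) - alg (Ideal.Quotient.mk 𝔠 a) = 0
    rw [hxm, sub_self]
  obtain ⟨t', ht'P, ht'⟩ := hker _ hz
  have hmem : (t' * s) * x ∈ I := by
    have h1 : t' * (x * s - a) ∈ I := h𝔠I ht'
    have h2 : (t' * s) * x = t' * (x * s - a) + t' * a := by ring
    rw [h2]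
    exact I.add_mem h1 (I.mul_mem_left _ haI)
  have := hannx _ hmem
  exact (hPp.mem_or_mem this).elim ht'P hsP

end Groth.Agent.H8.Liaison
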