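import Mathlib
import Groth.Prelude.Def_CAlg
import Groth.Prelude.Def_GrSyz
import Groth.Agent.Lib.helper8.LiaisonC
import Groth.Agent.Lib.helper8.LDualE

/-!
# Liaison, part D (helper8): unmixedness of homogeneous Cohen–Macaulay quotients of polynomial rings
-/

universe u v

set_option linter.unusedSectionVars false

namespace Groth.Agent.H8.Liaison

open LocCoh IsLocalRing Groth.Agent.Lib.helper9.Depth

section Graded

variable (K : Type u) [Field K] (σ : Type v)

/-- a homogeneous proper ideal for the standard grading lies in the irrelevant ideal. -/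
theorem le_ker_constantCoeff_of_isHomogeneous (P : Ideal (MvPolynomial σ K)) (hP : P ≠ ⊤)
    (hh : P.IsHomogeneous (GrSyz.stdGr K σ)) :
    P ≤ RingHom.ker (MvPolynomial.constantCoeff : MvPolynomial σ K →+* K) := by
  classical
  intro f hf
  rw [RingHom.mem_ker, MvPolynomial.constantCoeff_eq]
  by_contra hne
  have h0 : MvPolynomial.weightedHomogeneousComponent (fun _ : σ => (1 : ℤ)) 0 f ∈ P := by
    have := (MvPolynomial.mem_iff_weightedHomogeneousComponent_mem (R := K)
      (w := fun _ : σ => (1 : ℤ)) (I := P) hh f).mp hf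
    exact this 0
  have h1 : MvPolynomial.weightedHomogeneousComponent (fun _ : σ => (1 : ℤ)) 0 f =
      MvPolynomial.C (MvPolynomial.coeff 0 f) := by
    ext d
    rw [MvPolynomial.coeff_weightedHomogeneousComponent, MvPolynomial.coeff_C]
    by_cases hd : d = 0
    · subst hd
      simp
    · rw [if_neg (Ne.symm hd), if_neg]
      intro hw
      apply hd
      have hsum : Finsupp.weight (fun _ : σ => (1 : ℤ)) d = ∑ i ∈ d.support, (d i : ℤ) := by
        simp [Finsupp.weight, Finsupp.linearCombination_apply, Finsupp.sum]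
      rw [hsum] at hw
      have := (Finset.sum_eq_zero_iff_of_nonneg (fun i _ => by positivity)).mp hw
      ext i
      by_cases hi : i ∈ d.support
      · have := this i hi
        simpa using this
      · simpa using hi
  rw [h1] at h0
  apply hP
  rw [Ideal.eq_top_iff_one]
  have : (1 : MvPolynomial σ K) = MvPolynomial.C ((MvPolynomial.coeff 0 f)⁻¹) *
      MvPolynomial.C (MvPolynomial.coeff 0 f) := by
    rw [← map_mul, inv_mul_cancel₀ hne, map_one]
  rw [this]
  exact P.mul_mem_left _ h0

/-- minimal primes over a homogeneous ideal lie in the irrelevant ideal. -/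
theorem le_ker_constantCoeff_of_mem_minimalPrimes (𝔠 P : Ideal (MvPolynomial σ K))
    (h𝔠 : 𝔠.IsHomogeneous (GrSyz.stdGr K σ)) (hP : P ∈ 𝔠.minimalPrimes) :
    P ≤ RingHom.ker (MvPolynomial.constantCoeff : MvPolynomial σ K →+* K) := by
  classical
  haveI := hP.1.1
  have hcore : (P.homogeneousCore (GrSyz.stdGr K σ)).toIdeal.IsPrime :=
    Ideal.IsPrime.homogeneousCore hP.1.1
  have h1 : (P.homogeneousCore (GrSyz.stdGr K σ)).toIdeal ≤ P :=
    Ideal.toIdeal_homogeneousCore_le _ P
  have h2 : 𝔠 ≤ (P.homogeneousCore (GrSyz.stdGr K σ)).toIdeal := by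
    have := Ideal.homogeneousCore_mono (GrSyz.stdGr K σ) hP.1.2
    have h3 : (𝔠.homogeneousCore (GrSyz.stdGr K σ)).toIdeal = 𝔠 :=
      h𝔠.toIdeal_homogeneousCore_eq_self
    rw [← h3]
    exact this
  have h3 := hP.2 ⟨hcore, h2⟩ h1
  have hhom : P.IsHomogeneous (GrSyz.stdGr K σ) := by
    have : (P.homogeneousCore (GrSyz.stdGr K σ)).toIdeal = P := le_antisymm h1 h3
    rw [← this]
    exact (P.homogeneousCore (GrSyz.stdGr K σ)).isHomogeneous
  exact le_ker_constantCoeff_of_isHomogeneous K σ P (hP.1.1.ne_top) hhom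

end Graded

end Groth.Agent.H8.Liaison
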