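import Mathlib
import Groth.Prelude.Def_CAlg
import Groth.Agent.Lib.helper8.LiaisonD
import Groth.Agent.Lib.helper8.LCNonVanE
import Groth.Agent.Lib.helper9.Depth5

/-!
# Liaison, part E (helper8): associated primes of a CM quotient through a CM vertex have equal
height; associated primes of colon ideals
-/

universe u

set_option linter.unusedSectionVars false

namespace Groth.Agent.H8.Liaison

open LocCoh IsLocalRing Groth.Agent.Lib.helper9.Depth

/-- the key relation: for `P ∈ Ass(R/𝔠)` contained in `m' = mb ∩ R`,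
`dim (R/𝔠)_{m'} + ht P = dim R_{m'}`. -/
theorem supportDim_add_height_eq {R : Type u} [CommRing R] [IsNoetherianRing R]
    (𝔠 : Ideal R) [hCM : LocCoh.IsCohenMacaulayRing (R ⧸ 𝔠)] (mb : Ideal (R ⧸ 𝔠)) [mb.IsPrime]
    [hB : LocCoh.IsCohenMacaulayLocalRing
      (Localization.AtPrime (mb.comap (algebraMap R (R ⧸ 𝔠))))]
    (N : ℕ) (hN : ringKrullDim (Localization.AtPrime (mb.comap (algebraMap R (R ⧸ 𝔠)))) = N)
    {P : Ideal R} (hP : P ∈ associatedPrimes R (R ⧸ 𝔠))
    (hPm : P ≤ mb.comap (algebraMap R (R ⧸ 𝔠))) :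
    Module.supportDim (Localization.AtPrime (mb.comap (algebraMap R (R ⧸ 𝔠))))
      (LocalizedModule (mb.comap (algebraMap R (R ⧸ 𝔠))).primeCompl (R ⧸ 𝔠)) +
      ((P.height : ℕ∞) : WithBot ℕ∞) = N := by
  set m' := mb.comap (algebraMap R (R ⧸ 𝔠)) with hm'
  haveI hPp : P.IsPrime := hP.isPrime
  have hsurj : Function.Surjective (algebraMap R (R ⧸ 𝔠)) := Ideal.Quotient.mk_surjective
  obtain ⟨h1, h2⟩ := depth_supportDim_localization_of_surjective (R := R) (S := R ⧸ 𝔠)
    (M := R ⧸ 𝔠) hsurj mb
  haveI hloc : LocCoh.IsCohenMacaulayLocalRing (Localization.AtPrime mb) :=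
    hCM.isCohenMacaulayLocalRing_localization mb
  have hMB : IsCohenMacaulayModule (Localization.AtPrime m')
      (LocalizedModule m'.primeCompl (R ⧸ 𝔠)) := by
    show Module.supportDim _ _ = _
    rw [h2, h1, Module.supportDim_eq_of_equiv (localizedModuleSelfEquiv mb),
      hloc.supportDim_eq_depth, ← depth_localizedModule_self]
  have hdisj : Disjoint (m'.primeCompl : Set R) (P : Set R) := by
    rw [Set.disjoint_left]
    intro r hr hrP
    exact hr (hPm hrP)
  set 𝔭 : Ideal (Localization.AtPrime m') := P.map (algebraMap R (Localization.AtPrime m'))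
    with h𝔭
  haveI h𝔭p : 𝔭.IsPrime :=
    IsLocalization.isPrime_of_isPrime_disjoint m'.primeCompl _ P hPp hdisj
  have hcomap : 𝔭.comap (algebraMap R (Localization.AtPrime m')) = P :=
    IsLocalization.comap_map_of_isPrime_disjoint m'.primeCompl _ hPp hdisj
  have hass : 𝔭 ∈ associatedPrimes (Localization.AtPrime m')
      (LocalizedModule m'.primeCompl (R ⧸ 𝔠)) := by
    rw [← Module.associatedPrimes.preimage_comap_associatedPrimes_eq_associatedPrimes_of_isLocalizedModule
      m'.primeCompl (Localization.AtPrime m') (LocalizedModule.mkLinearMap m'.primeCompl (R ⧸ 𝔠))]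
    rw [Set.mem_preimage, hcomap]
    exact hP
  have h3 := ringKrullDim_quotient_eq_supportDim_of_isCohenMacaulayModule hMB hass
  have h4 := Groth.Agent.H8.LDual.dim_quotient_add_height_prime (Localization.AtPrime m') N hN 𝔭
  have h5 : 𝔭.height = P.height := IsLocalization.height_map_of_disjoint m'.primeCompl P hdisj
  rw [h3, h5] at h4
  exact h4

/-- associated primes of `R/𝔠` inside the vertex have equal heights. -/
theorem height_eq_of_mem_associatedPrimes {R : Type u} [CommRing R] [IsNoetherianRing R]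
    (𝔠 : Ideal R) [hCM : LocCoh.IsCohenMacaulayRing (R ⧸ 𝔠)] (mb : Ideal (R ⧸ 𝔠)) [mb.IsPrime]
    [hB : LocCoh.IsCohenMacaulayLocalRing
      (Localization.AtPrime (mb.comap (algebraMap R (R ⧸ 𝔠))))]
    {P Q : Ideal R} (hP : P ∈ associatedPrimes R (R ⧸ 𝔠)) (hQ : Q ∈ associatedPrimes R (R ⧸ 𝔠))
    (hPm : P ≤ mb.comap (algebraMap R (R ⧸ 𝔠))) (hQm : Q ≤ mb.comap (algebraMap R (R ⧸ 𝔠))) :
    P.height = Q.height := by
  haveI : IsNoetherianRing (Localization.AtPrime (mb.comap (algebraMap R (R ⧸ 𝔠)))) :=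
    inferInstance
  obtain ⟨N, hN⟩ := Groth.Agent.H8.NonVan.exists_supportDim_eq_nat
    (R := Localization.AtPrime (mb.comap (algebraMap R (R ⧸ 𝔠))))
    (Localization.AtPrime (mb.comap (algebraMap R (R ⧸ 𝔠))))
  rw [Module.supportDim_self_eq_ringKrullDim] at hN
  have h1 := supportDim_add_height_eq 𝔠 mb N hN hP hPm
  have h2 := supportDim_add_height_eq 𝔠 mb N hN hQ hQm
  generalize Module.supportDim (Localization.AtPrime (mb.comap (algebraMap R (R ⧸ 𝔠))))
      (LocalizedModule (mb.comap (algebraMap R (R ⧸ 𝔠))).primeCompl (R ⧸ 𝔠)) = D at h1 h2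
  induction D using WithBot.recBotCoe with
  | bot => rw [WithBot.bot_add] at h1; exact absurd h1 (by simp)
  | coe D =>
    rw [← WithBot.coe_add] at h1 h2
    have h1' : D + P.height = (N : ℕ∞) := by exact_mod_cast h1
    have h2' : D + Q.height = (N : ℕ∞) := by exact_mod_cast h2
    have hD : D ≠ ⊤ := by
      intro h; rw [h, top_add] at h1'; exact absurd h1' (by simp)
    exact ENat.add_right_injective_of_ne_top hD (h1'.trans h2'.symm)

/-- associated primes of `R/(𝔠 : I)` are associated primes of `R/𝔠`. -/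
theorem associatedPrimes_colon_subset {R : Type u} [CommRing R] [IsNoetherianRing R]
    (𝔠 I : Ideal R) :
    associatedPrimes R (R ⧸ 𝔠.colon (I : Set R)) ⊆ associatedPrimes R (R ⧸ 𝔠) := by
  intro P hP
  obtain ⟨hPp, xb, hx⟩ := isAssociatedPrime_iff.mp hP
  obtain ⟨x, rfl⟩ := Ideal.Quotient.mk_surjective xb
  let φ : R →ₗ[R] R ⧸ 𝔠 := (Submodule.mkQ 𝔠) ∘ₗ (LinearMap.mul R R x)
  let N : Submodule R (R ⧸ 𝔠) := Submodule.map φ I
  have hann : Module.annihilator R N = P := by
    ext r
    rw [Module.mem_annihilator, hx, Submodule.mem_colon_singleton, Submodule.mem_bot]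
    have hJ : (r • (Ideal.Quotient.mk (𝔠.colon (I : Set R)) x) = 0) ↔
        r * x ∈ 𝔠.colon (I : Set R) := by
      rw [Algebra.smul_def, Ideal.Quotient.algebraMap_eq, ← map_mul,
        Ideal.Quotient.eq_zero_iff_mem]
    rw [hJ, Submodule.mem_colon]
    constructor
    · intro h i hi
      have := h ⟨φ i, Submodule.mem_map_of_mem hi⟩
      have h2 : r • φ i = 0 := congrArg Subtype.val this
      have h3 : r • φ i = Ideal.Quotient.mk 𝔠 (r * x * i) := by
        show r • (Ideal.Quotient.mk 𝔠 (x * i)) = _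
        rw [Algebra.smul_def, Ideal.Quotient.algebraMap_eq, ← map_mul, mul_assoc]
      rw [h3, Ideal.Quotient.eq_zero_iff_mem] at h2
      rw [smul_eq_mul]; exact h2
    · rintro h ⟨z, hz⟩
      obtain ⟨i, hi, rfl⟩ := Submodule.mem_map.mp hz
      apply Subtype.ext
      show r • φ i = 0
      have h3 : r • φ i = Ideal.Quotient.mk 𝔠 (r * x * i) := by
        show r • (Ideal.Quotient.mk 𝔠 (x * i)) = _
        rw [Algebra.smul_def, Ideal.Quotient.algebraMap_eq, ← map_mul, mul_assoc]
      rw [h3, Ideal.Quotient.eq_zero_iff_mem]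
      have := h i hi
      rwa [smul_eq_mul] at this
  haveI : Module.Finite R N := Module.Finite.of_fg (IsNoetherian.noetherian N)
  have hmin : P ∈ (Module.annihilator R N).minimalPrimes := by
    rw [hann, Ideal.minimalPrimes_eq_subsingleton_self]
    rfl
  have h1 := Module.associatedPrimes.minimalPrimes_annihilator_subset_associatedPrimes R N hmin
  exact associatedPrimes.subset_of_injective (f := N.subtype) N.injective_subtype h1

end Groth.Agent.H8.Liaison
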