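import Mathlib
import Groth.Prelude.Def_CAlg
import Groth.Prelude.Def_Wider
import Groth.Agent.Lib.helper8.LiaisonE
import Groth.Agent.Lib.helper9.Depth8
import Groth.Agent.Lib.helper21.LC9

/-!
# Liaison, part F (helper8): depth of a CM quotient at a maximal vertex; the basic double link
exact sequence and its effect on local cohomology
-/

universe u

set_option linter.unusedSectionVars false

namespace Groth.Agent.H8.Liaison

open LocCoh IsLocalRing Groth.Agent.Lib.helper9.Depth CategoryTheory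

/-- `(R/𝔠)_{m'}` is a Cohen–Macaulay module over `R_{m'}` when `R/𝔠` is a CM ring. -/
theorem isCohenMacaulayModule_localized_quotient {R : Type u} [CommRing R] [IsNoetherianRing R]
    (𝔠 : Ideal R) [hCM : LocCoh.IsCohenMacaulayRing (R ⧸ 𝔠)] (mb : Ideal (R ⧸ 𝔠)) [mb.IsPrime] :
    IsCohenMacaulayModule (Localization.AtPrime (mb.comap (algebraMap R (R ⧸ 𝔠))))
      (LocalizedModule (mb.comap (algebraMap R (R ⧸ 𝔠))).primeCompl (R ⧸ 𝔠)) := by
  have hsurj : Function.Surjective (algebraMap R (R ⧸ 𝔠)) := Ideal.Quotient.mk_surjective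
  obtain ⟨h1, h2⟩ := depth_supportDim_localization_of_surjective (R := R) (S := R ⧸ 𝔠)
    (M := R ⧸ 𝔠) hsurj mb
  haveI hloc : LocCoh.IsCohenMacaulayLocalRing (Localization.AtPrime mb) :=
    hCM.isCohenMacaulayLocalRing_localization mb
  show Module.supportDim _ _ = _
  rw [h2, h1, Module.supportDim_eq_of_equiv (localizedModuleSelfEquiv mb),
    hloc.supportDim_eq_depth, ← depth_localizedModule_self]

/-- depth version of `supportDim_add_height_eq`. -/
theorem depth_add_height_eq {R : Type u} [CommRing R] [IsNoetherianRing R]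
    (𝔠 : Ideal R) [hCM : LocCoh.IsCohenMacaulayRing (R ⧸ 𝔠)] (mb : Ideal (R ⧸ 𝔠)) [mb.IsPrime]
    [hB : LocCoh.IsCohenMacaulayLocalRing
      (Localization.AtPrime (mb.comap (algebraMap R (R ⧸ 𝔠))))]
    (N : ℕ) (hN : ringKrullDim (Localization.AtPrime (mb.comap (algebraMap R (R ⧸ 𝔠)))) = N)
    {P : Ideal R} (hP : P ∈ associatedPrimes R (R ⧸ 𝔠))
    (hPm : P ≤ mb.comap (algebraMap R (R ⧸ 𝔠))) :
    ((depth (Localization.AtPrime (mb.comap (algebraMap R (R ⧸ 𝔠))))
      (LocalizedModule (mb.comap (algebraMap R (R ⧸ 𝔠))).primeCompl (R ⧸ 𝔠)) : ℕ∞) : WithBot ℕ∞) +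
      ((P.height : ℕ∞) : WithBot ℕ∞) = N := by
  have h := supportDim_add_height_eq 𝔠 mb N hN hP hPm
  have hMB : Module.supportDim _ _ = _ := isCohenMacaulayModule_localized_quotient 𝔠 mb
  rw [hMB] at h
  exact h

/-- version at a prime `m ⊇ 𝔠` of `R`. -/
theorem depth_add_height_eq' {R : Type u} [CommRing R] [IsNoetherianRing R]
    (𝔠 : Ideal R) [hCM : LocCoh.IsCohenMacaulayRing (R ⧸ 𝔠)] (m : Ideal R) [hm : m.IsPrime]
    (h𝔠m : 𝔠 ≤ m) [hB : LocCoh.IsCohenMacaulayLocalRing (Localization.AtPrime m)]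
    (N : ℕ) (hN : ringKrullDim (Localization.AtPrime m) = N)
    {P : Ideal R} (hP : P ∈ associatedPrimes R (R ⧸ 𝔠)) (hPm : P ≤ m) :
    ((depth (Localization.AtPrime m) (LocalizedModule m.primeCompl (R ⧸ 𝔠)) : ℕ∞) : WithBot ℕ∞) +
      ((P.height : ℕ∞) : WithBot ℕ∞) = N := by
  obtain ⟨mb, hmbp, hcomap⟩ : ∃ mb : Ideal (R ⧸ 𝔠), mb.IsPrime ∧
      mb.comap (algebraMap R (R ⧸ 𝔠)) = m :=
    ⟨_, map_mk_isPrime 𝔠 m h𝔠m, comap_map_mk_eq 𝔠 m h𝔠m⟩
  subst hcomap
  haveI := hmbp
  exact depth_add_height_eq 𝔠 mb N hN hP hPm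

/-- the `m`-depth for a maximal ideal is the depth of the localization. -/
theorem idealDepth_eq_depth_of_isMaximal {A : Type u} [CommRing A] [IsNoetherianRing A]
    (m : Ideal A) [hm : m.IsMaximal] (M : Type u) [AddCommGroup M] [Module A M]
    [Module.Finite A M] :
    idealDepth m M = depth (Localization.AtPrime m) (LocalizedModule m.primeCompl M) := by
  rw [idealDepth_eq_iInf_depth_localization]
  apply le_antisymm
  · exact iInf₂_le_of_le (⟨m, inferInstance⟩ : PrimeSpectrum A) le_rfl le_rfl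
  · refine le_iInf₂ fun p hp => ?_
    have hpm : p = (⟨m, inferInstance⟩ : PrimeSpectrum A) := by
      apply PrimeSpectrum.ext
      exact (hm.eq_of_le p.2.ne_top hp).symm
    subst hpm
    exact le_rfl

section LCbij

variable {R : Type u} [CommRing R]

/-- `H^i(g)` is bijective when `H^i(X₁) = 0 = H^{i+1}(X₁)`. -/
theorem map_g_bijective (𝔞 : Ideal R) {S : ShortComplex (ModuleCat.{u} R)} (hS : S.ShortExact)
    (i : ℕ) (h0 : Subsingleton ((localCohomology 𝔞 i).obj S.X₁))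
    (h1 : Subsingleton ((localCohomology 𝔞 (i + 1)).obj S.X₁)) :
    Function.Bijective ((localCohomology 𝔞 i).map S.g).hom := by
  constructor
  · rw [injective_iff_map_eq_zero]
    intro x hx
    obtain ⟨y, rfl⟩ := (Groth.Agent.H21.LC.exact₂ 𝔞 hS i x).mp hx
    rw [Subsingleton.elim y 0, map_zero]
  · intro z
    have hz : Groth.Agent.H21.LC.δ 𝔞 hS i z = 0 := Subsingleton.elim _ _
    exact (Groth.Agent.H21.LC.exact₃ 𝔞 hS i z).mp hz

end LCbij

section BDL

variable {R : Type u} [CommRing R] (J I : Ideal R) (hJI : J ≤ I) (f : R)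

/-- `R/J → R/I`. -/
noncomputable def qJI : R ⧸ J →ₗ[R] R ⧸ I :=
  Submodule.mapQ J I LinearMap.id (fun _ hx => hJI hx)

/-- `R/J → R/(J + fI)`. -/
noncomputable def qJT : R ⧸ J →ₗ[R] R ⧸ (J ⊔ Ideal.span {f} * I) :=
  Submodule.mapQ J (J ⊔ Ideal.span {f} * I) LinearMap.id
    (fun _ hx => Submodule.mem_sup_left hx)

/-- `R/I → R/(J + fI)`, multiplication by `f`. -/
noncomputable def mfI : R ⧸ I →ₗ[R] R ⧸ (J ⊔ Ideal.span {f} * I) :=
  Submodule.mapQ I (J ⊔ Ideal.span {f} * I) (LinearMap.lsmul R R f)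
    (fun x hx =>
      (Submodule.mem_sup_right (Ideal.mul_mem_mul (Ideal.mem_span_singleton_self f) hx) :
        f * x ∈ J ⊔ Ideal.span {f} * I))

/-- `R/J → R/J × R/I`, `t ↦ (f t, -t)`. -/
noncomputable def bdlφ : R ⧸ J →ₗ[R] (R ⧸ J) × (R ⧸ I) :=
  LinearMap.prod (LinearMap.lsmul R (R ⧸ J) f) (-(qJI J I hJI))

/-- `R/J × R/I → R/(J+fI)`, `(a, b) ↦ a + f b`. -/
noncomputable def bdlψ : (R ⧸ J) × (R ⧸ I) →ₗ[R] R ⧸ (J ⊔ Ideal.span {f} * I) :=
  LinearMap.coprod (qJT J I f) (mfI J I f)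

lemma bdlφ_mk (t : R) :
    bdlφ J I hJI f (Submodule.Quotient.mk t) =
      (Submodule.Quotient.mk (f * t), -Submodule.Quotient.mk t) := by
  simp only [bdlφ, LinearMap.prod_apply, qJI]
  rfl

lemma bdlψ_mk (a b : R) :
    bdlψ J I f (Submodule.Quotient.mk a, Submodule.Quotient.mk b) =
      Submodule.Quotient.mk (a + f * b) := by
  simp only [bdlψ, LinearMap.coprod_apply, qJT, mfI, Submodule.mapQ_apply, LinearMap.id_apply,
    LinearMap.lsmul_apply, smul_eq_mul, Submodule.Quotient.mk_add]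

lemma bdlψ_comp_bdlφ : (bdlψ J I f).comp (bdlφ J I hJI f) = 0 := by
  apply LinearMap.ext
  intro t
  obtain ⟨t, rfl⟩ := Submodule.Quotient.mk_surjective J t
  rw [LinearMap.comp_apply, bdlφ_mk, ← Submodule.Quotient.mk_neg, bdlψ_mk]
  simp

lemma bdlφ_injective (hJf : J.colon {f} = J) : Function.Injective (bdlφ J I hJI f) := by
  rw [injective_iff_map_eq_zero]
  intro t ht
  obtain ⟨t, rfl⟩ := Submodule.Quotient.mk_surjective J t
  rw [bdlφ_mk, Prod.mk_eq_zero] at ht
  have h1 : f * t ∈ J := (Submodule.Quotient.mk_eq_zero J).mp ht.1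
  have h2 : t ∈ J.colon {f} := by
    rw [Submodule.mem_colon_singleton]
    simpa [mul_comm] using h1
  rw [hJf] at h2
  exact (Submodule.Quotient.mk_eq_zero J).mpr h2

lemma bdlψ_surjective : Function.Surjective (bdlψ J I f) := by
  intro c
  obtain ⟨c, rfl⟩ := Submodule.Quotient.mk_surjective _ c
  refine ⟨(Submodule.Quotient.mk c, Submodule.Quotient.mk 0), ?_⟩
  rw [bdlψ_mk]; simp

lemma bdl_exact : Function.Exact (bdlφ J I hJI f) (bdlψ J I f) := by
  intro x
  constructor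
  · intro hx
    obtain ⟨a, b⟩ := x
    obtain ⟨a, rfl⟩ := Submodule.Quotient.mk_surjective J a
    obtain ⟨b, rfl⟩ := Submodule.Quotient.mk_surjective I b
    rw [bdlψ_mk, Submodule.Quotient.mk_eq_zero, Submodule.mem_sup] at hx
    obtain ⟨j, hj, z, hz, hsum⟩ := hx
    obtain ⟨i', hi', rfl⟩ := Ideal.mem_span_singleton_mul.mp hz
    refine ⟨Submodule.Quotient.mk (i' - b), ?_⟩
    rw [bdlφ_mk]
    refine Prod.ext ?_ ?_
    · show Submodule.Quotient.mk (f * (i' - b)) = Submodule.Quotient.mk a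
      rw [Submodule.Quotient.eq]
      have : f * (i' - b) - a = -j := by linear_combination hsum
      rw [this]; exact J.neg_mem hj
    · show -Submodule.Quotient.mk (i' - b) = Submodule.Quotient.mk b
      rw [← Submodule.Quotient.mk_neg, Submodule.Quotient.eq]
      have : -(i' - b) - b = -i' := by ring
      rw [this]; exact I.neg_mem hi'
  · rintro ⟨t, rfl⟩
    exact LinearMap.congr_fun (bdlψ_comp_bdlφ J I hJI f) t

/-- the basic double link short exact sequence `0 → R/J → R/J × R/I → R/(J+fI) → 0`. -/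
noncomputable abbrev bdlSC : ShortComplex (ModuleCat.{u} R) :=
  ModuleCat.shortComplexOfCompEqZero (bdlφ J I hJI f) (bdlψ J I f) (bdlψ_comp_bdlφ J I hJI f)

lemma bdlSC_shortExact (hJf : J.colon {f} = J) : (bdlSC J I hJI f).ShortExact :=
  ModuleCat.shortComplex_shortExact _ (bdl_exact J I hJI f) (bdlφ_injective J I hJI f hJf)
    (bdlψ_surjective J I f)

/-- the split sequence `0 → R/J → R/J × R/I → R/I → 0`. -/
noncomputable abbrev splitSC : ShortComplex (ModuleCat.{u} R) :=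
  ModuleCat.shortComplexOfCompEqZero (LinearMap.inl R (R ⧸ J) (R ⧸ I))
    (LinearMap.snd R (R ⧸ J) (R ⧸ I)) (by ext; simp)

lemma splitSC_shortExact : (splitSC J I).ShortExact :=
  ModuleCat.shortComplex_shortExact _
    (by
      intro x
      constructor
      · intro hx
        refine ⟨x.1, ?_⟩
        ext
        · rfl
        · exact hx.symm
      · rintro ⟨t, rfl⟩; rfl)
    LinearMap.inl_injective LinearMap.snd_surjective

include hJI in
/-- **Basic double link and local cohomology.** -/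
theorem nonempty_H_equiv_bdl (hJf : J.colon {f} = J) (𝔞 : Ideal R) (i : ℕ)
    (h0 : Subsingleton (LocCoh.H 𝔞 i (R ⧸ J))) (h1 : Subsingleton (LocCoh.H 𝔞 (i + 1) (R ⧸ J))) :
    Nonempty (LocCoh.H 𝔞 i (R ⧸ (J ⊔ Ideal.span {f} * I)) ≃ₗ[R] LocCoh.H 𝔞 i (R ⧸ I)) := by
  have b1 := map_g_bijective 𝔞 (bdlSC_shortExact J I hJI f hJf) i h0 h1
  have b2 := map_g_bijective 𝔞 (splitSC_shortExact J I) i h0 h1
  exact ⟨(LinearEquiv.ofBijective _ b1).symm ≪≫ₗ (LinearEquiv.ofBijective _ b2)⟩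

end BDL

end Groth.Agent.H8.Liaison
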