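import Mathlib
import Groth.Prelude.Def_CAlg
import Groth.Prelude.Def_GrSyz
import Groth.Agent.Lib.helper8.LiaisonF
import Groth.Agent.Lib.helper9.Depth5
import Groth.Agent.Lib.helper9.Depth1
import Groth.Agent.S0341
import Groth.Agent.S0342

/-!
# Liaison, part G (helper8): unmixedness of `R/(J + fR)` for a CM quotient `R/J` and a non-zero
divisor `f`; the second basic double link sequence `0 → R/I → R/(J+fI) → R/(J+fR) → 0`;
unmixedness of homogeneous CM quotients of polynomial rings
-/

universe u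

set_option linter.unusedSectionVars false

namespace Groth.Agent.H8.Liaison

open LocCoh IsLocalRing Groth.Agent.Lib.helper9.Depth RingTheory.Sequence

section General

variable {R : Type u} [CommRing R]

theorem smul_top_quotient_ne_top (J P : Ideal R) (hJP : J ≤ P) (hP : P ≠ ⊤) :
    P • (⊤ : Submodule R (R ⧸ J)) ≠ ⊤ := by
  intro h'
  rw [Ideal.smul_top_eq_map] at h'
  have h1 : (1 : R ⧸ J) ∈ (P.map (algebraMap R (R ⧸ J))).restrictScalars R := by
    rw [h']; exact Submodule.mem_top
  have h2 : Ideal.Quotient.mk J (1 : R) ∈ P.map (Ideal.Quotient.mk J) := h1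
  rw [mk_mem_map_iff J P hJP] at h2
  exact hP ((Ideal.eq_top_iff_one P).mpr h2)

theorem minimalPrimes_subset_associatedPrimes_quotient [IsNoetherianRing R] (J : Ideal R)
    {P : Ideal R} (hP : P ∈ J.minimalPrimes) : P ∈ associatedPrimes R (R ⧸ J) := by
  have := Module.associatedPrimes.minimalPrimes_annihilator_subset_associatedPrimes R (R ⧸ J)
  rw [Ideal.annihilator_quotient] at this
  exact this hP

theorem le_of_mem_associatedPrimes_quotient (J : Ideal R) {P : Ideal R}
    (hP : P ∈ associatedPrimes R (R ⧸ J)) : J ≤ P := by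
  have h := IsAssociatedPrime.annihilator_le hP
  rwa [Submodule.annihilator_top, Ideal.annihilator_quotient] at h

/-- membership in the kernel of `R → (R/J)/f(R/J)`. -/
theorem mkQ_mk_eq_zero_iff (J : Ideal R) (f r : R) :
    (Submodule.Quotient.mk (Ideal.Quotient.mk J r) :
      (R ⧸ J) ⧸ (Ideal.ofList [f] • (⊤ : Submodule R (R ⧸ J)))) = 0 ↔
      r ∈ J ⊔ Ideal.span {f} := by
  rw [Submodule.Quotient.mk_eq_zero, Ideal.ofList_singleton, Submodule.ideal_span_singleton_smul,
    Submodule.mem_smul_pointwise_iff_exists]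
  constructor
  · rintro ⟨b, -, hb⟩
    obtain ⟨s, rfl⟩ := Ideal.Quotient.mk_surjective b
    have h1 : Ideal.Quotient.mk J (f * s) = Ideal.Quotient.mk J r := by
      rw [← hb]; rfl
    rw [Ideal.Quotient.eq] at h1
    have : r = -(f * s - r) + s * f := by ring
    rw [this]
    exact Submodule.add_mem_sup (J.neg_mem h1) (Ideal.mem_span_singleton'.mpr ⟨s, rfl⟩)
  · intro hr
    obtain ⟨j, hj, z, hz, rfl⟩ := Submodule.mem_sup.mp hr
    obtain ⟨s, rfl⟩ := Ideal.mem_span_singleton'.mp hz
    refine ⟨Ideal.Quotient.mk J s, Submodule.mem_top, ?_⟩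
    show Ideal.Quotient.mk J (f * s) = _
    rw [Ideal.Quotient.eq]
    have : f * s - (j + s * f) = -j := by ring
    rw [this]; exact J.neg_mem hj

/-- **Unmixedness of `R/(J+fR)`**: over a ring with CM localizations, `R/J` CM with all
associated primes of height `h`, `f` a non-zero-divisor on `R/J`: the associated primes of
`R/(J + fR)` have height at most `h + 1`. -/
theorem height_le_of_mem_associatedPrimes_quotient_sup_span [IsNoetherianRing R]
    (hR : ∀ (q : Ideal R) [q.IsPrime], LocCoh.IsCohenMacaulayLocalRing (Localization.AtPrime q))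
    (J : Ideal R) [LocCoh.IsCohenMacaulayRing (R ⧸ J)] (h : ℕ)
    (hJh : ∀ P₀ ∈ associatedPrimes R (R ⧸ J), P₀.height = h)
    (f : R) (hJf : J.colon {f} = J) {P : Ideal R}
    (hP : P ∈ associatedPrimes R (R ⧸ (J ⊔ Ideal.span {f}))) :
    P.height ≤ h + 1 := by
  classical
  by_contra hlt
  rw [not_le] at hlt
  have hge : ((h + 2 : ℕ) : ℕ∞) ≤ P.height := by
    have := Order.add_one_le_of_lt hlt
    calc ((h + 2 : ℕ) : ℕ∞) = (h : ℕ∞) + 1 + 1 := by push_cast; ring
      _ ≤ P.height := this
  have hPp : P.IsPrime := hP.isPrime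
  have hJfP : J ⊔ Ideal.span {f} ≤ P := le_of_mem_associatedPrimes_quotient _ hP
  have hJP : J ≤ P := le_sup_left.trans hJfP
  have hfP : f ∈ P := hJfP (Submodule.mem_sup_right (Ideal.mem_span_singleton_self f))
  obtain ⟨-, xb, hx⟩ := isAssociatedPrime_iff.mp hP
  obtain ⟨x, rfl⟩ := Ideal.Quotient.mk_surjective xb
  -- Step A
  have hA : ((2 : ℕ) : ℕ∞) ≤ idealDepth P (R ⧸ J) := by
    rw [idealDepth_eq_iInf_depth_localization]
    refine le_iInf₂ fun q hq => ?_
    haveI := hR q.asIdeal
    obtain ⟨P₀, hP₀min, hP₀q⟩ := Ideal.exists_minimalPrimes_le (hJP.trans hq)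
    have hP₀ass := minimalPrimes_subset_associatedPrimes_quotient J hP₀min
    obtain ⟨N, hN⟩ := ENat.ne_top_iff_exists.mp (Ideal.height_ne_top (I := q.asIdeal) q.2.ne_top)
    have hdim : ringKrullDim (Localization.AtPrime q.asIdeal) = ((N : ℕ) : WithBot ℕ∞) := by
      rw [IsLocalization.AtPrime.ringKrullDim_eq_height q.asIdeal, ← hN]
      rfl
    have hd := depth_add_height_eq' J q.asIdeal (hJP.trans hq) N hdim hP₀ass hP₀q
    rw [hJh P₀ hP₀ass] at hd
    have hd' : depth (Localization.AtPrime q.asIdeal)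
        (LocalizedModule q.asIdeal.primeCompl (R ⧸ J)) + (h : ℕ∞) = (N : ℕ∞) := by
      exact_mod_cast hd
    have hN2 : h + 2 ≤ N := by
      have : ((h + 2 : ℕ) : ℕ∞) ≤ (N : ℕ∞) := by
        rw [hN]; exact hge.trans (Ideal.height_mono hq)
      exact_mod_cast this
    generalize depth (Localization.AtPrime q.asIdeal)
        (LocalizedModule q.asIdeal.primeCompl (R ⧸ J)) = D at hd'
    induction D using ENat.recTopCoe with
    | top => exact le_top
    | coe D =>
      have : D + h = N := by exact_mod_cast hd'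
      exact_mod_cast (by omega : 2 ≤ D)
  -- Step B
  have hreg : IsWeaklyRegular (R ⧸ J) [f] := by
    rw [isWeaklyRegular_singleton_iff]
    intro a b hab
    obtain ⟨a, rfl⟩ := Ideal.Quotient.mk_surjective a
    obtain ⟨b, rfl⟩ := Ideal.Quotient.mk_surjective b
    have h1 : Ideal.Quotient.mk J (f * a) = Ideal.Quotient.mk J (f * b) := hab
    rw [Ideal.Quotient.eq] at h1 ⊢
    have h2 : a - b ∈ J.colon {f} := by
      rw [Submodule.mem_colon_singleton]
      have : (a - b) • f = f * a - f * b := by rw [smul_eq_mul]; ring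
      rw [this]; exact h1
    rwa [hJf] at h2
  have hPM := smul_top_quotient_ne_top J P hJP hPp.ne_top
  have hq := idealDepth_quot_ofList_add_length (I := P) [f] (R ⧸ J) hPM hreg
    (by intro y hy; rw [List.mem_singleton] at hy; rw [hy]; exact hfP)
  rw [List.length_singleton] at hq
  set Q := (R ⧸ J) ⧸ (Ideal.ofList [f] • (⊤ : Submodule R (R ⧸ J))) with hQ
  have hD : ((1 : ℕ) : ℕ∞) ≤ idealDepth P Q := by
    by_contra hlt'
    rw [not_le] at hlt'
    have h0 : idealDepth P Q = 0 := by
      have : idealDepth P Q < 1 := by exact_mod_cast hlt'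
      exact Order.lt_one_iff.mp this
    rw [h0, zero_add] at hq
    rw [← hq] at hA
    exact absurd hA (by norm_num)
  -- the element
  let xq : Q := Submodule.Quotient.mk (Ideal.Quotient.mk J x)
  have hxq0 : xq ≠ 0 := by
    intro h0
    have h1 : x ∈ J ⊔ Ideal.span {f} := (mkQ_mk_eq_zero_iff J f x).mp h0
    have h2 : (1 : R) ∈ P := by
      rw [hx, Submodule.mem_colon_singleton, Submodule.mem_bot, one_smul]
      exact Ideal.Quotient.eq_zero_iff_mem.mpr h1
    exact hPp.ne_top ((Ideal.eq_top_iff_one P).mpr h2)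
  have hxqP : ∀ p ∈ P, p • xq = 0 := by
    intro p hp
    rw [hx, Submodule.mem_colon_singleton, Submodule.mem_bot] at hp
    have h1 : Ideal.Quotient.mk (J ⊔ Ideal.span {f}) (p * x) = 0 := hp
    rw [Ideal.Quotient.eq_zero_iff_mem] at h1
    exact (mkQ_mk_eq_zero_iff J f (p * x)).mpr h1
  have hPQ : P • (⊤ : Submodule R Q) ≠ ⊤ := by
    intro htop
    obtain ⟨r, hr1, hr2⟩ := Submodule.exists_sub_one_mem_and_smul_eq_zero_of_fg_of_le_smul P
      (⊤ : Submodule R Q) Module.Finite.fg_top (le_of_eq htop.symm)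
    apply hxq0
    have h1 := hr2 xq Submodule.mem_top
    have h2 := hxqP _ hr1
    rw [sub_smul, one_smul, h1, zero_sub, neg_eq_zero] at h2
    exact h2
  obtain ⟨ys, hlen, hyreg, hymem⟩ := (le_idealDepth_iff hPQ 1).mp hD
  obtain ⟨y, rfl⟩ : ∃ y, ys = [y] := List.length_eq_one_iff.mp hlen
  have hyP : y ∈ P := hymem y (by simp)
  have hyr : IsSMulRegular Q y := (isWeaklyRegular_singleton_iff Q y).mp hyreg
  apply hxq0
  apply hyr
  simp only [smul_zero]
  exact hxqP y hyP

end General

section BDL2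

variable {R : Type u} [CommRing R] (J I : Ideal R) (hJI : J ≤ I) (f : R)

lemma mfI_mk (b : R) :
    mfI J I f (Submodule.Quotient.mk b) = Submodule.Quotient.mk (f * b) := rfl

include hJI in
lemma mfI_injective (hJf : J.colon {f} = J) : Function.Injective (mfI J I f) := by
  rw [injective_iff_map_eq_zero]
  intro b hb
  obtain ⟨b, rfl⟩ := Submodule.Quotient.mk_surjective I b
  rw [mfI_mk, Submodule.Quotient.mk_eq_zero, Submodule.mem_sup] at hb
  obtain ⟨j, hj, z, hz, hsum⟩ := hb
  obtain ⟨i', hi', rfl⟩ := Ideal.mem_span_singleton_mul.mp hz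
  have h1 : b - i' ∈ J.colon {f} := by
    rw [Submodule.mem_colon_singleton]
    have : (b - i') • f = j := by rw [smul_eq_mul]; linear_combination -hsum
    rw [this]; exact hj
  rw [hJf] at h1
  rw [Submodule.Quotient.mk_eq_zero]
  have : b = (b - i') + i' := by ring
  rw [this]
  exact I.add_mem (hJI h1) hi'

/-- `R/(J+fI) → R/(J+fR)`. -/
noncomputable def qTJf : R ⧸ (J ⊔ Ideal.span {f} * I) →ₗ[R] R ⧸ (J ⊔ Ideal.span {f}) :=
  Submodule.mapQ _ _ LinearMap.id
    (sup_le_sup_left (Ideal.mul_le.mpr fun a ha _ _ => Ideal.mul_mem_right _ _ ha) J)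

lemma mfI_qTJf_exact : Function.Exact (mfI J I f) (qTJf J I f) := by
  intro c
  obtain ⟨c, rfl⟩ := Submodule.Quotient.mk_surjective _ c
  constructor
  · intro hc
    have hc' : c ∈ J ⊔ Ideal.span {f} := (Submodule.Quotient.mk_eq_zero _).mp hc
    obtain ⟨j, hj, z, hz, rfl⟩ := Submodule.mem_sup.mp hc'
    obtain ⟨s, rfl⟩ := Ideal.mem_span_singleton'.mp hz
    refine ⟨Submodule.Quotient.mk s, ?_⟩
    rw [mfI_mk, Submodule.Quotient.eq]
    have : f * s - (j + s * f) = -j := by ring
    rw [this]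
    exact Submodule.mem_sup_left (J.neg_mem hj)
  · rintro ⟨b, hb⟩
    obtain ⟨b, rfl⟩ := Submodule.Quotient.mk_surjective I b
    rw [← hb, mfI_mk]
    show (Submodule.Quotient.mk (f * b) : R ⧸ (J ⊔ Ideal.span {f})) = 0
    rw [Submodule.Quotient.mk_eq_zero]
    exact Submodule.mem_sup_right (Ideal.mem_span_singleton'.mpr ⟨b, mul_comm b f⟩)

end BDL2

section Poly

variable (K : Type u) [Field K] (n : ℕ)

/-- every localization of a polynomial ring over a field at a prime is CM. -/
theorem isCohenMacaulayLocalRing_localization_mvPolynomial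
    (q : Ideal (MvPolynomial (Fin (n + 1)) K)) [q.IsPrime] :
    LocCoh.IsCohenMacaulayLocalRing (Localization.AtPrime q) := by
  haveI : IsRegularRing (MvPolynomial (Fin (n + 1)) K) := inferInstance
  haveI := Groth.Agent.S0342.result (Localization.AtPrime q)
  exact Groth.Agent.S0341.result _

/-- **Unmixedness of homogeneous CM quotients**: all associated primes of `R/J` have height
`ht J`. -/
theorem height_eq_of_mem_associatedPrimes_of_isHomogeneous
    (J : Ideal (MvPolynomial (Fin (n + 1)) K))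
    (hJ : J.IsHomogeneous (GrSyz.stdGr K (Fin (n + 1))))
    [hCM : LocCoh.IsCohenMacaulayRing (MvPolynomial (Fin (n + 1)) K ⧸ J)] (hJtop : J ≠ ⊤) :
    ∀ P ∈ associatedPrimes (MvPolynomial (Fin (n + 1)) K) (MvPolynomial (Fin (n + 1)) K ⧸ J),
      P.height = J.height := by
  classical
  let m₀ : Ideal (MvPolynomial (Fin (n + 1)) K) :=
    RingHom.ker (MvPolynomial.constantCoeff : MvPolynomial (Fin (n + 1)) K →+* K)
  haveI : m₀.IsMaximal :=
    RingHom.ker_isMaximal_of_surjective _
      (fun c => ⟨MvPolynomial.C c, MvPolynomial.constantCoeff_C _ c⟩)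
  have hJm : J ≤ m₀ := le_ker_constantCoeff_of_isHomogeneous K _ J hJtop hJ
  let mb : Ideal (MvPolynomial (Fin (n + 1)) K ⧸ J) := m₀.map (Ideal.Quotient.mk J)
  haveI : mb.IsPrime := map_mk_isPrime J m₀ hJm
  have hcomap : mb.comap (algebraMap (MvPolynomial (Fin (n + 1)) K)
      (MvPolynomial (Fin (n + 1)) K ⧸ J)) = m₀ := comap_map_mk_eq J m₀ hJm
  haveI : LocCoh.IsCohenMacaulayLocalRing (Localization.AtPrime
      (mb.comap (algebraMap (MvPolynomial (Fin (n + 1)) K)
        (MvPolynomial (Fin (n + 1)) K ⧸ J)))) :=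
    isCohenMacaulayLocalRing_localization_mvPolynomial K n _
  have hle : ∀ P ∈ associatedPrimes (MvPolynomial (Fin (n + 1)) K)
      (MvPolynomial (Fin (n + 1)) K ⧸ J),
      P ≤ mb.comap (algebraMap (MvPolynomial (Fin (n + 1)) K)
        (MvPolynomial (Fin (n + 1)) K ⧸ J)) := by
    intro P hP
    rw [hcomap]
    exact le_ker_constantCoeff_of_mem_minimalPrimes K _ J P hJ
      (mem_minimalPrimes_of_mem_associatedPrimes_quotient J hP)
  intro P hP
  obtain ⟨P₀, hP₀⟩ := Ideal.nonempty_minimalPrimes hJtop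
  have hP₀ass := minimalPrimes_subset_associatedPrimes_quotient J hP₀
  have heq : ∀ Q ∈ associatedPrimes (MvPolynomial (Fin (n + 1)) K)
      (MvPolynomial (Fin (n + 1)) K ⧸ J), Q.height = P₀.height := fun Q hQ =>
    height_eq_of_mem_associatedPrimes J mb hQ hP₀ass (hle Q hQ) (hle P₀ hP₀ass)
  have hJh : J.height = P₀.height := by
    apply le_antisymm (Ideal.height_mono hP₀.1.2)
    rw [Ideal.height_eq_inf_minimalPrimes J]
    exact le_iInf₂ fun Q hQ =>
      (heq Q (minimalPrimes_subset_associatedPrimes_quotient J hQ)).ge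
  rw [heq P hP, hJh]

end Poly

end Groth.Agent.H8.Liaison
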