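import Mathlib
import Groth.Prelude.Def_CAlg
import Groth.Agent.Lib.helper8.LiaisonB
import Groth.Agent.Lib.helper8.LDualD
import Groth.Agent.Lib.helper8.CanonI
import Groth.Agent.Lib.helper6.CMFlat
import Groth.Agent.Lib.helper9.Depth24

/-!
# Liaison, part H (helper8): the local linkage lemma.  Over a Gorenstein local ring `A`, if
`A/𝔞` is Cohen–Macaulay then so is `A/ann 𝔞`.
-/

universe u

set_option linter.unusedSectionVars false

namespace Groth.Agent.H8.Liaison

open CategoryTheory Abelian LocCoh InjHull IsLocalRing Groth.Agent.H21.LC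
open Groth.Agent.H8.Canon Groth.Agent.H8.LDual Groth.Agent.H8.NonVan Groth.Agent.H8.CdDim
open Groth.Agent.Lib.helper9.Depth RingTheory.Sequence

variable (A : Type u) [CommRing A] [LocCoh.IsGorensteinLocalRing A]

/-- Gorenstein local duality with `Abelian.Ext`. -/
theorem gorenstein_duality' (n : ℕ) (hn : ringKrullDim A = n) (E : Type u) [AddCommGroup E]
    [Module A E] (f : ResidueField A →ₗ[A] E) (hf : IsInjectiveHull f)
    (i j : ℕ) (hij : j + i = n) (M : Type u) [AddCommGroup M] [Module A M] [Module.Finite A M] :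
    Nonempty (H (maximalIdeal A) j M ≃ₗ[A]
      (Ext (ModuleCat.of A M) (ModuleCat.of A A) i →ₗ[A] E)) := by
  obtain ⟨g, hg⟩ := Groth.Agent.H8.LCGor.exists_isInjectiveHull_H_of_gorenstein A n hn
  obtain ⟨e, -⟩ := Groth.Agent.Lib.helper1.InjHullLib.unique g hg f hf
  have eK : (A →ₗ[A] E) ≃ₗ[A] H (maximalIdeal A) n A :=
    (LinearMap.ringLmapEquivSelf A A E).trans e.symm
  have hd := (Groth.Agent.H21.GorRing.depth_and_injdim A n hn).1
  exact main n hn (hvan_of_depth n hd) A E hf.isInjective eK i j hij M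

/-- a Gorenstein local ring is a Cohen–Macaulay local ring. -/
theorem isCohenMacaulayLocalRing_of_isGorensteinLocalRing :
    LocCoh.IsCohenMacaulayLocalRing A := Groth.Agent.S0341.result A


/-- **Local linkage lemma.** -/
theorem isCohenMacaulayLocalRing_quotient_annihilator (𝔞 : Ideal A)
    (h𝔞 : 𝔞 = ⊤ ∨ LocCoh.IsCohenMacaulayLocalRing (A ⧸ 𝔞))
    (h𝔟 : (Submodule.annihilator 𝔞 : Ideal A) ≠ ⊤) :
    LocCoh.IsCohenMacaulayLocalRing (A ⧸ (Submodule.annihilator 𝔞 : Ideal A)) := by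
  classical
  obtain ⟨n, hn'⟩ := exists_supportDim_eq_nat (R := A) A
  have hn : ringKrullDim A = n := by rw [← Module.supportDim_self_eq_ringKrullDim]; exact hn'
  set 𝔟 : Ideal A := Submodule.annihilator 𝔞 with h𝔟def
  obtain ⟨g, hg⟩ := Groth.Agent.H8.LCGor.exists_isInjectiveHull_H_of_gorenstein A n hn
  obtain ⟨hdepthA, hinjdim⟩ := Groth.Agent.H21.GorRing.depth_and_injdim A n hn
  -- the canonical module of `N = A/𝔞`
  obtain ⟨e0⟩ := gorenstein_duality' A n hn _ g hg 0 n (by omega) (A ⧸ 𝔞)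
  have e1 : Ext (ModuleCat.of A (A ⧸ 𝔞)) (ModuleCat.of A A) 0 ≃ₗ[A] 𝔟 :=
    (Ext.linearEquiv₀.trans ModuleCat.homLinearEquiv).trans (homQuotEquivAnn A 𝔞)
  have eK' : (𝔟 →ₗ[A] H (maximalIdeal A) n A) ≃ₗ[A] H (maximalIdeal A) n (A ⧸ 𝔞) :=
    (LinearEquiv.congrLeft (H (maximalIdeal A) n A) A e1).symm.trans e0.symm
  have hle : Module.supportDim A (A ⧸ 𝔞) ≤ n := (Module.supportDim_le_ringKrullDim A _).trans hn.le
  rcases lt_or_eq_of_le hle with hlt | hdim
  · -- `𝔟 = 0`
    haveI : Subsingleton (H (maximalIdeal A) n (A ⧸ 𝔞)) :=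
      subsingleton_H_of_supportDim_lt (maximalIdeal A) (A ⧸ 𝔞) n hlt
    haveI : Subsingleton (𝔟 →ₗ[A] H (maximalIdeal A) n A) := eK'.toEquiv.subsingleton
    haveI : Subsingleton 𝔟 := subsingleton_of_subsingleton_dual hg 𝔟 inferInstance
    have hbot : 𝔟 = ⊥ := by
      rw [eq_bot_iff]
      intro x hx
      have : (⟨x, hx⟩ : 𝔟) = 0 := Subsingleton.elim _ _
      exact congrArg Subtype.val this
    rw [hbot]
    exact Groth.Agent.Lib.helper6.CMFlat.isCM_of_ringEquiv (RingEquiv.quotientBot A).symm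
      (isCohenMacaulayLocalRing_of_isGorensteinLocalRing A)
  · -- main case
    have h𝔞top : 𝔞 ≠ ⊤ := by
      rintro rfl
      haveI : Subsingleton (A ⧸ (⊤ : Ideal A)) := Ideal.Quotient.subsingleton_iff.mpr rfl
      rw [Module.supportDim_eq_bot_of_subsingleton] at hdim
      exact absurd hdim (by simp)
    haveI hCM : LocCoh.IsCohenMacaulayLocalRing (A ⧸ 𝔞) := h𝔞.resolve_left h𝔞top
    haveI : IsLocalRing (A ⧸ 𝔞) := hCM.toIsLocalRing
    have hsurj : Function.Surjective (algebraMap A (A ⧸ 𝔞)) := Ideal.Quotient.mk_surjective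
    have hdepth : LocCoh.depth A (A ⧸ 𝔞) = n := by
      rw [depth_eq_of_surjective (R' := A) (S' := A ⧸ 𝔞) (N := A ⧸ 𝔞) hsurj]
      have h1 := hCM.supportDim_eq_depth
      rw [← supportDim_eq_of_surjective (R := A) (S := A ⧸ 𝔞) (M := A ⧸ 𝔞) hsurj, hdim] at h1
      have h2 : ((n : ℕ∞) : WithBot ℕ∞) = ((LocCoh.depth (A ⧸ 𝔞) (A ⧸ 𝔞) : ℕ∞) : WithBot ℕ∞) := h1
      exact (WithBot.coe_injective h2).symm
    -- endomorphisms of 𝔟
    obtain ⟨hendo, -⟩ := endo_cm hg n (A ⧸ 𝔞) 𝔟 hdim hdepth eK' (Submodule.mkQ 𝔞)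
      (Submodule.mkQ_surjective 𝔞)
    -- `𝔟` is nontrivial
    haveI hNH : Nontrivial (H (maximalIdeal A) n (A ⧸ 𝔞)) := nontrivial_H_supportDim n _ hdim
    haveI h𝔟nt : Nontrivial 𝔟 := by
      by_contra hnt
      rw [not_nontrivial_iff_subsingleton] at hnt
      haveI : Subsingleton (𝔟 →ₗ[A] H (maximalIdeal A) n A) :=
        ⟨fun a b => LinearMap.ext fun x => by rw [Subsingleton.elim x 0, map_zero, map_zero]⟩
      haveI : Subsingleton (H (maximalIdeal A) n (A ⧸ 𝔞)) := eK'.symm.toEquiv.subsingleton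
      exact not_subsingleton _ ‹_›
    -- depth of `𝔟`
    have hIMN := maximalIdeal_smul_top_ne_top (R := A) (A ⧸ 𝔞)
    have hIM𝔟 := maximalIdeal_smul_top_ne_top (R := A) 𝔟
    have hdepth𝔟 : (n : ℕ∞) ≤ idealDepth (maximalIdeal A) 𝔟 := by
      have hdN : idealDepth (maximalIdeal A) (A ⧸ 𝔞) = n := hdepth
      obtain ⟨as, hlen, hreg, hmem⟩ := (le_idealDepth_iff hIMN n).mp (by rw [hdN])
      have hreg' := ((regular_iff_and_quotient hg as (A ⧸ 𝔞) 𝔟 n hdim hdepth eK' hmem).1).mp hreg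
      have := length_le_idealDepth (I := maximalIdeal A) hreg' hmem
      rwa [hlen] at this
    have hvan𝔟 : ∀ j, j < n → Subsingleton (H (maximalIdeal A) j 𝔟) := by
      intro j hj
      apply subsingleton_of_lt_depth (maximalIdeal A) 𝔟 hIM𝔟 j
      refine le_trans ?_ hdepth𝔟
      exact_mod_cast hj
    -- `Ext^i(𝔟, A) = 0` for `i ≥ 1`
    have hExt𝔟 : ∀ i, 1 ≤ i → Subsingleton (Ext (ModuleCat.of A 𝔟) (ModuleCat.of A A) i) := by
      intro i hi
      by_cases hin : i ≤ n
      · obtain ⟨e⟩ := gorenstein_duality' A n hn _ g hg i (n - i) (by omega) 𝔟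
        haveI := hvan𝔟 (n - i) (by omega)
        haveI : Subsingleton (Ext (ModuleCat.of A 𝔟) (ModuleCat.of A A) i →ₗ[A]
            H (maximalIdeal A) n A) := e.symm.toEquiv.subsingleton
        exact subsingleton_of_subsingleton_dual hg _ inferInstance
      · exact HasInjectiveDimensionLT.subsingleton (ModuleCat.of A A) (n + 1) i (by omega) _
    -- the short exact sequence `0 → 𝔟 → A → A/𝔟 → 0`
    let S : ShortComplex (ModuleCat.{u} A) :=
      ModuleCat.shortComplexOfCompEqZero 𝔟.subtype (Submodule.mkQ 𝔟)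
        (by
          ext x
          show Submodule.Quotient.mk (x : A) = (0 : A ⧸ 𝔟)
          rw [Submodule.Quotient.mk_eq_zero]
          exact x.2)
    have hS : S.ShortExact := ModuleCat.shortComplex_shortExact S
      (LinearMap.exact_subtype_mkQ 𝔟) Subtype.val_injective (Submodule.mkQ_surjective 𝔟)
    haveI : Projective (ModuleCat.of A A) := (IsProjective.iff_projective A).mp inferInstance
    have hExtQ : ∀ j, 1 ≤ j →
        Subsingleton (Ext (ModuleCat.of A (A ⧸ 𝔟)) (ModuleCat.of A A) j) := by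
      intro j hj
      suffices h : ∀ x : Ext (ModuleCat.of A (A ⧸ 𝔟)) (ModuleCat.of A A) j, x = 0 from
        ⟨fun x y => by rw [h x, h y]⟩
      intro x
      obtain ⟨j', rfl⟩ : ∃ j', j = j' + 1 := ⟨j - 1, by omega⟩
      have hx0 : (Ext.mk₀ S.g).comp x (zero_add (j' + 1)) = 0 := Ext.eq_zero_of_projective _
      obtain ⟨x₁, rfl⟩ := Ext.contravariant_sequence_exact₃ hS (ModuleCat.of A A) x hx0
        (show 1 + j' = j' + 1 by omega)
      rcases Nat.eq_zero_or_pos j' with rfl | hpos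
      · -- `x₁ = mk₀ φ`
        obtain ⟨φ, rfl⟩ : ∃ φ : S.X₁ ⟶ ModuleCat.of A A, Ext.mk₀ φ = x₁ :=
          ⟨Ext.homEquiv₀ x₁, Ext.mk₀_homEquiv₀_apply x₁⟩
        have hmem : ∀ b : 𝔟, φ.hom b ∈ 𝔟 := by
          intro b
          rw [h𝔟def, Submodule.mem_annihilator]
          intro a ha
          have hb : (b : A) ∈ (Submodule.annihilator 𝔞 : Ideal A) := b.2
          rw [Submodule.mem_annihilator] at hb
          have h1 : a • b = 0 := by
            apply Subtype.ext
            show a • (b : A) = 0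
            rw [smul_eq_mul, mul_comm]
            exact hb a ha
          have h2 : φ.hom (a • b) = a • φ.hom b := map_smul _ _ _
          rw [h1, map_zero] at h2
          rw [smul_eq_mul, mul_comm]
          exact h2.symm
        let g' : 𝔟 →ₗ[A] 𝔟 := LinearMap.codRestrict 𝔟 φ.hom hmem
        obtain ⟨r, hr⟩ := hendo g'
        have hφ : φ = S.f ≫ ModuleCat.ofHom (r • (LinearMap.id : A →ₗ[A] A)) := by
          ext b
          have h3 := LinearMap.congr_fun hr b
          have h4 : (φ.hom b : A) = ((g' b : 𝔟) : A) := rfl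
          show φ.hom b = r • (b : A)
          rw [h4, h3]
          rfl
        rw [hφ, ← Ext.mk₀_comp_mk₀, ← Ext.comp_assoc_of_second_deg_zero]
        rw [hS.extClass_comp, Ext.zero_comp]
      · haveI := hExt𝔟 j' hpos
        rw [Subsingleton.elim x₁ 0, Ext.comp_zero]
    -- vanishing of `H^i(A/𝔟)` below `n`
    haveI hQnt : Nontrivial (A ⧸ 𝔟) := Ideal.Quotient.nontrivial_iff.2 h𝔟
    have hvanQ : ∀ i, i < n → Subsingleton (H (maximalIdeal A) i (A ⧸ 𝔟)) := by
      intro i hi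
      obtain ⟨e⟩ := gorenstein_duality' A n hn _ g hg (n - i) i (by omega) (A ⧸ 𝔟)
      haveI := hExtQ (n - i) (by omega)
      haveI : Subsingleton (Ext (ModuleCat.of A (A ⧸ 𝔟)) (ModuleCat.of A A) (n - i) →ₗ[A]
          H (maximalIdeal A) n A) :=
        ⟨fun a b => LinearMap.ext fun x => by rw [Subsingleton.elim x 0, map_zero, map_zero]⟩
      exact e.toEquiv.subsingleton
    have hIMQ := maximalIdeal_smul_top_ne_top (R := A) (A ⧸ 𝔟)
    obtain ⟨d, hd⟩ := exists_nat_eq_idealDepth (A ⧸ 𝔟) hIMQ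
    have hnd : n ≤ d := by
      by_contra hlt
      rw [not_le] at hlt
      have := nontrivial_of_depth_eq (maximalIdeal A) (A ⧸ 𝔟) hIMQ d hd
      exact not_subsingleton _ (hvanQ d hlt)
    have h1 := depth_le_supportDim (R := A) (A ⧸ 𝔟)
    have h2 : Module.supportDim A (A ⧸ 𝔟) ≤ n :=
      (Module.supportDim_le_ringKrullDim A _).trans hn.le
    have hdep : LocCoh.depth A (A ⧸ 𝔟) = d := hd
    rw [hdep] at h1
    have hdn : d = n := by
      have : ((d : ℕ∞) : WithBot ℕ∞) ≤ ((n : ℕ∞) : WithBot ℕ∞) := h1.trans h2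
      have : d ≤ n := by exact_mod_cast this
      omega
    subst hdn
    have hsd : Module.supportDim A (A ⧸ 𝔟) = ((d : ℕ∞) : WithBot ℕ∞) := le_antisymm h2 h1
    haveI : IsLocalRing (A ⧸ 𝔟) :=
      IsLocalRing.of_surjective' (Ideal.Quotient.mk _) Ideal.Quotient.mk_surjective
    refine { supportDim_eq_depth := ?_ }
    rw [← supportDim_eq_of_surjective (R := A) (S := A ⧸ 𝔟) (M := A ⧸ 𝔟)
      Ideal.Quotient.mk_surjective, hsd,
      ← depth_eq_of_surjective (R' := A) (S' := A ⧸ 𝔟) (N := A ⧸ 𝔟)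
        Ideal.Quotient.mk_surjective, hdep]

end Groth.Agent.H8.Liaison
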