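import Mathlib
import Groth.Prelude.Def_CAlg
import Groth.Agent.Lib.helper8.LiaisonH
import Groth.Agent.Lib.helper8.LiaisonC
import Groth.Agent.Lib.helper6.CplQuot2

/-!
# Liaison, part I (helper8): the global linkage theorem.  If `R/𝔠` is a Gorenstein ring,
`𝔠 ≤ I` and `R/I` is a Cohen–Macaulay ring, then `R/(𝔠 : I)` is a Cohen–Macaulay ring.
-/

universe u

set_option linter.unusedSectionVars false

namespace Groth.Agent.H8.Liaison

open LocCoh IsLocalRing

section LocAnn

variable {S : Type u} [CommRing S] [IsNoetherianRing S] (P : Ideal S) [P.IsPrime]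

/-- the annihilator of an ideal commutes with localization at a prime. -/
theorem annihilator_map_localization (𝔞 : Ideal S) :
    (Submodule.annihilator (𝔞.map (algebraMap S (Localization.AtPrime P))) :
      Ideal (Localization.AtPrime P)) =
      (Submodule.annihilator 𝔞 : Ideal S).map (algebraMap S (Localization.AtPrime P)) := by
  classical
  apply le_antisymm
  · intro x hx
    obtain ⟨r, s, rfl⟩ := IsLocalization.exists_mk'_eq P.primeCompl x
    obtain ⟨T, hT⟩ := (IsNoetherian.noetherian 𝔞 : 𝔞.FG)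
    rw [Submodule.mem_annihilator] at hx
    have key : ∀ a ∈ T, ∃ t : P.primeCompl, (t : S) * (r * a) = 0 := by
      intro a ha
      have ha' : a ∈ 𝔞 := hT ▸ Submodule.subset_span ha
      have h1 := hx _ (Ideal.mem_map_of_mem _ ha')
      rw [smul_eq_mul, ← IsLocalization.mk'_one (M := P.primeCompl) (Localization.AtPrime P) a,
        ← IsLocalization.mk'_mul, IsLocalization.mk'_eq_zero_iff] at h1
      obtain ⟨t, ht⟩ := h1
      exact ⟨t, ht⟩
    choose! t ht using key
    let tt : P.primeCompl := ∏ a ∈ T, t a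
    have htt : ∀ a ∈ T, (tt : S) * r * a = 0 := by
      intro a ha
      have : (tt : S) = (∏ b ∈ T.erase a, (t b : S)) * (t a : S) := by
        show ((∏ b ∈ T, t b : P.primeCompl) : S) = _
        rw [Submonoid.coe_finset_prod, ← Finset.prod_erase_mul T _ ha]
      rw [this, mul_assoc, mul_assoc, ht a ha, mul_zero]
    rw [IsLocalization.mk'_mem_map_algebraMap_iff]
    refine ⟨tt, tt.2, ?_⟩
    rw [Submodule.mem_annihilator, ← hT]
    intro y hy
    refine Submodule.span_induction (p := fun y _ => ((tt : S) * r) • y = 0) ?_ ?_ ?_ ?_ hy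
    · intro a ha; exact htt a ha
    · exact smul_zero _
    · intro a b _ _ ha hb; rw [smul_add, ha, hb, add_zero]
    · intro c a _ ha; rw [smul_comm, ha, smul_zero]
  · rw [Ideal.map_le_iff_le_comap]
    intro b hb
    rw [Ideal.mem_comap, Ideal.map, Submodule.mem_annihilator_span]
    rintro ⟨_, a, ha, rfl⟩
    rw [Submodule.mem_annihilator] at hb
    show algebraMap S (Localization.AtPrime P) b • algebraMap S (Localization.AtPrime P) a = 0
    rw [smul_eq_mul, ← map_mul]
    have := hb a ha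
    rw [smul_eq_mul] at this
    rw [this, map_zero]

end LocAnn

section Transfer

variable {S : Type u} [CommRing S]

/-- localization of a quotient as a quotient of the localization. -/
theorem nonempty_quotient_localization_ringEquiv (I : Ideal S) (qb : Ideal (S ⧸ I)) [qb.IsPrime] :
    Nonempty ((Localization.AtPrime (qb.comap (Ideal.Quotient.mk I)) ⧸
      I.map (algebraMap S (Localization.AtPrime (qb.comap (Ideal.Quotient.mk I))))) ≃+*
        Localization.AtPrime qb) := by
  have hsub : Algebra.algebraMapSubmonoid (S ⧸ I) (qb.comap (Ideal.Quotient.mk I)).primeCompl =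
      qb.primeCompl := by
    ext y
    constructor
    · rintro ⟨x, hx, rfl⟩
      exact hx
    · intro hy
      obtain ⟨x, rfl⟩ := Ideal.Quotient.mk_surjective y
      exact ⟨x, hy, rfl⟩
  have hloc : IsLocalization.AtPrime
      (Localization.AtPrime (qb.comap (Ideal.Quotient.mk I)) ⧸
        I.map (algebraMap S (Localization.AtPrime (qb.comap (Ideal.Quotient.mk I))))) qb := by
    unfold IsLocalization.AtPrime
    rw [← hsub]
    infer_instance
  exact ⟨(IsLocalization.algEquiv qb.primeCompl _ (Localization.AtPrime qb)).toRingEquiv⟩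

theorem nonempty_quotient_localization_ringEquiv' (I : Ideal S) (qb : Ideal (S ⧸ I)) [qb.IsPrime]
    (P : Ideal S) [P.IsPrime] (hP : P = qb.comap (Ideal.Quotient.mk I)) :
    Nonempty ((Localization.AtPrime P ⧸ I.map (algebraMap S (Localization.AtPrime P))) ≃+*
      Localization.AtPrime qb) := by
  subst hP
  exact nonempty_quotient_localization_ringEquiv I qb

end Transfer


section Global

/-- **Linkage theorem over a Gorenstein ring**: `S/𝔞` CM ⇒ `S/ann 𝔞` CM. -/
theorem isCohenMacaulayRing_quotient_annihilator (S : Type u) [CommRing S]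
    [hG : LocCoh.IsGorensteinRing S] (𝔞 : Ideal S) [hCM : LocCoh.IsCohenMacaulayRing (S ⧸ 𝔞)] :
    LocCoh.IsCohenMacaulayRing (S ⧸ (Submodule.annihilator 𝔞 : Ideal S)) := by
  classical
  haveI : IsNoetherianRing S := hG.toIsNoetherian
  set 𝔟 : Ideal S := Submodule.annihilator 𝔞 with h𝔟def
  refine { isCohenMacaulayLocalRing_localization := fun q hq => ?_ }
  let P : Ideal S := q.comap (Ideal.Quotient.mk 𝔟)
  haveI hPp : P.IsPrime := Ideal.comap_isPrime _ _
  have h𝔟P : 𝔟 ≤ P := by
    intro x hx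
    show Ideal.Quotient.mk 𝔟 x ∈ q
    rw [Ideal.Quotient.eq_zero_iff_mem.mpr hx]
    exact q.zero_mem
  haveI hA : LocCoh.IsGorensteinLocalRing (Localization.AtPrime P) :=
    hG.isGorensteinLocalRing_localization P
  have h1 := annihilator_map_localization P 𝔞
  have h𝔟' : (Submodule.annihilator (𝔞.map (algebraMap S (Localization.AtPrime P))) :
      Ideal (Localization.AtPrime P)) ≠ ⊤ := by
    rw [h1, IsLocalization.map_algebraMap_ne_top_iff_disjoint P.primeCompl]
    rw [Set.disjoint_left]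
    intro x hx hx'
    exact hx (h𝔟P hx')
  have h𝔞' : 𝔞.map (algebraMap S (Localization.AtPrime P)) = ⊤ ∨
      LocCoh.IsCohenMacaulayLocalRing (Localization.AtPrime P ⧸
        𝔞.map (algebraMap S (Localization.AtPrime P))) := by
    by_cases h𝔞P : 𝔞 ≤ P
    · right
      haveI : (P.map (Ideal.Quotient.mk 𝔞)).IsPrime := map_mk_isPrime 𝔞 P h𝔞P
      obtain ⟨e⟩ := nonempty_quotient_localization_ringEquiv' 𝔞 (P.map (Ideal.Quotient.mk 𝔞)) P
        (comap_map_mk_eq 𝔞 P h𝔞P).symm
      exact Groth.Agent.Lib.helper6.CMFlat.isCM_of_ringEquiv e.symm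
        (hCM.isCohenMacaulayLocalRing_localization _)
    · left
      obtain ⟨a, ha, haP⟩ := Set.not_subset.mp h𝔞P
      apply Ideal.eq_top_of_isUnit_mem _ (Ideal.mem_map_of_mem _ ha)
      exact IsLocalization.map_units (Localization.AtPrime P) (⟨a, haP⟩ : P.primeCompl)
  have hLL := isCohenMacaulayLocalRing_quotient_annihilator (Localization.AtPrime P)
    (𝔞.map (algebraMap S (Localization.AtPrime P))) h𝔞' h𝔟'
  rw [h1] at hLL
  obtain ⟨e⟩ := nonempty_quotient_localization_ringEquiv' 𝔟 q P rfl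
  exact Groth.Agent.Lib.helper6.CMFlat.isCM_of_ringEquiv e hLL

/-- **Linkage preserves Cohen–Macaulayness**: `R/𝔠` Gorenstein, `𝔠 ≤ I`, `R/I` CM ⇒
`R/(𝔠 : I)` CM. -/
theorem isCohenMacaulayRing_quotient_colon (R : Type u) [CommRing R] (𝔠 I : Ideal R)
    [hG : LocCoh.IsGorensteinRing (R ⧸ 𝔠)] (h𝔠I : 𝔠 ≤ I)
    [hCM : LocCoh.IsCohenMacaulayRing (R ⧸ I)] :
    LocCoh.IsCohenMacaulayRing (R ⧸ 𝔠.colon (I : Set R)) := by
  have h𝔠J : 𝔠 ≤ 𝔠.colon (I : Set R) := by
    intro c hc
    rw [Submodule.mem_colon]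
    intro i _
    exact 𝔠.mul_mem_right _ hc
  haveI : LocCoh.IsCohenMacaulayRing ((R ⧸ 𝔠) ⧸ I.map (Ideal.Quotient.mk 𝔠)) :=
    Groth.Agent.Lib.helper6.CplQuot.isCMRing_of_ringEquiv
      (DoubleQuot.quotQuotEquivQuotOfLE h𝔠I).symm hCM
  have hann : (Submodule.annihilator (I.map (Ideal.Quotient.mk 𝔠)) : Ideal (R ⧸ 𝔠)) =
      (𝔠.colon (I : Set R)).map (Ideal.Quotient.mk 𝔠) := by
    ext xb
    obtain ⟨x, rfl⟩ := Ideal.Quotient.mk_surjective xb
    rw [mk_mem_map_iff 𝔠 _ h𝔠J, Ideal.map, Submodule.mem_annihilator_span, Submodule.mem_colon]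
    constructor
    · intro h i hi
      have := h ⟨Ideal.Quotient.mk 𝔠 i, i, hi, rfl⟩
      rw [smul_eq_mul] at this ⊢
      rw [← Ideal.Quotient.eq_zero_iff_mem, map_mul]
      exact this
    · rintro h ⟨_, i, hi, rfl⟩
      have := h i hi
      rw [smul_eq_mul] at this
      show Ideal.Quotient.mk 𝔠 x • Ideal.Quotient.mk 𝔠 i = 0
      rw [smul_eq_mul, ← map_mul, Ideal.Quotient.eq_zero_iff_mem]
      exact this
  have hG' := isCohenMacaulayRing_quotient_annihilator (R ⧸ 𝔠) (I.map (Ideal.Quotient.mk 𝔠))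
  rw [hann] at hG'
  exact Groth.Agent.Lib.helper6.CplQuot.isCMRing_of_ringEquiv
    (DoubleQuot.quotQuotEquivQuotOfLE h𝔠J) hG'

end Global

end Groth.Agent.H8.Liaison
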