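import Mathlib
import Groth.Prelude.Def_CAlg
import Groth.Agent.Lib.helper8.LiaisonI
import Groth.Agent.Lib.helper8.RChE
import Groth.Agent.Lib.helper8.CanonA

/-!
# Liaison, part J (helper8): Gorenstein local rings are invariant under ring isomorphisms;
quotients `A/ann(x)` of Gorenstein local rings with `ann(ann x) = (x)`
-/

universe u

set_option linter.unusedSectionVars false

namespace Groth.Agent.H8.Liaison

open CategoryTheory Abelian Opposite LocCoh InjHull IsLocalRing Groth.Agent.H21.LC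
open Groth.Agent.H8.Canon Groth.Agent.H8.LDual Groth.Agent.H8.NonVan Groth.Agent.H8.RCh

/-- a canonical-module criterion: a CM local quotient `T = A/𝔟` of a Gorenstein local ring `A`
with `dim T = dim A` and `T ≃ Hom_A(T, A)` is Gorenstein. -/
theorem isGorensteinLocalRing_of_equiv_hom (A : Type u) [CommRing A]
    [LocCoh.IsGorensteinLocalRing A] (T : Type u) [CommRing T]
    [LocCoh.IsCohenMacaulayLocalRing T] [Algebra A T]
    (hsurj : Function.Surjective (algebraMap A T))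
    (hdim : ringKrullDim T = ringKrullDim A)
    (e : T ≃ₗ[A] (T →ₗ[A] A)) : LocCoh.IsGorensteinLocalRing T := by
  haveI : IsLocalRing T := IsCohenMacaulayLocalRing.toIsLocalRing
  haveI : IsNoetherianRing T := IsCohenMacaulayLocalRing.toIsNoetherian
  obtain ⟨N, hN⟩ := exists_supportDim_eq_nat (R := A) A
  rw [Module.supportDim_self_eq_ringKrullDim] at hN
  have hn : ringKrullDim T = N := hdim.trans hN
  obtain ⟨E, _, _, f, hf⟩ :=
    Groth.Agent.Lib.helper1.InjHullLib.exists_injective_hull (R := T) (ResidueField T)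
  have eX : T ≃ₗ[A] ((Ext A (ModuleCat.{u} A) 0).obj (op (ModuleCat.of A T))).obj
      (ModuleCat.of A A) :=
    e ≪≫ₗ (Ext.linearEquiv₀ ≪≫ₗ ModuleCat.homLinearEquiv).symm ≪≫ₗ
      (oldNew (ModuleCat.of A T) (ModuleCat.of A A) 0).symm
  obtain ⟨eK⟩ := canonMod_of_equiv_ext T N E f hf A hsurj N hN 0 (Nat.zero_le _) (Nat.sub_zero N)
    T eX
  exact (gorenstein_iff_canon_free T N hn E f hf T eK).mpr ⟨LinearEquiv.refl T T⟩

/-- Gorenstein local rings are invariant under ring isomorphisms. -/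
theorem isGorensteinLocalRing_of_ringEquiv {A B : Type u} [CommRing A] [CommRing B]
    (e : A ≃+* B) [hA : LocCoh.IsGorensteinLocalRing A] : LocCoh.IsGorensteinLocalRing B := by
  letI : Algebra A B := e.toRingHom.toAlgebra
  have hsurj : Function.Surjective (algebraMap A B) := e.surjective
  haveI : LocCoh.IsCohenMacaulayLocalRing B :=
    Groth.Agent.Lib.helper6.CMFlat.isCM_of_ringEquiv e
      (isCohenMacaulayLocalRing_of_isGorensteinLocalRing A)
  let ε : A ≃ₗ[A] B := LinearEquiv.ofBijective (Algebra.linearMap A B) e.bijective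
  have h : B ≃ₗ[A] (B →ₗ[A] A) :=
    ε.symm ≪≫ₗ (LinearMap.ringLmapEquivSelf A A A).symm ≪≫ₗ LinearEquiv.congrLeft A A ε
  exact isGorensteinLocalRing_of_equiv_hom A B hsurj (ringKrullDim_eq_of_ringEquiv e).symm h


/-- if `dim A/𝔞 < dim A` over a Gorenstein local ring then `ann 𝔞 = 0`. -/
theorem annihilator_eq_bot_of_supportDim_lt (A : Type u) [CommRing A]
    [LocCoh.IsGorensteinLocalRing A] (n : ℕ) (hn : ringKrullDim A = n) (𝔞 : Ideal A)
    (hlt : Module.supportDim A (A ⧸ 𝔞) < n) : (Submodule.annihilator 𝔞 : Ideal A) = ⊥ := by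
  set 𝔟 : Ideal A := Submodule.annihilator 𝔞 with h𝔟def
  obtain ⟨g, hg⟩ := Groth.Agent.H8.LCGor.exists_isInjectiveHull_H_of_gorenstein A n hn
  obtain ⟨e0⟩ := gorenstein_duality' A n hn _ g hg 0 n (by omega) (A ⧸ 𝔞)
  have e1 : Ext (ModuleCat.of A (A ⧸ 𝔞)) (ModuleCat.of A A) 0 ≃ₗ[A] 𝔟 :=
    (Ext.linearEquiv₀.trans ModuleCat.homLinearEquiv).trans (homQuotEquivAnn A 𝔞)
  have eK' : (𝔟 →ₗ[A] H (maximalIdeal A) n A) ≃ₗ[A] H (maximalIdeal A) n (A ⧸ 𝔞) :=
    (LinearEquiv.congrLeft (H (maximalIdeal A) n A) A e1).symm.trans e0.symm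
  haveI : Subsingleton (H (maximalIdeal A) n (A ⧸ 𝔞)) :=
    Groth.Agent.H8.CdDim.subsingleton_H_of_supportDim_lt (maximalIdeal A) (A ⧸ 𝔞) n hlt
  haveI : Subsingleton (𝔟 →ₗ[A] H (maximalIdeal A) n A) := eK'.toEquiv.subsingleton
  haveI : Subsingleton 𝔟 := subsingleton_of_subsingleton_dual hg 𝔟 inferInstance
  rw [eq_bot_iff]
  intro x hx
  have : (⟨x, hx⟩ : 𝔟) = 0 := Subsingleton.elim _ _
  exact congrArg Subtype.val this

/-- **Local Gorenstein linkage lemma**: `A` Gorenstein local, `𝔟 = ann (x) ≠ A`,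
`ann 𝔟 = (x)`, `A/(x)` CM (or `(x) = A`): then `A/𝔟` is Gorenstein. -/
theorem isGorensteinLocalRing_quotient_annihilator_span_singleton (A : Type u) [CommRing A]
    [LocCoh.IsGorensteinLocalRing A] (x : A)
    (h𝔟 : (Submodule.annihilator (Ideal.span {x}) : Ideal A) ≠ ⊤)
    (hxx : (Submodule.annihilator (Submodule.annihilator (Ideal.span {x}) : Ideal A) : Ideal A) =
      Ideal.span {x})
    (h𝔞 : Ideal.span {x} = ⊤ ∨ LocCoh.IsCohenMacaulayLocalRing (A ⧸ Ideal.span {x})) :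
    LocCoh.IsGorensteinLocalRing (A ⧸ (Submodule.annihilator (Ideal.span {x}) : Ideal A)) := by
  set 𝔟 : Ideal A := Submodule.annihilator (Ideal.span {x}) with h𝔟def
  haveI hCM : LocCoh.IsCohenMacaulayLocalRing (A ⧸ 𝔟) :=
    isCohenMacaulayLocalRing_quotient_annihilator A (Ideal.span {x}) h𝔞 h𝔟
  obtain ⟨n, hn'⟩ := exists_supportDim_eq_nat (R := A) A
  have hn : ringKrullDim A = n := by rw [← Module.supportDim_self_eq_ringKrullDim]; exact hn'
  have hdim : ringKrullDim (A ⧸ 𝔟) = ringKrullDim A := by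
    rw [hn, ← Module.supportDim_quotient_eq_ringKrullDim]
    have hle : Module.supportDim A (A ⧸ 𝔟) ≤ n :=
      (Module.supportDim_le_ringKrullDim A _).trans hn.le
    rcases lt_or_eq_of_le hle with hlt | heq
    · exfalso
      have h0 := annihilator_eq_bot_of_supportDim_lt A n hn 𝔟 hlt
      rw [hxx] at h0
      apply h𝔟
      rw [h𝔟def, h0, Submodule.annihilator_bot]
    · exact heq
  have htors : 𝔟 = Ideal.torsionOf A A x := by
    ext r
    rw [h𝔟def, Submodule.mem_annihilator_span_singleton, Ideal.mem_torsionOf_iff]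
  have e : (A ⧸ 𝔟) ≃ₗ[A] ((A ⧸ 𝔟) →ₗ[A] A) :=
    (Submodule.quotEquivOfEq _ _ htors) ≪≫ₗ (Ideal.quotTorsionOfEquivSpanSingleton A A x) ≪≫ₗ
      (LinearEquiv.ofEq _ _ hxx.symm) ≪≫ₗ (homQuotEquivAnn A 𝔟).symm
  exact isGorensteinLocalRing_of_equiv_hom A (A ⧸ 𝔟) Ideal.Quotient.mk_surjective hdim e

end Groth.Agent.H8.Liaison
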