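import Mathlib
import Groth.Prelude.Def_CAlg
import Groth.Agent.Lib.helper8.LiaisonJ
import Groth.Agent.Lib.helper6.CMSeq
import Groth.Agent.Lib.helper21.ExtReg
import Groth.Agent.Lib.helper8.LDualE

/-!
# Liaison, part K (helper8): complete intersections in locally Gorenstein rings are Gorenstein;
the global Gorenstein linkage theorem for almost complete intersections
-/

universe u

set_option linter.unusedSectionVars false

namespace Groth.Agent.H8.Liaison

open CategoryTheory Abelian Opposite LocCoh InjHull IsLocalRing Groth.Agent.H21.LC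
open Groth.Agent.H8.Canon Groth.Agent.H8.LDual Groth.Agent.H8.NonVan Groth.Agent.H8.RCh
open RingTheory.Sequence

/-- local data for the linkage theorems. -/
theorem localization_data (S : Type u) [CommRing S]
    [hG : LocCoh.IsGorensteinRing S] (𝔞 : Ideal S) [hCM : LocCoh.IsCohenMacaulayRing (S ⧸ 𝔞)]
    (P : Ideal S) [P.IsPrime] (h𝔟P : (Submodule.annihilator 𝔞 : Ideal S) ≤ P) :
    (Submodule.annihilator (𝔞.map (algebraMap S (Localization.AtPrime P))) :
      Ideal (Localization.AtPrime P)) ≠ ⊤ ∧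
    (𝔞.map (algebraMap S (Localization.AtPrime P)) = ⊤ ∨
      LocCoh.IsCohenMacaulayLocalRing (Localization.AtPrime P ⧸
        𝔞.map (algebraMap S (Localization.AtPrime P)))) := by
  classical
  haveI : IsNoetherianRing S := hG.toIsNoetherian
  have h1 := annihilator_map_localization P 𝔞
  constructor
  · rw [h1, IsLocalization.map_algebraMap_ne_top_iff_disjoint P.primeCompl]
    rw [Set.disjoint_left]
    intro x hx hx'
    exact hx (h𝔟P hx')
  · by_cases h𝔞P : 𝔞 ≤ P
    · right
      haveI : (P.map (Ideal.Quotient.mk 𝔞)).IsPrime := map_mk_isPrime 𝔞 P h𝔞P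
      obtain ⟨e⟩ := nonempty_quotient_localization_ringEquiv' 𝔞 (P.map (Ideal.Quotient.mk 𝔞)) P
        (comap_map_mk_eq 𝔞 P h𝔞P).symm
      exact Groth.Agent.Lib.helper6.CMFlat.isCM_of_ringEquiv e.symm
        (hCM.isCohenMacaulayLocalRing_localization _)
    · left
      obtain ⟨a, ha, haP⟩ := Set.not_subset.mp h𝔞P
      apply Ideal.eq_top_of_isUnit_mem _ (Ideal.mem_map_of_mem _ ha)
      exact IsLocalization.map_units (Localization.AtPrime P) (⟨a, haP⟩ : P.primeCompl)

/-- **Gorenstein linkage theorem for a principal ideal**: `S` Gorenstein, `S/(x)` CM,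
`ann(ann x) = (x)`: then `S/ann(x)` is Gorenstein. -/
theorem isGorensteinRing_quotient_annihilator_span_singleton (S : Type u) [CommRing S]
    [hG : LocCoh.IsGorensteinRing S] (x : S)
    [hCM : LocCoh.IsCohenMacaulayRing (S ⧸ Ideal.span {x})]
    (hxx : (Submodule.annihilator (Submodule.annihilator (Ideal.span {x}) : Ideal S) : Ideal S) =
      Ideal.span {x}) :
    LocCoh.IsGorensteinRing (S ⧸ (Submodule.annihilator (Ideal.span {x}) : Ideal S)) := by
  classical
  haveI : IsNoetherianRing S := hG.toIsNoetherian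
  set 𝔟 : Ideal S := Submodule.annihilator (Ideal.span {x}) with h𝔟def
  refine { isGorensteinLocalRing_localization := fun q hq => ?_ }
  let P : Ideal S := q.comap (Ideal.Quotient.mk 𝔟)
  haveI hPp : P.IsPrime := Ideal.comap_isPrime _ _
  have h𝔟P : 𝔟 ≤ P := by
    intro y hy
    show Ideal.Quotient.mk 𝔟 y ∈ q
    rw [Ideal.Quotient.eq_zero_iff_mem.mpr hy]
    exact q.zero_mem
  haveI hA : LocCoh.IsGorensteinLocalRing (Localization.AtPrime P) :=
    hG.isGorensteinLocalRing_localization P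
  obtain ⟨h𝔟', h𝔞'⟩ := localization_data S (Ideal.span {x}) P h𝔟P
  have hspan : (Ideal.span {x}).map (algebraMap S (Localization.AtPrime P)) =
      Ideal.span {algebraMap S (Localization.AtPrime P) x} := by
    rw [Ideal.map_span, Set.image_singleton]
  have h1 := annihilator_map_localization P (Ideal.span {x})
  have h2 := annihilator_map_localization P 𝔟
  rw [hxx] at h2
  rw [hspan] at h1 h2 h𝔟' h𝔞'
  have hxx' : (Submodule.annihilator (Submodule.annihilator
      (Ideal.span {algebraMap S (Localization.AtPrime P) x}) :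
        Ideal (Localization.AtPrime P)) : Ideal (Localization.AtPrime P)) =
      Ideal.span {algebraMap S (Localization.AtPrime P) x} := by
    rw [h1]; exact h2
  have hLG := isGorensteinLocalRing_quotient_annihilator_span_singleton (Localization.AtPrime P)
    (algebraMap S (Localization.AtPrime P) x) h𝔟' hxx' h𝔞'
  rw [h1] at hLG
  obtain ⟨e⟩ := nonempty_quotient_localization_ringEquiv' 𝔟 q P rfl
  exact isGorensteinLocalRing_of_ringEquiv e


/-- **Complete intersections are Gorenstein**: in a Noetherian ring all of whose localizations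
at primes are Gorenstein, an ideal of height `c` generated by `c` elements has a Gorenstein
quotient. -/
theorem isGorensteinRing_quotient_of_height_eq (R : Type u) [CommRing R] [IsNoetherianRing R]
    (hR : ∀ (P : Ideal R) [P.IsPrime], LocCoh.IsGorensteinLocalRing (Localization.AtPrime P))
    (c : ℕ) (g : Fin c → R) (hc : (Ideal.span (Set.range g)).height = c) :
    LocCoh.IsGorensteinRing (R ⧸ Ideal.span (Set.range g)) := by
  classical
  set 𝔠 : Ideal R := Ideal.span (Set.range g) with h𝔠def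
  refine { isGorensteinLocalRing_localization := fun q hq => ?_ }
  let P : Ideal R := q.comap (Ideal.Quotient.mk 𝔠)
  haveI hPp : P.IsPrime := Ideal.comap_isPrime _ _
  have h𝔠P : 𝔠 ≤ P := by
    intro y hy
    show Ideal.Quotient.mk 𝔠 y ∈ q
    rw [Ideal.Quotient.eq_zero_iff_mem.mpr hy]
    exact q.zero_mem
  haveI hB : LocCoh.IsGorensteinLocalRing (Localization.AtPrime P) := hR P
  haveI hBCM : LocCoh.IsCohenMacaulayLocalRing (Localization.AtPrime P) :=
    isCohenMacaulayLocalRing_of_isGorensteinLocalRing _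
  set B := Localization.AtPrime P with hBdef
  let φ : R →+* B := algebraMap R B
  let xs : List B := (List.ofFn g).map φ
  have hlen : xs.length = c := by simp [xs]
  have hof : Ideal.ofList xs = 𝔠.map φ := by
    rw [← Ideal.map_ofList, h𝔠def]
    congr 1
    unfold Ideal.ofList
    congr 1
    ext y
    simp [List.mem_ofFn]
  have hxs : ∀ x ∈ xs, x ∈ maximalIdeal B := by
    intro x hx
    obtain ⟨y, hy, rfl⟩ := List.mem_map.mp hx
    rw [IsLocalization.AtPrime.to_map_mem_maximal_iff B P]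
    apply h𝔠P
    rw [h𝔠def]
    apply Ideal.subset_span
    rw [List.mem_ofFn] at hy
    exact hy
  have h𝔠'top : 𝔠.map φ ≠ ⊤ := by
    rw [IsLocalization.map_algebraMap_ne_top_iff_disjoint P.primeCompl]
    rw [Set.disjoint_left]
    intro x hx hx'
    exact hx (h𝔠P hx')
  obtain ⟨r, hr⟩ := ENat.ne_top_iff_exists.mp (Ideal.height_ne_top h𝔠'top)
  have hcr : c ≤ r := by
    have h1 : 𝔠.height ≤ ((𝔠.map φ).under R).height :=
      Ideal.height_mono Ideal.le_comap_map
    rw [IsLocalization.height_under P.primeCompl, hc, ← hr] at h1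
    exact_mod_cast h1
  obtain ⟨N, hN⟩ := exists_supportDim_eq_nat (R := B) B
  rw [Module.supportDim_self_eq_ringKrullDim] at hN
  haveI : Nontrivial (B ⧸ 𝔠.map φ) := Ideal.Quotient.nontrivial_iff.2 h𝔠'top
  obtain ⟨n', hn'⟩ := exists_supportDim_eq_nat (R := B ⧸ 𝔠.map φ) (B ⧸ 𝔠.map φ)
  rw [Module.supportDim_self_eq_ringKrullDim] at hn'
  have hsum : n' + r = N := dim_quotient_add_height B N hN (𝔠.map φ) r n' hr.symm hn'
  have hge := Groth.Agent.Lib.helper6.CMSeq.ringKrullDim_le_quotient_ofList_add_length B xs hxs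
  rw [hof, hn', hN, hlen] at hge
  have hge' : N ≤ n' + c := by exact_mod_cast hge
  have hrc : r = c := by omega
  obtain ⟨hreg, hCMT⟩ := Groth.Agent.Lib.helper6.CMSeq.regular_of_dim B xs hxs (by
    rw [hof, hn', hN, hlen]
    exact_mod_cast (by omega : n' + c ≤ N))
  obtain ⟨-, ⟨e⟩⟩ := Groth.Agent.H21.ExtReg.main xs hreg.toIsWeaklyRegular (ModuleCat.of B B)
  haveI : IsLocalRing (B ⧸ Ideal.ofList xs) := hCMT.toIsLocalRing
  haveI : IsNoetherianRing (B ⧸ Ideal.ofList xs) := hCMT.toIsNoetherian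
  have hnT : ringKrullDim (B ⧸ Ideal.ofList xs) = n' := by rw [hof]; exact hn'
  obtain ⟨E, _, _, f, hf⟩ :=
    Groth.Agent.Lib.helper1.InjHullLib.exists_injective_hull (R := B ⧸ Ideal.ofList xs)
      (ResidueField (B ⧸ Ideal.ofList xs))
  have hsm : (Ideal.ofList xs • ⊤ : Submodule B B) = Ideal.ofList xs := by
    rw [smul_eq_mul, Ideal.mul_top]
  have eX : (B ⧸ Ideal.ofList xs) ≃ₗ[B]
      ((Ext B (ModuleCat.{u} B) xs.length).obj (op (ModuleCat.of B (B ⧸ Ideal.ofList xs)))).obj
        (ModuleCat.of B B) :=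
    (Submodule.quotEquivOfEq _ _ hsm.symm) ≪≫ₗ e.symm ≪≫ₗ
      (oldNew (ModuleCat.of B (B ⧸ Ideal.ofList xs)) (ModuleCat.of B B) xs.length).symm
  obtain ⟨eK⟩ := canonMod_of_equiv_ext (B ⧸ Ideal.ofList xs) n' E f hf B
    Ideal.Quotient.mk_surjective N hN xs.length (by omega) (by omega) (B ⧸ Ideal.ofList xs) eX
  haveI hGT : LocCoh.IsGorensteinLocalRing (B ⧸ Ideal.ofList xs) :=
    (gorenstein_iff_canon_free (B ⧸ Ideal.ofList xs) n' hnT E f hf (B ⧸ Ideal.ofList xs) eK).mpr
      ⟨LinearEquiv.refl _ _⟩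
  obtain ⟨e2⟩ := nonempty_quotient_localization_ringEquiv' 𝔠 q P rfl
  exact isGorensteinLocalRing_of_ringEquiv ((Ideal.quotEquivOfEq hof).trans e2)


/-- Gorenstein rings are invariant under ring isomorphisms. -/
theorem isGorensteinRing_of_ringEquiv {R S : Type u} [CommRing R] [CommRing S] (e : R ≃+* S)
    (h : LocCoh.IsGorensteinRing R) : LocCoh.IsGorensteinRing S := by
  haveI : IsNoetherianRing R := h.toIsNoetherian
  haveI : IsNoetherianRing S := isNoetherianRing_of_ringEquiv R e
  refine { isGorensteinLocalRing_localization := fun q _ => ?_ }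
  let e' : Localization.AtPrime (q.comap e) ≃+* Localization.AtPrime q :=
    IsLocalization.ringEquivOfRingEquiv (Localization.AtPrime (q.comap e))
      (Localization.AtPrime q) e (e.map_primeCompl_comap_eq q)
  haveI := h.isGorensteinLocalRing_localization (q.comap e)
  exact isGorensteinLocalRing_of_ringEquiv e'

/-- `ann(I/𝔠) = (𝔠 : I)/𝔠` in `R/𝔠`. -/
theorem annihilator_map_mk {R : Type u} [CommRing R] (𝔠 I : Ideal R) :
    (Submodule.annihilator (I.map (Ideal.Quotient.mk 𝔠)) : Ideal (R ⧸ 𝔠)) =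
      (𝔠.colon (I : Set R)).map (Ideal.Quotient.mk 𝔠) := by
  have h𝔠J : 𝔠 ≤ 𝔠.colon (I : Set R) := by
    intro c hc
    rw [Submodule.mem_colon]
    intro i _
    exact 𝔠.mul_mem_right _ hc
  ext xb
  obtain ⟨x, rfl⟩ := Ideal.Quotient.mk_surjective xb
  rw [mk_mem_map_iff 𝔠 _ h𝔠J, Ideal.map, Submodule.mem_annihilator_span, Submodule.mem_colon]
  constructor
  · intro h i hi
    have := h ⟨Ideal.Quotient.mk 𝔠 i, i, hi, rfl⟩
    rw [smul_eq_mul] at this ⊢
    rw [← Ideal.Quotient.eq_zero_iff_mem, map_mul]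
    exact this
  · rintro h ⟨_, i, hi, rfl⟩
    have := h i hi
    rw [smul_eq_mul] at this
    show Ideal.Quotient.mk 𝔠 x • Ideal.Quotient.mk 𝔠 i = 0
    rw [smul_eq_mul, ← map_mul, Ideal.Quotient.eq_zero_iff_mem]
    exact this

/-- **Links of almost complete intersections are Gorenstein**. -/
theorem isGorensteinRing_quotient_colon_of_sup_span_singleton (R : Type u) [CommRing R]
    (𝔠 I : Ideal R) (f : R) [hG : LocCoh.IsGorensteinRing (R ⧸ 𝔠)]
    (hIf : I = 𝔠 ⊔ Ideal.span {f}) [hCM : LocCoh.IsCohenMacaulayRing (R ⧸ I)]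
    (hcc : 𝔠.colon ((𝔠.colon (I : Set R) : Ideal R) : Set R) = I) :
    LocCoh.IsGorensteinRing (R ⧸ 𝔠.colon (I : Set R)) := by
  have h𝔠I : 𝔠 ≤ I := hIf ▸ le_sup_left
  have h𝔠J : 𝔠 ≤ 𝔠.colon (I : Set R) := by
    intro c hc
    rw [Submodule.mem_colon]
    intro i _
    exact 𝔠.mul_mem_right _ hc
  have hspan : Ideal.span {Ideal.Quotient.mk 𝔠 f} = I.map (Ideal.Quotient.mk 𝔠) := by
    rw [hIf, Ideal.map_sup, Ideal.map_span, Set.image_singleton, Ideal.map_quotient_self,
      bot_sup_eq]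
  haveI : LocCoh.IsCohenMacaulayRing ((R ⧸ 𝔠) ⧸ Ideal.span {Ideal.Quotient.mk 𝔠 f}) := by
    rw [hspan]
    exact Groth.Agent.Lib.helper6.CplQuot.isCMRing_of_ringEquiv
      (DoubleQuot.quotQuotEquivQuotOfLE h𝔠I).symm hCM
  have hann1 : (Submodule.annihilator (Ideal.span {Ideal.Quotient.mk 𝔠 f}) : Ideal (R ⧸ 𝔠)) =
      (𝔠.colon (I : Set R)).map (Ideal.Quotient.mk 𝔠) := by
    rw [hspan]; exact annihilator_map_mk 𝔠 I
  have hxx : (Submodule.annihilator (Submodule.annihilator
      (Ideal.span {Ideal.Quotient.mk 𝔠 f}) : Ideal (R ⧸ 𝔠)) : Ideal (R ⧸ 𝔠)) =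
      Ideal.span {Ideal.Quotient.mk 𝔠 f} := by
    rw [hann1, annihilator_map_mk 𝔠 (𝔠.colon (I : Set R)), hcc, hspan]
  have hmain := isGorensteinRing_quotient_annihilator_span_singleton (R ⧸ 𝔠)
    (Ideal.Quotient.mk 𝔠 f) hxx
  rw [hann1] at hmain
  exact isGorensteinRing_of_ringEquiv (DoubleQuot.quotQuotEquivQuotOfLE h𝔠J) hmain

end Groth.Agent.H8.Liaison
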