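import Mathlib
import Groth.Prelude.Def_CAlg
import Groth.Agent.Lib.helper8.LiaisonH
import Groth.Agent.Lib.helper6.MiracleFlat
import Groth.Agent.S5768

/-!
# Liaison, part L (helper8): flatness of Cohen–Macaulay quotients of maximal dimension of a
Cohen–Macaulay local ring flat over a regular local ring; dimension of `A/ann I`.
-/

universe u

set_option linter.unusedSectionVars false
set_option linter.style.haveILetI false

namespace Groth.Agent.H8.Liaison

open LocCoh IsLocalRing Groth.Agent.Lib.helper9.Depth RingTheory.Sequence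

/-- `R` regular local, `A` CM local flat over `R` (local hom), `A/𝔞` CM of the same dimension as
`A`: then `A/𝔞` is flat over `R`. -/
theorem flat_quotient_of_isCohenMacaulay (R A : Type u) [CommRing R] [IsRegularLocalRing R]
    [CommRing A] [Algebra R A] [hA : LocCoh.IsCohenMacaulayLocalRing A]
    [IsLocalHom (algebraMap R A)] [Module.Flat R A] (𝔞 : Ideal A)
    (hdim : ringKrullDim (A ⧸ 𝔞) = ringKrullDim A)
    [hQ : LocCoh.IsCohenMacaulayLocalRing (A ⧸ 𝔞)] :
    Module.Flat R (A ⧸ 𝔞) := by
  classical
  haveI : IsLocalRing A := hA.toIsLocalRing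
  haveI : IsNoetherianRing A := hA.toIsNoetherian
  haveI : IsLocalRing (A ⧸ 𝔞) := hQ.toIsLocalRing
  obtain ⟨d, hd⟩ := Groth.Agent.H5.RegLoc.exists_nat_dim R
  have hsf : (IsLocalRing.maximalIdeal R).spanFinrank = d := by
    have h1 := IsRegularLocalRing.spanFinrank_maximalIdeal (R := R)
    rw [hd] at h1
    exact_mod_cast h1
  obtain ⟨x, hx⟩ := Groth.Agent.H5.RegLoc.exists_fin_generators R d hsf
  have hreg := Groth.Agent.H5.RegLoc.isRegular_of_generators d R hd x hx
  have hofList : Ideal.ofList (List.ofFn x) = IsLocalRing.maximalIdeal R := by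
    rw [← hx]
    unfold Ideal.ofList
    congr 1
    ext y
    simp [List.mem_ofFn]
  have hys : Ideal.ofList ((List.ofFn x).map (algebraMap R A)) = EGA4.mB R A := by
    rw [← Ideal.map_ofList, hofList]
  have hmem : ∀ y ∈ (List.ofFn x).map (algebraMap R A), y ∈ IsLocalRing.maximalIdeal A := by
    intro y hy
    have h1 : y ∈ Ideal.ofList ((List.ofFn x).map (algebraMap R A)) :=
      Ideal.subset_span hy
    rw [hys] at h1
    exact IsLocalRing.map_maximalIdeal_le (algebraMap R A) h1
  have hlen : ((List.ofFn x).map (algebraMap R A)).length = d := by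
    rw [List.length_map, List.length_ofFn]
  have hwrA : IsWeaklyRegular A ((List.ofFn x).map (algebraMap R A)) :=
    hreg.toIsWeaklyRegular.of_flat
  have hAdim := supportDim_quot_ofList_add_length (R := A) (M := A)
    ((List.ofFn x).map (algebraMap R A)) hmem hwrA
  rw [Module.supportDim_self_eq_ringKrullDim, hlen] at hAdim
  -- the surjection `A/(ys) → (A/𝔞)/(ys)`
  have hle : (Ideal.ofList ((List.ofFn x).map (algebraMap R A)) • (⊤ : Submodule A A)) ≤
      Submodule.comap (Submodule.mkQ 𝔞)
        (Ideal.ofList ((List.ofFn x).map (algebraMap R A)) • (⊤ : Submodule A (A ⧸ 𝔞))) := by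
    rw [← Submodule.map_le_iff_le_comap, Submodule.map_smul'']
    exact Submodule.smul_mono le_rfl le_top
  have hsurj : Function.Surjective (Submodule.mapQ _ _ (Submodule.mkQ 𝔞) hle) := by
    intro y
    obtain ⟨y', rfl⟩ := Submodule.mkQ_surjective _ y
    obtain ⟨a, rfl⟩ := Submodule.mkQ_surjective _ y'
    exact ⟨Submodule.Quotient.mk a, rfl⟩
  have h4 := Module.supportDim_le_of_surjective _ hsurj
  have h5 := Groth.Agent.S5768.supportDim_le_quotient_ofList_add
    ((List.ofFn x).map (algebraMap R A)) (A ⧸ 𝔞)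
    (fun y hy => mem_ringJacobson_of_mem_maximalIdeal (hmem y hy))
  rw [hlen] at h5
  have hMdim : Module.supportDim A (A ⧸ 𝔞) = ringKrullDim A := by
    rw [Module.supportDim_quotient_eq_ringKrullDim, hdim]
  have h6 : Module.supportDim A ((A ⧸ 𝔞) ⧸
      (Ideal.ofList ((List.ofFn x).map (algebraMap R A)) • (⊤ : Submodule A (A ⧸ 𝔞)))) + d =
      Module.supportDim A (A ⧸ 𝔞) := by
    apply le_antisymm _ h5
    rw [hMdim, ← hAdim]
    gcongr
  rw [hys] at h6
  have hCM : LocCoh.IsCohenMacaulayModule A (A ⧸ 𝔞) := by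
    have hs : Function.Surjective (algebraMap A (A ⧸ 𝔞)) := Ideal.Quotient.mk_surjective
    show Module.supportDim A (A ⧸ 𝔞) = _
    rw [supportDim_eq_of_surjective (R := A) (S := A ⧸ 𝔞) (M := A ⧸ 𝔞) hs,
      depth_eq_of_surjective (R' := A) (S' := A ⧸ 𝔞) (N := A ⧸ 𝔞) hs]
    exact hQ.supportDim_eq_depth
  refine Groth.Agent.Lib.helper6.MiracleFlat.main R A (A ⧸ 𝔞) hCM ?_
  rw [← h6, hd, add_comm]

/-- in a CM local ring, `A/ann I` has the same dimension as `A` whenever `ann I ≠ A`. -/
theorem ringKrullDim_quotient_annihilator_eq (A : Type u) [CommRing A]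
    [hA : LocCoh.IsCohenMacaulayLocalRing A] (I : Ideal A)
    (hJ : (Submodule.annihilator I : Ideal A) ≠ ⊤) :
    ringKrullDim (A ⧸ (Submodule.annihilator I : Ideal A)) = ringKrullDim A := by
  classical
  haveI : IsLocalRing A := hA.toIsLocalRing
  haveI : IsNoetherianRing A := hA.toIsNoetherian
  haveI hI : Nontrivial I := by
    by_contra h
    rw [not_nontrivial_iff_subsingleton] at h
    apply hJ
    rw [eq_top_iff]
    intro a _
    rw [Submodule.mem_annihilator]
    intro y hy
    have : (⟨y, hy⟩ : I) = 0 := Subsingleton.elim _ _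
    have hy0 : y = 0 := congrArg Subtype.val this
    rw [hy0, smul_zero]
  obtain ⟨Q, hQ⟩ := associatedPrimes.nonempty A I
  have hQA : Q ∈ associatedPrimes A A :=
    associatedPrimes.subset_of_injective (f := I.subtype) Subtype.val_injective hQ
  have hJQ : (Submodule.annihilator I : Ideal A) ≤ Q := by
    have h := IsAssociatedPrime.annihilator_le hQ
    rwa [Submodule.annihilator_top] at h
  have h1 := depth_le_ringKrullDim_quotient_of_mem_associatedPrimes A Q hQA
  rw [← hA.supportDim_eq_depth, Module.supportDim_self_eq_ringKrullDim] at h1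
  apply le_antisymm (ringKrullDim_quotient_le _)
  exact h1.trans (ringKrullDim_le_of_surjective (Ideal.Quotient.factor hJQ)
    (Ideal.Quotient.factor_surjective hJQ))

end Groth.Agent.H8.Liaison
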