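import Mathlib
import Groth.Prelude.Def_CAlg
import Groth.Agent.Lib.helper8.LiaisonL

/-!
# Liaison, part M (helper8): linkage modulo a regular sequence.
-/

universe u

set_option linter.unusedSectionVars false
set_option linter.style.haveILetI false

namespace Groth.Agent.H8.Liaison

open CategoryTheory Abelian LocCoh IsLocalRing Groth.Agent.Lib.helper9.Depth RingTheory.Sequence
open Groth.Agent.H21.TorLib Pointwise

section ExtStep

variable {A : Type u} [CommRing A]

/-- transport of vanishing of `Ext` along an iso in the second variable. -/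
theorem subsingleton_ext_of_iso {X N N' : ModuleCat.{u} A} (e : N ≅ N') (i : ℕ)
    [Subsingleton (Ext X N i)] : Subsingleton (Ext X N' i) := by
  have h : ∀ x : Ext X N' i, x = 0 := fun x => by
    have hx : x = (x.comp (Ext.mk₀ e.inv) (add_zero i)).comp (Ext.mk₀ e.hom) (add_zero i) := by
      rw [Ext.comp_assoc_of_third_deg_zero, Ext.mk₀_comp_mk₀, e.inv_hom_id, Ext.comp_mk₀_id]
    rw [hx, Subsingleton.elim (x.comp (Ext.mk₀ e.inv) (add_zero i)) 0, Ext.zero_comp]
  exact ⟨fun a b => by rw [h a, h b]⟩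

/-- single step: if `Ext^i(C, M) = 0` for `i ≥ 1` and `y` is `M`-regular, the same holds for
`M/yM` and every map `C → M/yM` lifts to `M`. -/
theorem ext_step (C M : Type u) [AddCommGroup C] [Module A C] [AddCommGroup M] [Module A M]
    (y : A) (hy : IsSMulRegular M y)
    (hP : ∀ i, 1 ≤ i → Subsingleton (Ext (ModuleCat.of A C) (ModuleCat.of A M) i)) :
    (∀ i, 1 ≤ i →
      Subsingleton (Ext (ModuleCat.of A C) (ModuleCat.of A (QuotSMulTop y M)) i)) ∧
    ∀ φ : C →ₗ[A] QuotSMulTop y M, ∃ ψ : C →ₗ[A] M,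
      (Submodule.mkQ (y • (⊤ : Submodule A M))) ∘ₗ ψ = φ := by
  have hex : Function.Exact (LinearMap.lsmul A M y)
      (Submodule.mkQ (y • (⊤ : Submodule A M))) := by
    intro z
    rw [Submodule.mkQ_apply, Submodule.Quotient.mk_eq_zero]
    constructor
    · intro hz
      obtain ⟨w, -, rfl⟩ := (Submodule.mem_smul_pointwise_iff_exists _ _ _).1 hz
      exact ⟨w, rfl⟩
    · rintro ⟨w, rfl⟩
      exact Submodule.smul_mem_pointwise_smul w y ⊤ trivial
  let S : ShortComplex (ModuleCat.{u} A) :=
    ShortComplex.mk (ModuleCat.ofHom (LinearMap.lsmul A M y))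
      (ModuleCat.ofHom (Submodule.mkQ (y • (⊤ : Submodule A M))))
      (by rw [← ModuleCat.ofHom_comp, hex.linearMap_comp_eq_zero]; rfl)
  have hS : S.ShortExact := ModuleCat.shortComplex_shortExact S hex hy
    (Submodule.mkQ_surjective _)
  constructor
  · intro i hi
    suffices h : ∀ x : Ext (ModuleCat.of A C) (ModuleCat.of A (QuotSMulTop y M)) i, x = 0 from
      ⟨fun a b => by rw [h a, h b]⟩
    intro x
    haveI : Subsingleton (Ext (ModuleCat.of A C) S.X₁ (i + 1)) := hP (i + 1) (by omega)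
    haveI : Subsingleton (Ext (ModuleCat.of A C) S.X₂ i) := hP i hi
    obtain ⟨x₂, rfl⟩ := Ext.covariant_sequence_exact₃ (ModuleCat.of A C) hS x rfl
      (Subsingleton.elim _ _)
    rw [Subsingleton.elim x₂ 0, Ext.zero_comp]
  · intro φ
    haveI : Subsingleton (Ext (ModuleCat.of A C) S.X₁ 1) := hP 1 le_rfl
    obtain ⟨x₂, hx₂⟩ := Ext.covariant_sequence_exact₃ (ModuleCat.of A C) hS
      (Ext.mk₀ (show ModuleCat.of A C ⟶ S.X₃ from ModuleCat.ofHom φ)) (n₁ := 1) rfl
      (Subsingleton.elim _ _)
    obtain ⟨ψ, rfl⟩ : ∃ ψ : ModuleCat.of A C ⟶ S.X₂, Ext.mk₀ ψ = x₂ :=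
      ⟨Ext.homEquiv₀ x₂, Ext.mk₀_homEquiv₀_apply x₂⟩
    rw [Ext.mk₀_comp_mk₀] at hx₂
    have h := (Ext.mk₀_bijective _ _).1 hx₂
    refine ⟨ψ.hom, ?_⟩
    have h2 := congrArg ModuleCat.Hom.hom h
    exact h2

/-- iterated version along a weakly regular sequence. -/
theorem ext_ofList (C : Type u) [AddCommGroup C] [Module A C] : ∀ (ys : List A) (M : Type u)
    [AddCommGroup M] [Module A M], IsWeaklyRegular M ys →
    (∀ i, 1 ≤ i → Subsingleton (Ext (ModuleCat.of A C) (ModuleCat.of A M) i)) →
    (∀ i, 1 ≤ i → Subsingleton (Ext (ModuleCat.of A C)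
      (ModuleCat.of A (M ⧸ (Ideal.ofList ys • (⊤ : Submodule A M)))) i)) ∧
    ∀ φ : C →ₗ[A] (M ⧸ (Ideal.ofList ys • (⊤ : Submodule A M))), ∃ ψ : C →ₗ[A] M,
      (Submodule.mkQ (Ideal.ofList ys • (⊤ : Submodule A M))) ∘ₗ ψ = φ := by
  intro ys
  induction ys with
  | nil =>
    intro M _ _ _ hP
    have hbot : (Ideal.ofList ([] : List A) • (⊤ : Submodule A M)) = ⊥ := by
      rw [Ideal.ofList_nil, Submodule.bot_smul]
    let e : (M ⧸ (Ideal.ofList ([] : List A) • (⊤ : Submodule A M))) ≃ₗ[A] M :=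
      Submodule.quotEquivOfEqBot _ hbot
    constructor
    · intro i hi
      haveI := hP i hi
      exact subsingleton_ext_of_iso e.symm.toModuleIso i
    · intro φ
      refine ⟨e.toLinearMap ∘ₗ φ, ?_⟩
      ext c
      show e.symm (e (φ c)) = φ c
      exact e.symm_apply_apply _
  | cons y ys ih =>
    intro M _ _ hreg hP
    rw [isWeaklyRegular_cons_iff] at hreg
    obtain ⟨hy, hys⟩ := hreg
    obtain ⟨hP₁, hlift₁⟩ := ext_step C M y hy hP
    obtain ⟨hP₂, hlift₂⟩ := ih (QuotSMulTop y M) hys hP₁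
    let e := Submodule.quotOfListConsSMulTopEquivQuotSMulTopInner M y ys
    constructor
    · intro i hi
      haveI := hP₂ i hi
      exact subsingleton_ext_of_iso e.symm.toModuleIso i
    · intro φ
      obtain ⟨ψ₁, hψ₁⟩ := hlift₂ (e.toLinearMap ∘ₗ φ)
      obtain ⟨ψ, hψ⟩ := hlift₁ ψ₁
      refine ⟨ψ, ?_⟩
      ext c
      apply e.injective
      have h1 := LinearMap.congr_fun hψ₁ c
      have h2 := LinearMap.congr_fun hψ c
      simp only [LinearMap.comp_apply] at h1 h2 ⊢
      rw [LinearEquiv.coe_coe] at h1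
      rw [← h1, ← h2]
      rfl

end ExtStep

section InfSmul

variable {A : Type u} [CommRing A]

/-- if `ys` is weakly regular on `P = M/N` then `N ⊓ (ys)M ≤ (ys)N`. -/
theorem ker_inf_smul_top_le : ∀ (ys : List A) (M P : Type u) [AddCommGroup M] [Module A M]
    [AddCommGroup P] [Module A P] (π : M →ₗ[A] P), Function.Surjective π →
    IsWeaklyRegular P ys →
    LinearMap.ker π ⊓ (Ideal.ofList ys • (⊤ : Submodule A M)) ≤
      Ideal.ofList ys • LinearMap.ker π := by
  intro ys
  induction ys with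
  | nil =>
    intro M P _ _ _ _ π _ _
    rw [Ideal.ofList_nil, Submodule.bot_smul, Submodule.bot_smul, inf_bot_eq]
  | cons y ys ih =>
    intro M P _ _ _ _ π hπ hreg
    rw [isWeaklyRegular_cons_iff] at hreg
    obtain ⟨hy, hys⟩ := hreg
    have IH := ih (QuotSMulTop y M) (QuotSMulTop y P) (QuotSMulTop.map y π)
      (QuotSMulTop.map_surjective y hπ) hys
    -- kernel of the induced map
    have hker : LinearMap.ker (QuotSMulTop.map y π) ≤
        Submodule.map (Submodule.mkQ (y • (⊤ : Submodule A M))) (LinearMap.ker π) := by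
      intro x' hx'
      obtain ⟨x, rfl⟩ := Submodule.mkQ_surjective _ x'
      rw [LinearMap.mem_ker, Submodule.mkQ_apply, QuotSMulTop.map_apply_mk,
        Submodule.Quotient.mk_eq_zero] at hx'
      obtain ⟨p, -, hp⟩ := (Submodule.mem_smul_pointwise_iff_exists _ _ _).1 hx'
      obtain ⟨m₁, rfl⟩ := hπ p
      refine ⟨x - y • m₁, ?_, ?_⟩
      · rw [SetLike.mem_coe, LinearMap.mem_ker, map_sub, map_smul, ← hp]
        exact sub_self _
      · rw [map_sub, sub_eq_self, Submodule.mkQ_apply, Submodule.Quotient.mk_eq_zero]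
        exact Submodule.smul_mem_pointwise_smul m₁ y ⊤ trivial
    rintro a ⟨haK, haL⟩
    rw [SetLike.mem_coe, LinearMap.mem_ker] at haK
    rw [SetLike.mem_coe, Ideal.ofList_cons_smul, Submodule.mem_sup] at haL
    obtain ⟨a₁, ha₁, b, hb, rfl⟩ := haL
    obtain ⟨m, -, rfl⟩ := (Submodule.mem_smul_pointwise_iff_exists _ _ _).1 ha₁
    have h1 : Submodule.mkQ (y • (⊤ : Submodule A M)) (y • m + b) ∈
        LinearMap.ker (QuotSMulTop.map y π) ⊓
          (Ideal.ofList ys • (⊤ : Submodule A (QuotSMulTop y M))) := by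
      constructor
      · rw [SetLike.mem_coe, LinearMap.mem_ker, Submodule.mkQ_apply, QuotSMulTop.map_apply_mk,
          haK]
        rfl
      · have h2 : Submodule.mkQ (y • (⊤ : Submodule A M)) (y • m + b) =
            Submodule.mkQ (y • (⊤ : Submodule A M)) b := by
          rw [map_add, add_eq_right, Submodule.mkQ_apply, Submodule.Quotient.mk_eq_zero]
          exact Submodule.smul_mem_pointwise_smul m y ⊤ trivial
        rw [SetLike.mem_coe, h2]
        have h3 : Submodule.mkQ (y • (⊤ : Submodule A M)) b ∈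
            Submodule.map (Submodule.mkQ (y • (⊤ : Submodule A M)))
              (Ideal.ofList ys • (⊤ : Submodule A M)) := ⟨b, hb, rfl⟩
        rw [Submodule.map_smul''] at h3
        exact Submodule.smul_mono le_rfl le_top h3
    have h4 := Submodule.smul_mono (le_refl (Ideal.ofList ys)) hker (IH h1)
    rw [← Submodule.map_smul''] at h4
    obtain ⟨c, hc, hcm⟩ := h4
    have hcK : c ∈ LinearMap.ker π := Submodule.smul_le_right hc
    have h5 : (y • m + b) - c ∈ y • (⊤ : Submodule A M) := by
      rw [← Submodule.Quotient.mk_eq_zero, Submodule.Quotient.mk_sub, sub_eq_zero]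
      exact hcm.symm
    obtain ⟨m₂, -, hm₂⟩ := (Submodule.mem_smul_pointwise_iff_exists _ _ _).1 h5
    have hm₂K : m₂ ∈ LinearMap.ker π := by
      rw [LinearMap.mem_ker]
      apply hy
      show y • π m₂ = y • 0
      rw [smul_zero, ← map_smul, hm₂, map_sub, haK, LinearMap.mem_ker.1 hcK, sub_zero]
    have h6 : y • m + b = y • m₂ + c := by rw [hm₂]; abel
    rw [h6, Ideal.ofList_cons_smul]
    exact Submodule.add_mem_sup (Submodule.smul_mem_pointwise_smul m₂ y _ hm₂K) hc

end InfSmul

section ExtVan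

open InjHull Groth.Agent.H21.LC Groth.Agent.H8.Canon Groth.Agent.H8.LDual Groth.Agent.H8.NonVan
  Groth.Agent.H8.CdDim

/-- over a Gorenstein local ring of dimension `n`, `Ext^i(N, A) = 0` for `i ≥ 1` when `N` is a
nonzero finite module of depth `≥ n` (a maximal Cohen–Macaulay module). -/
theorem subsingleton_ext_self_of_depth (A : Type u) [CommRing A]
    [LocCoh.IsGorensteinLocalRing A] (n : ℕ) (hn : ringKrullDim A = n) (N : Type u)
    [AddCommGroup N] [Module A N] [Module.Finite A N] [Nontrivial N]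
    (hdepth : (n : ℕ∞) ≤ idealDepth (maximalIdeal A) N) :
    ∀ i, 1 ≤ i → Subsingleton (Ext (ModuleCat.of A N) (ModuleCat.of A A) i) := by
  obtain ⟨g, hg⟩ := Groth.Agent.H8.LCGor.exists_isInjectiveHull_H_of_gorenstein A n hn
  obtain ⟨hdepthA, hinjdim⟩ := Groth.Agent.H21.GorRing.depth_and_injdim A n hn
  have hIMN := maximalIdeal_smul_top_ne_top (R := A) N
  intro i hi
  by_cases hin : i ≤ n
  · obtain ⟨e⟩ := gorenstein_duality' A n hn _ g hg i (n - i) (by omega) N
    haveI : Subsingleton (H (maximalIdeal A) (n - i) N) := by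
      apply subsingleton_of_lt_depth (maximalIdeal A) N hIMN (n - i)
      refine le_trans ?_ hdepth
      exact_mod_cast (by omega : n - i + 1 ≤ n)
    haveI : Subsingleton (Ext (ModuleCat.of A N) (ModuleCat.of A A) i →ₗ[A]
        H (maximalIdeal A) n A) := e.symm.toEquiv.subsingleton
    exact subsingleton_of_subsingleton_dual hg _ inferInstance
  · exact HasInjectiveDimensionLT.subsingleton (ModuleCat.of A A) (n + 1) i (by omega) _

/-- in a Noetherian local ring, a sequence in `m` regular on `A` is regular on every CM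
quotient `A/𝔞` of the same dimension as `A`. -/
theorem isWeaklyRegular_quotient_of_isCohenMacaulay (A : Type u) [CommRing A] [IsLocalRing A]
    [IsNoetherianRing A] (ys : List A) (hmem : ∀ y ∈ ys, y ∈ maximalIdeal A)
    (hwrA : IsWeaklyRegular A ys) (𝔞 : Ideal A)
    (hdim : ringKrullDim (A ⧸ 𝔞) = ringKrullDim A)
    [hQ : LocCoh.IsCohenMacaulayLocalRing (A ⧸ 𝔞)] :
    IsWeaklyRegular (A ⧸ 𝔞) ys := by
  classical
  haveI : IsLocalRing (A ⧸ 𝔞) := hQ.toIsLocalRing
  have hAdim := supportDim_quot_ofList_add_length (R := A) (M := A) ys hmem hwrA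
  rw [Module.supportDim_self_eq_ringKrullDim] at hAdim
  have hle : (Ideal.ofList ys • (⊤ : Submodule A A)) ≤
      Submodule.comap (Submodule.mkQ 𝔞) (Ideal.ofList ys • (⊤ : Submodule A (A ⧸ 𝔞))) := by
    rw [← Submodule.map_le_iff_le_comap, Submodule.map_smul'']
    exact Submodule.smul_mono le_rfl le_top
  have hsurj : Function.Surjective (Submodule.mapQ _ _ (Submodule.mkQ 𝔞) hle) := by
    intro y
    obtain ⟨y', rfl⟩ := Submodule.mkQ_surjective _ y
    obtain ⟨a, rfl⟩ := Submodule.mkQ_surjective _ y'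
    exact ⟨Submodule.Quotient.mk a, rfl⟩
  have h4 := Module.supportDim_le_of_surjective _ hsurj
  have h5 := Groth.Agent.S5768.supportDim_le_quotient_ofList_add ys (A ⧸ 𝔞)
    (fun y hy => mem_ringJacobson_of_mem_maximalIdeal (hmem y hy))
  have hMdim : Module.supportDim A (A ⧸ 𝔞) = ringKrullDim A := by
    rw [Module.supportDim_quotient_eq_ringKrullDim, hdim]
  have h6 : Module.supportDim A ((A ⧸ 𝔞) ⧸
      (Ideal.ofList ys • (⊤ : Submodule A (A ⧸ 𝔞)))) + ys.length =
      Module.supportDim A (A ⧸ 𝔞) := by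
    apply le_antisymm _ h5
    rw [hMdim, ← hAdim]
    gcongr
  have hCM : LocCoh.IsCohenMacaulayModule A (A ⧸ 𝔞) := by
    have hs : Function.Surjective (algebraMap A (A ⧸ 𝔞)) := Ideal.Quotient.mk_surjective
    show Module.supportDim A (A ⧸ 𝔞) = _
    rw [supportDim_eq_of_surjective (R := A) (S := A ⧸ 𝔞) (M := A ⧸ 𝔞) hs,
      depth_eq_of_surjective (R' := A) (S' := A ⧸ 𝔞) (N := A ⧸ 𝔞) hs]
    exact hQ.supportDim_eq_depth
  exact isWeaklyRegular_of_supportDim_eq ys (A ⧸ 𝔞) hCM hmem h6

/-- **Linkage modulo a regular sequence**: `A` Gorenstein local, `A/I` CM of the dimension of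
`A`, `J = ann I`, `ys ⊆ m` an `A`-regular sequence.  Then `J + (ys) = ((ys) : I)` and
`J ∩ (ys) = (ys) J`. -/
theorem linkage_mod_regular (A : Type u) [CommRing A] [hG : LocCoh.IsGorensteinLocalRing A]
    (I : Ideal A) (hI : ringKrullDim (A ⧸ I) = ringKrullDim A)
    [hQ : LocCoh.IsCohenMacaulayLocalRing (A ⧸ I)] (ys : List A)
    (hmem : ∀ y ∈ ys, y ∈ maximalIdeal A) (hwrA : IsWeaklyRegular A ys) :
    (Submodule.annihilator I : Ideal A) ⊔ Ideal.ofList ys =
        Submodule.colon (Ideal.ofList ys) (I : Set A) ∧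
      (Submodule.annihilator I : Ideal A) ⊓ Ideal.ofList ys =
        Ideal.ofList ys * (Submodule.annihilator I : Ideal A) := by
  classical
  haveI hACM : LocCoh.IsCohenMacaulayLocalRing A :=
    isCohenMacaulayLocalRing_of_isGorensteinLocalRing A
  haveI : IsLocalRing (A ⧸ I) := hQ.toIsLocalRing
  obtain ⟨n, hn'⟩ := exists_supportDim_eq_nat (R := A) A
  have hn : ringKrullDim A = n := by rw [← Module.supportDim_self_eq_ringKrullDim]; exact hn'
  have htop : Ideal.ofList ys • (⊤ : Submodule A A) = Ideal.ofList ys := by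
    rw [smul_eq_mul, Ideal.mul_top]
  constructor
  · apply le_antisymm
    · apply sup_le
      · intro j hj
        rw [Submodule.mem_colon]
        intro i hi
        rw [Submodule.mem_annihilator] at hj
        rw [hj i hi]
        exact Submodule.zero_mem _
      · intro c hc
        rw [Submodule.mem_colon]
        intro i _
        rw [smul_eq_mul]
        exact Ideal.mul_mem_right _ _ hc
    · intro a ha
      rw [Submodule.mem_colon] at ha
      have hsurj : Function.Surjective (algebraMap A (A ⧸ I)) := Ideal.Quotient.mk_surjective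
      have hdimM : Module.supportDim A (A ⧸ I) = n := by
        rw [Module.supportDim_quotient_eq_ringKrullDim, hI, hn]
      have hdepth : LocCoh.depth A (A ⧸ I) = n := by
        rw [depth_eq_of_surjective (R' := A) (S' := A ⧸ I) (N := A ⧸ I) hsurj]
        have h1 := hQ.supportDim_eq_depth
        rw [← supportDim_eq_of_surjective (R := A) (S := A ⧸ I) (M := A ⧸ I) hsurj, hdimM] at h1
        have h2 : ((n : ℕ∞) : WithBot ℕ∞) =
            ((LocCoh.depth (A ⧸ I) (A ⧸ I) : ℕ∞) : WithBot ℕ∞) := h1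
        exact (WithBot.coe_injective h2).symm
      have hP := subsingleton_ext_self_of_depth A n hn (A ⧸ I) (le_of_eq hdepth.symm)
      obtain ⟨-, hlift⟩ := ext_ofList (A ⧸ I) ys A hwrA hP
      let φ : (A ⧸ I) →ₗ[A] (A ⧸ (Ideal.ofList ys • (⊤ : Submodule A A))) :=
        Submodule.liftQ I ((Submodule.mkQ _) ∘ₗ (LinearMap.lsmul A A a)) (by
          intro i hi
          rw [LinearMap.mem_ker, LinearMap.comp_apply, Submodule.mkQ_apply,
            Submodule.Quotient.mk_eq_zero, htop]
          exact ha i hi)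
      obtain ⟨ψ, hψ⟩ := hlift φ
      have hbJ : ψ (Submodule.Quotient.mk 1) ∈ (Submodule.annihilator I : Ideal A) := by
        rw [Submodule.mem_annihilator]
        intro i hi
        rw [smul_eq_mul, mul_comm, ← smul_eq_mul, ← map_smul, ← Submodule.Quotient.mk_smul,
          smul_eq_mul, mul_one, (Submodule.Quotient.mk_eq_zero I).2 hi, map_zero]
      have h1 := LinearMap.congr_fun hψ (Submodule.Quotient.mk 1)
      have h2 : φ (Submodule.Quotient.mk 1) = Submodule.Quotient.mk a := by
        show Submodule.Quotient.mk (a • (1 : A)) = _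
        exact congrArg _ (mul_one a)
      rw [h2, LinearMap.comp_apply, Submodule.mkQ_apply, Submodule.Quotient.eq, htop] at h1
      have h3 : a = ψ (Submodule.Quotient.mk 1) + (a - ψ (Submodule.Quotient.mk 1)) := by ring
      rw [h3]
      refine Submodule.add_mem_sup hbJ ?_
      rw [← neg_sub]
      exact Submodule.neg_mem _ h1
  · apply le_antisymm _ (by rw [inf_comm]; exact Ideal.mul_le_inf)
    by_cases hJ : (Submodule.annihilator I : Ideal A) = ⊤
    · rw [hJ, Ideal.mul_top, top_inf_eq]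
    · haveI hQJ : LocCoh.IsCohenMacaulayLocalRing (A ⧸ (Submodule.annihilator I : Ideal A)) :=
        isCohenMacaulayLocalRing_quotient_annihilator A I (Or.inr inferInstance) hJ
      have hreg := isWeaklyRegular_quotient_of_isCohenMacaulay A ys hmem hwrA _
        (ringKrullDim_quotient_annihilator_eq A I hJ)
      have h := ker_inf_smul_top_le ys A (A ⧸ (Submodule.annihilator I : Ideal A))
        (Submodule.mkQ _) (Submodule.mkQ_surjective _) hreg
      rw [Submodule.ker_mkQ, htop] at h
      exact h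

end ExtVan

end Groth.Agent.H8.Liaison
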