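import Mathlib
import Groth.Prelude.Def_CAlg
import Groth.Agent.Lib.helper8.LiaisonM
import Groth.Agent.Lib.helper8.LiaisonJ

/-!
# Liaison, part N (helper8): the sum of two geometrically linked ideals in a Gorenstein local
ring has a Gorenstein quotient of dimension one less.
-/

universe u

set_option linter.unusedSectionVars false
set_option linter.style.haveILetI false

namespace Groth.Agent.H8.Liaison

open CategoryTheory Abelian Opposite LocCoh InjHull IsLocalRing Groth.Agent.H21.LC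
open Groth.Agent.H8.Canon Groth.Agent.H8.LDual Groth.Agent.H8.NonVan Groth.Agent.H8.RCh
open Groth.Agent.H8.CdDim Groth.Agent.Lib.helper9.Depth RingTheory.Sequence

section General

variable {A : Type u} [CommRing A]

/-- the short exact sequence `0 → I → A → A/I → 0`. -/
noncomputable abbrev idealSC (I : Ideal A) : ShortComplex (ModuleCat.{u} A) :=
  ShortComplex.mk (ModuleCat.ofHom I.subtype) (ModuleCat.ofHom (Submodule.mkQ I))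
    (by
      ext x
      show Submodule.Quotient.mk (x : A) = (0 : A ⧸ I)
      rw [Submodule.Quotient.mk_eq_zero]
      exact x.2)

theorem idealSC_shortExact (I : Ideal A) : (idealSC I).ShortExact :=
  ModuleCat.shortComplex_shortExact (idealSC I)
    (LinearMap.exact_subtype_mkQ I) Subtype.val_injective (Submodule.mkQ_surjective I)

/-- if `Ext^1(A/I, A) = 0` every linear map `I → A` is multiplication by an element. -/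
theorem exists_mul_of_hom (I : Ideal A)
    (h1 : Subsingleton (Ext (ModuleCat.of A (A ⧸ I)) (ModuleCat.of A A) 1))
    (φ : I →ₗ[A] A) : ∃ a : A, ∀ x : I, φ x = a * x := by
  have hS := idealSC_shortExact I
  haveI : Subsingleton (Ext (idealSC I).X₃ (ModuleCat.of A A) 1) := h1
  obtain ⟨x₂, hx₂⟩ := Ext.contravariant_sequence_exact₁ hS (ModuleCat.of A A)
    (Ext.mk₀ (show (idealSC I).X₁ ⟶ ModuleCat.of A A from ModuleCat.ofHom φ)) (n₁ := 1) rfl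
    (Subsingleton.elim _ _)
  obtain ⟨ψ, rfl⟩ : ∃ ψ : (idealSC I).X₂ ⟶ ModuleCat.of A A, Ext.mk₀ ψ = x₂ :=
    ⟨Ext.homEquiv₀ x₂, Ext.mk₀_homEquiv₀_apply x₂⟩
  rw [Ext.mk₀_comp_mk₀] at hx₂
  have h := (Ext.mk₀_bijective _ _).1 hx₂
  have h2 : ψ.hom ∘ₗ I.subtype = φ := congrArg ModuleCat.Hom.hom h
  refine ⟨ψ.hom (1 : A), fun x => ?_⟩
  have h3 : ψ.hom (x : A) = φ x := LinearMap.congr_fun h2 x
  rw [← h3]
  have h4 : ψ.hom ((x : A) • (1 : A)) = (x : A) • ψ.hom (1 : A) := map_smul _ _ _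
  rw [smul_eq_mul, mul_one] at h4
  rw [h4, smul_eq_mul, mul_comm]

/-- `Ext^i(I, A) = 0` if `Ext^{i+1}(A/I, A) = 0` (`i ≥ 1`). -/
theorem subsingleton_ext_ideal (I : Ideal A) (i : ℕ) (hi : 1 ≤ i)
    (h : Subsingleton (Ext (ModuleCat.of A (A ⧸ I)) (ModuleCat.of A A) (i + 1))) :
    Subsingleton (Ext (ModuleCat.of A I) (ModuleCat.of A A) i) := by
  have hS := idealSC_shortExact I
  haveI : Subsingleton (Ext (idealSC I).X₃ (ModuleCat.of A A) (i + 1)) := h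
  haveI : Projective (ModuleCat.of A A) := (IsProjective.iff_projective A).mp inferInstance
  suffices h0 : ∀ x : Ext (ModuleCat.of A I) (ModuleCat.of A A) i, x = 0 from
    ⟨fun a b => by rw [h0 a, h0 b]⟩
  intro x
  obtain ⟨x₂, hx₂⟩ := Ext.contravariant_sequence_exact₁ hS (ModuleCat.of A A)
    (show Ext (idealSC I).X₁ (ModuleCat.of A A) i from x) (n₁ := i + 1) (by omega)
    (Subsingleton.elim _ _)
  obtain ⟨i', rfl⟩ : ∃ i', i = i' + 1 := ⟨i - 1, by omega⟩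
  have h0 : x₂ = 0 :=
    Ext.eq_zero_of_projective (P := ModuleCat.of A A) (Y := ModuleCat.of A A) x₂
  rw [h0, Ext.comp_zero] at hx₂
  exact hx₂.symm

/-- the map `𝔞₁ → A/𝔞₂`. -/
noncomputable abbrev linkF (𝔞₁ 𝔞₂ : Ideal A) : 𝔞₁ →ₗ[A] (A ⧸ 𝔞₂) :=
  (Submodule.mkQ 𝔞₂) ∘ₗ 𝔞₁.subtype

/-- the map `A/𝔞₂ → A/(𝔞₁ + 𝔞₂)`. -/
noncomputable abbrev linkG (𝔞₁ 𝔞₂ : Ideal A) : (A ⧸ 𝔞₂) →ₗ[A] (A ⧸ (𝔞₁ ⊔ 𝔞₂)) :=
  Submodule.mapQ 𝔞₂ (𝔞₁ ⊔ 𝔞₂) LinearMap.id (fun _ hx => Submodule.mem_sup_right hx)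

theorem linkF_injective (𝔞₁ 𝔞₂ : Ideal A) (hinf : 𝔞₁ ⊓ 𝔞₂ = ⊥) :
    Function.Injective (linkF 𝔞₁ 𝔞₂) := by
  rw [← LinearMap.ker_eq_bot, LinearMap.ker_eq_bot']
  intro x hx
  have h1 : (x : A) ∈ 𝔞₂ := by
    rw [← Submodule.Quotient.mk_eq_zero]
    exact hx
  have h2 : (x : A) ∈ 𝔞₁ ⊓ 𝔞₂ := ⟨x.2, h1⟩
  rw [hinf] at h2
  exact Subtype.ext h2

theorem linkFG_exact (𝔞₁ 𝔞₂ : Ideal A) : Function.Exact (linkF 𝔞₁ 𝔞₂) (linkG 𝔞₁ 𝔞₂) := by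
  intro y
  obtain ⟨a, rfl⟩ := Submodule.mkQ_surjective _ y
  constructor
  · intro h
    have h1 : a ∈ 𝔞₁ ⊔ 𝔞₂ := by
      rw [← Submodule.Quotient.mk_eq_zero]
      exact h
    obtain ⟨x, hx, z, hz, rfl⟩ := Submodule.mem_sup.mp h1
    refine ⟨⟨x, hx⟩, ?_⟩
    show Submodule.Quotient.mk x = Submodule.Quotient.mk (x + z)
    rw [Submodule.Quotient.mk_add, (Submodule.Quotient.mk_eq_zero 𝔞₂).2 hz, add_zero]
  · rintro ⟨x, hx⟩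
    rw [← hx]
    show Submodule.Quotient.mk (x : A) = (0 : A ⧸ (𝔞₁ ⊔ 𝔞₂))
    rw [Submodule.Quotient.mk_eq_zero]
    exact Submodule.mem_sup_left x.2

theorem linkG_surjective (𝔞₁ 𝔞₂ : Ideal A) : Function.Surjective (linkG 𝔞₁ 𝔞₂) := by
  intro y
  obtain ⟨a, rfl⟩ := Submodule.mkQ_surjective _ y
  exact ⟨Submodule.Quotient.mk a, rfl⟩

/-- the short exact sequence `0 → 𝔞₁ → A/𝔞₂ → A/(𝔞₁+𝔞₂) → 0`. -/
noncomputable abbrev linkSC (𝔞₁ 𝔞₂ : Ideal A) : ShortComplex (ModuleCat.{u} A) :=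
  ShortComplex.mk (ModuleCat.ofHom (linkF 𝔞₁ 𝔞₂)) (ModuleCat.ofHom (linkG 𝔞₁ 𝔞₂))
    (by rw [← ModuleCat.ofHom_comp, (linkFG_exact 𝔞₁ 𝔞₂).linearMap_comp_eq_zero]; rfl)

theorem linkSC_shortExact (𝔞₁ 𝔞₂ : Ideal A) (hinf : 𝔞₁ ⊓ 𝔞₂ = ⊥) :
    (linkSC 𝔞₁ 𝔞₂).ShortExact :=
  ModuleCat.shortComplex_shortExact (linkSC 𝔞₁ 𝔞₂)
    (linkFG_exact 𝔞₁ 𝔞₂) (linkF_injective 𝔞₁ 𝔞₂ hinf) (linkG_surjective 𝔞₁ 𝔞₂)

/-- `Hom(A/(𝔞₁+𝔞₂), A) = 0` for linked ideals with zero intersection. -/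
theorem subsingleton_ext_zero_of_linked (𝔞₁ 𝔞₂ : Ideal A)
    (h12 : (Submodule.annihilator 𝔞₁ : Ideal A) = 𝔞₂)
    (h21 : (Submodule.annihilator 𝔞₂ : Ideal A) = 𝔞₁) (hinf : 𝔞₁ ⊓ 𝔞₂ = ⊥) :
    Subsingleton (Ext (ModuleCat.of A (A ⧸ (𝔞₁ ⊔ 𝔞₂))) (ModuleCat.of A A) 0) := by
  suffices h0 : ∀ x : Ext (ModuleCat.of A (A ⧸ (𝔞₁ ⊔ 𝔞₂))) (ModuleCat.of A A) 0, x = 0 from
    ⟨fun a b => by rw [h0 a, h0 b]⟩
  intro x
  obtain ⟨φ, rfl⟩ : ∃ φ : ModuleCat.of A (A ⧸ (𝔞₁ ⊔ 𝔞₂)) ⟶ ModuleCat.of A A, Ext.mk₀ φ = x :=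
    ⟨Ext.homEquiv₀ x, Ext.mk₀_homEquiv₀_apply x⟩
  have hb : ∀ y ∈ 𝔞₁ ⊔ 𝔞₂, y * φ.hom (Submodule.Quotient.mk 1) = 0 := by
    intro y hy
    have h1 : φ.hom (y • (Submodule.Quotient.mk (1 : A) : A ⧸ (𝔞₁ ⊔ 𝔞₂))) =
        y • φ.hom (Submodule.Quotient.mk 1) := map_smul _ _ _
    rw [← Submodule.Quotient.mk_smul, smul_eq_mul, mul_one,
      (Submodule.Quotient.mk_eq_zero _).2 hy, map_zero] at h1
    rw [← smul_eq_mul, ← h1]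
  have hb1 : φ.hom (Submodule.Quotient.mk 1) ∈ (Submodule.annihilator 𝔞₁ : Ideal A) := by
    rw [Submodule.mem_annihilator]
    intro y hy
    rw [smul_eq_mul, mul_comm]
    exact hb y (Submodule.mem_sup_left hy)
  have hb2 : φ.hom (Submodule.Quotient.mk 1) ∈ (Submodule.annihilator 𝔞₂ : Ideal A) := by
    rw [Submodule.mem_annihilator]
    intro y hy
    rw [smul_eq_mul, mul_comm]
    exact hb y (Submodule.mem_sup_right hy)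
  rw [h12] at hb1
  rw [h21] at hb2
  have hb0 : φ.hom (Submodule.Quotient.mk 1) = 0 := by
    have : φ.hom (Submodule.Quotient.mk 1) ∈ 𝔞₁ ⊓ 𝔞₂ := ⟨hb2, hb1⟩
    rwa [hinf] at this
  have hφ : φ = 0 := by
    apply ModuleCat.hom_ext
    apply LinearMap.ext
    intro c
    obtain ⟨a, rfl⟩ := Submodule.mkQ_surjective _ c
    show φ.hom (Submodule.Quotient.mk a) = 0
    have h1 : φ.hom (a • (Submodule.Quotient.mk (1 : A) : A ⧸ (𝔞₁ ⊔ 𝔞₂))) =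
        a • φ.hom (Submodule.Quotient.mk 1) := map_smul _ _ _
    rw [← Submodule.Quotient.mk_smul, smul_eq_mul, mul_one, hb0, smul_zero] at h1
    exact h1
  rw [hφ, Ext.mk₀_zero]

/-- `Ext^i(A/(𝔞₁+𝔞₂), A) = 0` for `i ≥ 2`. -/
theorem subsingleton_ext_ge_two_of_linked (𝔞₁ 𝔞₂ : Ideal A) (hinf : 𝔞₁ ⊓ 𝔞₂ = ⊥)
    (hE1 : ∀ i, 1 ≤ i → Subsingleton (Ext (ModuleCat.of A (A ⧸ 𝔞₁)) (ModuleCat.of A A) i))
    (hE2 : ∀ i, 1 ≤ i → Subsingleton (Ext (ModuleCat.of A (A ⧸ 𝔞₂)) (ModuleCat.of A A) i))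
    (i : ℕ) (hi : 2 ≤ i) :
    Subsingleton (Ext (ModuleCat.of A (A ⧸ (𝔞₁ ⊔ 𝔞₂))) (ModuleCat.of A A) i) := by
  have hS := linkSC_shortExact 𝔞₁ 𝔞₂ hinf
  suffices h0 : ∀ x : Ext (ModuleCat.of A (A ⧸ (𝔞₁ ⊔ 𝔞₂))) (ModuleCat.of A A) i, x = 0 from
    ⟨fun a b => by rw [h0 a, h0 b]⟩
  intro x
  haveI : Subsingleton (Ext (linkSC 𝔞₁ 𝔞₂).X₂ (ModuleCat.of A A) i) := hE2 i (by omega)
  obtain ⟨x₁, hx₁⟩ := Ext.contravariant_sequence_exact₃ hS (ModuleCat.of A A)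
    (show Ext (linkSC 𝔞₁ 𝔞₂).X₃ (ModuleCat.of A A) i from x) (Subsingleton.elim _ _)
    (show 1 + (i - 1) = i by omega)
  haveI : Subsingleton (Ext (linkSC 𝔞₁ 𝔞₂).X₁ (ModuleCat.of A A) (i - 1)) :=
    subsingleton_ext_ideal 𝔞₁ (i - 1) (by omega)
      (by rw [show i - 1 + 1 = i by omega]; exact hE1 i (by omega))
  rw [Subsingleton.elim x₁ 0, Ext.comp_zero] at hx₁
  exact hx₁.symm

/-- the class `ξ ∈ Ext^1(A/(𝔞₁+𝔞₂), A)`. -/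
noncomputable def linkXi (𝔞₁ 𝔞₂ : Ideal A) (hinf : 𝔞₁ ⊓ 𝔞₂ = ⊥) :
    Ext (ModuleCat.of A (A ⧸ (𝔞₁ ⊔ 𝔞₂))) (ModuleCat.of A A) 1 :=
  (linkSC_shortExact 𝔞₁ 𝔞₂ hinf).extClass.comp
    (Ext.mk₀ (show (linkSC 𝔞₁ 𝔞₂).X₁ ⟶ ModuleCat.of A A from ModuleCat.ofHom 𝔞₁.subtype))
    (show 1 + 0 = 1 from rfl)

theorem smul_linkXi (𝔞₁ 𝔞₂ : Ideal A) (hinf : 𝔞₁ ⊓ 𝔞₂ = ⊥) (a : A) :
    a • linkXi 𝔞₁ 𝔞₂ hinf = (linkSC_shortExact 𝔞₁ 𝔞₂ hinf).extClass.comp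
      (Ext.mk₀ (show (linkSC 𝔞₁ 𝔞₂).X₁ ⟶ ModuleCat.of A A from
        ModuleCat.ofHom (a • 𝔞₁.subtype))) (show 1 + 0 = 1 from rfl) := by
  unfold linkXi
  rw [← Ext.comp_smul, ← Ext.mk₀_smul]
  rfl

/-- `A/(𝔞₁+𝔞₂) ≃ Ext^1(A/(𝔞₁+𝔞₂), A)` for linked ideals with zero intersection. -/
theorem nonempty_equiv_ext_one_of_linked (𝔞₁ 𝔞₂ : Ideal A)
    (h12 : (Submodule.annihilator 𝔞₁ : Ideal A) = 𝔞₂)
    (h21 : (Submodule.annihilator 𝔞₂ : Ideal A) = 𝔞₁) (hinf : 𝔞₁ ⊓ 𝔞₂ = ⊥)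
    (hE1 : Subsingleton (Ext (ModuleCat.of A (A ⧸ 𝔞₁)) (ModuleCat.of A A) 1))
    (hE2 : Subsingleton (Ext (ModuleCat.of A (A ⧸ 𝔞₂)) (ModuleCat.of A A) 1)) :
    Nonempty ((A ⧸ (𝔞₁ ⊔ 𝔞₂)) ≃ₗ[A]
      Ext (ModuleCat.of A (A ⧸ (𝔞₁ ⊔ 𝔞₂))) (ModuleCat.of A A) 1) := by
  have hS := linkSC_shortExact 𝔞₁ 𝔞₂ hinf
  let Θ : A →ₗ[A] Ext (ModuleCat.of A (A ⧸ (𝔞₁ ⊔ 𝔞₂))) (ModuleCat.of A A) 1 :=
    LinearMap.toSpanSingleton A _ (linkXi 𝔞₁ 𝔞₂ hinf)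
  have hΘ : ∀ a : A, Θ a = hS.extClass.comp
      (Ext.mk₀ (show (linkSC 𝔞₁ 𝔞₂).X₁ ⟶ ModuleCat.of A A from
        ModuleCat.ofHom (a • 𝔞₁.subtype))) (show 1 + 0 = 1 from rfl) := fun a =>
    smul_linkXi 𝔞₁ 𝔞₂ hinf a
  have hsurj : Function.Surjective Θ := by
    intro x
    haveI : Subsingleton (Ext (linkSC 𝔞₁ 𝔞₂).X₂ (ModuleCat.of A A) 1) := hE2
    obtain ⟨x₁, hx₁⟩ := Ext.contravariant_sequence_exact₃ hS (ModuleCat.of A A)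
      (show Ext (linkSC 𝔞₁ 𝔞₂).X₃ (ModuleCat.of A A) 1 from x) (Subsingleton.elim _ _)
      (show 1 + 0 = 1 from rfl)
    obtain ⟨φ, rfl⟩ : ∃ φ : (linkSC 𝔞₁ 𝔞₂).X₁ ⟶ ModuleCat.of A A, Ext.mk₀ φ = x₁ :=
      ⟨Ext.homEquiv₀ x₁, Ext.mk₀_homEquiv₀_apply x₁⟩
    obtain ⟨a, ha⟩ := exists_mul_of_hom 𝔞₁ hE1 φ.hom
    refine ⟨a, ?_⟩
    rw [hΘ, ← hx₁]
    congr 2
    apply ModuleCat.hom_ext
    apply LinearMap.ext
    intro y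
    exact (ha y).symm
  have hker : 𝔞₁ ⊔ 𝔞₂ = LinearMap.ker Θ := by
    apply le_antisymm
    · intro a ha
      obtain ⟨a₁, ha₁, a₂, ha₂, rfl⟩ := Submodule.mem_sup.mp ha
      rw [LinearMap.mem_ker, hΘ]
      -- the extension `ψ : A/𝔞₂ → A`, multiplication by `a₁`
      let ψ : (A ⧸ 𝔞₂) →ₗ[A] A := Submodule.liftQ 𝔞₂ (LinearMap.lsmul A A a₁) (by
        intro z hz
        rw [LinearMap.mem_ker]
        show a₁ • z = 0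
        have h1 : a₁ ∈ (Submodule.annihilator 𝔞₂ : Ideal A) := by rw [h21]; exact ha₁
        rw [Submodule.mem_annihilator] at h1
        exact h1 z hz)
      have hfac : (show (linkSC 𝔞₁ 𝔞₂).X₁ ⟶ ModuleCat.of A A from
          ModuleCat.ofHom ((a₁ + a₂) • 𝔞₁.subtype)) =
          (linkSC 𝔞₁ 𝔞₂).f ≫ (show (linkSC 𝔞₁ 𝔞₂).X₂ ⟶ ModuleCat.of A A from
            ModuleCat.ofHom ψ) := by
        apply ModuleCat.hom_ext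
        apply LinearMap.ext
        intro y
        show (a₁ + a₂) • (y : A) = a₁ • (y : A)
        have h1 : a₂ ∈ (Submodule.annihilator 𝔞₁ : Ideal A) := by rw [h12]; exact ha₂
        rw [Submodule.mem_annihilator] at h1
        rw [add_smul, h1 y y.2, add_zero]
      rw [hfac, ← Ext.mk₀_comp_mk₀, ← Ext.comp_assoc_of_second_deg_zero, hS.extClass_comp,
        Ext.zero_comp]
    · intro a ha
      rw [LinearMap.mem_ker, hΘ] at ha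
      obtain ⟨x₂, hx₂⟩ := Ext.contravariant_sequence_exact₁ hS (ModuleCat.of A A) _ _ ha
      obtain ⟨ψ, rfl⟩ : ∃ ψ : (linkSC 𝔞₁ 𝔞₂).X₂ ⟶ ModuleCat.of A A, Ext.mk₀ ψ = x₂ :=
        ⟨Ext.homEquiv₀ x₂, Ext.mk₀_homEquiv₀_apply x₂⟩
      rw [Ext.mk₀_comp_mk₀] at hx₂
      have h := (Ext.mk₀_bijective _ _).1 hx₂
      have h2 : ψ.hom ∘ₗ linkF 𝔞₁ 𝔞₂ = a • 𝔞₁.subtype := congrArg ModuleCat.Hom.hom h
      have hsm : ∀ z : A, ψ.hom (Submodule.Quotient.mk z) =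
          z * ψ.hom (Submodule.Quotient.mk 1) := by
        intro z
        have h1 : ψ.hom (z • (Submodule.Quotient.mk (1 : A) : A ⧸ 𝔞₂)) =
            z • ψ.hom (Submodule.Quotient.mk 1) := map_smul _ _ _
        rw [← Submodule.Quotient.mk_smul, smul_eq_mul, mul_one] at h1
        exact h1
      have hb : ψ.hom (Submodule.Quotient.mk 1) ∈ 𝔞₁ := by
        rw [← h21, Submodule.mem_annihilator]
        intro z hz
        rw [smul_eq_mul, mul_comm, ← hsm, (Submodule.Quotient.mk_eq_zero 𝔞₂).2 hz, map_zero]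
      have hab : a - ψ.hom (Submodule.Quotient.mk 1) ∈ 𝔞₂ := by
        apply h12.le
        rw [Submodule.mem_annihilator]
        intro y hy
        have h3 := LinearMap.congr_fun h2 ⟨y, hy⟩
        have h4 : ψ.hom (Submodule.Quotient.mk y) = a * y := h3
        rw [hsm] at h4
        rw [smul_eq_mul, sub_mul, ← h4]
        ring
      have h5 : a = ψ.hom (Submodule.Quotient.mk 1) + (a - ψ.hom (Submodule.Quotient.mk 1)) := by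
        ring
      rw [h5]
      exact Submodule.add_mem_sup hb hab
  exact ⟨(Submodule.quotEquivOfEq _ _ hker).trans (Θ.quotKerEquivOfSurjective hsurj)⟩

end General

section Local

variable (A : Type u) [CommRing A] [LocCoh.IsGorensteinLocalRing A]

/-- Ext vanishing for maximal CM quotients of a Gorenstein local ring. -/
theorem subsingleton_ext_quotient_of_cm (I : Ideal A)
    (hI : ringKrullDim (A ⧸ I) = ringKrullDim A)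
    [hQ : LocCoh.IsCohenMacaulayLocalRing (A ⧸ I)] :
    ∀ i, 1 ≤ i → Subsingleton (Ext (ModuleCat.of A (A ⧸ I)) (ModuleCat.of A A) i) := by
  haveI : IsLocalRing (A ⧸ I) := hQ.toIsLocalRing
  obtain ⟨n, hn'⟩ := exists_supportDim_eq_nat (R := A) A
  have hn : ringKrullDim A = n := by rw [← Module.supportDim_self_eq_ringKrullDim]; exact hn'
  have hsurj : Function.Surjective (algebraMap A (A ⧸ I)) := Ideal.Quotient.mk_surjective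
  have hdimM : Module.supportDim A (A ⧸ I) = n := by
    rw [Module.supportDim_quotient_eq_ringKrullDim, hI, hn]
  have hdepth : LocCoh.depth A (A ⧸ I) = n := by
    rw [depth_eq_of_surjective (R' := A) (S' := A ⧸ I) (N := A ⧸ I) hsurj]
    have h1 := hQ.supportDim_eq_depth
    rw [← supportDim_eq_of_surjective (R := A) (S := A ⧸ I) (M := A ⧸ I) hsurj, hdimM] at h1
    have h2 : ((n : ℕ∞) : WithBot ℕ∞) =
        ((LocCoh.depth (A ⧸ I) (A ⧸ I) : ℕ∞) : WithBot ℕ∞) := h1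
    exact (WithBot.coe_injective h2).symm
  exact subsingleton_ext_self_of_depth A n hn (A ⧸ I) (le_of_eq hdepth.symm)

/-- **Sum of geometrically linked ideals (local form)**. -/
theorem isGorensteinLocalRing_quotient_sup_of_linked (𝔞₁ 𝔞₂ : Ideal A)
    (h12 : (Submodule.annihilator 𝔞₁ : Ideal A) = 𝔞₂)
    (h21 : (Submodule.annihilator 𝔞₂ : Ideal A) = 𝔞₁) (hinf : 𝔞₁ ⊓ 𝔞₂ = ⊥)
    (hd1 : ringKrullDim (A ⧸ 𝔞₁) = ringKrullDim A)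
    (hd2 : ringKrullDim (A ⧸ 𝔞₂) = ringKrullDim A)
    [LocCoh.IsCohenMacaulayLocalRing (A ⧸ 𝔞₁)] [LocCoh.IsCohenMacaulayLocalRing (A ⧸ 𝔞₂)]
    (htop : 𝔞₁ ⊔ 𝔞₂ ≠ ⊤) :
    LocCoh.IsGorensteinLocalRing (A ⧸ (𝔞₁ ⊔ 𝔞₂)) ∧
      ringKrullDim (A ⧸ (𝔞₁ ⊔ 𝔞₂)) + 1 = ringKrullDim A := by
  classical
  have hE1 := subsingleton_ext_quotient_of_cm A 𝔞₁ hd1
  have hE2 := subsingleton_ext_quotient_of_cm A 𝔞₂ hd2
  have h0 := subsingleton_ext_zero_of_linked 𝔞₁ 𝔞₂ h12 h21 hinf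
  have h2 := subsingleton_ext_ge_two_of_linked 𝔞₁ 𝔞₂ hinf hE1 hE2
  obtain ⟨eX⟩ := nonempty_equiv_ext_one_of_linked 𝔞₁ 𝔞₂ h12 h21 hinf (hE1 1 le_rfl)
    (hE2 1 le_rfl)
  obtain ⟨n, hn'⟩ := exists_supportDim_eq_nat (R := A) A
  have hn : ringKrullDim A = n := by rw [← Module.supportDim_self_eq_ringKrullDim]; exact hn'
  obtain ⟨g, hg⟩ := Groth.Agent.H8.LCGor.exists_isInjectiveHull_H_of_gorenstein A n hn
  haveI hCnt : Nontrivial (A ⧸ (𝔞₁ ⊔ 𝔞₂)) := Ideal.Quotient.nontrivial_iff.2 htop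
  have hvan : ∀ j, j ≤ n → j + 1 ≠ n →
      Subsingleton (H (maximalIdeal A) j (A ⧸ (𝔞₁ ⊔ 𝔞₂))) := by
    intro j hj hj1
    obtain ⟨e⟩ := gorenstein_duality' A n hn _ g hg (n - j) j (by omega) (A ⧸ (𝔞₁ ⊔ 𝔞₂))
    haveI : Subsingleton (Ext (ModuleCat.of A (A ⧸ (𝔞₁ ⊔ 𝔞₂))) (ModuleCat.of A A) (n - j)) := by
      rcases Nat.eq_zero_or_pos (n - j) with h | h
      · rw [h]; exact h0
      · exact h2 (n - j) (by omega)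
    haveI : Subsingleton (Ext (ModuleCat.of A (A ⧸ (𝔞₁ ⊔ 𝔞₂))) (ModuleCat.of A A) (n - j) →ₗ[A]
        H (maximalIdeal A) n A) :=
      ⟨fun a b => LinearMap.ext fun x => by rw [Subsingleton.elim x 0, map_zero, map_zero]⟩
    exact e.toEquiv.subsingleton
  have hIMQ := maximalIdeal_smul_top_ne_top (R := A) (A ⧸ (𝔞₁ ⊔ 𝔞₂))
  obtain ⟨d, hd⟩ := exists_nat_eq_idealDepth (A ⧸ (𝔞₁ ⊔ 𝔞₂)) hIMQ
  have h1 := depth_le_supportDim (R := A) (A ⧸ (𝔞₁ ⊔ 𝔞₂))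
  have hdep : LocCoh.depth A (A ⧸ (𝔞₁ ⊔ 𝔞₂)) = d := hd
  obtain ⟨δ, hδ⟩ := exists_supportDim_eq_nat (R := A) (A ⧸ (𝔞₁ ⊔ 𝔞₂))
  have hδn : δ ≤ n := by
    have h3 : Module.supportDim A (A ⧸ (𝔞₁ ⊔ 𝔞₂)) ≤ n :=
      (Module.supportDim_le_ringKrullDim A _).trans hn.le
    rw [hδ] at h3
    exact_mod_cast h3
  have hdδ : d ≤ δ := by
    rw [hdep, hδ] at h1
    exact_mod_cast h1
  have hd1' : d + 1 = n := by
    by_contra hne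
    have := nontrivial_of_depth_eq (maximalIdeal A) (A ⧸ (𝔞₁ ⊔ 𝔞₂)) hIMQ d hd
    exact not_subsingleton _ (hvan d (by omega) hne)
  have hδ1 : δ + 1 = n := by
    by_contra hne
    have := nontrivial_H_supportDim δ (A ⧸ (𝔞₁ ⊔ 𝔞₂)) hδ
    exact not_subsingleton _ (hvan δ hδn hne)
  haveI : IsLocalRing (A ⧸ (𝔞₁ ⊔ 𝔞₂)) :=
    IsLocalRing.of_surjective' (Ideal.Quotient.mk _) Ideal.Quotient.mk_surjective
  have hδd : δ = d := by omega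
  haveI hCM : LocCoh.IsCohenMacaulayLocalRing (A ⧸ (𝔞₁ ⊔ 𝔞₂)) :=
    { supportDim_eq_depth := by
        rw [← supportDim_eq_of_surjective (R := A) (S := A ⧸ (𝔞₁ ⊔ 𝔞₂)) (M := A ⧸ (𝔞₁ ⊔ 𝔞₂))
          Ideal.Quotient.mk_surjective, hδ,
          ← depth_eq_of_surjective (R' := A) (S' := A ⧸ (𝔞₁ ⊔ 𝔞₂)) (N := A ⧸ (𝔞₁ ⊔ 𝔞₂))
            Ideal.Quotient.mk_surjective, hdep, hδd]
        rfl }
  have hdimC : ringKrullDim (A ⧸ (𝔞₁ ⊔ 𝔞₂)) = δ := by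
    rw [← Module.supportDim_quotient_eq_ringKrullDim]; exact hδ
  constructor
  · obtain ⟨E, _, _, f, hf⟩ :=
      Groth.Agent.Lib.helper1.InjHullLib.exists_injective_hull (R := A ⧸ (𝔞₁ ⊔ 𝔞₂))
        (ResidueField (A ⧸ (𝔞₁ ⊔ 𝔞₂)))
    have eX' : (A ⧸ (𝔞₁ ⊔ 𝔞₂)) ≃ₗ[A]
        ((Ext A (ModuleCat.{u} A) 1).obj (op (ModuleCat.of A (A ⧸ (𝔞₁ ⊔ 𝔞₂))))).obj
          (ModuleCat.of A A) :=
      eX ≪≫ₗ (oldNew (ModuleCat.of A (A ⧸ (𝔞₁ ⊔ 𝔞₂))) (ModuleCat.of A A) 1).symm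
    obtain ⟨eK⟩ := canonMod_of_equiv_ext (A ⧸ (𝔞₁ ⊔ 𝔞₂)) δ E f hf A
      Ideal.Quotient.mk_surjective n hn 1 (by omega) (by omega) (A ⧸ (𝔞₁ ⊔ 𝔞₂)) eX'
    exact (gorenstein_iff_canon_free (A ⧸ (𝔞₁ ⊔ 𝔞₂)) δ hdimC E f hf (A ⧸ (𝔞₁ ⊔ 𝔞₂)) eK).mpr
      ⟨LinearEquiv.refl _ _⟩
  · rw [hdimC, hn]
    exact_mod_cast hδ1

end Local

end Groth.Agent.H8.Liaison
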