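import Mathlib
import Groth.Prelude.Def_CAlg
import Groth.Agent.Lib.helper8.LiaisonN
import Groth.Agent.Lib.helper8.LiaisonK

/-!
# Liaison, part O (helper8): the sum of two geometrically linked ideals, global form.
-/

universe u

set_option linter.unusedSectionVars false
set_option linter.style.haveILetI false

namespace Groth.Agent.H8.Liaison

open LocCoh IsLocalRing

/-- **Sum of linked ideals, global form**: `S` Gorenstein, `𝔞₁ = ann 𝔞₂`, `𝔞₂ = ann 𝔞₁`,
`𝔞₁ ∩ 𝔞₂ = 0`, `S/𝔞₁`, `S/𝔞₂` CM.  Then `S/(𝔞₁+𝔞₂)` is Gorenstein and at every prime `q` of it,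
`dim (S/(𝔞₁+𝔞₂))_q + 1 = dim S_P` for the preimage `P` of `q`. -/
theorem isGorensteinRing_quotient_sup_of_linked (S : Type u) [CommRing S]
    [hG : LocCoh.IsGorensteinRing S] (𝔞₁ 𝔞₂ : Ideal S)
    (h12 : (Submodule.annihilator 𝔞₁ : Ideal S) = 𝔞₂)
    (h21 : (Submodule.annihilator 𝔞₂ : Ideal S) = 𝔞₁) (hinf : 𝔞₁ ⊓ 𝔞₂ = ⊥)
    [hCM1 : LocCoh.IsCohenMacaulayRing (S ⧸ 𝔞₁)] [hCM2 : LocCoh.IsCohenMacaulayRing (S ⧸ 𝔞₂)] :
    LocCoh.IsGorensteinRing (S ⧸ (𝔞₁ ⊔ 𝔞₂)) ∧
      ∀ (q : Ideal (S ⧸ (𝔞₁ ⊔ 𝔞₂))) [q.IsPrime],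
        ringKrullDim (Localization.AtPrime q) + 1 =
          ringKrullDim (Localization.AtPrime (q.comap (Ideal.Quotient.mk (𝔞₁ ⊔ 𝔞₂)))) := by
  classical
  haveI : IsNoetherianRing S := hG.toIsNoetherian
  have key : ∀ (q : Ideal (S ⧸ (𝔞₁ ⊔ 𝔞₂))) [q.IsPrime],
      LocCoh.IsGorensteinLocalRing (Localization.AtPrime q) ∧
        ringKrullDim (Localization.AtPrime q) + 1 =
          ringKrullDim (Localization.AtPrime (q.comap (Ideal.Quotient.mk (𝔞₁ ⊔ 𝔞₂)))) := by
    intro q hq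
    let P : Ideal S := q.comap (Ideal.Quotient.mk (𝔞₁ ⊔ 𝔞₂))
    haveI hPp : P.IsPrime := Ideal.comap_isPrime _ _
    have hcP : 𝔞₁ ⊔ 𝔞₂ ≤ P := by
      intro y hy
      show Ideal.Quotient.mk (𝔞₁ ⊔ 𝔞₂) y ∈ q
      rw [Ideal.Quotient.eq_zero_iff_mem.mpr hy]
      exact q.zero_mem
    have h1P : 𝔞₁ ≤ P := le_sup_left.trans hcP
    have h2P : 𝔞₂ ≤ P := le_sup_right.trans hcP
    haveI hA : LocCoh.IsGorensteinLocalRing (Localization.AtPrime P) :=
      hG.isGorensteinLocalRing_localization P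
    haveI hACM : LocCoh.IsCohenMacaulayLocalRing (Localization.AtPrime P) :=
      isCohenMacaulayLocalRing_of_isGorensteinLocalRing _
    have hne : ∀ 𝔞 : Ideal S, 𝔞 ≤ P →
        𝔞.map (algebraMap S (Localization.AtPrime P)) ≠ ⊤ := by
      intro 𝔞 h𝔞
      rw [IsLocalization.map_algebraMap_ne_top_iff_disjoint P.primeCompl, Set.disjoint_left]
      intro x hx hx'
      exact hx (h𝔞 hx')
    obtain ⟨-, hc1⟩ := localization_data S 𝔞₁ P (by rw [h12]; exact h2P)
    obtain ⟨-, hc2⟩ := localization_data S 𝔞₂ P (by rw [h21]; exact h1P)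
    haveI hQ1 := hc1.resolve_left (hne 𝔞₁ h1P)
    haveI hQ2 := hc2.resolve_left (hne 𝔞₂ h2P)
    have ha12 := annihilator_map_localization P 𝔞₁
    have ha21 := annihilator_map_localization P 𝔞₂
    rw [h12] at ha12
    rw [h21] at ha21
    have hinf' : 𝔞₁.map (algebraMap S (Localization.AtPrime P)) ⊓
        𝔞₂.map (algebraMap S (Localization.AtPrime P)) = ⊥ := by
      rw [← IsLocalization.map_inf P.primeCompl, hinf, Ideal.map_bot]
    have hd1 : ringKrullDim (Localization.AtPrime P ⧸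
        𝔞₁.map (algebraMap S (Localization.AtPrime P))) =
        ringKrullDim (Localization.AtPrime P) := by
      have h := ringKrullDim_quotient_annihilator_eq (Localization.AtPrime P)
        (𝔞₂.map (algebraMap S (Localization.AtPrime P))) (by rw [ha21]; exact hne 𝔞₁ h1P)
      rwa [ha21] at h
    have hd2 : ringKrullDim (Localization.AtPrime P ⧸
        𝔞₂.map (algebraMap S (Localization.AtPrime P))) =
        ringKrullDim (Localization.AtPrime P) := by
      have h := ringKrullDim_quotient_annihilator_eq (Localization.AtPrime P)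
        (𝔞₁.map (algebraMap S (Localization.AtPrime P))) (by rw [ha12]; exact hne 𝔞₂ h2P)
      rwa [ha12] at h
    have htop : 𝔞₁.map (algebraMap S (Localization.AtPrime P)) ⊔
        𝔞₂.map (algebraMap S (Localization.AtPrime P)) ≠ ⊤ := by
      rw [← Ideal.map_sup]
      exact hne _ hcP
    obtain ⟨hGor, hdim⟩ := isGorensteinLocalRing_quotient_sup_of_linked (Localization.AtPrime P)
      (𝔞₁.map (algebraMap S (Localization.AtPrime P)))
      (𝔞₂.map (algebraMap S (Localization.AtPrime P))) ha12 ha21 hinf' hd1 hd2 htop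
    rw [← Ideal.map_sup] at hGor hdim
    obtain ⟨e⟩ := nonempty_quotient_localization_ringEquiv' (𝔞₁ ⊔ 𝔞₂) q P rfl
    refine ⟨isGorensteinLocalRing_of_ringEquiv e, ?_⟩
    rw [← ringKrullDim_eq_of_ringEquiv e]
    exact hdim
  refine ⟨?_, fun q hq => (key q).2⟩
  haveI : IsNoetherianRing (S ⧸ (𝔞₁ ⊔ 𝔞₂)) := inferInstance
  exact { isGorensteinLocalRing_localization := fun q hq => (key q).1 }

end Groth.Agent.H8.Liaison
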