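import Mathlib
import Groth.Prelude.Def_CAlg
import Groth.Prelude.Def_GrSyz
import Groth.Agent.Lib.helper8.LiaisonO
import Groth.Agent.Lib.helper8.LiaisonG
import Groth.Agent.Lib.helper8.LiaisonC
import Groth.Agent.Lib.helper8.LiaisonA

/-!
# Liaison, part P (helper8): geometric linkage in a polynomial ring: if `I₁ ∩ I₂` is Gorenstein then
`I₁ + I₂` is Gorenstein of height one more.
-/

universe u

set_option linter.unusedSectionVars false
set_option linter.style.haveILetI false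

namespace Groth.Agent.H8.Liaison

open LocCoh IsLocalRing

section Gen

variable {R : Type u} [CommRing R]

/-- a prime of height `c` containing an ideal of height `c` is minimal over it. -/
theorem mem_minimalPrimes_of_le_of_height_eq (J P : Ideal R) [hPp : P.IsPrime] (c : ℕ)
    (hJ : J.height = c) (hP : P.height = c) (hJP : J ≤ P) : P ∈ J.minimalPrimes := by
  obtain ⟨Q, hQ, hQP⟩ := Ideal.exists_minimalPrimes_le hJP
  haveI hQp : Q.IsPrime := hQ.1.1
  have hQh : (c : ℕ∞) ≤ Q.height := by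
    rw [← hJ]
    exact Ideal.height_mono hQ.1.2
  rcases eq_or_lt_of_le hQP with heq | hltQ
  · rw [← heq]; exact hQ
  · exfalso
    have h1 := Ideal.height_add_one_le_of_lt_of_isPrime hltQ
    rw [hP] at h1
    have h2 : ((c : ℕ∞) + 1) ≤ c := (add_le_add_left hQh 1).trans h1
    have h3 : ((c + 1 : ℕ) : ℕ∞) ≤ (c : ℕ∞) := by exact_mod_cast h2
    have h4 : c + 1 ≤ c := by exact_mod_cast h3
    omega

/-- if no associated prime of `R/I₂` contains `I₁` then `(I₁ ∩ I₂) : I₁ = I₂`. -/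
theorem colon_inf_eq [IsNoetherianRing R] (I₁ I₂ : Ideal R)
    (h : ∀ P ∈ associatedPrimes R (R ⧸ I₂), ¬ I₁ ≤ P) :
    (I₁ ⊓ I₂).colon (I₁ : Set R) = I₂ := by
  classical
  apply le_antisymm
  · intro x hx
    by_contra hxI
    have hne : (Ideal.Quotient.mk I₂ x : R ⧸ I₂) ≠ 0 := by
      rwa [Ne, Ideal.Quotient.eq_zero_iff_mem]
    obtain ⟨P, hP, hle⟩ := exists_le_isAssociatedPrime_of_isNoetherianRing R
      (Ideal.Quotient.mk I₂ x : R ⧸ I₂) hne
    apply h P hP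
    intro a ha
    apply hle
    rw [Submodule.mem_colon_singleton, Submodule.mem_bot]
    show a • (Ideal.Quotient.mk I₂ x) = 0
    rw [Algebra.smul_def, Ideal.Quotient.algebraMap_eq, ← map_mul,
      Ideal.Quotient.eq_zero_iff_mem]
    have h1 := (Submodule.mem_colon.mp hx) a ha
    rw [smul_eq_mul, mul_comm] at h1
    exact h1.2
  · intro x hx
    rw [Submodule.mem_colon]
    intro a ha
    rw [smul_eq_mul]
    exact ⟨I₁.mul_mem_left _ ha, I₂.mul_mem_right _ hx⟩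

/-- if `dim (S/𝔠)_q + 1 = dim S_{q ∩ S}` for all primes `q` of `S/𝔠`, then `dim S_P = 1` for every
minimal prime `P` of `𝔠`. -/
theorem ringKrullDim_localization_eq_one_of_minimal {S : Type u} [CommRing S] (𝔠 P : Ideal S)
    [hPp : P.IsPrime] (hP : P ∈ 𝔠.minimalPrimes)
    (hdim : ∀ (q : Ideal (S ⧸ 𝔠)) [q.IsPrime], ringKrullDim (Localization.AtPrime q) + 1 =
      ringKrullDim (Localization.AtPrime (q.comap (Ideal.Quotient.mk 𝔠)))) :
    ringKrullDim (Localization.AtPrime P) = 1 := by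
  set Pb : Ideal (S ⧸ 𝔠) := P.map (Ideal.Quotient.mk 𝔠) with hPb
  haveI : Pb.IsPrime := map_mk_isPrime 𝔠 P hP.1.2
  have hqcomap : Pb.comap (Ideal.Quotient.mk 𝔠) = P := comap_map_mk_eq 𝔠 P hP.1.2
  have hd := hdim Pb
  have e1 : ringKrullDim (Localization.AtPrime Pb) = 0 := by
    rw [IsLocalization.AtPrime.ringKrullDim_eq_height Pb (Localization.AtPrime Pb),
      Ideal.height_eq_zero_iff.mpr (map_mk_mem_minimalPrimes 𝔠 P hP)]
    rfl
  have e2 := IsLocalization.AtPrime.ringKrullDim_eq_height (Pb.comap (Ideal.Quotient.mk 𝔠))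
    (Localization.AtPrime (Pb.comap (Ideal.Quotient.mk 𝔠)))
  rw [e1, e2, hqcomap] at hd
  rw [IsLocalization.AtPrime.ringKrullDim_eq_height P (Localization.AtPrime P), ← hd]
  rfl

end Gen

section Poly

variable (K : Type u) [Field K] (n : ℕ)

set_option maxHeartbeats 1600000 in
/-- **Sums of geometrically linked ideals**. -/
theorem quot_sup_of_geometricallyLinked (c : ℕ)
    (I₁ I₂ : Ideal (MvPolynomial (Fin (n + 1)) K))
    (hI₁ : I₁.IsHomogeneous (GrSyz.stdGr K (Fin (n + 1))))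
    (hI₂ : I₂.IsHomogeneous (GrSyz.stdGr K (Fin (n + 1))))
    [hCM1 : LocCoh.IsCohenMacaulayRing (MvPolynomial (Fin (n + 1)) K ⧸ I₁)]
    [hCM2 : LocCoh.IsCohenMacaulayRing (MvPolynomial (Fin (n + 1)) K ⧸ I₂)]
    (h₁ : I₁.height = c) (h₂ : I₂.height = c)
    (hdisj : Disjoint I₁.minimalPrimes I₂.minimalPrimes)
    [hG : LocCoh.IsGorensteinRing (MvPolynomial (Fin (n + 1)) K ⧸ (I₁ ⊓ I₂))] :
    (I₁ ⊔ I₂).height = c + 1 ∧
      LocCoh.IsGorensteinRing (MvPolynomial (Fin (n + 1)) K ⧸ (I₁ ⊔ I₂)) := by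
  classical
  have hI₁top : I₁ ≠ ⊤ := by
    intro h
    rw [h, Ideal.height_top] at h₁
    exact ENat.top_ne_natCast c h₁
  have hI₂top : I₂ ≠ ⊤ := by
    intro h
    rw [h, Ideal.height_top] at h₂
    exact ENat.top_ne_natCast c h₂
  have hun1 := height_eq_of_mem_associatedPrimes_of_isHomogeneous K n I₁ hI₁ hI₁top
  have hun2 := height_eq_of_mem_associatedPrimes_of_isHomogeneous K n I₂ hI₂ hI₂top
  have hno12 : ∀ P ∈ associatedPrimes (MvPolynomial (Fin (n + 1)) K)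
      (MvPolynomial (Fin (n + 1)) K ⧸ I₂), ¬ I₁ ≤ P := by
    intro P hP hle
    haveI := hP.isPrime
    have hP2 : P ∈ I₂.minimalPrimes := mem_minimalPrimes_of_mem_associatedPrimes_quotient I₂ hP
    have hPh : P.height = c := (hun2 P hP).trans h₂
    have hP1 : P ∈ I₁.minimalPrimes := mem_minimalPrimes_of_le_of_height_eq I₁ P c h₁ hPh hle
    exact Set.disjoint_left.mp hdisj hP1 hP2
  have hno21 : ∀ P ∈ associatedPrimes (MvPolynomial (Fin (n + 1)) K)
      (MvPolynomial (Fin (n + 1)) K ⧸ I₁), ¬ I₂ ≤ P := by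
    intro P hP hle
    haveI := hP.isPrime
    have hP1 : P ∈ I₁.minimalPrimes := mem_minimalPrimes_of_mem_associatedPrimes_quotient I₁ hP
    have hPh : P.height = c := (hun1 P hP).trans h₁
    have hP2 : P ∈ I₂.minimalPrimes := mem_minimalPrimes_of_le_of_height_eq I₂ P c h₂ hPh hle
    exact Set.disjoint_left.mp hdisj hP1 hP2
  have hcol1 : (I₁ ⊓ I₂).colon (I₁ : Set (MvPolynomial (Fin (n + 1)) K)) = I₂ :=
    colon_inf_eq I₁ I₂ hno12
  have hcol2 : (I₁ ⊓ I₂).colon (I₂ : Set (MvPolynomial (Fin (n + 1)) K)) = I₁ := by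
    have := colon_inf_eq I₂ I₁ hno21
    rwa [inf_comm] at this
  have hX1 : I₁ ⊓ I₂ ≤ I₁ := inf_le_left
  have hX2 : I₁ ⊓ I₂ ≤ I₂ := inf_le_right
  have h12 : (Submodule.annihilator (I₁.map (Ideal.Quotient.mk (I₁ ⊓ I₂))) :
      Ideal (MvPolynomial (Fin (n + 1)) K ⧸ (I₁ ⊓ I₂))) =
      I₂.map (Ideal.Quotient.mk (I₁ ⊓ I₂)) := by
    rw [annihilator_map_mk (I₁ ⊓ I₂) I₁, hcol1]
  have h21 : (Submodule.annihilator (I₂.map (Ideal.Quotient.mk (I₁ ⊓ I₂))) :
      Ideal (MvPolynomial (Fin (n + 1)) K ⧸ (I₁ ⊓ I₂))) =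
      I₁.map (Ideal.Quotient.mk (I₁ ⊓ I₂)) := by
    rw [annihilator_map_mk (I₁ ⊓ I₂) I₂, hcol2]
  have hinf : I₁.map (Ideal.Quotient.mk (I₁ ⊓ I₂)) ⊓ I₂.map (Ideal.Quotient.mk (I₁ ⊓ I₂)) = ⊥ := by
    rw [eq_bot_iff]
    rintro xb ⟨h1, h2⟩
    obtain ⟨x, rfl⟩ := Ideal.Quotient.mk_surjective xb
    rw [SetLike.mem_coe, mk_mem_map_iff (I₁ ⊓ I₂) I₁ hX1] at h1
    rw [SetLike.mem_coe, mk_mem_map_iff (I₁ ⊓ I₂) I₂ hX2] at h2
    rw [Ideal.mem_bot, Ideal.Quotient.eq_zero_iff_mem]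
    exact ⟨h1, h2⟩
  haveI : LocCoh.IsCohenMacaulayRing ((MvPolynomial (Fin (n + 1)) K ⧸ (I₁ ⊓ I₂)) ⧸
      I₁.map (Ideal.Quotient.mk (I₁ ⊓ I₂))) :=
    Groth.Agent.Lib.helper6.CplQuot.isCMRing_of_ringEquiv
      (DoubleQuot.quotQuotEquivQuotOfLE hX1).symm hCM1
  haveI : LocCoh.IsCohenMacaulayRing ((MvPolynomial (Fin (n + 1)) K ⧸ (I₁ ⊓ I₂)) ⧸
      I₂.map (Ideal.Quotient.mk (I₁ ⊓ I₂))) :=
    Groth.Agent.Lib.helper6.CplQuot.isCMRing_of_ringEquiv
      (DoubleQuot.quotQuotEquivQuotOfLE hX2).symm hCM2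
  obtain ⟨hGor, hdim⟩ := isGorensteinRing_quotient_sup_of_linked
    (MvPolynomial (Fin (n + 1)) K ⧸ (I₁ ⊓ I₂)) _ _ h12 h21 hinf
  have hXJ : I₁ ⊓ I₂ ≤ I₁ ⊔ I₂ := hX1.trans le_sup_left
  have hsup : I₁.map (Ideal.Quotient.mk (I₁ ⊓ I₂)) ⊔ I₂.map (Ideal.Quotient.mk (I₁ ⊓ I₂)) =
      (I₁ ⊔ I₂).map (Ideal.Quotient.mk (I₁ ⊓ I₂)) := (Ideal.map_sup _ _ _).symm
  constructor
  · apply le_antisymm
    · -- `≤`
      have hm0 : ∀ J : Ideal (MvPolynomial (Fin (n + 1)) K),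
          J.IsHomogeneous (GrSyz.stdGr K (Fin (n + 1))) → J ≠ ⊤ →
          J ≤ RingHom.ker (MvPolynomial.constantCoeff : MvPolynomial (Fin (n + 1)) K →+* K) := by
        intro J hJ hJtop
        obtain ⟨P₀, hP₀⟩ := Ideal.nonempty_minimalPrimes hJtop
        exact hP₀.1.2.trans (le_ker_constantCoeff_of_mem_minimalPrimes K _ J P₀ hJ hP₀)
      have hJtop : I₁ ⊔ I₂ ≠ ⊤ := by
        intro h
        have h1 : I₁ ⊔ I₂ ≤ RingHom.ker
            (MvPolynomial.constantCoeff : MvPolynomial (Fin (n + 1)) K →+* K) :=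
          sup_le (hm0 I₁ hI₁ hI₁top) (hm0 I₂ hI₂ hI₂top)
        rw [h, top_le_iff] at h1
        exact RingHom.ker_ne_top _ h1
      have h𝔠top : I₁.map (Ideal.Quotient.mk (I₁ ⊓ I₂)) ⊔ I₂.map (Ideal.Quotient.mk (I₁ ⊓ I₂)) ≠
          ⊤ := by
        rw [hsup]
        intro h
        apply hJtop
        rw [Ideal.eq_top_iff_one, ← mk_mem_map_iff (I₁ ⊓ I₂) (I₁ ⊔ I₂) hXJ, h]
        trivial
      obtain ⟨P, hP⟩ := Ideal.nonempty_minimalPrimes h𝔠top
      haveI hPp : P.IsPrime := hP.1.1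
      have hPh : ringKrullDim (Localization.AtPrime P) = 1 :=
        ringKrullDim_localization_eq_one_of_minimal _ P hP hdim
      -- the prime of the polynomial ring
      have hsurj : Function.Surjective (algebraMap (MvPolynomial (Fin (n + 1)) K)
          (MvPolynomial (Fin (n + 1)) K ⧸ (I₁ ⊓ I₂))) := Ideal.Quotient.mk_surjective
      haveI hB : LocCoh.IsCohenMacaulayLocalRing (Localization.AtPrime
          (P.comap (algebraMap (MvPolynomial (Fin (n + 1)) K)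
            (MvPolynomial (Fin (n + 1)) K ⧸ (I₁ ⊓ I₂))))) :=
        isCohenMacaulayLocalRing_localization_mvPolynomial K n _
      haveI : IsLocalRing (Localization.AtPrime
          (P.comap (algebraMap (MvPolynomial (Fin (n + 1)) K)
            (MvPolynomial (Fin (n + 1)) K ⧸ (I₁ ⊓ I₂))))) := hB.toIsLocalRing
      obtain ⟨N, hN⟩ := Groth.Agent.H5.RegLoc.exists_nat_dim (Localization.AtPrime
          (P.comap (algebraMap (MvPolynomial (Fin (n + 1)) K)
            (MvPolynomial (Fin (n + 1)) K ⧸ (I₁ ⊓ I₂)))))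
      have hXP' : I₁ ⊓ I₂ ≤ P.comap (algebraMap (MvPolynomial (Fin (n + 1)) K)
            (MvPolynomial (Fin (n + 1)) K ⧸ (I₁ ⊓ I₂))) := by
        intro y hy
        show Ideal.Quotient.mk (I₁ ⊓ I₂) y ∈ P
        rw [Ideal.Quotient.eq_zero_iff_mem.mpr hy]
        exact P.zero_mem
      obtain ⟨Q, hQ, hQP'⟩ := Ideal.exists_minimalPrimes_le hXP'
      haveI hQp : Q.IsPrime := hQ.1.1
      haveI hCMX : LocCoh.IsCohenMacaulayRing (MvPolynomial (Fin (n + 1)) K ⧸ (I₁ ⊓ I₂)) :=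
        isCohenMacaulayRing_of_isGorensteinRing _
      have hQass := minimalPrimes_subset_associatedPrimes_quotient (I₁ ⊓ I₂) hQ
      have hQh : Q.height = c := by
        rcases (Ideal.IsPrime.inf_le hQp).mp hQ.1.2 with h | h
        · have hQ1 : Q ∈ I₁.minimalPrimes :=
            ⟨⟨hQp, h⟩, fun Q' hQ' hQ'Q => hQ.2 ⟨hQ'.1, hX1.trans hQ'.2⟩ hQ'Q⟩
          exact (hun1 Q (minimalPrimes_subset_associatedPrimes_quotient I₁ hQ1)).trans h₁
        · have hQ2 : Q ∈ I₂.minimalPrimes :=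
            ⟨⟨hQp, h⟩, fun Q' hQ' hQ'Q => hQ.2 ⟨hQ'.1, hX2.trans hQ'.2⟩ hQ'Q⟩
          exact (hun2 Q (minimalPrimes_subset_associatedPrimes_quotient I₂ hQ2)).trans h₂
      have key := supportDim_add_height_eq (I₁ ⊓ I₂) P N hN hQass hQP'
      obtain ⟨-, hsd⟩ := Groth.Agent.Lib.helper9.Depth.depth_supportDim_localization_of_surjective
        (R := MvPolynomial (Fin (n + 1)) K) (S := MvPolynomial (Fin (n + 1)) K ⧸ (I₁ ⊓ I₂))
        (M := MvPolynomial (Fin (n + 1)) K ⧸ (I₁ ⊓ I₂)) hsurj P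
      rw [hsd, Module.supportDim_eq_of_equiv
        (Groth.Agent.Lib.helper9.Depth.localizedModuleSelfEquiv P),
        Module.supportDim_self_eq_ringKrullDim, hPh, hQh] at key
      have hNc : N = c + 1 := by
        have h3 : ((1 + c : ℕ) : WithBot ℕ∞) = (N : WithBot ℕ∞) := by
          rw [← key]; push_cast; rfl
        have h4 : 1 + c = N := by exact_mod_cast h3
        omega
      have hP'h : (P.comap (algebraMap (MvPolynomial (Fin (n + 1)) K)
            (MvPolynomial (Fin (n + 1)) K ⧸ (I₁ ⊓ I₂)))).height = (N : ℕ∞) := by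
        have h5 := IsLocalization.AtPrime.ringKrullDim_eq_height
          (P.comap (algebraMap (MvPolynomial (Fin (n + 1)) K)
            (MvPolynomial (Fin (n + 1)) K ⧸ (I₁ ⊓ I₂)))) (Localization.AtPrime
          (P.comap (algebraMap (MvPolynomial (Fin (n + 1)) K)
            (MvPolynomial (Fin (n + 1)) K ⧸ (I₁ ⊓ I₂)))))
        rw [hN] at h5
        have h6 : ((N : ℕ∞) : WithBot ℕ∞) = _ := h5
        exact (WithBot.coe_injective h6).symm
      have hJP' : I₁ ⊔ I₂ ≤ P.comap (algebraMap (MvPolynomial (Fin (n + 1)) K)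
            (MvPolynomial (Fin (n + 1)) K ⧸ (I₁ ⊓ I₂))) := by
        intro y hy
        show Ideal.Quotient.mk (I₁ ⊓ I₂) y ∈ P
        apply hP.1.2
        rw [hsup]
        exact Ideal.mem_map_of_mem _ hy
      have h7 := Ideal.height_mono hJP'
      rw [hP'h, hNc] at h7
      exact_mod_cast h7
    · -- `≥`
      rw [Ideal.height_eq_inf_minimalPrimes]
      apply le_iInf₂
      intro P' hP'
      haveI hP'p : P'.IsPrime := hP'.1.1
      have hJP : I₁ ⊔ I₂ ≤ P' := hP'.1.2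
      obtain ⟨Q₁, hQ₁, hQ₁P⟩ := Ideal.exists_minimalPrimes_le (le_sup_left.trans hJP)
      haveI hQ₁p : Q₁.IsPrime := hQ₁.1.1
      have hQ₁h : Q₁.height = c :=
        (hun1 Q₁ (minimalPrimes_subset_associatedPrimes_quotient I₁ hQ₁)).trans h₁
      rcases eq_or_lt_of_le hQ₁P with heq | hlt
      · exfalso
        have hQ₁2 : Q₁ ∈ I₂.minimalPrimes :=
          mem_minimalPrimes_of_le_of_height_eq I₂ Q₁ c h₂ hQ₁h
            (by rw [heq]; exact le_sup_right.trans hJP)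
        exact Set.disjoint_left.mp hdisj hQ₁ hQ₁2
      · have h1 := Ideal.height_add_one_le_of_lt_of_isPrime hlt
        rw [hQ₁h] at h1
        exact h1
  · rw [hsup] at hGor
    exact isGorensteinRing_of_ringEquiv (DoubleQuot.quotQuotEquivQuotOfLE hXJ) hGor

end Poly

end Groth.Agent.H8.Liaison
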