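import Mathlib
import Groth.Prelude.Def_Wider
import Groth.Agent.Lib.helper8.MatlisD

/-!
# Matlis duality toolbox, part F (helper8): power-torsion modules are modules over the completion.
-/

universe u

namespace Groth.Agent.H8.Matlis

open LocCoh InjHull IsLocalRing
open scoped TensorProduct

section TorsionCompletion

variable {A : Type u} [CommRing A] [IsLocalRing A]
  {I : Type u} [AddCommGroup I] [Module A I]

/-- a Cauchy sequence representing an element of the completion. -/
noncomputable def rep (a : AdicCompletion (maximalIdeal A) A) :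
    AdicCompletion.AdicCauchySequence (maximalIdeal A) A :=
  Classical.choose (AdicCompletion.mk_surjective (maximalIdeal A) A a)

theorem mk_rep (a : AdicCompletion (maximalIdeal A) A) :
    AdicCompletion.mk (maximalIdeal A) A (rep a) = a :=
  Classical.choose_spec (AdicCompletion.mk_surjective (maximalIdeal A) A a)

theorem rep_cauchy (a : AdicCompletion (maximalIdeal A) A) :
    ∀ m n, m ≤ n → rep a n - rep a m ∈ (maximalIdeal A) ^ m := by
  intro m n hmn
  have h1 := AdicCompletion.AdicCauchySequence.mk_eq_mk hmn (rep a)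
  have h2 := (Submodule.Quotient.eq _).mp h1
  simpa using h2

theorem evalₐ_eq_mk_rep (a : AdicCompletion (maximalIdeal A) A) (n : ℕ) :
    AdicCompletion.evalₐ (maximalIdeal A) n a
      = Ideal.Quotient.mk ((maximalIdeal A) ^ n) (rep a n) := by
  conv_lhs => rw [← mk_rep a]
  rw [AdicCompletion.evalₐ_mk]

variable (hI : IsPowerTorsion (maximalIdeal A) I)

/-- the action of the completion on a power-torsion module. -/
noncomputable def act (a : AdicCompletion (maximalIdeal A) A) : Module.End A I :=
  seqEnd (fun n => rep a n) (rep_cauchy a) hI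

theorem act_apply (a : AdicCompletion (maximalIdeal A) A) (x : I) (n : ℕ) (r : A)
    (hr : AdicCompletion.evalₐ (maximalIdeal A) n a = Ideal.Quotient.mk _ r)
    (hn : ∀ c ∈ (maximalIdeal A) ^ n, c • x = 0) : act hI a x = r • x := by
  rw [act, seqEnd_apply _ _ hI x n hn]
  have h1 : rep a n - r ∈ (maximalIdeal A) ^ n := by
    rw [← Ideal.Quotient.eq, ← evalₐ_eq_mk_rep, hr]
  have h2 := hn _ h1
  rw [sub_smul, sub_eq_zero] at h2
  exact h2

/-- the action as a bilinear map. -/
noncomputable def actL : AdicCompletion (maximalIdeal A) A →ₗ[A] I →ₗ[A] I where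
  toFun := act hI
  map_add' a b := by
    ext x
    obtain ⟨n, hn⟩ := hI x
    rw [LinearMap.add_apply, act_apply hI a x n _ (evalₐ_eq_mk_rep a n) hn,
      act_apply hI b x n _ (evalₐ_eq_mk_rep b n) hn,
      act_apply hI (a + b) x n (rep a n + rep b n) (by
        rw [map_add, evalₐ_eq_mk_rep, evalₐ_eq_mk_rep, map_add]) hn, add_smul]
  map_smul' c a := by
    ext x
    obtain ⟨n, hn⟩ := hI x
    rw [RingHom.id_apply, LinearMap.smul_apply, act_apply hI a x n _ (evalₐ_eq_mk_rep a n) hn,
      act_apply hI (c • a) x n (c * rep a n) (by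
        rw [map_smul, evalₐ_eq_mk_rep, map_mul]; rfl) hn, mul_smul]

/-- the retraction `Â ⊗ I → I`. -/
noncomputable def retr : AdicCompletion (maximalIdeal A) A ⊗[A] I →ₗ[A] I :=
  TensorProduct.lift (actL hI)

theorem retr_tmul (a : AdicCompletion (maximalIdeal A) A) (x : I) :
    retr hI (a ⊗ₜ x) = act hI a x := rfl

theorem act_one (x : I) : act hI 1 x = x := by
  obtain ⟨n, hn⟩ := hI x
  rw [act_apply hI 1 x n 1 (by rw [map_one, map_one]) hn, one_smul]

include hI in
theorem mk_one_injective :
    Function.Injective (TensorProduct.mk A (AdicCompletion (maximalIdeal A) A) I 1) := by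
  intro x y h
  have := congrArg (retr hI) h
  simpa [retr_tmul, act_one] using this

theorem tmul_eq_one_tmul [IsNoetherianRing A] (a : AdicCompletion (maximalIdeal A) A) (x : I) :
    a ⊗ₜ[A] x = (1 : AdicCompletion (maximalIdeal A) A) ⊗ₜ[A] (act hI a x) := by
  obtain ⟨n, hn⟩ := hI x
  rw [act_apply hI a x n _ (evalₐ_eq_mk_rep a n) hn]
  set r := rep a n with hr
  let b : AdicCompletion (maximalIdeal A) A :=
    a - algebraMap A (AdicCompletion (maximalIdeal A) A) r
  have hb0 : AdicCompletion.evalₐ (maximalIdeal A) n b = 0 := by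
    show AdicCompletion.evalₐ (maximalIdeal A) n (a - algebraMap A _ r) = 0
    rw [map_sub, evalₐ_eq_mk_rep, AlgHom.commutes]
    exact sub_self _
  have hb1 : b ∈ LinearMap.ker (AdicCompletion.eval (maximalIdeal A) A n) := by
    rw [LinearMap.mem_ker]
    have h : (maximalIdeal A) ^ n ≤ ((maximalIdeal A) ^ n • ⊤ : Ideal A) := by
      rw [smul_eq_mul, Ideal.mul_top]
    rw [← AdicCompletion.factor_evalₐ_eq_eval (maximalIdeal A) b h, hb0, map_zero]
  rw [← AdicCompletion.pow_smul_top_eq_ker_eval (maximalIdeal A).fg_of_isNoetherianRing] at hb1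
  have hb2 : b ⊗ₜ[A] x = 0 := by
    refine Submodule.smul_induction_on hb1 ?_ ?_
    · intro c hc y _
      rw [TensorProduct.smul_tmul, hn c hc, TensorProduct.tmul_zero]
    · intro y z hy hz
      rw [TensorProduct.add_tmul, hy, hz, add_zero]
  have ha : a = b + algebraMap A (AdicCompletion (maximalIdeal A) A) r := by
    show a = a - _ + _
    rw [sub_add_cancel]
  conv_lhs => rw [ha]
  rw [TensorProduct.add_tmul, hb2, zero_add, Algebra.algebraMap_eq_smul_one,
    TensorProduct.smul_tmul]

include hI in
theorem mk_one_surjective [IsNoetherianRing A] :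
    Function.Surjective (TensorProduct.mk A (AdicCompletion (maximalIdeal A) A) I 1) := by
  intro t
  induction t using TensorProduct.induction_on with
  | zero => exact ⟨0, map_zero _⟩
  | tmul a x => exact ⟨act hI a x, (tmul_eq_one_tmul hI a x).symm⟩
  | add t t' ht ht' =>
    obtain ⟨x, hx⟩ := ht
    obtain ⟨y, hy⟩ := ht'
    exact ⟨x + y, by rw [map_add, hx, hy]⟩

end TorsionCompletion

end Groth.Agent.H8.Matlis
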