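import Mathlib
import Groth.Prelude.Def_PolLaw

/-!
# Basic tools for polynomial laws (helper8)

* `exists_lift_fin`: finitely many tensors in `S ⊗ M` lift simultaneously to a polynomial ring.
* `rTensor_algHom_apply`: `φ ⊗ B` is the algebra map `Algebra.TensorProduct.map φ id`.
-/

universe u v w

open scoped TensorProduct
open LinearMap

namespace Groth.Agent.H8.PolLaw

section Lift

variable {R : Type u} [CommSemiring R] {M : Type*} [AddCommMonoid M] [Module R M]
  {S : Type v} [CommSemiring S] [Algebra R S]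

theorem range_rTensor_val_mono {A A' : Subalgebra R S} (h : A ≤ A') :
    range (rTensor M A.val.toLinearMap) ≤ range (rTensor M A'.val.toLinearMap) := by
  have : A.val = A'.val.comp (Subalgebra.inclusion h) := by ext; rfl
  rw [this, AlgHom.comp_toLinearMap, rTensor_comp]
  exact range_comp_le_range _ _

theorem exists_fg_subalgebra_fin {k : ℕ} (t : Fin k → S ⊗[R] M) :
    ∃ A : Subalgebra R S, A.FG ∧ ∀ i, t i ∈ range (rTensor M A.val.toLinearMap) := by
  induction k with
  | zero => exact ⟨⊥, Subalgebra.fg_bot, fun i => i.elim0⟩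
  | succ k ih =>
    obtain ⟨A, hA, hAt⟩ := ih (fun i => t i.castSucc)
    obtain ⟨A', hA', ht'⟩ := TensorProduct.Algebra.exists_of_fg (t (Fin.last k))
    refine ⟨A ⊔ A', hA.sup hA', fun i => ?_⟩
    induction i using Fin.lastCases with
    | last => exact range_rTensor_val_mono le_sup_right ht'
    | cast i => exact range_rTensor_val_mono le_sup_left (hAt i)

/-- Finitely many tensors lift simultaneously to a polynomial ring in finitely many variables. -/
theorem exists_lift_fin {k : ℕ} (t : Fin k → S ⊗[R] M) :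
    ∃ (n : ℕ) (ψ : MvPolynomial (Fin n) R →ₐ[R] S) (p : Fin k → MvPolynomial (Fin n) R ⊗[R] M),
      ∀ i, ψ.toLinearMap.rTensor M (p i) = t i := by
  obtain ⟨A, hA, hAt⟩ := exists_fg_subalgebra_fin t
  obtain ⟨s, hs⟩ := PolynomialLaw.exists_range_φ_eq_of_fg hA
  have h : ∀ i, ∃ p : MvPolynomial (Fin s.card) R ⊗[R] M,
      (PolynomialLaw.φ R s).toLinearMap.rTensor M p = t i := fun i =>
    PolynomialLaw.exists_lift_of_mem_range_rTensor A (le_of_eq hs.symm) (hAt i)
  choose p hp using h
  exact ⟨s.card, PolynomialLaw.φ R s, p, hp⟩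

theorem exists_lift₂ (x y : S ⊗[R] M) :
    ∃ (n : ℕ) (ψ : MvPolynomial (Fin n) R →ₐ[R] S) (p q : MvPolynomial (Fin n) R ⊗[R] M),
      ψ.toLinearMap.rTensor M p = x ∧ ψ.toLinearMap.rTensor M q = y := by
  obtain ⟨n, ψ, p, hp⟩ := exists_lift_fin ![x, y]
  exact ⟨n, ψ, p 0, p 1, hp 0, hp 1⟩

end Lift

section Alg

variable {A : Type u} [CommSemiring A] {B : Type*} [Semiring B] [Algebra A B]
  {S : Type*} [CommSemiring S] [Algebra A S] {S' : Type*} [CommSemiring S'] [Algebra A S']

theorem rTensor_algHom_apply (φ : S →ₐ[A] S') (z : S ⊗[A] B) :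
    φ.toLinearMap.rTensor B z = Algebra.TensorProduct.map φ (AlgHom.id A B) z := by
  induction z using TensorProduct.induction_on with
  | zero => simp
  | tmul a b => rfl
  | add a b ha hb => simp [ha, hb]

theorem rTensor_one (φ : S →ₐ[A] S') : φ.toLinearMap.rTensor B (1 : S ⊗[A] B) = 1 := by
  rw [rTensor_algHom_apply, map_one]

theorem rTensor_mul (φ : S →ₐ[A] S') (x y : S ⊗[A] B) :
    φ.toLinearMap.rTensor B (x * y) = φ.toLinearMap.rTensor B x * φ.toLinearMap.rTensor B y := by
  rw [rTensor_algHom_apply, rTensor_algHom_apply, rTensor_algHom_apply, map_mul]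

end Alg

end Groth.Agent.H8.PolLaw
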