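import Mathlib
import Groth.Prelude.Def_PolLaw
import Groth.Agent.Lib.helper8.PolLaw1

/-!
# Kernel of a polynomial law: basic manipulations (helper8)
-/

universe u

open scoped TensorProduct
open LinearMap

namespace Groth.Agent.H8.PolLaw

variable {A : Type u} [CommRing A] {B C : Type u} [CommRing B] [Algebra A B] [CommRing C] [Algebra A C]

theorem lTensor_mul' {B' : Type u} [CommRing B'] [Algebra A B'] (f : B' →ₐ[A] B)
    (S : Type u) [CommSemiring S] [Algebra A S] (x y : S ⊗[A] B') :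
    f.toLinearMap.lTensor S (x * y) = f.toLinearMap.lTensor S x * f.toLinearMap.lTensor S y := by
  rw [PolLaw.lTensor_algHom_apply, PolLaw.lTensor_algHom_apply, PolLaw.lTensor_algHom_apply, map_mul]

theorem precomp_toFun' {B' : Type u} [CommRing B'] [Algebra A B'] {d : ℕ} (F : PolLaw.MulLaw A B C d)
    (f : B' →ₐ[A] B) (S : Type u) [CommSemiring S] [Algebra A S] (z : S ⊗[A] B') :
    (F.precomp f).law.toFun' S z = F.law.toFun' S (f.toLinearMap.lTensor S z) := rfl

theorem mem_ker_iff (F : B →ₚₗ[A] C) (b : B) :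
    b ∈ PolLaw.ker F ↔ ∀ (S : Type u) [CommSemiring S] [Algebra A S] (x w : S ⊗[A] B),
      F.toFun' S (x + w * (1 ⊗ₜ[A] b)) = F.toFun' S x := Iff.rfl

theorem mem_kerBC_iff (F : B →ₚₗ[A] C) (A' : Type u) [CommRing A'] [Algebra A A'] (b' : A' ⊗[A] B) :
    b' ∈ PolLaw.kerBC F A' ↔ ∀ (R : Type u) [CommSemiring R] [Algebra A R] [Algebra A' R]
      [IsScalarTower A A' R] (x w : R ⊗[A] B),
      F.toFun' R (x + w * Algebra.TensorProduct.map (IsScalarTower.toAlgHom A A' R) (AlgHom.id A B) b') =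
        F.toFun' R x := Iff.rfl

end Groth.Agent.H8.PolLaw
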