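import Mathlib
import Groth.Prelude.Def_PolLaw
import Groth.Agent.Lib.helper8.PolLaw2

/-!
# Kernel of base change to a polynomial ring (helper8)
-/

universe u

open scoped TensorProduct
open LinearMap

namespace Groth.Agent.H8.PolLaw

variable {A : Type u} [CommRing A] {B C : Type u} [CommRing B] [Algebra A B] [CommRing C] [Algebra A C]

/-- The extension of `ker F` is contained in `kerBC F A'`. -/
theorem map_ker_le_kerBC (F : B →ₚₗ[A] C) (A' : Type u) [CommRing A'] [Algebra A A'] :
    (PolLaw.ker F).map (Algebra.TensorProduct.includeRight : B →ₐ[A] A' ⊗[A] B) ≤ PolLaw.kerBC F A' := by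
  rw [Ideal.map_le_iff_le_comap]
  intro b hb
  rw [Ideal.mem_comap, mem_kerBC_iff]
  intro R _ _ _ _ x w
  rw [Algebra.TensorProduct.includeRight_apply, Algebra.TensorProduct.map_tmul, map_one]
  exact hb R x w

/-- Membership in `kerBC F A[X]` tested on pairs `(R, s)`. -/
theorem mem_kerBC_poly_iff (F : B →ₚₗ[A] C) (b' : Polynomial A ⊗[A] B) :
    b' ∈ PolLaw.kerBC F (Polynomial A) ↔
      ∀ (R : Type u) [CommSemiring R] [Algebra A R] (s : R) (x w : R ⊗[A] B),
        F.toFun' R (x + w * Algebra.TensorProduct.map (Polynomial.aeval s) (AlgHom.id A B) b') =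
          F.toFun' R x := by
  rw [mem_kerBC_iff]
  constructor
  · intro h R _ _ s x w
    letI : Algebra (Polynomial A) R := (Polynomial.aeval s : Polynomial A →ₐ[A] R).toRingHom.toAlgebra
    haveI : IsScalarTower A (Polynomial A) R := IsScalarTower.of_algebraMap_eq (fun a => by
      simp [RingHom.algebraMap_toAlgebra])
    have h1 := h R x w
    have h2 : IsScalarTower.toAlgHom A (Polynomial A) R = Polynomial.aeval s := by
      apply Polynomial.algHom_ext
      simp [RingHom.algebraMap_toAlgebra]
    rw [h2] at h1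
    exact h1
  · intro h R _ _ _ _ x w
    have h1 := h R (algebraMap (Polynomial A) R Polynomial.X) x w
    have h2 : IsScalarTower.toAlgHom A (Polynomial A) R =
        Polynomial.aeval (algebraMap (Polynomial A) R Polynomial.X) := by
      apply Polynomial.algHom_ext
      simp
    rw [h2]
    exact h1

section divX

variable (A) (R : Type u) [CommSemiring R] [Algebra A R]

/-- `Polynomial.divX` as an `A`-linear map. -/
noncomputable def divXLin : Polynomial R →ₗ[A] Polynomial R where
  toFun := Polynomial.divX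
  map_add' _ _ := Polynomial.divX_add
  map_smul' a q := by
    ext n
    simp [Polynomial.coeff_divX, Polynomial.coeff_smul]

theorem divXLin_X_mul (q : Polynomial R) : divXLin A R (Polynomial.X * q) = q := by
  ext n
  simp [divXLin, Polynomial.coeff_divX, Polynomial.coeff_X_mul]

variable {A R}

theorem rTensor_divXLin_X_smul (M : Type u) [AddCommGroup M] [Module A M]
    (y : Polynomial R ⊗[A] M) :
    (divXLin A R).rTensor M ((Polynomial.X : Polynomial R) • y) = y := by
  induction y using TensorProduct.induction_on with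
  | zero => simp
  | tmul q m =>
    rw [TensorProduct.smul_tmul', smul_eq_mul, LinearMap.rTensor_tmul, divXLin_X_mul]
  | add a b ha hb => rw [smul_add, map_add, ha, hb]

theorem X_pow_smul_cancel (M : Type u) [AddCommGroup M] [Module A M] (d : ℕ)
    (y₁ y₂ : Polynomial R ⊗[A] M)
    (h : ((Polynomial.X : Polynomial R) ^ d) • y₁ = ((Polynomial.X : Polynomial R) ^ d) • y₂) :
    y₁ = y₂ := by
  induction d with
  | zero => simpa using h
  | succ d ih =>
    apply ih
    rw [pow_succ', mul_smul, mul_smul] at h
    have := congrArg ((divXLin A R).rTensor M) h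
    rwa [rTensor_divXLin_X_smul, rTensor_divXLin_X_smul] at this

end divX

theorem tmul_one_mul_eq_smul {S : Type u} [CommSemiring S] [Algebra A S] (s : S) (y : S ⊗[A] B) :
    (s ⊗ₜ[A] (1 : B)) * y = s • y := by
  rw [Algebra.smul_def, Algebra.TensorProduct.algebraMap_apply]
  rfl

/-- If `X • z'` lies in the kernel of the base change to `A[X]` of a homogeneous law, so does `z'`. -/
theorem mem_kerBC_poly_of_X_mul {d : ℕ} (F : PolLaw.MulLaw A B C d) (z' : Polynomial A ⊗[A] B)
    (h : ((Polynomial.X : Polynomial A) ⊗ₜ[A] (1 : B)) * z' ∈ PolLaw.kerBC F.law (Polynomial A)) :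
    z' ∈ PolLaw.kerBC F.law (Polynomial A) := by
  rw [mem_kerBC_poly_iff] at h ⊢
  intro R _ _ s x w
  -- work over R[Z]
  let ι : R →ₐ[A] Polynomial R := (Polynomial.CAlgHom (R := A) (A := R))
  let ev : Polynomial R →ₐ[A] R := (Polynomial.aeval s : Polynomial R →ₐ[R] R).restrictScalars A
  let x' : Polynomial R ⊗[A] B := ι.toLinearMap.rTensor B x
  let w' : Polynomial R ⊗[A] B := ι.toLinearMap.rTensor B w
  let ζ : Polynomial R ⊗[A] B :=
    Algebra.TensorProduct.map (Polynomial.aeval (Polynomial.X : Polynomial R)) (AlgHom.id A B) z'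
  have h1 := h (Polynomial R) Polynomial.X (((Polynomial.X : Polynomial R) ⊗ₜ[A] (1 : B)) * x') w'
  rw [map_mul, Algebra.TensorProduct.map_tmul, Polynomial.aeval_X, map_one] at h1
  have h2 : ((Polynomial.X : Polynomial R) ⊗ₜ[A] (1 : B)) * x' +
      w' * (((Polynomial.X : Polynomial R) ⊗ₜ[A] (1 : B)) * ζ) =
      (Polynomial.X : Polynomial R) • (x' + w' * ζ) := by
    rw [smul_add, ← tmul_one_mul_eq_smul, ← tmul_one_mul_eq_smul]
    ring
  rw [h2, tmul_one_mul_eq_smul, F.homog, F.homog] at h1
  have h3 := X_pow_smul_cancel C d _ _ h1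
  have h4 := congrArg (ev.toLinearMap.rTensor C) h3
  rw [PolynomialLaw.isCompat_apply', PolynomialLaw.isCompat_apply'] at h4
  have hev : ∀ y : R ⊗[A] B, ev.toLinearMap.rTensor B (ι.toLinearMap.rTensor B y) = y := by
    intro y
    rw [← LinearMap.comp_apply, ← LinearMap.rTensor_comp, ← AlgHom.comp_toLinearMap]
    have : ev.comp ι = AlgHom.id A R := by
      ext r
      simp [ev, ι]
    rw [this]
    simp
  have hζ : ev.toLinearMap.rTensor B ζ =
      Algebra.TensorProduct.map (Polynomial.aeval s) (AlgHom.id A B) z' := by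
    rw [rTensor_algHom_apply]
    show (Algebra.TensorProduct.map ev (AlgHom.id A B))
      ((Algebra.TensorProduct.map (Polynomial.aeval (Polynomial.X : Polynomial R)) (AlgHom.id A B)) z') = _
    rw [← AlgHom.comp_apply, ← Algebra.TensorProduct.map_comp]
    congr 2
    apply Polynomial.algHom_ext
    simp [ev]
  rw [map_add, rTensor_mul, hev, hev, hζ] at h4
  exact h4

end Groth.Agent.H8.PolLaw

namespace Groth.Agent.H8.PolLaw

variable {A : Type u} [CommRing A] {B C : Type u} [CommRing B] [Algebra A B] [CommRing C] [Algebra A C]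

variable (A B) in
/-- `B[X] ≃ A[X] ⊗ B`. -/
noncomputable def polyTensor : Polynomial B ≃ₐ[A] Polynomial A ⊗[A] B :=
  (polyEquivTensor A B).trans (Algebra.TensorProduct.comm A B (Polynomial A))

theorem polyTensor_C (b : B) : polyTensor A B (Polynomial.C b) = 1 ⊗ₜ[A] b := by
  simp [polyTensor]

theorem polyTensor_X : polyTensor A B Polynomial.X = Polynomial.X ⊗ₜ[A] 1 := by
  simp [polyTensor]

theorem map_aeval_zero_polyTensor (R : Type u) [CommSemiring R] [Algebra A R] (q : Polynomial B) :
    Algebra.TensorProduct.map (Polynomial.aeval (0 : R)) (AlgHom.id A B) (polyTensor A B q) =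
      1 ⊗ₜ[A] q.coeff 0 := by
  let g₁ : Polynomial B →ₐ[A] R ⊗[A] B :=
    (Algebra.TensorProduct.map (Polynomial.aeval (0 : R)) (AlgHom.id A B)).comp (polyTensor A B).toAlgHom
  let g₂ : Polynomial B →ₐ[A] R ⊗[A] B :=
    (Algebra.TensorProduct.includeRight : B →ₐ[A] R ⊗[A] B).comp
      ((Polynomial.aeval (0 : B) : Polynomial B →ₐ[B] B).restrictScalars A)
  have h : g₁ = g₂ := by
    apply Polynomial.algHom_ext'
    · ext b
      simp [g₁, g₂, polyTensor_C]
    · simp [g₁, g₂, polyTensor_X]
  have := congrArg (fun g => g q) h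
  simp only [g₁, g₂, AlgHom.comp_apply, AlgHom.restrictScalars_apply,
    Algebra.TensorProduct.includeRight_apply, ← Polynomial.coeff_zero_eq_aeval_zero] at this
  exact this

/-- Main step for polynomial base change: coefficients of an element of `kerBC F A[X]`
lie in `ker F`. -/
theorem coeff_mem_ker_of_polyTensor_mem_kerBC {d : ℕ} (F : PolLaw.MulLaw A B C d) (q : Polynomial B)
    (hq : polyTensor A B q ∈ PolLaw.kerBC F.law (Polynomial A)) (i : ℕ) :
    q.coeff i ∈ PolLaw.ker F.law := by
  induction q using Polynomial.recOnHorner generalizing i with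
  | M0 => simp
  | MC p a hp0 _ ih =>
    -- constant coefficient
    have ha : a ∈ PolLaw.ker F.law := by
      rw [mem_ker_iff]
      intro S _ _ x w
      have h1 := (mem_kerBC_poly_iff F.law _).mp hq S (0 : S) x w
      rw [map_aeval_zero_polyTensor] at h1
      simpa [hp0] using h1
    have hp : polyTensor A B p ∈ PolLaw.kerBC F.law (Polynomial A) := by
      have h1 : polyTensor A B p = polyTensor A B (p + Polynomial.C a) - 1 ⊗ₜ[A] a := by
        rw [map_add, polyTensor_C]; ring
      rw [h1]
      refine Ideal.sub_mem _ hq ?_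
      apply map_ker_le_kerBC F.law (Polynomial A)
      exact Ideal.mem_map_of_mem _ ha
    rw [Polynomial.coeff_add]
    refine Ideal.add_mem _ (ih hp i) ?_
    rw [Polynomial.coeff_C]
    split_ifs
    · exact ha
    · exact Ideal.zero_mem _
  | MX p _ ih =>
    have hp : polyTensor A B p ∈ PolLaw.kerBC F.law (Polynomial A) := by
      apply mem_kerBC_poly_of_X_mul F
      rw [← polyTensor_X, ← map_mul, mul_comm]
      exact hq
    cases i with
    | zero => simp
    | succ i => rw [Polynomial.coeff_mul_X]; exact ih hp i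

theorem map_ker_eq_kerBC_polynomial {d : ℕ} (F : PolLaw.MulLaw A B C d) :
    (PolLaw.ker F.law).map (Algebra.TensorProduct.includeRight : B →ₐ[A] Polynomial A ⊗[A] B) =
      PolLaw.kerBC F.law (Polynomial A) := by
  apply le_antisymm (map_ker_le_kerBC F.law (Polynomial A))
  intro b' hb'
  obtain ⟨q, rfl⟩ := (polyTensor A B).surjective b'
  have hc := coeff_mem_ker_of_polyTensor_mem_kerBC F q hb'
  rw [Polynomial.as_sum_support_C_mul_X_pow q, map_sum]
  refine Ideal.sum_mem _ (fun i _ => ?_)
  rw [map_mul, polyTensor_C]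
  exact Ideal.mul_mem_right _ _ (Ideal.mem_map_of_mem _ (hc i))

end Groth.Agent.H8.PolLaw
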