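import Mathlib
import Groth.Prelude.Def_PolLaw
import Groth.Agent.Lib.helper8.PolLaw2

/-!
# The kernel of a multiplicative law with reduced target is radical (helper8)
-/

universe u

open scoped TensorProduct
open LinearMap

namespace Groth.Agent.H8.PolLaw

section Poly

variable {A : Type u} [CommRing A] {B C : Type u} [CommRing B] [Algebra A B] [CommRing C] [Algebra A C]

/-- Membership in `ker F` can be tested on polynomial rings in finitely many variables. -/
theorem mem_ker_of_forall_mvPolynomial (F : B →ₚₗ[A] C) (b : B)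
    (h : ∀ (k : ℕ) (x w : MvPolynomial (Fin k) A ⊗[A] B),
      F.toFun' (MvPolynomial (Fin k) A) (x + w * (1 ⊗ₜ[A] b)) =
        F.toFun' (MvPolynomial (Fin k) A) x) :
    b ∈ PolLaw.ker F := by
  rw [mem_ker_iff]
  intro S _ _ x w
  obtain ⟨k, ψ, p, q, rfl, rfl⟩ := exists_lift₂ x w
  have h1 : ψ.toLinearMap.rTensor B p + ψ.toLinearMap.rTensor B q * (1 ⊗ₜ[A] b) =
      ψ.toLinearMap.rTensor B (p + q * (1 ⊗ₜ b)) := by
    rw [map_add, rTensor_mul, LinearMap.rTensor_tmul, AlgHom.toLinearMap_apply, map_one]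
  rw [h1, ← PolynomialLaw.isCompat_apply', ← PolynomialLaw.isCompat_apply', h k p q]

end Poly

theorem geom_aux {R : Type*} [CommRing R] (a β t c : R) (n : ℕ) (hβ : β = t * c) :
    (a + β) * (∑ i ∈ Finset.range n, a ^ i * (-β) ^ (n - 1 - i)) =
      a ^ n + (-((-1) ^ n * t ^ n)) * c ^ n := by
  have := Commute.geom_sum₂_mul (Commute.all a (-β)) n
  rw [sub_neg_eq_add] at this
  rw [mul_comm, this, hβ, neg_pow (t * c), mul_pow]
  ring

section Field

variable {A : Type u} [CommRing A] {B : Type u} [CommRing B] [Algebra A B]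
  {L : Type u} [Field L] [Algebra A L] {d : ℕ} (F : PolLaw.MulLaw A B L d)

section defs

variable (A L) (L' : Type u) [CommRing L'] [Algebra A L'] [Algebra L L'] [IsScalarTower A L L']

/-- the multiplication map `L' ⊗[A] L → L'` -/
noncomputable def mu : L' ⊗[A] L →ₐ[A] L' :=
  Algebra.TensorProduct.productMap (AlgHom.id A L') (IsScalarTower.toAlgHom A L L')

theorem mu_tmul (l' : L') (l : L) : mu A L L' (l' ⊗ₜ[A] l) = l' * algebraMap L L' l := by
  simp [mu]

variable {A L} in
/-- the `L'`-valued evaluation of the law -/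
noncomputable def val (z : L' ⊗[A] B) : L' := mu A L L' (F.law.toFun' L' z)

variable (B) {L'} in
/-- base change of tensors along an `L`-algebra map -/
noncomputable def bc {L'' : Type u} [CommRing L''] [Algebra A L''] [Algebra L L'']
    [IsScalarTower A L L''] (φ : L' →ₐ[L] L'') : L' ⊗[A] B →ₐ[A] L'' ⊗[A] B :=
  Algebra.TensorProduct.map (φ.restrictScalars A) (AlgHom.id A B)

end defs

variable {L' : Type u} [CommRing L'] [Algebra A L'] [Algebra L L'] [IsScalarTower A L L']
  {L'' : Type u} [CommRing L''] [Algebra A L''] [Algebra L L''] [IsScalarTower A L L'']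
  {L''' : Type u} [CommRing L'''] [Algebra A L'''] [Algebra L L'''] [IsScalarTower A L L''']

theorem bc_tmul (φ : L' →ₐ[L] L'') (l : L') (b : B) : bc A B L φ (l ⊗ₜ[A] b) = φ l ⊗ₜ[A] b := by
  simp [bc]

theorem bc_bc (φ : L' →ₐ[L] L'') (ψ : L'' →ₐ[L] L''') (z : L' ⊗[A] B) :
    bc A B L ψ (bc A B L φ z) = bc A B L (ψ.comp φ) z := by
  induction z using TensorProduct.induction_on with
  | zero => simp
  | tmul l b => simp [bc_tmul]
  | add a b ha hb => simp [ha, hb]

theorem bc_id (z : L' ⊗[A] B) : bc A B L (AlgHom.id L L') z = z := by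
  induction z using TensorProduct.induction_on with
  | zero => simp
  | tmul l b => simp [bc_tmul]
  | add a b ha hb => simp [ha, hb]

theorem val_one : val F L' 1 = 1 := by
  rw [val, (F.mult L').1, map_one]

theorem val_mul (x y : L' ⊗[A] B) : val F L' (x * y) = val F L' x * val F L' y := by
  rw [val, (F.mult L').2, map_mul]; rfl

theorem val_pow (x : L' ⊗[A] B) (n : ℕ) : val F L' (x ^ n) = val F L' x ^ n := by
  induction n with
  | zero => rw [pow_zero, pow_zero, val_one]
  | succ n ih => rw [pow_succ, pow_succ, val_mul, ih]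

theorem val_compat (φ : L' →ₐ[L] L'') (z : L' ⊗[A] B) :
    φ (val F L' z) = val F L'' (bc A B L φ z) := by
  have h1 : bc A B L φ z = (φ.restrictScalars A).toLinearMap.rTensor B z :=
    (rTensor_algHom_apply _ z).symm
  rw [val, val, h1, ← PolynomialLaw.isCompat_apply']
  generalize F.law.toFun' L' z = y
  induction y using TensorProduct.induction_on with
  | zero => simp
  | tmul l' l =>
    rw [LinearMap.rTensor_tmul, mu_tmul, mu_tmul, map_mul, AlgHom.commutes]
    rfl
  | add a b ha hb => simp only [map_add, ha, hb]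

theorem val_ker (c : B) (hc : c ∈ PolLaw.ker F.law) (x w : L' ⊗[A] B) :
    val F L' (x + w * (1 ⊗ₜ[A] c)) = val F L' x := by
  rw [val, val, hc L' x w]

/-- Core: if `b ^ n ∈ ker F` for a field-valued multiplicative law, then adding multiples of `b`
does not change the `L`-value. -/
theorem val_add_mul_eq_of_pow_mem_ker (b : B) (n : ℕ) (hb : b ^ n ∈ PolLaw.ker F.law)
    (x w : L ⊗[A] B) :
    val F L (x + w * (1 ⊗ₜ[A] b)) = val F L x := by
  classical
  let ι₁ : L →ₐ[L] Polynomial L := Algebra.ofId L (Polynomial L)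
  let j : Polynomial L →ₐ[L] Polynomial (Polynomial L) :=
    (Algebra.ofId (Polynomial L) (Polynomial (Polynomial L))).restrictScalars L
  let σ : Polynomial L →ₐ[L] Polynomial (Polynomial L) :=
    Polynomial.aeval (Polynomial.X + Polynomial.C Polynomial.X)
  let x₁ : Polynomial L ⊗[A] B := bc A B L ι₁ x
  let w₁ : Polynomial L ⊗[A] B := bc A B L ι₁ w
  let y₁ : Polynomial L ⊗[A] B := x₁ + ((Polynomial.X : Polynomial L) ⊗ₜ[A] (1 : B)) * w₁ * (1 ⊗ₜ[A] b)
  let U : Polynomial L := val F (Polynomial L) y₁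
  -- (a) evaluation
  have ha : ∀ ζ : L, Polynomial.eval ζ U = val F L (x + (ζ ⊗ₜ[A] (1 : B)) * w * (1 ⊗ₜ[A] b)) := by
    intro ζ
    have h1 := val_compat F (Polynomial.aeval ζ : Polynomial L →ₐ[L] L) y₁
    rw [Polynomial.coe_aeval_eq_eval] at h1
    rw [h1]
    congr 1
    have hid : (Polynomial.aeval ζ : Polynomial L →ₐ[L] L).comp ι₁ = AlgHom.id L L := by
      ext
    simp only [y₁, x₁, w₁, map_add, map_mul, bc_bc, hid, bc_id, bc_tmul, Polynomial.aeval_X, map_one]
  -- (b) the identity over L[X][X]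
  let X₀ : Polynomial (Polynomial L) ⊗[A] B := bc A B L j y₁
  let β : Polynomial (Polynomial L) ⊗[A] B :=
    ((Polynomial.X : Polynomial (Polynomial L)) ⊗ₜ[A] (1 : B)) * bc A B L j w₁ * (1 ⊗ₜ[A] b)
  have hσ : bc A B L σ y₁ = X₀ + β := by
    have hcomp : σ.comp ι₁ = j.comp ι₁ := by
      ext
    have hX : σ Polynomial.X = Polynomial.X + j Polynomial.X := by
      simp [σ, j, Algebra.ofId_apply, Polynomial.algebraMap_apply]
    simp only [X₀, β, y₁, x₁, w₁, map_add, map_mul, bc_bc, bc_tmul, hcomp, hX, map_one,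
      TensorProduct.add_tmul]
    ring
  obtain ⟨K, hK⟩ : ∃ K : Polynomial (Polynomial L) ⊗[A] B, (X₀ + β) * K = X₀ ^ n +
      (-((-1) ^ n * (((Polynomial.X : Polynomial (Polynomial L)) ⊗ₜ[A] (1 : B)) *
        bc A B L j w₁) ^ n)) * (1 ⊗ₜ[A] (b ^ n)) := by
    have h := geom_aux X₀ β (((Polynomial.X : Polynomial (Polynomial L)) ⊗ₜ[A] (1 : B)) *
        bc A B L j w₁) ((1 : Polynomial (Polynomial L)) ⊗ₜ[A] b) n rfl
    rw [Algebra.TensorProduct.tmul_pow, one_pow] at h
    exact ⟨_, h⟩
  have hkey : σ U * val F (Polynomial (Polynomial L)) K = (j U) ^ n := by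
    have e1 : σ U = val F _ (X₀ + β) := by rw [← hσ]; exact val_compat F σ y₁
    have e2 : j U = val F _ X₀ := val_compat F j y₁
    have e3 : val F _ ((X₀ + β) * K) = val F _ (X₀ ^ n) :=
      (congrArg (val F _) hK).trans (val_ker F _ hb _ _)
    rw [e1, e2, ← val_pow, ← e3, val_mul]
  -- (c) degree argument
  have hUc : U = Polynomial.C (U.coeff 0) := by
    by_cases hU : U = 0
    · rw [hU]; simp
    · apply Polynomial.eq_C_of_natDegree_eq_zero
      have hjU : j U = Polynomial.C U := by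
        simp [j, Algebra.ofId_apply, Polynomial.algebraMap_apply]
      have hσU : σ U = (U.map (Polynomial.C : L →+* Polynomial L)).comp
          (Polynomial.X + Polynomial.C Polynomial.X) := by
        simp only [σ, Polynomial.aeval_def, Polynomial.comp, Polynomial.eval₂_map]
        congr 1
      have hdeg : (σ U).natDegree = U.natDegree := by
        rw [hσU, Polynomial.natDegree_comp, Polynomial.natDegree_X_add_C, mul_one,
          Polynomial.natDegree_map_eq_of_injective Polynomial.C_injective]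
      rw [hjU, ← Polynomial.C_pow] at hkey
      have hne : σ U * val F (Polynomial (Polynomial L)) K ≠ 0 := by
        rw [hkey]
        simpa using pow_ne_zero n hU
      have h2 := congrArg Polynomial.natDegree hkey
      rw [Polynomial.natDegree_mul (left_ne_zero_of_mul hne) (right_ne_zero_of_mul hne),
        Polynomial.natDegree_C, hdeg] at h2
      omega
  have h1 := ha 1
  have h0 := ha 0
  rw [hUc, Polynomial.eval_C] at h1 h0
  have e1 : ((1 : L) ⊗ₜ[A] (1 : B)) * w * (1 ⊗ₜ[A] b) = w * (1 ⊗ₜ[A] b) := by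
    rw [← Algebra.TensorProduct.one_def, one_mul]
  have e0 : ((0 : L) ⊗ₜ[A] (1 : B)) * w * (1 ⊗ₜ[A] b) = 0 := by
    rw [TensorProduct.zero_tmul, zero_mul, zero_mul]
  rw [e1] at h1
  rw [e0, add_zero] at h0
  rw [← h1, ← h0]

end Field

end Groth.Agent.H8.PolLaw

namespace Groth.Agent.H8.PolLaw

variable {A : Type u} [CommRing A] {B C : Type u} [CommRing B] [Algebra A B] [CommRing C] [Algebra A C]

theorem postcomp_toFun' {C' : Type u} [CommRing C'] [Algebra A C'] {d : ℕ} (f : C →ₐ[A] C')
    (F : PolLaw.MulLaw A B C d) (S : Type u) [CommSemiring S] [Algebra A S] (z : S ⊗[A] B) :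
    (F.postcomp f).law.toFun' S z = f.toLinearMap.lTensor S (F.law.toFun' S z) := rfl

theorem mem_ker_postcomp {C' : Type u} [CommRing C'] [Algebra A C'] {d : ℕ} (f : C →ₐ[A] C')
    (F : PolLaw.MulLaw A B C d) (c : B) (hc : c ∈ PolLaw.ker F.law) :
    c ∈ PolLaw.ker (F.postcomp f).law := by
  rw [mem_ker_iff] at hc ⊢
  intro S _ _ x w
  rw [postcomp_toFun', postcomp_toFun', hc S x w]

/-- Field-valued points do not distinguish `F (x + w b)` from `F x` when `b ^ n ∈ ker F`. -/
theorem fieldpoint {d : ℕ} (F : PolLaw.MulLaw A B C d) (b : B) (n : ℕ)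
    (hb : b ^ n ∈ PolLaw.ker F.law) (S : Type u) [CommRing S] [Algebra A S]
    (L : Type u) [Field L] [Algebra A L] (ρ : S ⊗[A] C →ₐ[A] L) (x w : S ⊗[A] B) :
    ρ (F.law.toFun' S (x + w * (1 ⊗ₜ[A] b))) = ρ (F.law.toFun' S x) := by
  let ρ₁ : S →ₐ[A] L := ρ.comp Algebra.TensorProduct.includeLeft
  let ρ₂ : C →ₐ[A] L := ρ.comp Algebra.TensorProduct.includeRight
  have key : ∀ y : S ⊗[A] B, ρ (F.law.toFun' S y) =
      val (F.postcomp ρ₂) L (ρ₁.toLinearMap.rTensor B y) := by
    intro y
    rw [val, postcomp_toFun', ← PolynomialLaw.isCompat_apply']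
    generalize F.law.toFun' S y = t
    induction t using TensorProduct.induction_on with
    | zero => simp
    | tmul s c =>
      rw [LinearMap.rTensor_tmul, LinearMap.lTensor_tmul, mu_tmul]
      simp only [AlgHom.toLinearMap_apply, ρ₁, ρ₂, AlgHom.comp_apply,
        Algebra.TensorProduct.includeLeft_apply, Algebra.TensorProduct.includeRight_apply,
        Algebra.algebraMap_self, RingHom.id_apply, ← map_mul,
        Algebra.TensorProduct.tmul_mul_tmul, mul_one, one_mul]
    | add a b ha hb => simp only [map_add, ha, hb]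
  rw [key, key, map_add, rTensor_mul, LinearMap.rTensor_tmul, AlgHom.toLinearMap_apply, map_one]
  exact val_add_mul_eq_of_pow_mem_ker (F.postcomp ρ₂) b n (mem_ker_postcomp ρ₂ F _ hb) _ _

theorem isReduced_mvPolynomial_tensor [IsReduced C] (k : ℕ) :
    IsReduced (MvPolynomial (Fin k) A ⊗[A] C) := by
  let e : MvPolynomial (Fin k) A ⊗[A] C ≃+* MvPolynomial (Fin k) C :=
    ((Algebra.TensorProduct.comm A (MvPolynomial (Fin k) A) C).toRingEquiv).trans
      (MvPolynomial.algebraTensorAlgEquiv A C).toRingEquiv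
  exact isReduced_of_injective e.toRingHom e.injective

/-- The kernel of a multiplicative law with reduced target is a radical ideal. -/
theorem isRadical_ker_of_isReduced [IsReduced C] {d : ℕ} (F : PolLaw.MulLaw A B C d) :
    (PolLaw.ker F.law).IsRadical := by
  intro b hb
  obtain ⟨n, hn⟩ := hb
  apply mem_ker_of_forall_mvPolynomial
  intro k x w
  haveI : IsReduced (MvPolynomial (Fin k) A ⊗[A] C) := isReduced_mvPolynomial_tensor k
  have hnil : F.law.toFun' (MvPolynomial (Fin k) A) (x + w * (1 ⊗ₜ[A] b)) -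
      F.law.toFun' (MvPolynomial (Fin k) A) x ∈ nilradical (MvPolynomial (Fin k) A ⊗[A] C) := by
    rw [nilradical_eq_sInf, Ideal.mem_sInf]
    intro Q hQ
    haveI : Q.IsPrime := hQ
    let L := FractionRing ((MvPolynomial (Fin k) A ⊗[A] C) ⧸ Q)
    let ρ : MvPolynomial (Fin k) A ⊗[A] C →ₐ[A] L :=
      (IsScalarTower.toAlgHom A ((MvPolynomial (Fin k) A ⊗[A] C) ⧸ Q) L).comp
        (Ideal.Quotient.mkₐ A Q)
    have h1 := fieldpoint F b n hn (MvPolynomial (Fin k) A) L ρ x w
    rw [← sub_eq_zero, ← map_sub] at h1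
    simp only [ρ, AlgHom.comp_apply, Ideal.Quotient.mkₐ_eq_mk, IsScalarTower.coe_toAlgHom'] at h1
    have h2 := (IsFractionRing.injective ((MvPolynomial (Fin k) A ⊗[A] C) ⧸ Q) L)
      (h1.trans (map_zero _).symm)
    exact Ideal.Quotient.eq_zero_iff_mem.mp h2
  rw [nilradical_eq_zero, Ideal.zero_eq_bot, Ideal.mem_bot, sub_eq_zero] at hnil
  exact hnil

end Groth.Agent.H8.PolLaw
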