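import Mathlib
import Groth.Prelude.Def_PolLaw
import Groth.Agent.Lib.helper8.PolLaw3

/-!
# Kernel of a law on a finite algebra: universal test and localization (helper8)
-/

universe u

open scoped TensorProduct
open LinearMap

namespace Groth.Agent.H8.PolLaw

variable {A : Type u} [CommRing A] {B C : Type u} [CommRing B] [Algebra A B] [CommRing C] [Algebra A C]
  {k : ℕ} (β : Fin k → B)

/-- the element `∑ c i ⊗ β i`. -/
noncomputable def xi (S : Type u) [CommSemiring S] [Algebra A S] (c : Fin k → S) : S ⊗[A] B :=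
  ∑ i, c i ⊗ₜ[A] β i

theorem exists_repr (hβ : Submodule.span A (Set.range β) = ⊤) (S : Type u) [CommSemiring S]
    [Algebra A S] (x : S ⊗[A] B) : ∃ c : Fin k → S, x = xi β S c := by
  induction x using TensorProduct.induction_on with
  | zero => exact ⟨0, by simp [xi]⟩
  | tmul s b =>
    have hb : b ∈ Submodule.span A (Set.range β) := by rw [hβ]; trivial
    obtain ⟨a, rfl⟩ := (Submodule.mem_span_range_iff_exists_fun A).mp hb
    refine ⟨fun i => a i • s, ?_⟩
    simp only [xi, TensorProduct.tmul_sum, TensorProduct.tmul_smul, TensorProduct.smul_tmul']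
  | add x y hx hy =>
    obtain ⟨c, rfl⟩ := hx
    obtain ⟨c', rfl⟩ := hy
    refine ⟨c + c', ?_⟩
    simp only [xi, Pi.add_apply, TensorProduct.add_tmul, Finset.sum_add_distrib]

theorem rTensor_xi {S S' : Type u} [CommSemiring S] [Algebra A S] [CommSemiring S'] [Algebra A S']
    (φ : S →ₐ[A] S') (c : Fin k → S) :
    φ.toLinearMap.rTensor B (xi β S c) = xi β S' (fun i => φ (c i)) := by
  simp only [xi, map_sum, LinearMap.rTensor_tmul, AlgHom.toLinearMap_apply]

/-- Universal test for membership in `ker F`, when `β` spans `B`. -/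
theorem mem_ker_of_generic (hβ : Submodule.span A (Set.range β) = ⊤) (F : B →ₚₗ[A] C) (b : B)
    (h : F.toFun' (MvPolynomial (Fin k ⊕ Fin k) A)
        (xi β _ (fun i => MvPolynomial.X (Sum.inl i)) +
          xi β _ (fun i => MvPolynomial.X (Sum.inr i)) * (1 ⊗ₜ[A] b)) =
      F.toFun' (MvPolynomial (Fin k ⊕ Fin k) A) (xi β _ (fun i => MvPolynomial.X (Sum.inl i)))) :
    b ∈ PolLaw.ker F := by
  rw [mem_ker_iff]
  intro S _ _ x w
  obtain ⟨c, rfl⟩ := exists_repr β hβ S x
  obtain ⟨c', rfl⟩ := exists_repr β hβ S w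
  let φ : MvPolynomial (Fin k ⊕ Fin k) A →ₐ[A] S := MvPolynomial.aeval (Sum.elim c c')
  have h1 := congrArg (φ.toLinearMap.rTensor C) h
  rw [PolynomialLaw.isCompat_apply', PolynomialLaw.isCompat_apply', map_add, rTensor_mul,
    rTensor_xi, rTensor_xi, LinearMap.rTensor_tmul, AlgHom.toLinearMap_apply, map_one] at h1
  simpa [φ] using h1

theorem rid_rTensor {S S' : Type u} [CommSemiring S] [Algebra A S] [CommSemiring S'] [Algebra A S']
    (φ : S →ₐ[A] S') (z : S ⊗[A] A) :
    TensorProduct.rid A S' (φ.toLinearMap.rTensor A z) = φ (TensorProduct.rid A S z) := by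
  induction z using TensorProduct.induction_on with
  | zero => simp
  | tmul s a => simp
  | add x y hx hy => simp only [map_add, hx, hy]

theorem polynomial_mul_X_eq_zero {P : Type*} [CommRing P] (q : Polynomial P)
    (h : q * Polynomial.X = 0) : q = 0 := by
  ext n
  have := congrArg (fun p => Polynomial.coeff p (n + 1)) h
  simpa [Polynomial.coeff_mul_X] using this

section Delta

variable (b : B)

/-- the generic element `ξ` over `P = A[X_i, W_i]`. -/
noncomputable abbrev gxi : MvPolynomial (Fin k ⊕ Fin k) A ⊗[A] B :=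
  xi β _ (fun i => MvPolynomial.X (Sum.inl i))

/-- the generic element `ω` over `P = A[X_i, W_i]`. -/
noncomputable abbrev gom : MvPolynomial (Fin k ⊕ Fin k) A ⊗[A] B :=
  xi β _ (fun i => MvPolynomial.X (Sum.inr i))

/-- `ξ` over `P[T]`. -/
noncomputable def xiT : Polynomial (MvPolynomial (Fin k ⊕ Fin k) A) ⊗[A] B :=
  (Polynomial.CAlgHom (R := A) (A := MvPolynomial (Fin k ⊕ Fin k) A)).toLinearMap.rTensor B (gxi β)

/-- `ω` over `P[T]`. -/
noncomputable def omT : Polynomial (MvPolynomial (Fin k ⊕ Fin k) A) ⊗[A] B :=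
  (Polynomial.CAlgHom (R := A) (A := MvPolynomial (Fin k ⊕ Fin k) A)).toLinearMap.rTensor B (gom β)

/-- `ξ + T ω b` over `P[T]`. -/
noncomputable def yT : Polynomial (MvPolynomial (Fin k ⊕ Fin k) A) ⊗[A] B :=
  xiT β + ((Polynomial.X : Polynomial (MvPolynomial (Fin k ⊕ Fin k) A)) ⊗ₜ[A] (1 : B)) * omT β *
    (1 ⊗ₜ[A] b)

theorem map_rid_eq_of_forall (F : B →ₚₗ[A] A) (R : Type u) [CommSemiring R] [Algebra A R]
    (κ : Polynomial (MvPolynomial (Fin k ⊕ Fin k) A) →ₐ[A] R)
    (hR : ∀ x w : R ⊗[A] B, F.toFun' R (x + w * (1 ⊗ₜ[A] b)) = F.toFun' R x) :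
    κ (TensorProduct.rid A _ (F.toFun' _ (yT β b))) = κ (TensorProduct.rid A _ (F.toFun' _ (xiT β))) := by
  have h := hR (κ.toLinearMap.rTensor B (xiT β))
    (κ.toLinearMap.rTensor B (((Polynomial.X : Polynomial (MvPolynomial (Fin k ⊕ Fin k) A)) ⊗ₜ[A] (1 : B)) *
      omT β))
  have e : κ.toLinearMap.rTensor B (xiT β) +
      κ.toLinearMap.rTensor B (((Polynomial.X : Polynomial (MvPolynomial (Fin k ⊕ Fin k) A)) ⊗ₜ[A] (1 : B)) *
        omT β) * (1 ⊗ₜ[A] b) = κ.toLinearMap.rTensor B (yT β b) := by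
    simp only [yT, map_add, rTensor_mul, LinearMap.rTensor_tmul, AlgHom.toLinearMap_apply, map_one]
  rw [e, ← PolynomialLaw.isCompat_apply', ← PolynomialLaw.isCompat_apply'] at h
  have h' := congrArg (TensorProduct.rid A R) h
  rw [rid_rTensor, rid_rTensor] at h'
  exact h'

theorem eval_rid (F : B →ₚₗ[A] A) (a : MvPolynomial (Fin k ⊕ Fin k) A) :
    Polynomial.eval a (TensorProduct.rid A _ (F.toFun' _ (yT β b)) -
      TensorProduct.rid A _ (F.toFun' _ (xiT β))) =
      TensorProduct.rid A _ (F.toFun' _ (gxi β + ((a ⊗ₜ[A] (1 : B)) * gom β * (1 ⊗ₜ[A] b)))) -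
        TensorProduct.rid A _ (F.toFun' _ (gxi β)) := by
  let ι : MvPolynomial (Fin k ⊕ Fin k) A →ₐ[A] Polynomial (MvPolynomial (Fin k ⊕ Fin k) A) :=
    Polynomial.CAlgHom
  let ev : Polynomial (MvPolynomial (Fin k ⊕ Fin k) A) →ₐ[A] MvPolynomial (Fin k ⊕ Fin k) A :=
    (Polynomial.aeval a : Polynomial (MvPolynomial (Fin k ⊕ Fin k) A) →ₐ[MvPolynomial (Fin k ⊕ Fin k) A]
      MvPolynomial (Fin k ⊕ Fin k) A).restrictScalars A
  have hid : ev.comp ι = AlgHom.id A _ := by
    refine AlgHom.ext fun x => ?_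
    show Polynomial.aeval a (Polynomial.C x) = x
    simp
  have hevι : ∀ z : MvPolynomial (Fin k ⊕ Fin k) A ⊗[A] B,
      ev.toLinearMap.rTensor B (ι.toLinearMap.rTensor B z) = z := by
    intro z
    rw [← LinearMap.comp_apply, ← LinearMap.rTensor_comp, ← AlgHom.comp_toLinearMap, hid]
    simp
  have h1 : ∀ q, Polynomial.eval a q = ev q := by
    intro q
    simp [ev, Polynomial.coe_aeval_eq_eval]
  rw [h1]
  simp only [map_sub, ← rid_rTensor, PolynomialLaw.isCompat_apply']
  have hX : ev Polynomial.X = a := by simp [ev]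
  have hy : ev.toLinearMap.rTensor B (yT β b) = gxi β + ((a ⊗ₜ[A] (1 : B)) * gom β * (1 ⊗ₜ[A] b)) := by
    simp only [yT, xiT, omT, map_add, rTensor_mul, LinearMap.rTensor_tmul,
      AlgHom.toLinearMap_apply, map_one, hX]
    rw [hevι, hevι]
  have hx : ev.toLinearMap.rTensor B (xiT β) = gxi β := hevι _
  rw [hy, hx]

end Delta

/-- If `1 ⊗ b` lies in the kernel of the localized law (finite `B`), some multiple `m • b`, `m ∈ M`,
lies in the kernel of the law. -/
theorem exists_smul_mem_ker (hβ : Submodule.span A (Set.range β) = ⊤) (F : B →ₚₗ[A] A)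
    (M : Submonoid A) (A' : Type u) [CommRing A'] [Algebra A A'] [IsLocalization M A'] (b : B)
    (hb : (1 : A') ⊗ₜ[A] b ∈ PolLaw.kerBC F A') : ∃ m ∈ M, m • b ∈ PolLaw.ker F := by
  classical
  set Δ' : Polynomial (MvPolynomial (Fin k ⊕ Fin k) A) :=
    TensorProduct.rid A _ (F.toFun' _ (yT β b)) - TensorProduct.rid A _ (F.toFun' _ (xiT β)) with hΔ
  -- (2) vanishing after localization
  have h2 : (1 : A') ⊗ₜ[A] Δ' = 0 := by
    have h := map_rid_eq_of_forall β b F (A' ⊗[A] Polynomial (MvPolynomial (Fin k ⊕ Fin k) A))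
      Algebra.TensorProduct.includeRight (fun x w => by
        have := (mem_kerBC_iff F A' _).mp hb (A' ⊗[A] Polynomial (MvPolynomial (Fin k ⊕ Fin k) A)) x w
        rw [Algebra.TensorProduct.map_tmul, map_one, AlgHom.id_apply] at this
        exact this)
    rw [hΔ, TensorProduct.tmul_sub, sub_eq_zero]
    exact h
  obtain ⟨m, hm⟩ := (IsLocalizedModule.eq_zero_iff M (TensorProduct.mk A A'
    (Polynomial (MvPolynomial (Fin k ⊕ Fin k) A)) 1)).mp h2
  refine ⟨m, m.2, ?_⟩
  -- Δ' has zero constant coefficient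
  have h0 : Δ'.coeff 0 = 0 := by
    rw [Polynomial.coeff_zero_eq_eval_zero, hΔ, eval_rid]
    simp
  have hdiv : Δ' = Polynomial.divX Δ' * Polynomial.X := by
    have := Polynomial.divX_mul_X_add Δ'
    rw [h0, map_zero, add_zero] at this
    exact this.symm
  have hmE : (m : A) • Polynomial.divX Δ' = 0 := by
    apply polynomial_mul_X_eq_zero
    rw [smul_mul_assoc, ← hdiv]
    exact hm
  have hΔm : Polynomial.eval (algebraMap A (MvPolynomial (Fin k ⊕ Fin k) A) m) Δ' = 0 := by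
    rw [hdiv, Polynomial.eval_mul, Polynomial.eval_X, mul_comm, ← Algebra.smul_def,
      ← Polynomial.eval_smul, hmE, Polynomial.eval_zero]
  rw [hΔ, eval_rid] at hΔm
  apply mem_ker_of_generic β hβ
  have h3 := (TensorProduct.rid A (MvPolynomial (Fin k ⊕ Fin k) A)).injective (sub_eq_zero.mp hΔm)
  have e2 : (algebraMap A (MvPolynomial (Fin k ⊕ Fin k) A) m ⊗ₜ[A] (1 : B)) * gom β * (1 ⊗ₜ[A] b) =
      gom β * (1 ⊗ₜ[A] ((m : A) • b)) := by
    have : (1 : MvPolynomial (Fin k ⊕ Fin k) A) ⊗ₜ[A] ((m : A) • b) =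
        (algebraMap A (MvPolynomial (Fin k ⊕ Fin k) A) m ⊗ₜ[A] (1 : B)) * (1 ⊗ₜ[A] b) := by
      rw [Algebra.TensorProduct.tmul_mul_tmul, mul_one, one_mul, Algebra.algebraMap_eq_smul_one,
        TensorProduct.smul_tmul]
    rw [this]
    ring
  rw [e2] at h3
  exact h3

/-- Localization: for finite `B`, the kernel commutes with localization of the base. -/
theorem map_ker_eq_kerBC_of_isLocalization [Module.Finite A B] (F : B →ₚₗ[A] A) (M : Submonoid A)
    (A' : Type u) [CommRing A'] [Algebra A A'] [IsLocalization M A'] :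
    (PolLaw.ker F).map (Algebra.TensorProduct.includeRight : B →ₐ[A] A' ⊗[A] B) =
      PolLaw.kerBC F A' := by
  apply le_antisymm (map_ker_le_kerBC F A')
  intro b' hb'
  obtain ⟨k, β, hβ⟩ := Module.Finite.exists_fin (R := A) (M := B)
  obtain ⟨⟨b, m⟩, hbm⟩ := IsLocalizedModule.surj M (TensorProduct.mk A A' B 1) b'
  simp only [TensorProduct.mk_apply] at hbm
  have h1 : (1 : A') ⊗ₜ[A] b ∈ PolLaw.kerBC F A' := by
    rw [← hbm, Submonoid.smul_def, Algebra.smul_def]
    exact Ideal.mul_mem_left _ _ hb'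
  obtain ⟨m', hm', hker⟩ := exists_smul_mem_ker β hβ F M A' b h1
  let u : A' := IsLocalization.mk' A' (1 : A) (m * ⟨m', hm'⟩)
  have hu : (u ⊗ₜ[A] (1 : B)) * (1 ⊗ₜ[A] (m' • b)) = b' := by
    apply IsLocalizedModule.smul_injective (TensorProduct.mk A A' B 1) (m * ⟨m', hm'⟩)
    show (m * ⟨m', hm'⟩) • ((u ⊗ₜ[A] (1 : B)) * (1 ⊗ₜ[A] (m' • b))) = (m * ⟨m', hm'⟩) • b'
    have hR : (m * ⟨m', hm'⟩) • b' = (1 : A') ⊗ₜ[A] (m' • b) := by
      rw [mul_comm, mul_smul, hbm, Submonoid.smul_def, TensorProduct.tmul_smul]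
    rw [hR, Algebra.TensorProduct.tmul_mul_tmul, mul_one, one_mul, Submonoid.smul_def,
      TensorProduct.smul_tmul', IsLocalization.smul_mk'_self, map_one]
  rw [← hu]
  exact Ideal.mul_mem_left _ _ (Ideal.mem_map_of_mem _ hker)

end Groth.Agent.H8.PolLaw
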