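import Mathlib
import Groth.Prelude.Def_PolLaw
import Groth.Agent.Lib.helper8.PolLaw5

/-!
# Kernel of base change along a directed colimit of base rings (finite `B`) (helper8)
-/

universe u

open scoped TensorProduct
open LinearMap

namespace Groth.Agent.H8.PolLaw

variable {A : Type u} [CommRing A] {B C : Type u} [CommRing B] [Algebra A B] [CommRing C] [Algebra A C]
  {k : ℕ} (β : Fin k → B)

/-- the image of `b' : A' ⊗ B` in `R ⊗ B`. -/
noncomputable abbrev toR (A' : Type u) [CommRing A'] [Algebra A A'] (R : Type u) [CommSemiring R]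
    [Algebra A R] [Algebra A' R] [IsScalarTower A A' R] (b' : A' ⊗[A] B) : R ⊗[A] B :=
  Algebra.TensorProduct.map (IsScalarTower.toAlgHom A A' R) (AlgHom.id A B) b'

/-- Universal test for `kerBC`, when `β` spans `B`. -/
theorem mem_kerBC_of_generic (hβ : Submodule.span A (Set.range β) = ⊤) (F : B →ₚₗ[A] C)
    (A' : Type u) [CommRing A'] [Algebra A A'] (b' : A' ⊗[A] B)
    (h : F.toFun' (MvPolynomial (Fin k ⊕ Fin k) A')
        (xi β _ (fun i => MvPolynomial.X (Sum.inl i)) +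
          xi β _ (fun i => MvPolynomial.X (Sum.inr i)) * toR A' (MvPolynomial (Fin k ⊕ Fin k) A') b') =
      F.toFun' (MvPolynomial (Fin k ⊕ Fin k) A') (xi β _ (fun i => MvPolynomial.X (Sum.inl i)))) :
    b' ∈ PolLaw.kerBC F A' := by
  rw [mem_kerBC_iff]
  intro R _ _ _ _ x w
  obtain ⟨c, rfl⟩ := exists_repr β hβ R x
  obtain ⟨c', rfl⟩ := exists_repr β hβ R w
  let ψ' : MvPolynomial (Fin k ⊕ Fin k) A' →ₐ[A'] R := MvPolynomial.aeval (Sum.elim c c')
  let ψ : MvPolynomial (Fin k ⊕ Fin k) A' →ₐ[A] R := ψ'.restrictScalars A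
  have h1 := congrArg (ψ.toLinearMap.rTensor C) h
  rw [PolynomialLaw.isCompat_apply', PolynomialLaw.isCompat_apply', map_add, rTensor_mul,
    rTensor_xi, rTensor_xi] at h1
  have h2 : ψ.toLinearMap.rTensor B (toR A' (MvPolynomial (Fin k ⊕ Fin k) A') b') = toR A' R b' := by
    rw [rTensor_algHom_apply]
    show (Algebra.TensorProduct.map ψ (AlgHom.id A B))
      ((Algebra.TensorProduct.map (IsScalarTower.toAlgHom A A' _) (AlgHom.id A B)) b') = _
    rw [← AlgHom.comp_apply, ← Algebra.TensorProduct.map_comp]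
    congr 2
    ext a
    simp [ψ, ψ']
  rw [h2] at h1
  simpa [ψ, ψ'] using h1

section Colim

variable {A' : Type u} [CommRing A'] [Algebra A A'] {ι : Type u} [Preorder ι]
  [IsDirected ι (fun i j => i ≤ j)] [Nonempty ι]
  (Ai : ι → Type u) [∀ i, CommRing (Ai i)] [∀ i, Algebra A (Ai i)]
  (t : ∀ i j : ι, i ≤ j → (Ai i →ₐ[A] Ai j)) (φ : ∀ i : ι, Ai i →ₐ[A] A')

include Ai t φ in
theorem exists_lift_tensor (hcomp : ∀ (i j : ι) (h : i ≤ j), (φ j).comp (t i j h) = φ i)
    (hsurj : ∀ a : A', ∃ (i : ι) (x : Ai i), φ i x = a) (z : A' ⊗[A] B) :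
    ∃ (i : ι) (z' : Ai i ⊗[A] B), Algebra.TensorProduct.map (φ i) (AlgHom.id A B) z' = z := by
  induction z using TensorProduct.induction_on with
  | zero => exact ⟨Classical.arbitrary ι, 0, by simp⟩
  | tmul a b =>
    obtain ⟨i, x, rfl⟩ := hsurj a
    exact ⟨i, x ⊗ₜ b, by simp⟩
  | add z₁ z₂ h₁ h₂ =>
    obtain ⟨i₁, z₁', rfl⟩ := h₁
    obtain ⟨i₂, z₂', rfl⟩ := h₂
    obtain ⟨j, h1, h2⟩ := exists_ge_ge i₁ i₂
    refine ⟨j, Algebra.TensorProduct.map (t i₁ j h1) (AlgHom.id A B) z₁' +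
      Algebra.TensorProduct.map (t i₂ j h2) (AlgHom.id A B) z₂', ?_⟩
    rw [map_add, ← AlgHom.comp_apply, ← AlgHom.comp_apply, ← Algebra.TensorProduct.map_comp,
      ← Algebra.TensorProduct.map_comp, hcomp, hcomp]
    simp

include φ in
theorem exists_stage_coeff (hzero : ∀ (i : ι) (x : Ai i), φ i x = 0 → ∃ (j : ι) (h : i ≤ j), t i j h x = 0)
    (htrans : ∀ (i j k : ι) (hij : i ≤ j) (hjk : j ≤ k),
      (t j k hjk).comp (t i j hij) = t i k (hij.trans hjk))
    {σ : Type*} (i : ι) (r : MvPolynomial σ (Ai i)) (hr : MvPolynomial.map (φ i).toRingHom r = 0)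
    (s : Finset (σ →₀ ℕ)) :
    ∃ (j : ι) (h : i ≤ j), ∀ m ∈ s, t i j h (MvPolynomial.coeff m r) = 0 := by
  classical
  induction s using Finset.induction_on with
  | empty => exact ⟨i, le_rfl, by simp⟩
  | insert m s _ ih =>
    obtain ⟨j₁, h₁, hj₁⟩ := ih
    have hm : φ i (MvPolynomial.coeff m r) = 0 := by
      have := congrArg (MvPolynomial.coeff m) hr
      simpa [MvPolynomial.coeff_map] using this
    obtain ⟨j₂, h₂, hj₂⟩ := hzero i _ hm
    obtain ⟨j, hj1, hj2⟩ := exists_ge_ge j₁ j₂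
    refine ⟨j, h₁.trans hj1, fun m' hm' => ?_⟩
    rcases Finset.mem_insert.mp hm' with rfl | hm'
    · rw [← htrans i j₂ j h₂ hj2, AlgHom.comp_apply, hj₂, map_zero]
    · rw [← htrans i j₁ j h₁ hj1, AlgHom.comp_apply, hj₁ m' hm', map_zero]

include φ in
theorem exists_stage_eq (hzero : ∀ (i : ι) (x : Ai i), φ i x = 0 → ∃ (j : ι) (h : i ≤ j), t i j h x = 0)
    (htrans : ∀ (i j k : ι) (hij : i ≤ j) (hjk : j ≤ k),
      (t j k hjk).comp (t i j hij) = t i k (hij.trans hjk))
    {σ : Type*} (i : ι) (p q : MvPolynomial σ (Ai i))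
    (hpq : MvPolynomial.map (φ i).toRingHom p = MvPolynomial.map (φ i).toRingHom q) :
    ∃ (j : ι) (h : i ≤ j), MvPolynomial.map (t i j h).toRingHom p = MvPolynomial.map (t i j h).toRingHom q := by
  have hr : MvPolynomial.map (φ i).toRingHom (p - q) = 0 := by rw [map_sub, hpq, sub_self]
  obtain ⟨j, h, hj⟩ := exists_stage_coeff Ai t φ hzero htrans i (p - q) hr (p - q).support
  refine ⟨j, h, ?_⟩
  rw [← sub_eq_zero, ← map_sub]
  ext m
  rw [MvPolynomial.coeff_map, MvPolynomial.coeff_zero]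
  by_cases hm : m ∈ (p - q).support
  · exact hj m hm
  · rw [MvPolynomial.notMem_support_iff.mp hm, map_zero]

end Colim

end Groth.Agent.H8.PolLaw

namespace Groth.Agent.H8.PolLaw

variable {A : Type u} [CommRing A] {B : Type u} [CommRing B] [Algebra A B]
  {k : ℕ} (β : Fin k → B)

section MapStage

variable {A₁ A₂ : Type u} [CommRing A₁] [Algebra A A₁] [CommRing A₂] [Algebra A A₂] (g : A₁ →ₐ[A] A₂)

theorem toR_mapAlgHom (σ : Type) (c : A₁ ⊗[A] B) :
    (MvPolynomial.mapAlgHom (σ := σ) g).toLinearMap.rTensor B (toR A₁ (MvPolynomial σ A₁) c) =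
      toR A₂ (MvPolynomial σ A₂) (Algebra.TensorProduct.map g (AlgHom.id A B) c) := by
  rw [rTensor_algHom_apply]
  show (Algebra.TensorProduct.map (MvPolynomial.mapAlgHom g) (AlgHom.id A B))
      ((Algebra.TensorProduct.map (IsScalarTower.toAlgHom A A₁ _) (AlgHom.id A B)) c) =
    (Algebra.TensorProduct.map (IsScalarTower.toAlgHom A A₂ _) (AlgHom.id A B))
      ((Algebra.TensorProduct.map g (AlgHom.id A B)) c)
  rw [← AlgHom.comp_apply, ← AlgHom.comp_apply, ← Algebra.TensorProduct.map_comp,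
    ← Algebra.TensorProduct.map_comp]
  congr 2
  ext a
  simp [MvPolynomial.algebraMap_eq]

/-- the generic test element over `A₁[X_i, W_i]`. -/
noncomputable abbrev gy (A₁ : Type u) [CommRing A₁] [Algebra A A₁] (c : A₁ ⊗[A] B) :
    MvPolynomial (Fin k ⊕ Fin k) A₁ ⊗[A] B :=
  xi β _ (fun i => MvPolynomial.X (Sum.inl i)) +
    xi β _ (fun i => MvPolynomial.X (Sum.inr i)) * toR A₁ (MvPolynomial (Fin k ⊕ Fin k) A₁) c

theorem rTensor_gy (c : A₁ ⊗[A] B) :
    (MvPolynomial.mapAlgHom (σ := Fin k ⊕ Fin k) g).toLinearMap.rTensor B (gy β A₁ c) =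
      gy β A₂ (Algebra.TensorProduct.map g (AlgHom.id A B) c) := by
  simp only [gy, map_add, rTensor_mul, rTensor_xi, toR_mapAlgHom, MvPolynomial.mapAlgHom_apply,
    MvPolynomial.map_X]

theorem map_rid_gy (F : B →ₚₗ[A] A) (c : A₁ ⊗[A] B) :
    MvPolynomial.map (g : A₁ →+* A₂) (TensorProduct.rid A _ (F.toFun' _ (gy β A₁ c))) =
      TensorProduct.rid A _ (F.toFun' _ (gy β A₂ (Algebra.TensorProduct.map g (AlgHom.id A B) c))) := by
  rw [← rTensor_gy, ← PolynomialLaw.isCompat_apply', rid_rTensor, MvPolynomial.mapAlgHom_apply]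

theorem map_rid_xi (F : B →ₚₗ[A] A) :
    MvPolynomial.map (g : A₁ →+* A₂) (TensorProduct.rid A _ (F.toFun' _
        (xi β (MvPolynomial (Fin k ⊕ Fin k) A₁) (fun i => MvPolynomial.X (Sum.inl i))))) =
      TensorProduct.rid A _ (F.toFun' _
        (xi β (MvPolynomial (Fin k ⊕ Fin k) A₂) (fun i => MvPolynomial.X (Sum.inl i)))) := by
  have h : (MvPolynomial.mapAlgHom (σ := Fin k ⊕ Fin k) g).toLinearMap.rTensor B
      (xi β (MvPolynomial (Fin k ⊕ Fin k) A₁) (fun i => MvPolynomial.X (Sum.inl i))) =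
      xi β (MvPolynomial (Fin k ⊕ Fin k) A₂) (fun i => MvPolynomial.X (Sum.inl i)) := by
    simp only [rTensor_xi, MvPolynomial.mapAlgHom_apply, MvPolynomial.map_X]
  rw [← h, ← PolynomialLaw.isCompat_apply', rid_rTensor, MvPolynomial.mapAlgHom_apply]

end MapStage

section Colim2

variable {A' : Type u} [CommRing A'] [Algebra A A'] {ι : Type u} [Preorder ι]
  [IsDirected ι (fun i j => i ≤ j)] [Nonempty ι]
  (Ai : ι → Type u) [∀ i, CommRing (Ai i)] [∀ i, Algebra A (Ai i)]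
  (t : ∀ i j : ι, i ≤ j → (Ai i →ₐ[A] Ai j)) (φ : ∀ i : ι, Ai i →ₐ[A] A')

include t in
theorem kerBC_eq_iSup [Module.Finite A B]
    (hcomp : ∀ (i j : ι) (h : i ≤ j), (φ j).comp (t i j h) = φ i)
    (hsurj : ∀ a : A', ∃ (i : ι) (x : Ai i), φ i x = a)
    (hzero : ∀ (i : ι) (x : Ai i), φ i x = 0 → ∃ (j : ι) (h : i ≤ j), t i j h x = 0)
    (htrans : ∀ (i j k : ι) (hij : i ≤ j) (hjk : j ≤ k),
      (t j k hjk).comp (t i j hij) = t i k (hij.trans hjk))
    (F : B →ₚₗ[A] A) :
    PolLaw.kerBC F A' =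
      ⨆ i : ι, (PolLaw.kerBC F (Ai i)).map (Algebra.TensorProduct.map (φ i) (AlgHom.id A B)) := by
  apply le_antisymm
  · intro b' hb'
    obtain ⟨k, β, hβ⟩ := Module.Finite.exists_fin (R := A) (M := B)
    obtain ⟨i, bi, rfl⟩ := exists_lift_tensor Ai t φ hcomp hsurj b'
    -- the two polynomials over `Ai i`
    have hpq : MvPolynomial.map ((φ i : Ai i →ₐ[A] A') : Ai i →+* A')
        (TensorProduct.rid A _ (F.toFun' _ (gy β (Ai i) bi))) =
        MvPolynomial.map ((φ i : Ai i →ₐ[A] A') : Ai i →+* A') (TensorProduct.rid A _ (F.toFun' _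
          (xi β (MvPolynomial (Fin k ⊕ Fin k) (Ai i)) (fun i => MvPolynomial.X (Sum.inl i))))) := by
      rw [map_rid_gy, map_rid_xi]
      congr 1
      exact (mem_kerBC_iff F A' _).mp hb' (MvPolynomial (Fin k ⊕ Fin k) A') _ _
    obtain ⟨j, h, hj⟩ := exists_stage_eq Ai t φ hzero htrans i _ _ hpq
    have hmem : Algebra.TensorProduct.map (t i j h) (AlgHom.id A B) bi ∈ PolLaw.kerBC F (Ai j) := by
      apply mem_kerBC_of_generic β hβ
      apply (TensorProduct.rid A _).injective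
      have e1 := map_rid_gy β (t i j h) F bi
      have e2 := map_rid_xi β (t i j h) F
      exact e1.symm.trans (hj.trans e2)
    have hb : Algebra.TensorProduct.map (φ i) (AlgHom.id A B) bi =
        Algebra.TensorProduct.map (φ j) (AlgHom.id A B)
          (Algebra.TensorProduct.map (t i j h) (AlgHom.id A B) bi) := by
      rw [← AlgHom.comp_apply, ← Algebra.TensorProduct.map_comp, hcomp]
      simp
    rw [hb]
    exact (le_iSup (fun i => (PolLaw.kerBC F (Ai i)).map
      (Algebra.TensorProduct.map (φ i) (AlgHom.id A B))) j) (Ideal.mem_map_of_mem _ hmem)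
  · refine iSup_le fun i => Ideal.map_le_iff_le_comap.mpr fun c hc => ?_
    rw [Ideal.mem_comap, mem_kerBC_iff]
    intro R _ _ _ _ x w
    letI : Algebra (Ai i) R := ((algebraMap A' R).comp (φ i).toRingHom).toAlgebra
    haveI : IsScalarTower A (Ai i) R := IsScalarTower.of_algebraMap_eq (fun a => by
      simp [RingHom.algebraMap_toAlgebra, IsScalarTower.algebraMap_apply A A' R])
    have h1 := (mem_kerBC_iff F (Ai i) c).mp hc R x w
    have h2 : Algebra.TensorProduct.map (IsScalarTower.toAlgHom A A' R) (AlgHom.id A B)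
        (Algebra.TensorProduct.map (φ i) (AlgHom.id A B) c) =
        Algebra.TensorProduct.map (IsScalarTower.toAlgHom A (Ai i) R) (AlgHom.id A B) c := by
      rw [← AlgHom.comp_apply, ← Algebra.TensorProduct.map_comp]
      congr 2
    rw [h2]
    exact h1

end Colim2

end Groth.Agent.H8.PolLaw
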