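import Mathlib

/-!
# The coinduced resolution `0 → N → Hom_A(A[X], N) → Hom_A(A[X], N) → 0`
-/

set_option autoImplicit false
universe u
open CategoryTheory Polynomial

namespace Groth.Agent.H8.PolyInj

variable {A : Type u} [CommRing A]

/-- restriction of scalars along `A → A[X]`. -/
noncomputable abbrev Res (N : ModuleCat.{u} A[X]) : ModuleCat.{u} A :=
  (ModuleCat.restrictScalars (C : A →+* A[X])).obj N

/-- the coinduced module `Hom_A(A[X], N)`. -/
noncomputable abbrev Co (N : ModuleCat.{u} A[X]) : ModuleCat.{u} A[X] :=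
  (ModuleCat.coextendScalars (C : A →+* A[X])).obj (Res N)

/-- `n ↦ (s ↦ s • n)`. -/
noncomputable def ι (N : ModuleCat.{u} A[X]) : N ⟶ Co N :=
  (ModuleCat.restrictCoextendScalarsAdj (C : A →+* A[X])).unit.app N

/-- multiplication by `X`. -/
noncomputable def mX (N : ModuleCat.{u} A[X]) : N ⟶ N := (X : A[X]) • 𝟙 N

/-- `φ ↦ (s ↦ X • φ s - φ (s * X))`. -/
noncomputable def d (N : ModuleCat.{u} A[X]) : Co N ⟶ Co N :=
  (ModuleCat.coextendScalars (C : A →+* A[X])).map
    ((ModuleCat.restrictScalars (C : A →+* A[X])).map (mX N)) - (X : A[X]) • 𝟙 (Co N)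

lemma ι_apply (N : ModuleCat.{u} A[X]) (n : N) (s : A[X]) :
    ((ι N).hom n : Co N) s = (s • n : N) := rfl

lemma d_apply (N : ModuleCat.{u} A[X]) (φ : Co N) (s : A[X]) :
    ((d N).hom φ : Co N) s = ((X : A[X]) • (φ s : N) - (φ (s * X) : N) : N) := rfl

end Groth.Agent.H8.PolyInj
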