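import Mathlib
import Groth.Agent.Lib.helper8.PolyInjA

/-!
# Exactness of the coinduced resolution
-/

set_option autoImplicit false
universe u
open CategoryTheory Polynomial

namespace Groth.Agent.H8.PolyInj

variable {A : Type u} [CommRing A]

/-- evaluation of an element of the coinduced module, with clean types. -/
noncomputable def ev (N : ModuleCat.{u} A[X]) (φ : Co N) (s : A[X]) : N :=
  (ModuleCat.CoextendScalars.equiv (C : A →+* A[X]) (Res N) φ) s

lemma ev_add (N : ModuleCat.{u} A[X]) (φ : Co N) (s s' : A[X]) :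
    ev N φ (s + s') = ev N φ s + ev N φ s' :=
  (ModuleCat.CoextendScalars.equiv (C : A →+* A[X]) (Res N) φ).map_add s s'

lemma ev_C_mul (N : ModuleCat.{u} A[X]) (φ : Co N) (a : A) (s : A[X]) :
    ev N φ (C a * s) = C a • ev N φ s :=
  (ModuleCat.CoextendScalars.equiv (C : A →+* A[X]) (Res N) φ).map_smul a s

lemma ev_ext (N : ModuleCat.{u} A[X]) (φ ψ : Co N) (h : ∀ s : A[X], ev N φ s = ev N ψ s) :
    φ = ψ :=
  ModuleCat.CoextendScalars.ext (LinearMap.ext h)

lemma ev_ι (N : ModuleCat.{u} A[X]) (n : N) (s : A[X]) : ev N ((ι N).hom n) s = s • n := rfl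

lemma ev_d (N : ModuleCat.{u} A[X]) (φ : Co N) (s : A[X]) :
    ev N ((d N).hom φ) s = (X : A[X]) • ev N φ s - ev N φ (s * X) := rfl

lemma ev_zero' (N : ModuleCat.{u} A[X]) (s : A[X]) : ev N (0 : Co N) s = 0 := rfl

/-- build an element of the coinduced module. -/
noncomputable def mkCo (N : ModuleCat.{u} A[X]) (f : A[X] → N)
    (hadd : ∀ s s', f (s + s') = f s + f s') (hsmul : ∀ (a : A) s, f (C a * s) = C a • f s) :
    Co N :=
  (ModuleCat.CoextendScalars.equiv (C : A →+* A[X]) (Res N)).symm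
    { toFun := f
      map_add' := hadd
      map_smul' := hsmul }

lemma ev_mkCo (N : ModuleCat.{u} A[X]) (f : A[X] → N)
    (hadd : ∀ s s', f (s + s') = f s + f s') (hsmul : ∀ (a : A) s, f (C a * s) = C a • f s)
    (s : A[X]) : ev N (mkCo N f hadd hsmul) s = f s := rfl

lemma ι_d (N : ModuleCat.{u} A[X]) : ι N ≫ d N = 0 := by
  apply ModuleCat.hom_ext
  apply LinearMap.ext
  intro n
  apply ev_ext
  intro s
  show ev N ((d N).hom ((ι N).hom n)) s = ev N (0 : Co N) s
  rw [ev_d, ev_ι, ev_ι, ev_zero', ← mul_smul, mul_comm, sub_self]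

lemma ι_injective (N : ModuleCat.{u} A[X]) : Function.Injective (ι N).hom := by
  intro n n' h
  have h1 : ev N ((ι N).hom n) 1 = ev N ((ι N).hom n') 1 := by rw [h]
  rwa [ev_ι, ev_ι, one_smul, one_smul] at h1

/-- elements of the kernel of `d` are determined by their value at `1`. -/
lemma eq_ι_of_d_eq_zero (N : ModuleCat.{u} A[X]) (φ : Co N) (h : (d N).hom φ = 0) :
    φ = (ι N).hom (ev N φ 1) := by
  have hX : ∀ s : A[X], ev N φ (s * X) = (X : A[X]) • ev N φ s := by
    intro s
    have h2 : ev N ((d N).hom φ) s = 0 := by rw [h]; rfl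
    rw [ev_d] at h2
    exact (sub_eq_zero.mp h2).symm
  have hpow : ∀ k : ℕ, ev N φ (X ^ k) = (X : A[X]) ^ k • ev N φ 1 := by
    intro k
    induction k with
    | zero => simp
    | succ k ih => rw [pow_succ, hX, ih, ← mul_smul, mul_comm]
  apply ev_ext
  intro s
  rw [ev_ι]
  induction s using Polynomial.induction_on' with
  | add p q hp hq => rw [ev_add, hp, hq, add_smul]
  | monomial k a =>
    rw [← C_mul_X_pow_eq_monomial, ev_C_mul, hpow, ← mul_smul]

end Groth.Agent.H8.PolyInj
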