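import Mathlib
import Groth.Agent.Lib.helper8.PolyInjB

/-!
# Surjectivity of `d`, the short exact sequence, and injective dimension `≤ 1`
-/

set_option autoImplicit false
universe u
open CategoryTheory Polynomial

namespace Groth.Agent.H8.PolyInj

variable {A : Type u} [CommRing A]

/-- the recursively defined values on monomials. -/
noncomputable def vSeq (N : ModuleCat.{u} A[X]) (ψ : Co N) : ℕ → N
  | 0 => 0
  | k + 1 => (X : A[X]) • vSeq N ψ k - ev N ψ (X ^ k)

/-- the underlying function of the preimage. -/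
noncomputable def preFun (N : ModuleCat.{u} A[X]) (ψ : Co N) (s : A[X]) : N :=
  s.sum (fun k a => C a • vSeq N ψ k)

lemma preFun_add (N : ModuleCat.{u} A[X]) (ψ : Co N) (s s' : A[X]) :
    preFun N ψ (s + s') = preFun N ψ s + preFun N ψ s' := by
  unfold preFun
  apply Polynomial.sum_add_index
  · intro i; simp
  · intro k a b; rw [C_add, add_smul]

lemma preFun_smul (N : ModuleCat.{u} A[X]) (ψ : Co N) (a : A) (s : A[X]) :
    preFun N ψ (C a * s) = C a • preFun N ψ s := by
  unfold preFun
  rw [C_mul', Polynomial.sum_smul_index _ _ _ (fun i => by simp), Polynomial.smul_sum]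
  congr 1
  ext k b
  rw [C_mul, mul_smul]

lemma preFun_monomial (N : ModuleCat.{u} A[X]) (ψ : Co N) (k : ℕ) (a : A) :
    preFun N ψ (monomial k a) = C a • vSeq N ψ k := by
  unfold preFun
  rw [Polynomial.sum_monomial_index _ _ (by simp)]

/-- a preimage of `ψ` under `d`. -/
noncomputable def pre (N : ModuleCat.{u} A[X]) (ψ : Co N) : Co N :=
  mkCo N (preFun N ψ) (preFun_add N ψ) (preFun_smul N ψ)

lemma d_pre (N : ModuleCat.{u} A[X]) (ψ : Co N) : (d N).hom (pre N ψ) = ψ := by
  apply ev_ext
  intro s
  rw [ev_d]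
  unfold pre
  rw [ev_mkCo, ev_mkCo]
  induction s using Polynomial.induction_on' with
  | add p q hp hq =>
    rw [add_mul, preFun_add, preFun_add, ev_add, smul_add, ← hp, ← hq]
    abel
  | monomial k a =>
    rw [monomial_mul_X, preFun_monomial, preFun_monomial]
    show (X : A[X]) • C a • vSeq N ψ k - C a • ((X : A[X]) • vSeq N ψ k - ev N ψ (X ^ k)) = _
    rw [← C_mul_X_pow_eq_monomial, ev_C_mul, smul_sub, smul_comm (X : A[X]) (C a)]
    abel

lemma d_surjective (N : ModuleCat.{u} A[X]) : Function.Surjective (d N).hom :=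
  fun ψ => ⟨pre N ψ, d_pre N ψ⟩

/-- the short complex `0 → N → Co N → Co N → 0`. -/
noncomputable abbrev sc (N : ModuleCat.{u} A[X]) : ShortComplex (ModuleCat.{u} A[X]) :=
  ShortComplex.mk (ι N) (d N) (ι_d N)

lemma sc_shortExact (N : ModuleCat.{u} A[X]) : (sc N).ShortExact := by
  refine ModuleCat.shortComplex_shortExact (sc N) ?_ (ι_injective N) (d_surjective N)
  intro φ
  constructor
  · intro h
    exact ⟨ev N φ 1, (eq_ι_of_d_eq_zero N φ h).symm⟩
  · rintro ⟨n, rfl⟩
    have := congrArg (fun f => f.hom n) (ι_d N)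
    exact this

/-- the coinduced module is injective when `N` is injective over `A`. -/
lemma injective_Co (N : ModuleCat.{u} A[X]) [Injective (Res N)] : Injective (Co N) :=
  Injective.injective_of_adjoint (ModuleCat.restrictCoextendScalarsAdj (C : A →+* A[X])) (Res N)

/-- **Injective dimension `≤ 1`** for `A[X]`-modules which are injective over `A`. -/
theorem hasInjectiveDimensionLT_two (N : ModuleCat.{u} A[X]) [Injective (Res N)] :
    HasInjectiveDimensionLT N 2 := by
  haveI := injective_Co N
  have h1 : HasInjectiveDimensionLT (sc N).X₃ 1 :=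
    injective_iff_hasInjectiveDimensionLT_one.mp (inferInstanceAs (Injective (Co N)))
  have h2 : HasInjectiveDimensionLT (sc N).X₂ 2 := by
    haveI : HasInjectiveDimensionLT (sc N).X₂ 1 :=
      injective_iff_hasInjectiveDimensionLT_one.mp (inferInstanceAs (Injective (Co N)))
    exact hasInjectiveDimensionLT_of_ge (sc N).X₂ 1 2 (by omega)
  exact (sc_shortExact N).hasInjectiveDimensionLT_X₁ 1 h1 h2

end Groth.Agent.H8.PolyInj
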