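import Mathlib
import Groth.Agent.Lib.helper8.PolyInjC
import Groth.Agent.Lib.helper1.InjHull3

/-!
# `A[X] ⊗ E` has injective dimension `≤ 1` over `A[X]` for `E` injective over Noetherian `A`
-/

set_option autoImplicit false
universe u
open CategoryTheory Polynomial TensorProduct

namespace Groth.Agent.H8.PolyInj

variable {A : Type u} [CommRing A]

lemma injective_of_linearEquiv {M M' : Type u} [AddCommGroup M] [Module A M] [AddCommGroup M']
    [Module A M'] (e : M ≃ₗ[A] M') (h : Module.Injective A M) : Module.Injective A M' :=
  (Module.Baer.iff_injective).mp (Module.Baer.of_equiv e ((Module.Baer.iff_injective).mpr h))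

variable [IsNoetherianRing A] (E : Type u) [AddCommGroup E] [Module A E] [Module.Injective A E]

/-- `A[X] ⊗ E` is injective as an `A`-module. -/
lemma injective_polynomial_tensor : Module.Injective A (A[X] ⊗[A] E) := by
  have h1 : Module.Injective A (DirectSum (ULift.{u} ℕ) (fun _ => E)) :=
    Groth.Agent.Lib.helper1.InjHullLib.injective_directSum (fun _ : ULift.{u} ℕ => E)
      (fun _ => inferInstance)
  have e : (A[X] ⊗[A] E) ≃ₗ[A] DirectSum (ULift.{u} ℕ) (fun _ => E) :=
    (LinearEquiv.rTensor E (Polynomial.basisMonomials A).repr).trans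
      ((TensorProduct.finsuppScalarLeft A E ℕ).trans
        ((Finsupp.domLCongr Equiv.ulift.symm).trans
          (finsuppLEquivDirectSum A E (ULift.{u} ℕ))))
  exact injective_of_linearEquiv e.symm h1

omit [IsNoetherianRing A] [Module.Injective A E] in
lemma C_smul_eq (a : A) (x : A[X] ⊗[A] E) : (C a : A[X]) • x = a • x := by
  rw [← algebraMap_smul A[X] a x]
  rfl

/-- the restriction of `A[X] ⊗ E` to `A` is an injective object. -/
instance injective_res_polynomial_tensor :
    Injective (Res (ModuleCat.of A[X] (A[X] ⊗[A] E))) := by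
  let e : (A[X] ⊗[A] E) ≃ₗ[A] ↑(Res (ModuleCat.of A[X] (A[X] ⊗[A] E))) :=
    { toFun := fun x => x
      invFun := fun x => x
      map_add' := fun _ _ => rfl
      map_smul' := fun a x => (C_smul_eq E a x).symm
      left_inv := fun _ => rfl
      right_inv := fun _ => rfl }
  have h := injective_of_linearEquiv e (injective_polynomial_tensor E)
  have h' : Injective (ModuleCat.of A ↑(Res (ModuleCat.of A[X] (A[X] ⊗[A] E)))) :=
    Module.injective_object_of_injective_module A _
  exact h'

/-- **Injective dimension of `A[X] ⊗ E`.** -/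
theorem hasInjectiveDimensionLT_two_polynomial_tensor :
    HasInjectiveDimensionLT (ModuleCat.of A[X] (A[X] ⊗[A] E)) 2 :=
  hasInjectiveDimensionLT_two _

end Groth.Agent.H8.PolyInj
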