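import Mathlib.Topology.LocallyClosed
import Mathlib.Topology.NoetherianSpace
import Mathlib.Topology.Sets.Closeds
import Mathlib.Topology.Sets.Opens

/-! Helper library (helper8): quasi-constructible sets (finite unions of locally closed sets),
very dense subsets and quasi-homeomorphisms. -/

set_option autoImplicit false
universe u v

namespace Groth.Agent.H8

variable {X : Type u} {Y : Type v} [TopologicalSpace X] [TopologicalSpace Y]

/-- finite union of locally closed sets -/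
def QC (s : Set X) : Prop :=
  ∃ T : Set (Set X), T.Finite ∧ (∀ t ∈ T, IsLocallyClosed t) ∧ s = ⋃₀ T

/-- locally quasi-constructible, in the spelled-out form used by the statements -/
def LQC (Z : Set X) : Prop :=
  ∀ x : X, ∃ U : Set X, IsOpen U ∧ x ∈ U ∧
    ∃ T : Set (Set X), T.Finite ∧ (∀ t ∈ T, IsLocallyClosed t) ∧ U ∩ Z = ⋃₀ T

theorem lqc_iff (Z : Set X) : LQC Z ↔ ∀ x : X, ∃ U : Set X, IsOpen U ∧ x ∈ U ∧ QC (U ∩ Z) :=
  Iff.rfl

theorem QC.of_isLocallyClosed {s : Set X} (h : IsLocallyClosed s) : QC s :=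
  ⟨{s}, Set.finite_singleton s, by simpa using h, by simp⟩

theorem QC.of_isOpen {s : Set X} (h : IsOpen s) : QC s := QC.of_isLocallyClosed h.isLocallyClosed

theorem QC.of_isClosed {s : Set X} (h : IsClosed s) : QC s := QC.of_isLocallyClosed h.isLocallyClosed

theorem QC.empty : QC (∅ : Set X) := ⟨∅, Set.finite_empty, by simp, by simp⟩

theorem QC.univ : QC (Set.univ : Set X) := QC.of_isOpen isOpen_univ

theorem QC.union {s t : Set X} (hs : QC s) (ht : QC t) : QC (s ∪ t) := by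
  obtain ⟨S, hSf, hS, rfl⟩ := hs
  obtain ⟨T, hTf, hT, rfl⟩ := ht
  refine ⟨S ∪ T, hSf.union hTf, ?_, (Set.sUnion_union S T).symm⟩
  rintro x (hx | hx)
  · exact hS x hx
  · exact hT x hx

theorem QC.inter {s t : Set X} (hs : QC s) (ht : QC t) : QC (s ∩ t) := by
  obtain ⟨S, hSf, hS, rfl⟩ := hs
  obtain ⟨T, hTf, hT, rfl⟩ := ht
  refine ⟨Set.image2 (· ∩ ·) S T, hSf.image2 _ hTf, ?_, ?_⟩
  · rintro x ⟨a, ha, b, hb, rfl⟩
    exact (hS a ha).inter (hT b hb)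
  · ext x
    constructor
    · rintro ⟨⟨a, ha, hxa⟩, ⟨b, hb, hxb⟩⟩
      exact ⟨a ∩ b, ⟨a, ha, b, hb, rfl⟩, hxa, hxb⟩
    · rintro ⟨_, ⟨a, ha, b, hb, rfl⟩, hxa, hxb⟩
      exact ⟨⟨a, ha, hxa⟩, ⟨b, hb, hxb⟩⟩

theorem QC.compl_of_isLocallyClosed {s : Set X} (h : IsLocallyClosed s) : QC sᶜ := by
  obtain ⟨U, F, hU, hF, rfl⟩ := h
  rw [Set.compl_inter]
  exact (QC.of_isClosed hU.isClosed_compl).union (QC.of_isOpen hF.isOpen_compl)

theorem QC.sUnion {T : Set (Set X)} (hT : T.Finite) (h : ∀ t ∈ T, QC t) : QC (⋃₀ T) := by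
  induction T, hT using Set.Finite.induction_on with
  | empty => simpa using QC.empty
  | insert _ _ ih =>
    rw [Set.sUnion_insert]
    exact (h _ (Set.mem_insert _ _)).union (ih fun t ht => h t (Set.mem_insert_of_mem _ ht))

theorem QC.sInter {T : Set (Set X)} (hT : T.Finite) (h : ∀ t ∈ T, QC t) : QC (⋂₀ T) := by
  induction T, hT using Set.Finite.induction_on with
  | empty => simpa using QC.univ
  | insert _ _ ih =>
    rw [Set.sInter_insert]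
    exact (h _ (Set.mem_insert _ _)).inter (ih fun t ht => h t (Set.mem_insert_of_mem _ ht))

theorem QC.compl {s : Set X} (hs : QC s) : QC sᶜ := by
  obtain ⟨S, hSf, hS, rfl⟩ := hs
  rw [Set.compl_sUnion]
  apply QC.sInter (hSf.image _)
  rintro _ ⟨t, ht, rfl⟩
  exact QC.compl_of_isLocallyClosed (hS t ht)

theorem QC.diff {s t : Set X} (hs : QC s) (ht : QC t) : QC (s \ t) := by
  rw [Set.sdiff_eq]; exact hs.inter ht.compl

theorem QC.preimage {s : Set Y} (hs : QC s) {f : X → Y} (hf : Continuous f) : QC (f ⁻¹' s) := by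
  obtain ⟨S, hSf, hS, rfl⟩ := hs
  rw [Set.preimage_sUnion]
  have : (⋃ t ∈ S, f ⁻¹' t) = ⋃₀ ((fun t => f ⁻¹' t) '' S) := by
    rw [Set.sUnion_image]
  rw [this]
  apply QC.sUnion (hSf.image _)
  rintro _ ⟨t, ht, rfl⟩
  exact QC.of_isLocallyClosed ((hS t ht).preimage hf)

theorem QC.lqc {s : Set X} (hs : QC s) : LQC s := fun x =>
  ⟨Set.univ, isOpen_univ, Set.mem_univ x, by rw [Set.univ_inter]; exact hs⟩

theorem LQC.inter {s t : Set X} (hs : LQC s) (ht : LQC t) : LQC (s ∩ t) := by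
  intro x
  obtain ⟨U, hU, hxU, hUs⟩ := hs x
  obtain ⟨V, hV, hxV, hVt⟩ := ht x
  refine ⟨U ∩ V, hU.inter hV, ⟨hxU, hxV⟩, ?_⟩
  have : U ∩ V ∩ (s ∩ t) = (U ∩ s) ∩ (V ∩ t) := by
    ext y; simp only [Set.mem_inter_iff]; tauto
  change QC _
  rw [this]
  exact QC.inter hUs hVt

theorem LQC.union {s t : Set X} (hs : LQC s) (ht : LQC t) : LQC (s ∪ t) := by
  intro x
  obtain ⟨U, hU, hxU, hUs⟩ := hs x
  obtain ⟨V, hV, hxV, hVt⟩ := ht x
  refine ⟨U ∩ V, hU.inter hV, ⟨hxU, hxV⟩, ?_⟩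
  have : U ∩ V ∩ (s ∪ t) = ((U ∩ s) ∩ V) ∪ (U ∩ (V ∩ t)) := by
    ext y; simp only [Set.mem_inter_iff, Set.mem_union]; tauto
  change QC _
  rw [this]
  exact (QC.inter hUs (QC.of_isOpen hV)).union ((QC.of_isOpen hU).inter hVt)

theorem LQC.compl {s : Set X} (hs : LQC s) : LQC sᶜ := by
  intro x
  obtain ⟨U, hU, hxU, hUs⟩ := hs x
  refine ⟨U, hU, hxU, ?_⟩
  have : U ∩ sᶜ = U ∩ (U ∩ s)ᶜ := by
    ext y; simp only [Set.mem_inter_iff, Set.mem_compl_iff]; tauto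
  change QC _
  rw [this]
  exact (QC.of_isOpen hU).inter (QC.compl hUs)

theorem LQC.diff {s t : Set X} (hs : LQC s) (ht : LQC t) : LQC (s \ t) := by
  rw [Set.sdiff_eq]; exact hs.inter ht.compl

theorem LQC.of_isOpen {s : Set X} (h : IsOpen s) : LQC s := (QC.of_isOpen h).lqc

theorem LQC.of_isLocallyClosed {s : Set X} (h : IsLocallyClosed s) : LQC s :=
  (QC.of_isLocallyClosed h).lqc

theorem LQC.preimage {s : Set Y} (hs : LQC s) {f : X → Y} (hf : Continuous f) :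
    LQC (f ⁻¹' s) := by
  intro x
  obtain ⟨U, hU, hxU, hUs⟩ := hs (f x)
  refine ⟨f ⁻¹' U, hU.preimage hf, hxU, ?_⟩
  change QC _
  rw [← Set.preimage_inter]
  exact QC.preimage hUs hf

/-- very dense subset -/
def VD (X₀ : Set X) : Prop :=
  ∀ Z : Set X, IsLocallyClosed Z → Z.Nonempty → (Z ∩ X₀).Nonempty

theorem VD.qc_nonempty {X₀ : Set X} (h : VD X₀) {s : Set X} (hs : QC s) (hne : s.Nonempty) :
    (s ∩ X₀).Nonempty := by
  obtain ⟨S, _, hS, rfl⟩ := hs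
  obtain ⟨x, t, ht, hxt⟩ := hne
  obtain ⟨y, hyt, hy0⟩ := h t (hS t ht) ⟨x, hxt⟩
  exact ⟨y, ⟨t, ht, hyt⟩, hy0⟩

theorem VD.lqc_nonempty {X₀ : Set X} (h : VD X₀) {s : Set X} (hs : LQC s) (hne : s.Nonempty) :
    (s ∩ X₀).Nonempty := by
  obtain ⟨x, hx⟩ := hne
  obtain ⟨U, _, hxU, hUs⟩ := hs x
  obtain ⟨y, hy, hy0⟩ := h.qc_nonempty hUs ⟨x, hxU, hx⟩
  exact ⟨y, hy.2, hy0⟩

theorem VD.lqc_subset {X₀ : Set X} (h : VD X₀) {s t : Set X} (hs : LQC s) (ht : LQC t)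
    (hst : s ∩ X₀ ⊆ t ∩ X₀) : s ⊆ t := by
  by_contra hne
  rw [Set.not_subset] at hne
  obtain ⟨x, hxs, hxt⟩ := hne
  obtain ⟨y, ⟨hys, hyt⟩, hy0⟩ := h.lqc_nonempty (hs.diff ht) ⟨x, hxs, hxt⟩
  exact hyt (hst ⟨hys, hy0⟩).1

theorem VD.lqc_eq {X₀ : Set X} (h : VD X₀) {s t : Set X} (hs : LQC s) (ht : LQC t)
    (hst : s ∩ X₀ = t ∩ X₀) : s = t :=
  subset_antisymm (h.lqc_subset hs ht hst.le) (h.lqc_subset ht hs hst.ge)

theorem VD.lqc_subset_closure {X₀ : Set X} (h : VD X₀) {s : Set X} (hs : LQC s) :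
    s ⊆ closure (s ∩ X₀) := by
  apply h.lqc_subset hs (LQC.of_isLocallyClosed isClosed_closure.isLocallyClosed)
  exact fun x hx => ⟨subset_closure hx, hx.2⟩

/-- very density in terms of open sets -/
theorem vd_of_open_inj {X₀ : Set X}
    (h : ∀ U V : Set X, IsOpen U → IsOpen V → U ∩ X₀ = V ∩ X₀ → U = V) : VD X₀ := by
  intro Z hZ hne
  obtain ⟨U, F, hU, hF, rfl⟩ := hZ
  by_contra hempty
  rw [Set.not_nonempty_iff_eq_empty] at hempty
  have hUU : U = U ∩ Fᶜ := by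
    apply h _ _ hU (hU.inter hF.isOpen_compl)
    ext x
    constructor
    · rintro ⟨hxU, hx0⟩
      refine ⟨⟨hxU, fun hxF => ?_⟩, hx0⟩
      have : x ∈ U ∩ F ∩ X₀ := ⟨⟨hxU, hxF⟩, hx0⟩
      rw [hempty] at this
      exact this
    · rintro ⟨⟨hxU, _⟩, hx0⟩
      exact ⟨hxU, hx0⟩
  obtain ⟨x, hxU, hxF⟩ := hne
  rw [hUU] at hxU
  exact hxU.2 hxF

theorem VD.open_inj {X₀ : Set X} (h : VD X₀) (U V : Set X) (hU : IsOpen U) (hV : IsOpen V)
    (hUV : U ∩ X₀ = V ∩ X₀) : U = V :=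
  h.lqc_eq (LQC.of_isOpen hU) (LQC.of_isOpen hV) hUV

end Groth.Agent.H8
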