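import Groth.Agent.Lib.helper8.QC

/-! Helper library (helper8): quasi-homeomorphisms. -/

set_option autoImplicit false
universe u v

namespace Groth.Agent.H8

open TopologicalSpace

variable {X : Type u} {Y : Type v} [TopologicalSpace X] [TopologicalSpace Y]

/-- quasi-homeomorphism: taking preimages is a bijection on open sets -/
def QH (f : X → Y) : Prop :=
  (∀ U₁ U₂ : Set Y, IsOpen U₁ → IsOpen U₂ → f ⁻¹' U₁ = f ⁻¹' U₂ → U₁ = U₂) ∧
  (∀ V : Set X, IsOpen V → ∃ U : Set Y, IsOpen U ∧ f ⁻¹' U = V)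

theorem qh_iff_opens_bijective {f : X → Y} (hf : Continuous f) :
    Function.Bijective (fun U : Opens Y => (⟨f ⁻¹' (U : Set Y), U.isOpen.preimage hf⟩ : Opens X))
      ↔ QH f := by
  constructor
  · rintro ⟨hinj, hsurj⟩
    refine ⟨fun U₁ U₂ h₁ h₂ h => ?_, fun V hV => ?_⟩
    · have := @hinj ⟨U₁, h₁⟩ ⟨U₂, h₂⟩ (Opens.ext h)
      exact congrArg (fun U : Opens Y => (U : Set Y)) this
    · obtain ⟨U, hU⟩ := hsurj ⟨V, hV⟩
      exact ⟨U, U.isOpen, congrArg (fun U : Opens X => (U : Set X)) hU⟩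
  · rintro ⟨hinj, hsurj⟩
    refine ⟨fun U₁ U₂ h => ?_, fun V => ?_⟩
    · exact Opens.ext (hinj _ _ U₁.isOpen U₂.isOpen (congrArg (fun U : Opens X => (U : Set X)) h))
    · obtain ⟨U, hU, hUV⟩ := hsurj V V.isOpen
      exact ⟨⟨U, hU⟩, Opens.ext hUV⟩

theorem qh_iff_closeds_bijective {f : X → Y} (hf : Continuous f) :
    Function.Bijective (fun F : Closeds Y =>
      (⟨f ⁻¹' (F : Set Y), F.isClosed.preimage hf⟩ : Closeds X)) ↔ QH f := by
  constructor
  · rintro ⟨hinj, hsurj⟩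
    refine ⟨fun U₁ U₂ h₁ h₂ h => ?_, fun V hV => ?_⟩
    · have := @hinj ⟨U₁ᶜ, h₁.isClosed_compl⟩ ⟨U₂ᶜ, h₂.isClosed_compl⟩
        (Closeds.ext (by simp only [Closeds.coe_mk, Set.preimage_compl, h]))
      have := congrArg (fun U : Closeds Y => (U : Set Y)) this
      exact compl_injective this
    · obtain ⟨F, hF⟩ := hsurj ⟨Vᶜ, hV.isClosed_compl⟩
      refine ⟨(F : Set Y)ᶜ, F.isClosed.isOpen_compl, ?_⟩
      have := congrArg (fun U : Closeds X => (U : Set X)) hF
      simp only [Closeds.coe_mk] at this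
      rw [Set.preimage_compl, this, compl_compl]
  · rintro ⟨hinj, hsurj⟩
    refine ⟨fun F₁ F₂ h => ?_, fun G => ?_⟩
    · have h' := congrArg (fun U : Closeds X => (U : Set X)) h
      simp only [Closeds.coe_mk] at h'
      have := hinj _ _ F₁.isClosed.isOpen_compl F₂.isClosed.isOpen_compl
        (by rw [Set.preimage_compl, Set.preimage_compl, h'])
      exact Closeds.ext (compl_injective this)
    · obtain ⟨U, hU, hUV⟩ := hsurj (G : Set X)ᶜ G.isClosed.isOpen_compl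
      refine ⟨⟨Uᶜ, hU.isClosed_compl⟩, Closeds.ext ?_⟩
      simp only [Closeds.coe_mk]
      rw [Set.preimage_compl, hUV, compl_compl]

theorem QH.vd_range {f : X → Y} (h : QH f) : VD (Set.range f) := by
  apply vd_of_open_inj
  intro U V hU hV hUV
  apply h.1 U V hU hV
  ext x
  constructor
  · intro hx
    have : f x ∈ U ∩ Set.range f := ⟨hx, x, rfl⟩
    rw [hUV] at this
    exact this.1
  · intro hx
    have : f x ∈ V ∩ Set.range f := ⟨hx, x, rfl⟩
    rw [← hUV] at this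
    exact this.1

theorem QH.preimage_lqc_inj {f : X → Y} (h : QH f) {Z Z' : Set Y} (hZ : LQC Z) (hZ' : LQC Z')
    (hZZ' : f ⁻¹' Z = f ⁻¹' Z') : Z = Z' := by
  apply h.vd_range.lqc_eq hZ hZ'
  ext y
  constructor
  · rintro ⟨hy, x, rfl⟩
    have : x ∈ f ⁻¹' Z := hy
    rw [hZZ'] at this
    exact ⟨this, x, rfl⟩
  · rintro ⟨hy, x, rfl⟩
    have : x ∈ f ⁻¹' Z' := hy
    rw [← hZZ'] at this
    exact ⟨this, x, rfl⟩

theorem QH.isInducing {f : X → Y} (hf : Continuous f) (h : QH f) : Topology.IsInducing f := by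
  rw [Topology.isInducing_iff]
  apply le_antisymm
  · exact hf.le_induced
  · intro V hV
    obtain ⟨U, hU, rfl⟩ := h.2 V hV
    exact ⟨U, hU, rfl⟩

theorem QH.restrict {f : X → Y} (_hf : Continuous f) (h : QH f) {Y' : Set Y} (hY' : LQC Y') :
    QH (Y'.restrictPreimage f) := by
  constructor
  · intro U₁ U₂ hU₁ hU₂ hU
    obtain ⟨W₁, hW₁, rfl⟩ := isOpen_induced_iff.mp hU₁
    obtain ⟨W₂, hW₂, rfl⟩ := isOpen_induced_iff.mp hU₂
    have key : W₁ ∩ Y' = W₂ ∩ Y' := by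
      apply h.preimage_lqc_inj ((LQC.of_isOpen hW₁).inter hY') ((LQC.of_isOpen hW₂).inter hY')
      ext x
      constructor
      · rintro ⟨hx1, hx2⟩
        have : (⟨x, hx2⟩ : ↥(f ⁻¹' Y')) ∈ Y'.restrictPreimage f ⁻¹' (Subtype.val ⁻¹' W₁) := hx1
        rw [hU] at this
        exact ⟨this, hx2⟩
      · rintro ⟨hx1, hx2⟩
        have : (⟨x, hx2⟩ : ↥(f ⁻¹' Y')) ∈ Y'.restrictPreimage f ⁻¹' (Subtype.val ⁻¹' W₂) := hx1
        rw [← hU] at this
        exact ⟨this, hx2⟩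
    ext ⟨y, hy⟩
    constructor
    · intro hy1
      have : y ∈ W₁ ∩ Y' := ⟨hy1, hy⟩
      rw [key] at this
      exact this.1
    · intro hy1
      have : y ∈ W₂ ∩ Y' := ⟨hy1, hy⟩
      rw [← key] at this
      exact this.1
  · intro V hV
    obtain ⟨V', hV', rfl⟩ := isOpen_induced_iff.mp hV
    obtain ⟨U', hU', rfl⟩ := h.2 V' hV'
    exact ⟨Subtype.val ⁻¹' U', isOpen_induced_iff.mpr ⟨U', hU', rfl⟩, rfl⟩

theorem QH.compactSpace_iff {f : X → Y} (hf : Continuous f) (h : QH f) :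
    CompactSpace X ↔ CompactSpace Y := by
  constructor
  · intro hX
    rw [← isCompact_univ_iff, isCompact_iff_finite_subcover]
    intro ι U hU hcov
    have hcov' : (Set.univ : Set X) ⊆ ⋃ i, f ⁻¹' U i := by
      intro x _
      have := hcov (Set.mem_univ (f x))
      simpa using this
    obtain ⟨t, ht⟩ := isCompact_univ.elim_finite_subcover (fun i => f ⁻¹' U i)
      (fun i => (hU i).preimage hf) hcov'
    refine ⟨t, ?_⟩
    have : (⋃ i ∈ t, U i) = Set.univ := by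
      apply h.1 _ _ (isOpen_biUnion fun i _ => hU i) isOpen_univ
      rw [Set.preimage_iUnion₂, Set.preimage_univ]
      exact Set.univ_subset_iff.mp ht
    rw [this]
  · intro hY
    rw [← isCompact_univ_iff, isCompact_iff_finite_subcover]
    intro ι V hV hcov
    choose U hU hUV using fun i => h.2 (V i) (hV i)
    have hcov' : (Set.univ : Set Y) ⊆ ⋃ i, U i := by
      have : (⋃ i, U i) = Set.univ := by
        apply h.1 _ _ (isOpen_iUnion hU) isOpen_univ
        rw [Set.preimage_iUnion, Set.preimage_univ]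
        simp_rw [hUV]
        exact Set.univ_subset_iff.mp hcov
      rw [this]
    obtain ⟨t, ht⟩ := isCompact_univ.elim_finite_subcover U hU hcov'
    refine ⟨t, ?_⟩
    intro x _
    have := ht (Set.mem_univ (f x))
    simp only [Set.mem_iUnion] at this ⊢
    obtain ⟨i, hi, hx⟩ := this
    refine ⟨i, hi, ?_⟩
    rw [← hUV i]
    exact hx

theorem QH.isCompact_preimage_iff {f : X → Y} (hf : Continuous f) (h : QH f) {Y' : Set Y}
    (hY' : LQC Y') : IsCompact (f ⁻¹' Y') ↔ IsCompact Y' := by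
  rw [isCompact_iff_compactSpace, isCompact_iff_compactSpace]
  exact (h.restrict hf hY').compactSpace_iff hf.restrictPreimage

theorem QH.noetherianSpace_iff {f : X → Y} (hf : Continuous f) (h : QH f) :
    NoetherianSpace X ↔ NoetherianSpace Y := by
  rw [noetherianSpace_iff_opens, noetherianSpace_iff_opens]
  constructor
  · intro hX U
    rw [← h.isCompact_preimage_iff hf (LQC.of_isOpen U.isOpen)]
    exact hX ⟨_, U.isOpen.preimage hf⟩
  · intro hY V
    obtain ⟨U, hU, hUV⟩ := h.2 V V.isOpen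
    rw [← hUV, h.isCompact_preimage_iff hf (LQC.of_isOpen hU)]
    exact hY ⟨U, hU⟩

theorem QH.exists_isLocallyClosed_preimage {f : X → Y} (h : QH f) {s : Set X}
    (hs : IsLocallyClosed s) : ∃ t : Set Y, IsLocallyClosed t ∧ f ⁻¹' t = s := by
  obtain ⟨V, G, hV, hG, rfl⟩ := hs
  obtain ⟨U, hU, rfl⟩ := h.2 V hV
  obtain ⟨U', hU', hU'G⟩ := h.2 Gᶜ hG.isOpen_compl
  refine ⟨U ∩ U'ᶜ, hU.isLocallyClosed.inter hU'.isClosed_compl.isLocallyClosed, ?_⟩
  rw [Set.preimage_inter, Set.preimage_compl, hU'G, compl_compl]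

theorem QH.exists_qc_preimage {f : X → Y} (h : QH f) {s : Set X} (hs : QC s) :
    ∃ t : Set Y, QC t ∧ f ⁻¹' t = s := by
  obtain ⟨S, hSf, hS, rfl⟩ := hs
  induction S, hSf using Set.Finite.induction_on with
  | empty => exact ⟨∅, QC.empty, by simp⟩
  | @insert a S _ _ ih =>
    obtain ⟨t, ht, hts⟩ := ih fun t ht => hS t (Set.mem_insert_of_mem _ ht)
    obtain ⟨t', ht', hts'⟩ := h.exists_isLocallyClosed_preimage (hS a (Set.mem_insert _ _))
    refine ⟨t' ∪ t, (QC.of_isLocallyClosed ht').union ht, ?_⟩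
    rw [Set.preimage_union, hts, hts', Set.sUnion_insert]

theorem QH.exists_lqc_preimage {f : X → Y} (h : QH f) {s : Set X} (hs : LQC s) :
    ∃ t : Set Y, LQC t ∧ f ⁻¹' t = s := by
  choose V hV hxV hVs using hs
  choose U hU hUV using fun x => h.2 (V x) (hV x)
  choose Q' hQ' hQ's using fun x => h.exists_qc_preimage (hVs x)
  set Q : X → Set Y := fun x => Q' x ∩ U x with hQdef
  have hQ : ∀ x, QC (Q x) := fun x => (hQ' x).inter (QC.of_isOpen (hU x))
  have hQs : ∀ x, f ⁻¹' (Q x) = V x ∩ s := by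
    intro x
    rw [hQdef]
    simp only [Set.preimage_inter, hQ's, hUV]
    ext y; simp only [Set.mem_inter_iff]; tauto
  have hcov : (⋃ x, U x) = Set.univ := by
    apply h.1 _ _ (isOpen_iUnion hU) isOpen_univ
    rw [Set.preimage_iUnion, Set.preimage_univ]
    simp_rw [hUV]
    exact Set.eq_univ_of_forall fun x => Set.mem_iUnion.mpr ⟨x, hxV x⟩
  have hswap : ∀ x₀ x₁, Q x₁ ∩ U x₀ = Q x₀ ∩ U x₁ := by
    intro x₀ x₁
    apply h.preimage_lqc_inj ((hQ x₁).inter (QC.of_isOpen (hU x₀))).lqc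
      ((hQ x₀).inter (QC.of_isOpen (hU x₁))).lqc
    simp only [Set.preimage_inter, hQs, hUV]
    ext y; simp only [Set.mem_inter_iff]; tauto
  have hZ : ∀ x₀, U x₀ ∩ (⋃ x, Q x) = Q x₀ := by
    intro x₀
    apply subset_antisymm
    · rintro y ⟨hy0, hy⟩
      obtain ⟨x₁, hy1⟩ := Set.mem_iUnion.mp hy
      have : y ∈ Q x₁ ∩ U x₀ := ⟨hy1, hy0⟩
      rw [hswap] at this
      exact this.1
    · intro y hy
      exact ⟨hy.2, Set.mem_iUnion.mpr ⟨x₀, hy⟩⟩
  refine ⟨⋃ x, Q x, ?_, ?_⟩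
  · intro y
    have : y ∈ ⋃ x, U x := by rw [hcov]; trivial
    obtain ⟨x₀, hy⟩ := Set.mem_iUnion.mp this
    refine ⟨U x₀, hU x₀, hy, ?_⟩
    change QC _
    rw [hZ x₀]
    exact hQ x₀
  · rw [Set.preimage_iUnion]
    simp_rw [hQs]
    ext y
    simp only [Set.mem_iUnion, Set.mem_inter_iff]
    constructor
    · rintro ⟨_, _, hy⟩; exact hy
    · intro hy; exact ⟨y, hxV y, hy⟩

theorem VD.qh_subtype_val {X₀ : Set X} (h : VD X₀) : QH (Subtype.val : ↥X₀ → X) := by
  constructor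
  · intro U₁ U₂ h₁ h₂ hU
    apply h.open_inj U₁ U₂ h₁ h₂
    ext x
    constructor
    · rintro ⟨hx, hx0⟩
      have : (⟨x, hx0⟩ : ↥X₀) ∈ (Subtype.val ⁻¹' U₁ : Set ↥X₀) := hx
      rw [hU] at this
      exact ⟨this, hx0⟩
    · rintro ⟨hx, hx0⟩
      have : (⟨x, hx0⟩ : ↥X₀) ∈ (Subtype.val ⁻¹' U₂ : Set ↥X₀) := hx
      rw [← hU] at this
      exact ⟨this, hx0⟩
  · intro V hV
    obtain ⟨U, hU, rfl⟩ := isOpen_induced_iff.mp hV
    exact ⟨U, hU, rfl⟩

end Groth.Agent.H8
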