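import Groth.Agent.Lib.helper8.QH
import Mathlib.Topology.Constructible

/-! Helper library (helper8): quasi-homeomorphisms and constructible sets. -/

set_option autoImplicit false
universe u v

namespace Groth.Agent.H8

open TopologicalSpace Topology Set.Notation

variable {X : Type u} {Y : Type v} [TopologicalSpace X] [TopologicalSpace Y]

theorem QH.isRetrocompact_preimage_iff {f : X → Y} (hf : Continuous f) (h : QH f) {U : Set Y}
    (hU : IsOpen U) : IsRetrocompact (f ⁻¹' U) ↔ IsRetrocompact U := by
  constructor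
  · intro hr W hWc hWo
    have hVc : IsCompact (f ⁻¹' W) := (h.isCompact_preimage_iff hf (LQC.of_isOpen hWo)).mpr hWc
    have := hr hVc (hWo.preimage hf)
    rw [← Set.preimage_inter] at this
    exact (h.isCompact_preimage_iff hf (LQC.of_isOpen (hU.inter hWo))).mp this
  · intro hr V hVc hVo
    obtain ⟨W, hW, rfl⟩ := h.2 V hVo
    have hWc : IsCompact W := (h.isCompact_preimage_iff hf (LQC.of_isOpen hW)).mp hVc
    rw [← Set.preimage_inter]
    exact (h.isCompact_preimage_iff hf (LQC.of_isOpen (hU.inter hW))).mpr (hr hWc hW)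

theorem qc_of_isConstructible {s : Set X} (hs : IsConstructible s) : QC s := by
  induction hs using IsConstructible.empty_union_induction with
  | open_retrocompact U hUopen _ => exact QC.of_isOpen hUopen
  | union s _ t _ hs' ht' => exact hs'.union ht'
  | compl s _ hs' => exact hs'.compl

theorem QH.isConstructible_preimage {f : X → Y} (hf : Continuous f) (h : QH f) {s : Set Y}
    (hs : IsConstructible s) : IsConstructible (f ⁻¹' s) :=
  hs.preimage hf fun _ hU hr => (h.isRetrocompact_preimage_iff hf hU).mpr hr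

theorem QH.exists_isConstructible_preimage {f : X → Y} (hf : Continuous f) (h : QH f) {t : Set X}
    (ht : IsConstructible t) : ∃ s : Set Y, IsConstructible s ∧ f ⁻¹' s = t := by
  induction ht using IsConstructible.empty_union_induction with
  | open_retrocompact V hVopen hVcomp =>
    obtain ⟨U, hU, rfl⟩ := h.2 V hVopen
    exact ⟨U, ((h.isRetrocompact_preimage_iff hf hU).mp hVcomp).isConstructible hU, rfl⟩
  | union s _ t _ hs' ht' =>
    obtain ⟨s', hs', rfl⟩ := hs'
    obtain ⟨t', ht', rfl⟩ := ht'
    exact ⟨s' ∪ t', hs'.union ht', rfl⟩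
  | compl s _ hs' =>
    obtain ⟨s', hs', rfl⟩ := hs'
    exact ⟨s'ᶜ, hs'.compl, rfl⟩

theorem QC.image_subtype_val {U : Set X} (hU : IsLocallyClosed U) {s : Set ↥U} (hs : QC s) :
    QC (Subtype.val '' s) := by
  obtain ⟨S, hSf, hS, rfl⟩ := hs
  have : (Subtype.val '' ⋃₀ S : Set X) =
      ⋃₀ ((fun t : Set ↥U => (Subtype.val '' t : Set X)) '' S) := by
    rw [Set.image_sUnion, Set.sUnion_image]
  rw [this]
  apply QC.sUnion (hSf.image _)
  rintro _ ⟨t, ht, rfl⟩
  apply QC.of_isLocallyClosed
  exact (hS t ht).image IsInducing.subtypeVal (by simpa using hU)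

theorem lqc_of_isLocallyConstructible {s : Set X} (hs : IsLocallyConstructible s) : LQC s := by
  intro x
  obtain ⟨U, hxU, hU, hUs⟩ := hs x
  refine ⟨U, hU, mem_of_mem_nhds hxU, ?_⟩
  change QC _
  have := QC.image_subtype_val hU.isLocallyClosed (qc_of_isConstructible hUs)
  rwa [Subtype.image_preimage_coe] at this

theorem QH.isLocallyConstructible_preimage {f : X → Y} (hf : Continuous f) (h : QH f) {s : Set Y}
    (hs : IsLocallyConstructible s) : IsLocallyConstructible (f ⁻¹' s) := by
  intro x
  obtain ⟨U, hxU, hU, hUs⟩ := hs (f x)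
  refine ⟨f ⁻¹' U, hf.continuousAt.preimage_mem_nhds hxU, hU.preimage hf, ?_⟩
  have := (h.restrict hf (LQC.of_isOpen hU)).isConstructible_preimage hf.restrictPreimage hUs
  exact this

theorem QH.exists_isLocallyConstructible_preimage {f : X → Y} (hf : Continuous f) (h : QH f)
    {t : Set X} (ht : IsLocallyConstructible t) :
    ∃ s : Set Y, IsLocallyConstructible s ∧ f ⁻¹' s = t := by
  obtain ⟨s, hs, rfl⟩ := h.exists_lqc_preimage (lqc_of_isLocallyConstructible ht)
  refine ⟨s, ?_, rfl⟩
  choose V hxV hV hVt using ht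
  choose U hU hUV using fun x => h.2 (V x) (hV x)
  have hcov : (⋃ x, U x) = Set.univ := by
    apply h.1 _ _ (isOpen_iUnion hU) isOpen_univ
    rw [Set.preimage_iUnion, Set.preimage_univ]
    simp_rw [hUV]
    exact Set.eq_univ_of_forall fun x => Set.mem_iUnion.mpr ⟨x, mem_of_mem_nhds (hxV x)⟩
  intro y
  have : y ∈ ⋃ x, U x := by rw [hcov]; trivial
  obtain ⟨x, hy⟩ := Set.mem_iUnion.mp this
  refine ⟨U x, (hU x).mem_nhds hy, hU x, ?_⟩
  have hres : QH ((U x).restrictPreimage f) := h.restrict hf (LQC.of_isOpen (hU x))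
  have hVt' : IsConstructible ((f ⁻¹' U x) ↓∩ (f ⁻¹' s)) := by
    have := hVt x
    rw [← hUV x] at this
    exact this
  obtain ⟨C, hC, hCt⟩ := hres.exists_isConstructible_preimage hf.restrictPreimage hVt'
  have : C = (U x) ↓∩ s := by
    apply hres.preimage_lqc_inj (qc_of_isConstructible hC).lqc
      (LQC.preimage hs continuous_subtype_val)
    rw [hCt]
    rfl
  rw [← this]
  exact hC

end Groth.Agent.H8
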