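import Mathlib
import Groth.Prelude.Def_Wider
import Groth.Agent.Lib.helper8.RChM
import Groth.Agent.Lib.helper9.Depth25
import Groth.Agent.Lib.helper9.Depth10

/-!
# Change of rings, part N (helper8): dimension inequalities for localizations of modules.
-/

universe u

set_option linter.unusedSectionVars false

namespace Groth.Agent.H8.RCh

open CategoryTheory Abelian Opposite LocCoh InjHull IsLocalRing Groth.Agent.H21.LC TensorProduct
open Groth.Agent.Lib.helper9.Depth

/-- `dim M_p + dim R/p ≤ dim M`. -/
theorem supportDim_localization_add_dim_quotient_le {R : Type u} [CommRing R] (M : Type u)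
    [AddCommGroup M] [Module R M] [Module.Finite R M] (p : Ideal R) [p.IsPrime]
    (hp : (⟨p, inferInstance⟩ : PrimeSpectrum R) ∈ Module.support R M) :
    Module.supportDim (Localization.AtPrime p) (LocalizedModule p.primeCompl M) +
      ringKrullDim (R ⧸ p) ≤ Module.supportDim R M := by
  rw [supportDim_localization_eq_height p M hp,
    Groth.Agent.H8.Canon.ringKrullDim_quotient_eq_coheight]
  have h1 : (Order.coheight (⟨p, inferInstance⟩ : PrimeSpectrum R) : WithBot ℕ∞) ≤
      (Order.coheight (⟨⟨p, inferInstance⟩, hp⟩ : Module.support R M) : WithBot ℕ∞) := by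
    rw [Order.coheight_eq_krullDim_Ici, Order.coheight_eq_krullDim_Ici]
    let f : Set.Ici (⟨p, inferInstance⟩ : PrimeSpectrum R) →
        Set.Ici (⟨⟨p, inferInstance⟩, hp⟩ : Module.support R M) := fun q =>
      ⟨⟨q.1, Module.mem_support_mono q.2 hp⟩, q.2⟩
    exact Order.krullDim_le_of_strictMono f (fun a b hab => hab)
  refine le_trans (add_le_add le_rfl h1) ?_
  haveI : Nonempty (Module.support R M) := ⟨⟨⟨p, inferInstance⟩, hp⟩⟩
  unfold Module.supportDim
  rw [Order.krullDim_eq_iSup_height_add_coheight_of_nonempty, ← WithBot.coe_add,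
    WithBot.coe_le_coe]
  exact le_iSup (fun a : Module.support R M => Order.height a + Order.coheight a)
    ⟨⟨p, inferInstance⟩, hp⟩

/-- over a local ring, `dim M ≤ dim M_m`. -/
theorem supportDim_le_supportDim_localization_maximalIdeal {R : Type u} [CommRing R]
    [IsLocalRing R] (M : Type u) [AddCommGroup M] [Module R M] [Module.Finite R M]
    (hm : (⟨maximalIdeal R, inferInstance⟩ : PrimeSpectrum R) ∈ Module.support R M) :
    Module.supportDim R M ≤ Module.supportDim (Localization.AtPrime (maximalIdeal R))
      (LocalizedModule (maximalIdeal R).primeCompl M) := by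
  rw [supportDim_localization_eq_height (maximalIdeal R) M hm, Order.height_eq_krullDim_Iic]
  unfold Module.supportDim
  let f : Module.support R M →
      Set.Iic (⟨⟨maximalIdeal R, inferInstance⟩, hm⟩ : Module.support R M) := fun q =>
    ⟨q, IsLocalRing.le_maximalIdeal q.1.isPrime.ne_top⟩
  exact Order.krullDim_le_of_strictMono f (fun a b hab => hab)

end Groth.Agent.H8.RCh
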