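import Mathlib
import Groth.Prelude.Def_Wider
import Groth.Agent.Lib.helper8.RChN

/-!
# Change of rings, part O (helper8): generalized Cohen–Macaulay modules over a quotient of a
Gorenstein local ring.
-/

universe u

set_option linter.unusedSectionVars false

namespace Groth.Agent.H8.RCh

open CategoryTheory Abelian Opposite LocCoh InjHull IsLocalRing Groth.Agent.H21.LC TensorProduct
open Groth.Agent.H8.NonVan Groth.Agent.H8.LDual Groth.Agent.H8.Matlis Groth.Agent.H8.CdDim
open Groth.Agent.Lib.helper9.Depth

set_option maxHeartbeats 1000000 in
theorem generalized_CM_iff (R : Type u) [CommRing R] [IsNoetherianRing R] [IsLocalRing R]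
    (S : Type u) [CommRing S] [LocCoh.IsGorensteinLocalRing S] (g : S →+* R)
    (hg : Function.Surjective g) (M : Type u) [AddCommGroup M] [Module R M] [Module.Finite R M]
    (n : ℕ) (hn : Module.supportDim R M = n) :
    (∀ i : ℕ, i < n → IsFiniteLength R (H (maximalIdeal R) i M)) ↔
      ((∀ p ∈ (Module.annihilator R M).minimalPrimes, ringKrullDim (R ⧸ p) = n) ∧
        ∀ (p : Ideal R) [p.IsPrime], p ≠ maximalIdeal R → Module.annihilator R M ≤ p →
          IsCohenMacaulayModule (Localization.AtPrime p) (LocalizedModule p.primeCompl M)) := by
  obtain ⟨nR, hnR⟩ := Groth.Agent.H8.NonVan.exists_supportDim_eq_nat (R := R) R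
  rw [Module.supportDim_self_eq_ringKrullDim] at hnR
  -- common facts at a prime of the support
  have facts : ∀ (p : Ideal R) [p.IsPrime], Module.annihilator R M ≤ p →
      ∃ d δ : ℕ, ringKrullDim (R ⧸ p) = d ∧
        Module.supportDim (Localization.AtPrime p) (LocalizedModule p.primeCompl M) = δ ∧
        δ + d ≤ n ∧ depth (Localization.AtPrime p) (LocalizedModule p.primeCompl M) ≤ (δ : ℕ∞) ∧
        Nontrivial (LocalizedModule p.primeCompl M) := by
    intro p _ hle
    have hp : (⟨p, inferInstance⟩ : PrimeSpectrum R) ∈ Module.support R M :=
      Module.mem_support_iff_of_finite.mpr hle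
    haveI hnt : Nontrivial (LocalizedModule p.primeCompl M) := Module.mem_support_iff.mp hp
    obtain ⟨d, hd⟩ := exists_nat_dim_quotient nR hnR p
    obtain ⟨δ, hδ⟩ := Groth.Agent.H8.NonVan.exists_supportDim_eq_nat
      (R := Localization.AtPrime p) (LocalizedModule p.primeCompl M)
    refine ⟨d, δ, hd, hδ, ?_, ?_, hnt⟩
    · have h1 := supportDim_localization_add_dim_quotient_le M p hp
      rw [hδ, hd, hn] at h1
      exact_mod_cast h1
    · have h2 := depth_le_supportDim (R := Localization.AtPrime p)
        (LocalizedModule p.primeCompl M)
      rw [hδ] at h2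
      exact_mod_cast h2
  constructor
  · intro h1
    have hvan : ∀ (p : Ideal R) [p.IsPrime], p ≠ maximalIdeal R → ∀ d : ℕ,
        ringKrullDim (R ⧸ p) = d →
        ((n - d : ℕ) : ℕ∞) ≤ depth (Localization.AtPrime p) (LocalizedModule p.primeCompl M) := by
      intro p _ hpm d hd
      rw [← forall_lt_subsingleton_H_iff]
      intro j hj
      exact (isFiniteLength_H_iff_localizations R S g hg M (j + d)).mp (h1 (j + d) (by omega))
        ⟨p, inferInstance⟩ hpm d j hd rfl
    constructor
    · intro q hq
      haveI : q.IsPrime := hq.1.1
      obtain ⟨d, δ, hd, hδ, hsum, hdepth, hnt⟩ := facts q hq.1.2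
      have hδ0 : δ = 0 := by
        have := (supportDim_localization_le_zero_iff q M hq.1.2).mpr hq
        rw [hδ] at this
        have h' : δ ≤ 0 := by exact_mod_cast this
        omega
      subst hδ0
      have hdn : n ≤ d := by
        by_cases hqm : q = maximalIdeal R
        · subst hqm
          have hm : (⟨maximalIdeal R, inferInstance⟩ : PrimeSpectrum R) ∈ Module.support R M :=
            Module.mem_support_iff_of_finite.mpr hq.1.2
          have := supportDim_le_supportDim_localization_maximalIdeal M hm
          rw [hn, hδ] at this
          have h' : n ≤ 0 := by exact_mod_cast this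
          omega
        · have h2 := (hvan q hqm d hd).trans hdepth
          have h' : n - d ≤ 0 := by exact_mod_cast h2
          omega
      rw [hd]
      have : d = n := by omega
      rw [this]
    · intro p _ hpm hle
      obtain ⟨d, δ, hd, hδ, hsum, hdepth, hnt⟩ := facts p hle
      have h2 := hvan p hpm d hd
      have h3 : depth (Localization.AtPrime p) (LocalizedModule p.primeCompl M) = (δ : ℕ∞) := by
        refine le_antisymm hdepth (le_trans ?_ h2)
        have : δ ≤ n - d := by omega
        exact_mod_cast this
      unfold IsCohenMacaulayModule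
      rw [hδ, h3]
      rfl
  · rintro ⟨hEq, hCM⟩ i hi
    rw [isFiniteLength_H_iff_localizations R S g hg M i]
    intro p hpm e j he hj
    by_cases hsupp : Module.annihilator R M ≤ p.asIdeal
    · obtain ⟨q, hq, hqp⟩ := Ideal.exists_minimalPrimes_le hsupp
      haveI : q.IsPrime := hq.1.1
      have hdq := hEq q hq
      -- set up the `S`-structures
      letI : Algebra S R := g.toAlgebra
      have hg' : Function.Surjective (algebraMap S R) := hg
      haveI : Module.Finite S R := Module.Finite.of_surjective (Algebra.linearMap S R) hg'
      letI : Module S M := Module.compHom M (algebraMap S R)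
      haveI : IsScalarTower S R M := ⟨fun s r m => by
        change (s • r) • m = algebraMap S R s • (r • m)
        rw [Algebra.smul_def, mul_smul]⟩
      haveI : Module.Finite S M := Module.Finite.trans R M
      obtain ⟨N, hN⟩ := Groth.Agent.H8.NonVan.exists_supportDim_eq_nat (R := S) S
      rw [Module.supportDim_self_eq_ringKrullDim] at hN
      have hnN : n ≤ N := by
        have h1 := ringKrullDim_le_of_surjective g hg
        rw [hnR, hN] at h1
        have h2 := Module.supportDim_le_ringKrullDim R M
        rw [hn, hnR] at h2
        have h1' : nR ≤ N := by exact_mod_cast h1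
        have h2' : n ≤ nR := by exact_mod_cast h2
        omega
      haveI hQprime : (q.comap (algebraMap S R)).IsPrime := Ideal.comap_isPrime _ q
      haveI hPprime : (p.asIdeal.comap (algebraMap S R)).IsPrime :=
        Ideal.comap_isPrime _ p.asIdeal
      haveI : Module.Finite S (((Ext S (ModuleCat.{u} S) (N - n)).obj
        (op (ModuleCat.of S M))).obj (ModuleCat.of S S)) := finite_ext_old M S (N - n)
      -- `T_Q ≠ 0`
      obtain ⟨dq, δq, hdq', hδq, hsumq, hdepthq, hntq⟩ := facts q hq.1.2
      have hδq0 : δq = 0 := by
        have := (supportDim_localization_le_zero_iff q M hq.1.2).mpr hq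
        rw [hδq] at this
        have h' : δq ≤ 0 := by exact_mod_cast this
        omega
      subst hδq0
      have hTQ : ¬ Subsingleton (LocalizedModule (q.comap (algebraMap S R)).primeCompl
          (((Ext S (ModuleCat.{u} S) (N - n)).obj (op (ModuleCat.of S M))).obj
            (ModuleCat.of S S))) := by
        intro hsub
        have h1 := (subsingleton_localized_ext_iff R S hg' N hN M (N - n) (Nat.sub_le N n) q n
          hdq).mp hsub 0 (by omega)
        have h2 := (forall_lt_subsingleton_H_iff (Localization.AtPrime q)
          (LocalizedModule q.primeCompl M) 1).mp (fun j hj => by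
            have : j = 0 := by omega
            rw [this]
            exact h1)
        have h3 := h2.trans hdepthq
        have h4 : (1 : ℕ) ≤ 0 := by exact_mod_cast h3
        omega
      -- `T_P ≠ 0`
      have hTP : ¬ Subsingleton (LocalizedModule (p.asIdeal.comap (algebraMap S R)).primeCompl
          (((Ext S (ModuleCat.{u} S) (N - n)).obj (op (ModuleCat.of S M))).obj
            (ModuleCat.of S S))) := by
        rw [not_subsingleton_iff_nontrivial] at hTQ ⊢
        have hQ : (⟨q.comap (algebraMap S R), hQprime⟩ : PrimeSpectrum S) ∈
            Module.support S (((Ext S (ModuleCat.{u} S) (N - n)).obj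
              (op (ModuleCat.of S M))).obj (ModuleCat.of S S)) :=
          Module.mem_support_iff.mpr hTQ
        have hP : (⟨p.asIdeal.comap (algebraMap S R), hPprime⟩ : PrimeSpectrum S) ∈
            Module.support S (((Ext S (ModuleCat.{u} S) (N - n)).obj
              (op (ModuleCat.of S M))).obj (ModuleCat.of S S)) :=
          Module.mem_support_mono (show (⟨q.comap (algebraMap S R), hQprime⟩ : PrimeSpectrum S) ≤
            ⟨p.asIdeal.comap (algebraMap S R), hPprime⟩ from Ideal.comap_mono hqp) hQ
        exact Module.mem_support_iff.mp hP
      have hex : ¬ ∀ j' : ℕ, j' + e = N - (N - n) →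
          Subsingleton (H (maximalIdeal (Localization.AtPrime p.asIdeal)) j'
            (LocalizedModule p.asIdeal.primeCompl M)) := fun hall =>
        hTP ((subsingleton_localized_ext_iff R S hg' N hN M (N - n) (Nat.sub_le N n) p.asIdeal e
          he).mpr hall)
      push Not at hex
      obtain ⟨j₀, hj₀, hne⟩ := hex
      have hj₀' : j₀ + e = n := by omega
      -- `j₀ ≤ depth M_p`
      have hcm := hCM p.asIdeal hpm hsupp
      unfold IsCohenMacaulayModule at hcm
      have hle : (j₀ : ℕ∞) ≤ depth (Localization.AtPrime p.asIdeal)
          (LocalizedModule p.asIdeal.primeCompl M) := by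
        by_contra hlt
        push Not at hlt
        rw [← not_subsingleton_iff_nontrivial] at hne
        apply hne
        apply subsingleton_H_of_supportDim_lt
        rw [hcm]
        exact_mod_cast hlt
      exact (forall_lt_subsingleton_H_iff (Localization.AtPrime p.asIdeal)
        (LocalizedModule p.asIdeal.primeCompl M) j₀).mpr hle j (by omega)
    · have hns : p ∉ Module.support R M := fun h => hsupp (Module.mem_support_iff_of_finite.mp h)
      haveI : Subsingleton (LocalizedModule p.asIdeal.primeCompl M) :=
        Module.notMem_support_iff.mp hns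
      exact subsingleton_H_of_subsingleton _ j (ModuleCat.of _ _)

end Groth.Agent.H8.RCh
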