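import Mathlib
import Groth.Prelude.Def_Wider
import Groth.Agent.Lib.helper8.RChJ

/-!
# Change of rings, part P (helper8): vanishing of a localization of `Ext^c_S(M, S)` and local
cohomology of `M_p`, non-local version.
-/

universe u

set_option linter.unusedSectionVars false

namespace Groth.Agent.H8.RCh

open CategoryTheory Abelian Opposite LocCoh InjHull IsLocalRing Groth.Agent.H21.LC TensorProduct
open Groth.Agent.H8.NonVan Groth.Agent.H8.LDual Groth.Agent.H8.Matlis

set_option maxHeartbeats 800000 in
theorem subsingleton_localized_ext_iff' (R : Type u) [CommRing R] [IsNoetherianRing R]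
    (S : Type u) [CommRing S] [IsNoetherianRing S] [Algebra S R]
    (hg' : Function.Surjective (algebraMap S R))
    (M : Type u) [AddCommGroup M] [Module R M] [Module S M] [IsScalarTower S R M]
    [Module.Finite R M] [Module.Finite S M]
    (p : Ideal R) [p.IsPrime] [hPprime : (p.comap (algebraMap S R)).IsPrime]
    [LocCoh.IsGorensteinLocalRing (Localization.AtPrime (p.comap (algebraMap S R)))]
    (N' : ℕ) (hN' : (p.comap (algebraMap S R)).height = N') (c : ℕ) (hcN' : c ≤ N') :
    Subsingleton (LocalizedModule (p.comap (algebraMap S R)).primeCompl
      (((Ext S (ModuleCat.{u} S) c).obj (op (ModuleCat.of S M))).obj (ModuleCat.of S S))) ↔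
      Subsingleton (H (maximalIdeal (Localization.AtPrime p)) (N' - c)
        (LocalizedModule p.primeCompl M)) := by
  let φ := Localization.localRingHom (p.comap (algebraMap S R)) p (algebraMap S R) rfl
  letI : Algebra (Localization.AtPrime (p.comap (algebraMap S R))) (Localization.AtPrime p) :=
    φ.toAlgebra
  letI : Module (Localization.AtPrime (p.comap (algebraMap S R)))
      (LocalizedModule p.primeCompl M) := Module.compHom _ φ
  haveI : IsScalarTower (Localization.AtPrime (p.comap (algebraMap S R)))
      (Localization.AtPrime p) (LocalizedModule p.primeCompl M) :=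
    ⟨fun a b x => by
      change (φ a * b) • x = φ a • (b • x)
      rw [mul_smul]⟩
  haveI : IsScalarTower S (Localization.AtPrime (p.comap (algebraMap S R)))
      (LocalizedModule p.primeCompl M) :=
    ⟨fun r a x => by
      change φ (r • a) • x = r • (φ a • x)
      rw [Algebra.smul_def, map_mul, Localization.localRingHom_to_map, mul_smul,
        algebraMap_smul, algebraMap_smul]⟩
  have hφ : Function.Surjective (algebraMap (Localization.AtPrime (p.comap (algebraMap S R)))
      (Localization.AtPrime p)) :=
    RingHom.surjective_localRingHom_of_surjective _ hg' p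
  haveI : Module.Flat S (Localization.AtPrime (p.comap (algebraMap S R))) :=
    IsLocalization.flat _ (p.comap (algebraMap S R)).primeCompl
  haveI h1 : IsLocalizedModule (p.comap (algebraMap S R)).primeCompl
      ((LocalizedModule.mkLinearMap p.primeCompl M).restrictScalars S) :=
    isLocalizedModule_restrictScalars_of_surjective hg' p _
  haveI : Module.Finite (Localization.AtPrime (p.comap (algebraMap S R)))
      (LocalizedModule p.primeCompl M) :=
    Module.Finite.of_isLocalizedModule (p.comap (algebraMap S R)).primeCompl
      ((LocalizedModule.mkLinearMap p.primeCompl M).restrictScalars S)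
  obtain ⟨eX⟩ := nonempty_equiv_ext_old_of_isBaseChange S
    (Localization.AtPrime (p.comap (algebraMap S R))) M (LocalizedModule p.primeCompl M) _
    (IsLocalizedModule.isBaseChange (p.comap (algebraMap S R)).primeCompl
      (Localization.AtPrime (p.comap (algebraMap S R)))
      ((LocalizedModule.mkLinearMap p.primeCompl M).restrictScalars S)) c
    (LocalizedModule (p.comap (algebraMap S R)).primeCompl
      (((Ext S (ModuleCat.{u} S) c).obj (op (ModuleCat.of S M))).obj (ModuleCat.of S S)))
    (LocalizedModule.mkLinearMap (p.comap (algebraMap S R)).primeCompl _)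
    (IsLocalizedModule.isBaseChange (p.comap (algebraMap S R)).primeCompl
      (Localization.AtPrime (p.comap (algebraMap S R))) _)
  have hdimSP : ringKrullDim (Localization.AtPrime (p.comap (algebraMap S R))) = N' := by
    rw [IsLocalization.AtPrime.ringKrullDim_eq_height (p.comap (algebraMap S R))
      (Localization.AtPrime (p.comap (algebraMap S R))), hN']
    rfl
  rw [eX.toEquiv.subsingleton_congr]
  obtain ⟨ES, _, _, fS, hfS⟩ :=
    Groth.Agent.Lib.helper1.InjHullLib.exists_injective_hull
      (R := Localization.AtPrime (p.comap (algebraMap S R)))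
      (ResidueField (Localization.AtPrime (p.comap (algebraMap S R))))
  obtain ⟨e1⟩ := gorenstein_duality (Localization.AtPrime (p.comap (algebraMap S R))) N' hdimSP
    ES fS hfS c hcN' (LocalizedModule p.primeCompl M)
  obtain ⟨Ψ, hΨ⟩ := exists_H_change
    (maximalIdeal (Localization.AtPrime (p.comap (algebraMap S R))))
    (maximalIdeal (Localization.AtPrime p))
    (IsLocalRing.map_maximalIdeal_of_surjective _ hφ).symm (N' - c)
    (LocalizedModule p.primeCompl M)
  rw [← Ψ.toEquiv.subsingleton_congr, e1.toEquiv.subsingleton_congr]
  constructor
  · intro h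
    exact ⟨fun a b => LinearMap.ext fun x => by
      rw [Subsingleton.elim x 0, map_zero, map_zero]⟩
  · intro h
    by_contra hne
    rw [not_subsingleton_iff_nontrivial] at hne
    obtain ⟨x, hx⟩ := exists_ne (0 : (((Ext (Localization.AtPrime (p.comap (algebraMap S R)))
      (ModuleCat.{u} (Localization.AtPrime (p.comap (algebraMap S R)))) c).obj
      (op (ModuleCat.of (Localization.AtPrime (p.comap (algebraMap S R)))
        (LocalizedModule p.primeCompl M)))).obj
      (ModuleCat.of (Localization.AtPrime (p.comap (algebraMap S R)))
        (Localization.AtPrime (p.comap (algebraMap S R))))))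
    obtain ⟨g0, hg0⟩ := exists_hom_ne_zero fS hfS hx
    exact hg0 (by rw [Subsingleton.elim g0 0]; rfl)

end Groth.Agent.H8.RCh
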