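import Mathlib
import Groth.Prelude.Def_Wider
import Groth.Agent.Lib.helper8.LDualE

/-!
# Change of rings, part Q (helper8): relative heights of primes.
-/

universe u

set_option linter.unusedSectionVars false

namespace Groth.Agent.H8.RCh

open LocCoh IsLocalRing

/-- `ht Q = ht P + ht(Q/P)` when the localization at `Q` is Cohen–Macaulay. -/
theorem relHeight_add_height {S : Type u} [CommRing S] (P Q : Ideal S) [hP : P.IsPrime]
    [hQ : Q.IsPrime] (hPQ : P ≤ Q) [LocCoh.IsCohenMacaulayLocalRing (Localization.AtPrime Q)]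
    (N : ℕ) (hN : Q.height = N) :
    ((Order.height (⟨⟨Q, hQ⟩, hPQ⟩ : Set.Ici (⟨P, hP⟩ : PrimeSpectrum S)) : ℕ∞) : WithBot ℕ∞) +
      ((P.height : ℕ∞) : WithBot ℕ∞) = (N : WithBot ℕ∞) := by
  have hdisj : Disjoint (Q.primeCompl : Set S) (P : Set S) := by
    rw [Set.disjoint_left]
    intro x hx hxP
    exact hx (hPQ hxP)
  haveI hpp : (P.map (algebraMap S (Localization.AtPrime Q))).IsPrime :=
    IsLocalization.isPrime_of_isPrime_disjoint Q.primeCompl _ P hP hdisj
  have hdimB : ringKrullDim (Localization.AtPrime Q) = N := by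
    rw [IsLocalization.AtPrime.ringKrullDim_eq_height Q (Localization.AtPrime Q), hN]
    rfl
  have h1 := Groth.Agent.H8.LDual.dim_quotient_add_height_prime (Localization.AtPrime Q) N hdimB
    (P.map (algebraMap S (Localization.AtPrime Q)))
  rw [IsLocalization.height_map_of_disjoint Q.primeCompl P hdisj,
    Groth.Agent.H8.Canon.ringKrullDim_quotient_eq_coheight, Order.coheight_eq_krullDim_Ici] at h1
  rw [Order.height_eq_krullDim_Iic, ← h1]
  congr 1
  have hcm : ∀ r : Ideal S, r.IsPrime → r ≤ Q →
      Ideal.comap (algebraMap S (Localization.AtPrime Q))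
        (r.map (algebraMap S (Localization.AtPrime Q))) = r := by
    intro r hr hrQ
    refine IsLocalization.comap_map_of_isPrime_disjoint Q.primeCompl _ hr ?_
    rw [Set.disjoint_left]
    intro x hx hxr
    exact hx (hrQ hxr)
  apply le_antisymm
  · -- from `Iic Q` in `Ici P` to `Ici (P B)`
    let gmap : Set.Iic (⟨⟨Q, hQ⟩, hPQ⟩ : Set.Ici (⟨P, hP⟩ : PrimeSpectrum S)) →
        Set.Ici (⟨P.map (algebraMap S (Localization.AtPrime Q)), hpp⟩ :
          PrimeSpectrum (Localization.AtPrime Q)) := fun r =>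
      ⟨⟨r.1.1.asIdeal.map (algebraMap S (Localization.AtPrime Q)),
        IsLocalization.isPrime_of_isPrime_disjoint Q.primeCompl _ _ r.1.1.isPrime (by
          rw [Set.disjoint_left]
          intro x hx hxr
          exact hx (r.2 hxr))⟩, Ideal.map_mono r.1.2⟩
    refine Order.krullDim_le_of_strictMono gmap ?_
    intro a b hab
    refine lt_of_le_of_ne (Ideal.map_mono hab.le) ?_
    intro heq
    have h2 : a.1.1.asIdeal.map (algebraMap S (Localization.AtPrime Q)) =
        b.1.1.asIdeal.map (algebraMap S (Localization.AtPrime Q)) :=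
      congrArg (fun z => z.1.asIdeal) heq
    have h3 : a.1.1.asIdeal = b.1.1.asIdeal := by
      rw [← hcm a.1.1.asIdeal a.1.1.isPrime a.2, ← hcm b.1.1.asIdeal b.1.1.isPrime b.2, h2]
    exact hab.ne (Subtype.ext (Subtype.ext (PrimeSpectrum.ext h3)))
  · let fmap : Set.Ici (⟨P.map (algebraMap S (Localization.AtPrime Q)), hpp⟩ :
          PrimeSpectrum (Localization.AtPrime Q)) →
        Set.Iic (⟨⟨Q, hQ⟩, hPQ⟩ : Set.Ici (⟨P, hP⟩ : PrimeSpectrum S)) := fun r =>
      ⟨⟨⟨r.1.asIdeal.comap (algebraMap S (Localization.AtPrime Q)), inferInstance⟩, by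
        show P ≤ r.1.asIdeal.comap (algebraMap S (Localization.AtPrime Q))
        exact Ideal.le_comap_of_map_le r.2⟩, by
        show r.1.asIdeal.comap (algebraMap S (Localization.AtPrime Q)) ≤ Q
        have h4 : r.1.asIdeal ≤ maximalIdeal (Localization.AtPrime Q) :=
          IsLocalRing.le_maximalIdeal r.1.isPrime.ne_top
        have h5 := Ideal.comap_mono (f := algebraMap S (Localization.AtPrime Q)) h4
        have h6 : Ideal.comap (algebraMap S (Localization.AtPrime Q))
            (maximalIdeal (Localization.AtPrime Q)) = Q := Localization.AtPrime.comap_maximalIdeal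
        exact h5.trans (le_of_eq h6)⟩
    refine Order.krullDim_le_of_strictMono fmap ?_
    intro a b hab
    refine lt_of_le_of_ne (Ideal.comap_mono hab.le) ?_
    intro heq
    have h2 : a.1.asIdeal.comap (algebraMap S (Localization.AtPrime Q)) =
        b.1.asIdeal.comap (algebraMap S (Localization.AtPrime Q)) :=
      congrArg (fun z => z.1.1.asIdeal) heq
    have h3 : a.1.asIdeal = b.1.asIdeal :=
      (IsLocalization.map_comap Q.primeCompl (Localization.AtPrime Q) a.1.asIdeal).symm.trans
        ((congrArg (Ideal.map (algebraMap S (Localization.AtPrime Q))) h2).trans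
          (IsLocalization.map_comap Q.primeCompl (Localization.AtPrime Q) b.1.asIdeal))
    exact hab.ne (Subtype.ext (PrimeSpectrum.ext h3))

/-- relative heights along a surjection. -/
theorem relHeight_comap {S A : Type u} [CommRing S] [CommRing A] (g : S →+* A)
    (hg : Function.Surjective g) (p p' : Ideal A) [hp : p.IsPrime] [hp' : p'.IsPrime]
    (hle : p ≤ p') :
    Order.height (⟨⟨p', hp'⟩, hle⟩ : Set.Ici (⟨p, hp⟩ : PrimeSpectrum A)) =
      Order.height (⟨⟨p'.comap g, Ideal.comap_isPrime g p'⟩, Ideal.comap_mono hle⟩ :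
        Set.Ici (⟨p.comap g, Ideal.comap_isPrime g p⟩ : PrimeSpectrum S)) := by
  have key : ((Order.height (⟨⟨p', hp'⟩, hle⟩ : Set.Ici (⟨p, hp⟩ : PrimeSpectrum A)) : ℕ∞) :
      WithBot ℕ∞) = ((Order.height (⟨⟨p'.comap g, Ideal.comap_isPrime g p'⟩,
        Ideal.comap_mono hle⟩ : Set.Ici (⟨p.comap g, Ideal.comap_isPrime g p⟩ :
          PrimeSpectrum S)) : ℕ∞) : WithBot ℕ∞) := by
    rw [Order.height_eq_krullDim_Iic, Order.height_eq_krullDim_Iic]
    have hker : RingHom.ker g ≤ p.comap g := by
      intro x hx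
      rw [Ideal.mem_comap, (RingHom.mem_ker).mp hx]
      exact Ideal.zero_mem _
    apply le_antisymm
    · let fmap : Set.Iic (⟨⟨p', hp'⟩, hle⟩ : Set.Ici (⟨p, hp⟩ : PrimeSpectrum A)) →
          Set.Iic (⟨⟨p'.comap g, Ideal.comap_isPrime g p'⟩, Ideal.comap_mono hle⟩ :
            Set.Ici (⟨p.comap g, Ideal.comap_isPrime g p⟩ : PrimeSpectrum S)) := fun r =>
        ⟨⟨⟨r.1.1.asIdeal.comap g, Ideal.comap_isPrime g _⟩, Ideal.comap_mono r.1.2⟩,
          Ideal.comap_mono r.2⟩
      refine Order.krullDim_le_of_strictMono fmap ?_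
      intro a b hab
      refine lt_of_le_of_ne (Ideal.comap_mono hab.le) ?_
      intro heq
      have h2 : a.1.1.asIdeal.comap g = b.1.1.asIdeal.comap g :=
        congrArg (fun z => z.1.1.asIdeal) heq
      have h3 : a.1.1.asIdeal = b.1.1.asIdeal := Ideal.comap_injective_of_surjective g hg h2
      exact hab.ne (Subtype.ext (Subtype.ext (PrimeSpectrum.ext h3)))
    · let gmap : Set.Iic (⟨⟨p'.comap g, Ideal.comap_isPrime g p'⟩, Ideal.comap_mono hle⟩ :
            Set.Ici (⟨p.comap g, Ideal.comap_isPrime g p⟩ : PrimeSpectrum S)) →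
          Set.Iic (⟨⟨p', hp'⟩, hle⟩ : Set.Ici (⟨p, hp⟩ : PrimeSpectrum A)) := fun r =>
        ⟨⟨⟨r.1.1.asIdeal.map g, Ideal.map_isPrime_of_surjective hg (hker.trans r.1.2)⟩, by
          show p ≤ r.1.1.asIdeal.map g
          have := Ideal.map_mono (f := g) r.1.2
          rwa [Ideal.map_comap_of_surjective g hg] at this⟩, by
          show r.1.1.asIdeal.map g ≤ p'
          have := Ideal.map_mono (f := g) r.2
          rwa [Ideal.map_comap_of_surjective g hg] at this⟩
      refine Order.krullDim_le_of_strictMono gmap ?_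
      intro a b hab
      refine lt_of_le_of_ne (Ideal.map_mono hab.le) ?_
      intro heq
      have h2 : a.1.1.asIdeal.map g = b.1.1.asIdeal.map g :=
        congrArg (fun z => z.1.1.asIdeal) heq
      have h3 : a.1.1.asIdeal = b.1.1.asIdeal := by
        have ha : (a.1.1.asIdeal.map g).comap g = a.1.1.asIdeal := by
          rw [Ideal.comap_map_of_surjective g hg, sup_eq_left]
          exact (Ideal.comap_mono bot_le).trans (hker.trans a.1.2)
        have hb : (b.1.1.asIdeal.map g).comap g = b.1.1.asIdeal := by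
          rw [Ideal.comap_map_of_surjective g hg, sup_eq_left]
          exact (Ideal.comap_mono bot_le).trans (hker.trans b.1.2)
        rw [← ha, ← hb, h2]
      exact hab.ne (Subtype.ext (Subtype.ext (PrimeSpectrum.ext h3)))
  exact_mod_cast key

end Groth.Agent.H8.RCh
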