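import Mathlib
import Groth.Prelude.Def_Wider
import Groth.Prelude.Def_SGA2
import Groth.Agent.Lib.helper8.RChP
import Groth.Agent.Lib.helper8.RChQ
import Groth.Agent.Lib.helper9.Equidim
import Groth.Agent.S0341
import Groth.Agent.S0342

/-!
# Change of rings, part R (helper8): reduction of the shifted vanishing condition to codimension one.
-/

universe u

set_option linter.unusedSectionVars false

namespace Groth.Agent.H8.RCh

open CategoryTheory Abelian Opposite LocCoh InjHull IsLocalRing Groth.Agent.H21.LC TensorProduct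
open Groth.Agent.H8.NonVan Groth.Agent.H8.LDual Groth.Agent.H8.Matlis Groth.Agent.H8.CdDim

section Poset

variable {α : Type*} [PartialOrder α]

theorem one_le_height_Ici {a b : α} (h : a < b) :
    1 ≤ Order.height (⟨b, h.le⟩ : Set.Ici a) := by
  have hlt : (⟨a, le_rfl⟩ : Set.Ici a) < ⟨b, h.le⟩ := h
  have := Order.height_add_one_le hlt
  exact le_trans (by simp) this

theorem height_Ici_eq_one_of_covBy {a b : α} (h : a ⋖ b) :
    Order.height (⟨b, h.le⟩ : Set.Ici a) = 1 := by
  apply le_antisymm
  · have : Order.height (⟨b, h.le⟩ : Set.Ici a) ≤ ((1 : ℕ) : ℕ∞) := by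
      rw [Order.height_le_coe_iff]
      intro y hy
      have hya : y.1 = a := by
        by_contra hne
        exact h.2 (lt_of_le_of_ne y.2 (fun e => hne e.symm)) hy
      have hmin : IsMin y := by
        intro z _
        show y.1 ≤ z.1
        rw [hya]
        exact z.2
      rw [Order.height_eq_zero.mpr hmin]
      exact_mod_cast Nat.zero_lt_one
    exact_mod_cast this
  · exact one_le_height_Ici h.lt

theorem covBy_of_covBy_Ici {a : α} {y x : Set.Ici a} (h : y ⋖ x) : y.1 ⋖ x.1 := by
  refine ⟨h.lt, fun z hyz hzx => ?_⟩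
  exact h.2 (show y < (⟨z, le_trans y.2 hyz.le⟩ : Set.Ici a) from hyz) hzx

end Poset

set_option maxHeartbeats 1000000 in
theorem shifted_vanishing_iff_codim_one (S : Type u) [CommRing S] [IsRegularRing S] (A : Type u)
    [CommRing A] [IsNoetherianRing A] (π : S →+* A) (hπ : Function.Surjective π) (I : Ideal A)
    (M : Type u) [AddCommGroup M] [Module A M] [Module.Finite A M] (i : ℕ) :
    (∀ p : PrimeSpectrum A, ¬ I ≤ p.asIdeal → ∀ (c j : ℕ), SGA2.relCodim I p = c → j + c = i →
      Subsingleton (H (maximalIdeal (Localization.AtPrime p.asIdeal)) j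
        (LocalizedModule p.asIdeal.primeCompl M))) ↔
    (∀ p : PrimeSpectrum A, ¬ I ≤ p.asIdeal → SGA2.relCodim I p = 1 → ∀ j : ℕ, j + 1 = i →
      Subsingleton (H (maximalIdeal (Localization.AtPrime p.asIdeal)) j
        (LocalizedModule p.asIdeal.primeCompl M))) := by
  constructor
  · intro h p hp hc j hj
    exact h p hp 1 j (by rw [hc]; rfl) hj
  intro h p hp c j hc hj
  letI : Algebra S A := π.toAlgebra
  have hg' : Function.Surjective (algebraMap S A) := hπ
  haveI : Module.Finite S A := Module.Finite.of_surjective (Algebra.linearMap S A) hg'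
  letI : Module S M := Module.compHom M (algebraMap S A)
  haveI : IsScalarTower S A M := ⟨fun s r m => by
    change (s • r) • m = algebraMap S A s • (r • m)
    rw [Algebra.smul_def, mul_smul]⟩
  haveI : Module.Finite S M := Module.Finite.trans A M
  -- the prime `q` computing the relative codimension
  haveI hne : Nonempty {q : PrimeSpectrum A // p ≤ q ∧ I ≤ q.asIdeal} := by
    by_contra hne
    rw [not_nonempty_iff] at hne
    unfold SGA2.relCodim at hc
    rw [iInf_of_empty] at hc
    exact ENat.top_ne_coe c hc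
  obtain ⟨⟨q, hpq, hIq⟩, hq⟩ := ENat.exists_eq_iInf
    (fun q : {q : PrimeSpectrum A // p ≤ q ∧ I ≤ q.asIdeal} =>
      Order.height (⟨q.1, q.2.1⟩ : Set.Ici p))
  have hq' : Order.height (⟨q, hpq⟩ : Set.Ici p) = (c : ℕ∞) := hq.trans hc
  have hpq_lt : p < q := lt_of_le_of_ne hpq (fun e => hp (e ▸ hIq))
  have hc1 : 1 ≤ c := by
    have h1 := one_le_height_Ici hpq_lt
    rw [hq'] at h1
    exact_mod_cast h1
  obtain ⟨c', rfl⟩ : ∃ c', c = c' + 1 := ⟨c - 1, by omega⟩
  obtain ⟨y, hyx, hyh⟩ := Groth.Agent.Lib.helper9.Equidim.exists_covBy_of_height_eq_succ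
    (x := (⟨q, hpq⟩ : Set.Ici p)) (h := c') hq'
  have hcov : y.1 ⋖ q := covBy_of_covBy_Ici hyx
  -- `y` does not contain `I`
  have hIy : ¬ I ≤ y.1.asIdeal := by
    intro hI
    have h1 : SGA2.relCodim I p ≤ Order.height (⟨y.1, y.2⟩ : Set.Ici p) :=
      iInf_le (fun q : {q : PrimeSpectrum A // p ≤ q ∧ I ≤ q.asIdeal} =>
        Order.height (⟨q.1, q.2.1⟩ : Set.Ici p)) ⟨y.1, y.2, hI⟩
    rw [hc] at h1
    have h2 : Order.height (⟨y.1, y.2⟩ : Set.Ici p) = (c' : ℕ∞) := hyh
    rw [h2] at h1
    have : c' + 1 ≤ c' := by exact_mod_cast h1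
    omega
  -- the relative codimension at `y` is one
  have hrel : SGA2.relCodim I y.1 = 1 := by
    apply le_antisymm
    · have h1 : SGA2.relCodim I y.1 ≤ Order.height (⟨q, hcov.le⟩ : Set.Ici y.1) :=
        iInf_le (fun q : {q : PrimeSpectrum A // y.1 ≤ q ∧ I ≤ q.asIdeal} =>
          Order.height (⟨q.1, q.2.1⟩ : Set.Ici y.1)) ⟨q, hcov.le, hIq⟩
      rwa [height_Ici_eq_one_of_covBy hcov] at h1
    · unfold SGA2.relCodim
      refine le_iInf fun q' => ?_
      exact one_le_height_Ici (lt_of_le_of_ne q'.2.1 (fun e => hIy (e ▸ q'.2.2)))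
  obtain ⟨i', rfl⟩ : ∃ i', i = i' + 1 := ⟨i - 1, by omega⟩
  have hvan := h y.1 hIy hrel i' rfl
  -- heights in `S`
  haveI hPprime : (p.asIdeal.comap (algebraMap S A)).IsPrime := Ideal.comap_isPrime _ _
  haveI hP'prime : (y.1.asIdeal.comap (algebraMap S A)).IsPrime := Ideal.comap_isPrime _ _
  haveI : IsRegularLocalRing (Localization.AtPrime (p.asIdeal.comap (algebraMap S A))) :=
    IsRegularRing.isRegularLocalRing_localization _
  haveI : IsRegularLocalRing (Localization.AtPrime (y.1.asIdeal.comap (algebraMap S A))) :=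
    IsRegularRing.isRegularLocalRing_localization _
  haveI : LocCoh.IsGorensteinLocalRing
      (Localization.AtPrime (p.asIdeal.comap (algebraMap S A))) := Groth.Agent.S0342.result _
  haveI : LocCoh.IsGorensteinLocalRing
      (Localization.AtPrime (y.1.asIdeal.comap (algebraMap S A))) := Groth.Agent.S0342.result _
  haveI : LocCoh.IsCohenMacaulayLocalRing
      (Localization.AtPrime (y.1.asIdeal.comap (algebraMap S A))) := Groth.Agent.S0341.result _
  obtain ⟨N, hN⟩ : ∃ N : ℕ, (p.asIdeal.comap (algebraMap S A)).height = N :=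
    ⟨_, (ENat.coe_toNat (Ideal.height_ne_top (Ideal.IsPrime.ne_top hPprime))).symm⟩
  obtain ⟨N'', hN''⟩ : ∃ N'' : ℕ, (y.1.asIdeal.comap (algebraMap S A)).height = N'' :=
    ⟨_, (ENat.coe_toNat (Ideal.height_ne_top (Ideal.IsPrime.ne_top hP'prime))).symm⟩
  have hNN : c' + N = N'' := by
    have h1 := relHeight_add_height (p.asIdeal.comap (algebraMap S A))
      (y.1.asIdeal.comap (algebraMap S A)) (Ideal.comap_mono y.2) N'' hN''
    have h2 := relHeight_comap (algebraMap S A) hg' p.asIdeal y.1.asIdeal y.2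
    have h3 : Order.height (⟨⟨y.1.asIdeal, y.1.isPrime⟩, y.2⟩ :
        Set.Ici (⟨p.asIdeal, p.isPrime⟩ : PrimeSpectrum A)) = (c' : ℕ∞) := hyh
    rw [← h2, h3, hN] at h1
    exact_mod_cast h1
  by_cases hjN : j ≤ N
  · haveI : Module.Finite S (((Ext S (ModuleCat.{u} S) (N - j)).obj
        (op (ModuleCat.of S M))).obj (ModuleCat.of S S)) := finite_ext_old M S (N - j)
    have e1 := subsingleton_localized_ext_iff' A S hg' M y.1.asIdeal N'' hN'' (N - j) (by omega)
    have e2 := subsingleton_localized_ext_iff' A S hg' M p.asIdeal N hN (N - j) (by omega)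
    have hidx1 : N'' - (N - j) = i' := by omega
    have hidx2 : N - (N - j) = j := by omega
    rw [hidx1] at e1
    rw [hidx2] at e2
    rw [← e2]
    have hT' := e1.mpr hvan
    by_contra hnt
    rw [not_subsingleton_iff_nontrivial] at hnt
    have hP : (⟨p.asIdeal.comap (algebraMap S A), hPprime⟩ : PrimeSpectrum S) ∈
        Module.support S (((Ext S (ModuleCat.{u} S) (N - j)).obj
          (op (ModuleCat.of S M))).obj (ModuleCat.of S S)) :=
      Module.mem_support_iff.mpr hnt
    have hP' : (⟨y.1.asIdeal.comap (algebraMap S A), hP'prime⟩ : PrimeSpectrum S) ∈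
        Module.support S (((Ext S (ModuleCat.{u} S) (N - j)).obj
          (op (ModuleCat.of S M))).obj (ModuleCat.of S S)) :=
      Module.mem_support_mono (show (⟨p.asIdeal.comap (algebraMap S A), hPprime⟩ :
        PrimeSpectrum S) ≤ ⟨y.1.asIdeal.comap (algebraMap S A), hP'prime⟩ from
          Ideal.comap_mono y.2) hP
    haveI := Module.mem_support_iff.mp hP'
    exact not_subsingleton _ hT'
  · push Not at hjN
    apply subsingleton_H_of_supportDim_lt
    refine lt_of_le_of_lt (Module.supportDim_le_ringKrullDim _ _) ?_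
    have hφ : Function.Surjective (Localization.localRingHom
        (p.asIdeal.comap (algebraMap S A)) p.asIdeal (algebraMap S A) rfl) :=
      RingHom.surjective_localRingHom_of_surjective _ hg' p.asIdeal
    have h1 := ringKrullDim_le_of_surjective _ hφ
    rw [IsLocalization.AtPrime.ringKrullDim_eq_height (p.asIdeal.comap (algebraMap S A))
      (Localization.AtPrime (p.asIdeal.comap (algebraMap S A))), hN] at h1
    refine lt_of_le_of_lt h1 ?_
    exact_mod_cast hjN

end Groth.Agent.H8.RCh
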