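import Mathlib
import Groth.Prelude.Def_W4sga3xxiRoot

/-! Helper library (helper8): root pairings. -/

set_option autoImplicit false

namespace Groth.Agent.H8.RootD

open RootPairing

variable {ι R M N : Type*} [CommRing R] [AddCommGroup M] [Module R M] [AddCommGroup N] [Module R N]
  (P : RootPairing ι R M N)

theorem aut_pairing (u : P.Aut) (y : M) (n : N) :
    P.toLinearMap (u • y) n = P.toLinearMap y (u.toHom.coweightMap n) := by
  have := Hom.weight_coweight_transpose_apply P P n u.toHom
  have h2 := LinearMap.congr_fun this y
  have h3 : u • y = u.toHom.weightMap y := rfl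
  rw [h3]
  simpa using h2

theorem aut_smul_root (u : P.Aut) (i : ι) : u • P.root i = P.root (u • i) :=
  (Equiv.root_indexEquiv_eq_smul (P := P) i u).symm

theorem aut_coroot' (u : P.Aut) (i : ι) (y : M) : P.coroot' (u • i) (u • y) = P.coroot' i y := by
  show P.toLinearMap (u • y) (P.coroot (u • i)) = P.toLinearMap y (P.coroot i)
  rw [aut_pairing]
  congr 1
  have := Hom.coroot_coweightMap_apply P P (u • i) u.toHom
  rw [this]
  congr 1
  exact u.toHom.indexEquiv.symm_apply_apply i

theorem aut_pairing_smul (u : P.Aut) (i j : ι) : P.pairing (u • i) (u • j) = P.pairing i j := by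
  have := aut_coroot' P u j (P.root i)
  rw [aut_smul_root] at this
  exact this

theorem aut_smul_reflection (u : P.Aut) (i : ι) (y : M) :
    u • (P.reflection i y) = P.reflection (u • i) (u • y) := by
  rw [P.reflection_apply, P.reflection_apply, smul_sub, smul_comm, aut_smul_root, aut_coroot']

theorem aut_conj_reflection (u : P.Aut) (i : ι) :
    u * Equiv.reflection P i * u⁻¹ = Equiv.reflection P (u • i) := by
  apply Equiv.weightHom_injective P
  ext x
  have hx : x = u • (u⁻¹ • x) := by rw [smul_smul, mul_inv_cancel, one_smul]
  show u • (Equiv.reflection P i • (u⁻¹ • x)) = Equiv.reflection P (u • i) • x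
  rw [Equiv.reflection_smul, Equiv.reflection_smul, aut_smul_reflection]
  rw [← hx]

theorem reflection_smul_idx (i j : ι) : Equiv.reflection P i • j = P.reflectionPerm i j := rfl

end Groth.Agent.H8.RootD
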