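import Mathlib
import Groth.Agent.Lib.helper8.RootD

/-! RootAdj1 (helper8): the adjoint root datum over `ℤ` of a crystallographic root pairing:
the root lattice, its `ℤ`-dual, the roots and the coroots seen as functionals. -/

set_option autoImplicit false
set_option linter.unusedSectionVars false

namespace Groth.Agent.H8.RootAdj

open RootPairing Module

variable {ι R M N : Type*} [CommRing R] [IsDomain R] [CharZero R] [AddCommGroup M] [Module R M]
  [AddCommGroup N] [Module R N] (P : RootPairing ι R M N) [Finite ι] [P.IsCrystallographic]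

include P in
theorem torsionFreeInt : Module.IsTorsionFree ℤ M := by
  have : Module.IsReflexive R M := .of_isPerfPair P.toLinearMap
  exact .trans_faithfulSMul ℤ R M

/-- coroots are distinguished by their values on the roots -/
theorem coroot_eq_of_pairing_eq {i j : ι} (h : ∀ k, P.pairing k i = P.pairing k j) : i = j := by
  have : Module.IsReflexive R M := .of_isPerfPair P.toLinearMap
  have : IsAddTorsionFree M := .of_isTorsionFree R M
  apply P.coroot.injective
  apply P.injOn_dualMap_subtype_span_root_coroot (Set.mem_range_self i) (Set.mem_range_self j)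
  apply LinearMap.ext
  rintro ⟨x, hx⟩
  simp only [LinearMap.coe_comp, Function.comp_apply, LinearMap.dualMap_apply,
    Submodule.subtype_apply, LinearMap.flip_apply]
  induction hx using Submodule.span_induction with
  | mem x hx =>
    obtain ⟨k, rfl⟩ := hx
    exact h k
  | zero => simp
  | add u v _ _ hu hv => rw [map_add, LinearMap.add_apply, LinearMap.add_apply, hu, hv]
  | smul a u _ hu => rw [map_smul, LinearMap.smul_apply, LinearMap.smul_apply, hu]

theorem coroot'In_injective : Function.Injective (P.coroot'In ℤ) := by
  intro i j hij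
  apply coroot_eq_of_pairing_eq P
  intro k
  have h1 := congrArg (fun f => algebraMap ℤ R (f (P.rootSpanMem ℤ k))) hij
  simp only [coroot'In_rootSpanMem_eq_pairingIn, algebraMap_pairingIn] at h1
  exact h1

theorem rootSpanMem_injective : Function.Injective (P.rootSpanMem ℤ) := by
  intro i j hij
  apply P.root.injective
  exact congrArg Subtype.val hij

/-- the adjoint root datum over `ℤ` -/
noncomputable def adjZ :
    RootPairing ι ℤ (P.rootSpan ℤ) (Module.Dual ℤ (P.rootSpan ℤ)) :=
  haveI := torsionFreeInt P
  { toLinearMap := Module.Dual.eval ℤ (P.rootSpan ℤ)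
    isPerfPair_toLinearMap := inferInstance
    root := ⟨P.rootSpanMem ℤ, rootSpanMem_injective P⟩
    coroot := ⟨P.coroot'In ℤ, coroot'In_injective P⟩
    root_coroot_two := by
      intro i
      show P.coroot'In ℤ i (P.rootSpanMem ℤ i) = 2
      rw [coroot'In_rootSpanMem_eq_pairingIn]
      exact P.pairingIn_same ℤ i
    reflectionPerm := P.reflectionPerm
    reflectionPerm_root := by
      intro i j
      show P.rootSpanMem ℤ j - (P.coroot'In ℤ i (P.rootSpanMem ℤ j)) • P.rootSpanMem ℤ i =
        P.rootSpanMem ℤ (P.reflectionPerm i j)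
      apply Subtype.ext
      rw [coroot'In_rootSpanMem_eq_pairingIn]
      show P.root j - P.pairingIn ℤ j i • P.root i = P.root (P.reflectionPerm i j)
      rw [P.root_reflectionPerm, P.reflection_apply_root' ℤ]
    reflectionPerm_coroot := by
      intro i j
      show P.coroot'In ℤ j - (P.coroot'In ℤ j (P.rootSpanMem ℤ i)) • P.coroot'In ℤ i =
        P.coroot'In ℤ (P.reflectionPerm i j)
      apply LinearMap.ext
      intro x
      apply FaithfulSMul.algebraMap_injective ℤ R
      rw [LinearMap.sub_apply, LinearMap.smul_apply, coroot'In_rootSpanMem_eq_pairingIn, map_sub,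
        smul_eq_mul, map_mul, algebraMap_coroot'In_apply, algebraMap_coroot'In_apply,
        algebraMap_coroot'In_apply, algebraMap_pairingIn]
      have h := P.reflectionPerm_coroot i j
      have h2 := congrArg (P.toLinearMap (x : M)) h
      rw [map_sub, map_smul, smul_eq_mul] at h2
      exact h2 }

@[simp] theorem adjZ_root (i : ι) : (adjZ P).root i = P.rootSpanMem ℤ i := rfl

@[simp] theorem adjZ_coroot (i : ι) : (adjZ P).coroot i = P.coroot'In ℤ i := rfl

@[simp] theorem adjZ_reflectionPerm (i : ι) : (adjZ P).reflectionPerm i = P.reflectionPerm i := rfl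

theorem adjZ_toLinearMap_apply (x : P.rootSpan ℤ) (f : Module.Dual ℤ (P.rootSpan ℤ)) :
    (adjZ P).toLinearMap x f = f x := rfl

theorem adjZ_pairing (i j : ι) : (adjZ P).pairing i j = P.pairingIn ℤ i j := rfl

theorem adjZ_root_coe (i : ι) : (((adjZ P).root i : P.rootSpan ℤ) : M) = P.root i := rfl

theorem adjZ_span_root : Submodule.span ℤ (Set.range (adjZ P).root) = ⊤ := by
  rw [eq_top_iff]
  rintro ⟨x, hx⟩ -
  induction hx using Submodule.span_induction with
  | mem x hx =>
    obtain ⟨i, rfl⟩ := hx
    exact Submodule.subset_span ⟨i, rfl⟩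
  | zero => exact Submodule.zero_mem _
  | add u v hu hv hu' hv' =>
    have : (⟨u + v, Submodule.add_mem _ hu hv⟩ : P.rootSpan ℤ) = ⟨u, hu⟩ + ⟨v, hv⟩ := rfl
    rw [this]
    exact Submodule.add_mem _ hu' hv'
  | smul a u hu hu' =>
    have : (⟨a • u, Submodule.smul_mem _ a hu⟩ : P.rootSpan ℤ) = a • ⟨u, hu⟩ := rfl
    rw [this]
    exact Submodule.smul_mem _ a hu'

instance adjZ_isReduced [P.IsReduced] : (adjZ P).IsReduced := by
  have hM := torsionFreeInt P
  constructor
  intro i j hli
  -- linear dependence over ℤ in the root lattice gives linear dependence over R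
  have key : ¬ LinearIndependent R ![P.root i, P.root j] := by
    intro hR
    apply hli
    have hZ : LinearIndependent ℤ ![P.root i, P.root j] := hR.restrict_scalars' ℤ
    have : ![P.root i, P.root j] = (P.rootSpan ℤ).subtype ∘ ![(adjZ P).root i, (adjZ P).root j] := by
      ext k
      fin_cases k <;> rfl
    rw [this] at hZ
    exact LinearIndependent.of_comp _ hZ
  rcases IsReduced.eq_or_eq_neg (P := P) i j key with h | h
  · left
    apply Subtype.ext
    exact h
  · right
    apply Subtype.ext
    exact h

end Groth.Agent.H8.RootAdj
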