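import Mathlib
import Groth.Prelude.Def_W4sga3xxiRoot
import Groth.Agent.Lib.helper8.RootD

/-! Helper library (helper8): root pairings, part 2 (closed / symmetric sets, positive systems). -/

set_option autoImplicit false

namespace Groth.Agent.H8.RootD

open RootPairing

variable {ι R M N : Type*} [CommRing R] [AddCommGroup M] [Module R M] [AddCommGroup N] [Module R N]
  (P : RootPairing ι R M N)

theorem root_neg (i : ι) : P.root (P.reflectionPerm i i) = -P.root i := by
  rw [P.root_reflectionPerm, P.reflection_apply_self]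

theorem neg_neg_idx (i : ι) :
    P.reflectionPerm (P.reflectionPerm i i) (P.reflectionPerm i i) = i := by
  apply P.root.injective
  rw [root_neg, root_neg, neg_neg]

theorem coroot_neg (i : ι) : P.coroot (P.reflectionPerm i i) = -P.coroot i := by
  rw [P.coroot_reflectionPerm, P.coreflection_apply_self]


section ClosedSymm

open _root_.RootD

theorem same_side_of_add {S : Set ι} (hc : IsClosedSub P S) (hs : IsSymmSub P S)
    (hc' : IsClosedSub P Sᶜ) (hs' : IsSymmSub P Sᶜ) {i j k : ι}
    (h : P.root k = P.root i + P.root j) :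
    (i ∈ S ∧ j ∈ S ∧ k ∈ S) ∨ (i ∉ S ∧ j ∉ S ∧ k ∉ S) := by
  by_cases hi : i ∈ S <;> by_cases hj : j ∈ S
  · exact Or.inl ⟨hi, hj, hc hi hj h⟩
  · exfalso
    by_cases hk : k ∈ S
    · have : P.root j = P.root k + P.root (P.reflectionPerm i i) := by
        rw [root_neg, h]; abel
      exact hj (hc hk (hs hi) this)
    · have : P.root i = P.root k + P.root (P.reflectionPerm j j) := by
        rw [root_neg, h]; abel
      exact (hc' hk (hs' hj) this) hi
  · exfalso
    by_cases hk : k ∈ S
    · have : P.root i = P.root k + P.root (P.reflectionPerm j j) := by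
        rw [root_neg, h]; abel
      exact hi (hc hk (hs hj) this)
    · have : P.root j = P.root k + P.root (P.reflectionPerm i i) := by
        rw [root_neg, h]; abel
      exact (hc' hk (hs' hi) this) hj
  · exact Or.inr ⟨hi, hj, hc' hi hj h⟩

end ClosedSymm

section Int

open _root_.RootD

variable {ι M N : Type*} [AddCommGroup M] [AddCommGroup N] (P : RootPairing ι ℤ M N) [Finite ι]

theorem pairingIn_int (i j : ι) : P.pairingIn ℤ i j = P.pairing i j := by
  have := P.algebraMap_pairingIn ℤ i j
  simpa using this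

theorem sub_mem_of_pos {i j : ι} (h : 0 < P.pairing i j) (hne : i ≠ j) :
    ∃ k, P.root k = P.root i - P.root j := by
  have := P.root_sub_root_mem_of_pairingIn_pos (i := i) (j := j) (by rwa [pairingIn_int]) hne
  exact this

theorem add_mem_of_neg {i j : ι} (h : P.pairing i j < 0) (hne : P.root i ≠ -P.root j) :
    ∃ k, P.root k = P.root i + P.root j := by
  have := P.root_add_root_mem_of_pairingIn_neg (i := i) (j := j) (by rwa [pairingIn_int]) hne
  exact this

theorem pairing_ne_zero_of_not_orth {i j : ι} (h : ¬ P.IsOrthogonal i j) : P.pairing i j ≠ 0 := by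
  intro h0
  exact h ⟨h0, (P.pairing_eq_zero_iff' (i := i) (j := j)).mp h0⟩

/-- S5505 core. -/
theorem mem_of_not_orth {S : Set ι} (hc : IsClosedSub P S) (hs : IsSymmSub P S)
    (hc' : IsClosedSub P Sᶜ) (hs' : IsSymmSub P Sᶜ) {i j : ι} (hi : i ∈ S)
    (hij : ¬ P.IsOrthogonal i j) : j ∈ S := by
  have h0 := pairing_ne_zero_of_not_orth P hij
  by_cases hij1 : i = j
  · exact hij1 ▸ hi
  by_cases hij2 : P.root i = -P.root j
  · have : j = P.reflectionPerm i i := by
      apply P.root.injective
      rw [root_neg, hij2, neg_neg]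
    exact this ▸ hs hi
  rcases lt_or_gt_of_ne h0 with hneg | hpos
  · obtain ⟨k, hk⟩ := add_mem_of_neg P hneg hij2
    rcases same_side_of_add P hc hs hc' hs' hk with h | h
    · exact h.2.1
    · exact absurd hi h.1
  · obtain ⟨k, hk⟩ := sub_mem_of_pos P hpos hij1
    have hk' : P.root i = P.root k + P.root j := by rw [hk]; abel
    rcases same_side_of_add P hc hs hc' hs' hk' with h | h
    · exact h.2.1
    · exact absurd hi h.2.2

end Int


section Comp

open _root_.RootD

variable {ι M N : Type*} [AddCommGroup M] [AddCommGroup N] (P : RootPairing ι ℤ M N)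

theorem pairing_add_left {a b k j : ι} (h : P.root k = P.root a + P.root b) :
    P.pairing k j = P.pairing a j + P.pairing b j := by
  show P.toLinearMap (P.root k) (P.coroot j) = P.toLinearMap (P.root a) (P.coroot j) +
    P.toLinearMap (P.root b) (P.coroot j)
  rw [h, map_add, LinearMap.add_apply]

theorem not_orth_of_add {a b k : ι} (h : P.root k = P.root a + P.root b) :
    ¬ P.IsOrthogonal k a ∨ ¬ P.IsOrthogonal k b := by
  by_contra hcon
  push Not at hcon
  have h1 := pairing_add_left P (j := k) h
  rw [P.pairing_same, hcon.1.2, hcon.2.2] at h1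
  norm_num at h1

theorem not_orth_neg (a : ι) : ¬ P.IsOrthogonal a (P.reflectionPerm a a) := by
  intro h
  have h1 : P.pairing a (P.reflectionPerm a a) = -2 := by
    show P.toLinearMap (P.root a) (P.coroot (P.reflectionPerm a a)) = -2
    rw [coroot_neg, map_neg]
    have := P.pairing_same a
    show -(P.pairing a a) = -2
    rw [this]
  rw [h.1] at h1
  norm_num at h1

theorem comp_props (i : ι) :
    IsClosedSub P {j : ι | Relation.ReflTransGen (fun a b : ι => ¬ P.IsOrthogonal a b) i j} ∧
    IsSymmSub P {j : ι | Relation.ReflTransGen (fun a b : ι => ¬ P.IsOrthogonal a b) i j} ∧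
    IsClosedSub P {j : ι | Relation.ReflTransGen (fun a b : ι => ¬ P.IsOrthogonal a b) i j}ᶜ ∧
    IsSymmSub P {j : ι | Relation.ReflTransGen (fun a b : ι => ¬ P.IsOrthogonal a b) i j}ᶜ := by
  refine ⟨?_, ?_, ?_, ?_⟩
  · intro a b k ha hb hk
    rcases not_orth_of_add P hk with h | h
    · exact Relation.ReflTransGen.tail ha (fun h' => h ((P.isOrthogonal_symm _ _).mp h'))
    · exact Relation.ReflTransGen.tail hb (fun h' => h ((P.isOrthogonal_symm _ _).mp h'))
  · intro a ha
    exact Relation.ReflTransGen.tail ha (not_orth_neg P a)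
  · intro a b k ha hb hk hkC
    rcases not_orth_of_add P hk with h | h
    · exact ha (Relation.ReflTransGen.tail hkC h)
    · exact hb (Relation.ReflTransGen.tail hkC h)
  · intro a ha hna
    exact ha (Relation.ReflTransGen.tail hna
      (fun h' => not_orth_neg P a ((P.isOrthogonal_symm _ _).mp h')))

theorem pairing_natSpan_zero {Δ : Set ι} {j : ι} (h : ∀ δ ∈ Δ, P.IsOrthogonal δ j) :
    ∀ x ∈ natSpan P Δ, P.toLinearMap x (P.coroot j) = 0 := by
  intro x hx
  induction hx using AddSubmonoid.closure_induction with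
  | mem x hx =>
    obtain ⟨δ, hδ, rfl⟩ := hx
    exact (h δ hδ).1
  | zero => simp
  | add x y _ _ hx hy => rw [map_add, LinearMap.add_apply, hx, hy, add_zero]

theorem exists_not_orth_simple {Δ : Set ι} (hΔ : IsSimpleSys P Δ) (j : ι) :
    ∃ δ ∈ Δ, ¬ P.IsOrthogonal δ j := by
  by_contra hcon
  push Not at hcon
  have h0 := pairing_natSpan_zero P hcon
  have h2 : P.toLinearMap (P.root j) (P.coroot j) = 2 := P.pairing_same j
  rcases hΔ.mem_or_neg_mem j with h | h
  · rw [h0 _ h] at h2
    norm_num at h2
  · have := h0 _ h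
    rw [map_neg, LinearMap.neg_apply, h2] at this
    norm_num at this

theorem chain_of_connected {Δ : Set ι} (hΔ : IsSimpleSys P Δ)
    (hconn : ∀ Δ' : Set ι, Δ' ⊆ Δ → (∀ i ∈ Δ', ∀ j ∈ Δ \ Δ', P.IsOrthogonal i j) →
      Δ' = ∅ ∨ Δ' = Δ) (i j : ι) :
    Relation.ReflTransGen (fun a b : ι => ¬ P.IsOrthogonal a b) i j := by
  set C : Set ι := {j : ι | Relation.ReflTransGen (fun a b : ι => ¬ P.IsOrthogonal a b) i j}
    with hC
  have h1 : ∀ a ∈ Δ ∩ C, ∀ b ∈ Δ \ (Δ ∩ C), P.IsOrthogonal a b := by
    intro a ha b hb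
    by_contra hab
    exact hb.2 ⟨hb.1, Relation.ReflTransGen.tail ha.2 hab⟩
  have hsub : Δ ⊆ C := by
    rcases hconn (Δ ∩ C) Set.inter_subset_left h1 with h | h
    · exfalso
      obtain ⟨δ, hδ, hδi⟩ := exists_not_orth_simple P hΔ i
      have : δ ∈ Δ ∩ C := ⟨hδ, Relation.ReflTransGen.single
        (fun h' => hδi ((P.isOrthogonal_symm _ _).mp h'))⟩
      rw [h] at this
      exact this
    · intro d hd
      have : d ∈ Δ ∩ C := by rw [h]; exact hd
      exact this.2
  obtain ⟨δ, hδ, hδj⟩ := exists_not_orth_simple P hΔ j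
  exact Relation.ReflTransGen.tail (hsub hδ) hδj

end Comp


section Int2

open _root_.RootD

variable {ι M N : Type*} [AddCommGroup M] [AddCommGroup N] (P : RootPairing ι ℤ M N) [Finite ι]

theorem pairing_pos_symm {i j : ι} : 0 < P.pairing i j ↔ 0 < P.pairing j i := by
  rw [← pairingIn_int, ← pairingIn_int]
  exact P.zero_lt_pairingIn_iff' ℤ

end Int2


section Int3

open _root_.RootD

variable {ι M N : Type*} [AddCommGroup M] [AddCommGroup N] (P : RootPairing ι ℤ M N)

theorem exists_multiset_of_mem_natSpan {S : Set ι} {x : M} (hx : x ∈ natSpan P S) :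
    ∃ t : Multiset ι, (∀ a ∈ t, a ∈ S) ∧ (t.map P.root).sum = x := by
  induction hx using AddSubmonoid.closure_induction with
  | mem x hx =>
    obtain ⟨i, hi, rfl⟩ := hx
    exact ⟨{i}, by simpa using hi, by simp⟩
  | zero => exact ⟨0, by simp, by simp⟩
  | add x y _ _ hx hy =>
    obtain ⟨t1, h1, e1⟩ := hx
    obtain ⟨t2, h2, e2⟩ := hy
    refine ⟨t1 + t2, ?_, by simp [e1, e2]⟩
    intro a ha
    rcases Multiset.mem_add.mp ha with h | h
    exacts [h1 a h, h2 a h]

theorem multiset_sum_mem_natSpan {S : Set ι} (t : Multiset ι) (h : ∀ a ∈ t, a ∈ S) :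
    (t.map P.root).sum ∈ natSpan P S := by
  refine AddSubmonoid.multiset_sum_mem _ _ ?_
  intro x hx
  obtain ⟨a, ha, rfl⟩ := Multiset.mem_map.mp hx
  exact AddSubmonoid.subset_closure ⟨a, h a ha, rfl⟩

theorem pairing_multiset_sum (t : Multiset ι) (k : ι) :
    P.toLinearMap (t.map P.root).sum (P.coroot k) = (t.map (fun a => P.pairing a k)).sum := by
  induction t using Multiset.induction_on with
  | empty => simp
  | cons a t ih =>
    simp only [Multiset.map_cons, Multiset.sum_cons, map_add, LinearMap.add_apply, ih]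
    rfl

theorem exists_pos_pairing_of_smul_eq_sum {k : ι} {c : ℕ} (hc : 0 < c) (t : Multiset ι)
    (h : c • P.root k = (t.map P.root).sum) : ∃ a ∈ t, 0 < P.pairing a k := by
  by_contra hcon
  push Not at hcon
  have h2 : (c : ℤ) * 2 = (t.map (fun a => P.pairing a k)).sum := by
    rw [← pairing_multiset_sum, ← h, map_nsmul, LinearMap.smul_apply]
    have e2 : P.toLinearMap (P.root k) (P.coroot k) = 2 := P.pairing_same k
    rw [e2, nsmul_eq_mul]
  have h3 : (t.map (fun a => P.pairing a k)).sum ≤ 0 := by
    have := Multiset.sum_le_card_nsmul (t.map (fun a => P.pairing a k)) 0 (by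
      intro x hx
      obtain ⟨a, ha, rfl⟩ := Multiset.mem_map.mp hx
      exact hcon a ha)
    simpa using this
  have : (0 : ℤ) < (c : ℤ) * 2 := by positivity
  omega

theorem pairing_neg_right (a b : ι) :
    P.pairing a (P.reflectionPerm b b) = - P.pairing a b := by
  show P.toLinearMap (P.root a) (P.coroot (P.reflectionPerm b b)) = _
  rw [coroot_neg, map_neg]
  rfl

variable [Finite ι]

theorem mem_of_closed_of_sum {S : Set ι} (hc : IsClosedSub P S) :
    ∀ (n : ℕ) (t : Multiset ι), t.card = n → (∀ a ∈ t, a ∈ S) →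
      ∀ k, P.root k = (t.map P.root).sum → k ∈ S := by
  classical
  intro n
  induction n with
  | zero =>
    intro t ht _ k hk
    rw [Multiset.card_eq_zero.mp ht] at hk
    simp at hk
    exact absurd hk (P.ne_zero k)
  | succ n ih =>
    intro t ht hS k hk
    by_cases hkt : k ∈ t
    · exact hS k hkt
    obtain ⟨a, hat, hpos⟩ := exists_pos_pairing_of_smul_eq_sum P (c := 1) one_pos t
      (by rw [one_smul]; exact hk)
    have hak : k ≠ a := fun h => hkt (h ▸ hat)
    obtain ⟨k', hk'⟩ := sub_mem_of_pos P ((pairing_pos_symm P).mp hpos) hak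
    have ht' : t = a ::ₘ t.erase a := (Multiset.cons_erase hat).symm
    have hsum : P.root k' = ((t.erase a).map P.root).sum := by
      rw [hk', hk]
      conv_lhs => rw [ht']
      simp
    have hcard : (t.erase a).card = n := by
      rw [Multiset.card_erase_of_mem hat, ht]; rfl
    have hk'S : k' ∈ S := ih (t.erase a) hcard
      (fun b hb => hS b (Multiset.mem_of_mem_erase hb)) k' hsum
    have : P.root k = P.root k' + P.root a := by rw [hk']; abel
    exact hc hk'S (hS a hat) this

theorem no_zero_sum {S : Set ι} (hc : IsClosedSub P S)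
    (hd : ∀ i ∈ S, P.reflectionPerm i i ∉ S) :
    ∀ (n : ℕ) (t : Multiset ι), t.card = n + 1 → (∀ a ∈ t, a ∈ S) →
      (t.map P.root).sum ≠ 0 := by
  classical
  intro n
  induction n with
  | zero =>
    intro t ht _ h0
    obtain ⟨a, rfl⟩ := Multiset.card_eq_one.mp ht
    simp at h0
    exact P.ne_zero a h0
  | succ n ih =>
    intro t ht hS h0
    obtain ⟨b, hb⟩ : ∃ b, b ∈ t := by
      apply Multiset.card_pos_iff_exists_mem.mp
      rw [ht]; omega
    have ht' : t = b ::ₘ t.erase b := (Multiset.cons_erase hb).symm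
    have hsum : P.root (P.reflectionPerm b b) = ((t.erase b).map P.root).sum := by
      rw [root_neg]
      rw [ht'] at h0
      simp only [Multiset.map_cons, Multiset.sum_cons] at h0
      rw [eq_neg_of_add_eq_zero_left h0, neg_neg]
    obtain ⟨a, hat, hpos⟩ := exists_pos_pairing_of_smul_eq_sum P (c := 1) one_pos (t.erase b)
      (by rw [one_smul]; exact hsum)
    rw [pairing_neg_right] at hpos
    have hneg : P.pairing a b < 0 := by linarith
    have haS : a ∈ S := hS a (Multiset.mem_of_mem_erase hat)
    have hne : P.root a ≠ -P.root b := by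
      intro h
      have : a = P.reflectionPerm b b := by
        apply P.root.injective
        rw [root_neg, h]
      exact hd b (hS b hb) (this ▸ haS)
    obtain ⟨d, hdab⟩ := add_mem_of_neg P hneg hne
    have hdS : d ∈ S := hc haS (hS b hb) hdab
    have ht'' : t.erase b = a ::ₘ (t.erase b).erase a := (Multiset.cons_erase hat).symm
    refine ih (d ::ₘ (t.erase b).erase a) ?_ ?_ ?_
    · rw [Multiset.card_cons, Multiset.card_erase_of_mem hat, Multiset.card_erase_of_mem hb, ht]
      rfl
    · intro x hx
      rcases Multiset.mem_cons.mp hx with rfl | hx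
      · exact hdS
      · exact hS x (Multiset.mem_of_mem_erase (Multiset.mem_of_mem_erase hx))
    · rw [Multiset.map_cons, Multiset.sum_cons, hdab]
      rw [ht', ht''] at h0
      simp only [Multiset.map_cons, Multiset.sum_cons] at h0
      rw [← h0]
      abel

end Int3

end Groth.Agent.H8.RootD
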