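import Mathlib
import Groth.Prelude.Def_W4sga3xxiRoot
import Groth.Agent.Lib.helper8.RootD2

/-! Helper library (helper8): root pairings, part 3 (coefficients w.r.t. a simple system). -/

set_option autoImplicit false

namespace Groth.Agent.H8.RootD

open RootPairing _root_.RootD

variable {ι M N : Type*} [AddCommGroup M] [AddCommGroup N] (P : RootPairing ι ℤ M N)

/-- ℤ-linear combination of roots. -/
noncomputable abbrev lc (c : ι →₀ ℤ) : M := Finsupp.linearCombination ℤ P.root c

theorem lc_single (i : ι) (a : ℤ) : lc P (Finsupp.single i a) = a • P.root i := by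
  simp [lc]

theorem support_single_subset' {S : Set ι} {i : ι} (hi : i ∈ S) (a : ℤ) :
    ↑(Finsupp.single i a).support ⊆ S := by
  classical
  intro j hj
  have := Finsupp.support_single_subset hj
  rw [Finset.mem_singleton.mp this]
  exact hi

theorem natSpan_exists_coef {S : Set ι} {x : M} (hx : x ∈ natSpan P S) :
    ∃ c : ι →₀ ℤ, ↑c.support ⊆ S ∧ (∀ i, 0 ≤ c i) ∧ lc P c = x := by
  classical
  induction hx using AddSubmonoid.closure_induction with
  | mem x hx =>
    obtain ⟨i, hi, rfl⟩ := hx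
    refine ⟨Finsupp.single i 1, ?_, ?_, by simp [lc]⟩
    · exact support_single_subset' hi 1
    · intro j
      rw [Finsupp.single_apply]
      split_ifs <;> norm_num
  | zero => exact ⟨0, by simp, by simp, by simp [lc]⟩
  | add x y _ _ hx hy =>
    obtain ⟨c1, h1, p1, e1⟩ := hx
    obtain ⟨c2, h2, p2, e2⟩ := hy
    refine ⟨c1 + c2, ?_, ?_, by rw [lc, map_add]; exact congrArg₂ (· + ·) e1 e2⟩
    · intro j hj
      have := Finsupp.support_add hj
      rcases Finset.mem_union.mp this with h | h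
      exacts [h1 h, h2 h]
    · intro j
      simp only [Finsupp.coe_add, Pi.add_apply]
      exact add_nonneg (p1 j) (p2 j)

theorem mem_natSpan_of_coef {S : Set ι} (c : ι →₀ ℤ) (hs : ↑c.support ⊆ S) (h0 : ∀ i, 0 ≤ c i) :
    lc P c ∈ natSpan P S := by
  rw [lc, Finsupp.linearCombination_apply, Finsupp.sum]
  refine AddSubmonoid.sum_mem _ ?_
  intro i hi
  have : c i • P.root i = (c i).toNat • P.root i := by
    conv_lhs => rw [← Int.toNat_of_nonneg (h0 i)]
    rw [natCast_zsmul]
  rw [this]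
  exact AddSubmonoid.nsmul_mem _ (AddSubmonoid.subset_closure (Set.mem_image_of_mem _ (hs hi))) _

theorem coef_unique {Δ : Set ι} (hli : LinearIndepOn ℤ P.root Δ) {c d : ι →₀ ℤ}
    (hc : ↑c.support ⊆ Δ) (hd : ↑d.support ⊆ Δ) (h : lc P c = lc P d) : c = d :=
  linearIndepOn_iffₛ.mp hli c hc d hd h

theorem support_neg_subset {S : Set ι} {c : ι →₀ ℤ} (hc : ↑c.support ⊆ S) :
    ↑(-c).support ⊆ S := by
  rwa [Finsupp.support_neg]

theorem support_sub_subset {S : Set ι} {c d : ι →₀ ℤ} (hc : ↑c.support ⊆ S)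
    (hd : ↑d.support ⊆ S) : ↑(c - d).support ⊆ S := by
  classical
  intro j hj
  have := Finsupp.support_sub hj
  rcases Finset.mem_union.mp this with h | h
  exacts [hc h, hd h]

theorem support_add_subset {S : Set ι} {c d : ι →₀ ℤ} (hc : ↑c.support ⊆ S)
    (hd : ↑d.support ⊆ S) : ↑(c + d).support ⊆ S := by
  classical
  intro j hj
  have := Finsupp.support_add hj
  rcases Finset.mem_union.mp this with h | h
  exacts [hc h, hd h]

theorem support_single_subset {S : Set ι} {i : ι} (hi : i ∈ S) (a : ℤ) :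
    ↑(Finsupp.single i a).support ⊆ S := by
  classical
  intro j hj
  have := Finsupp.support_single_subset hj
  rw [Finset.mem_singleton.mp this]
  exact hi

theorem support_smul_subset {S : Set ι} {c : ι →₀ ℤ} (hc : ↑c.support ⊆ S) (a : ℤ) :
    ↑(a • c).support ⊆ S := by
  intro j hj
  exact hc (Finsupp.support_smul hj)

/-- Every root has a coefficient vector w.r.t. a simple system, all ≥ 0 or all ≤ 0. -/
theorem exists_coef {Δ : Set ι} (hΔ : IsSimpleSys P Δ) (k : ι) :
    ∃ c : ι →₀ ℤ, ↑c.support ⊆ Δ ∧ ((∀ i, 0 ≤ c i) ∨ (∀ i, c i ≤ 0)) ∧ lc P c = P.root k := by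
  rcases hΔ.mem_or_neg_mem k with h | h
  · obtain ⟨c, h1, h2, h3⟩ := natSpan_exists_coef P h
    exact ⟨c, h1, Or.inl h2, h3⟩
  · obtain ⟨c, h1, h2, h3⟩ := natSpan_exists_coef P h
    refine ⟨-c, support_neg_subset h1, Or.inr ?_, ?_⟩
    · intro i
      simp only [Finsupp.coe_neg, Pi.neg_apply, Left.neg_nonpos_iff]
      exact h2 i
    · rw [lc, map_neg]
      show -lc P c = _
      rw [h3, neg_neg]

theorem mem_posOf_iff {Δ : Set ι} (hΔ : IsSimpleSys P Δ) (k : ι) {c : ι →₀ ℤ}
    (hc : ↑c.support ⊆ Δ) (h : lc P c = P.root k) : k ∈ posOf P Δ ↔ ∀ i, 0 ≤ c i := by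
  constructor
  · intro hk
    obtain ⟨d, h1, h2, h3⟩ := natSpan_exists_coef P hk
    have := coef_unique P hΔ.linInd hc h1 (h.trans h3.symm)
    rw [this]
    exact h2
  · intro h0
    show P.root k ∈ natSpan P Δ
    rw [← h]
    exact mem_natSpan_of_coef P c hc h0

theorem neg_mem_natSpan_iff {Δ : Set ι} (hΔ : IsSimpleSys P Δ) (k : ι) {c : ι →₀ ℤ}
    (hc : ↑c.support ⊆ Δ) (h : lc P c = P.root k) : -P.root k ∈ natSpan P Δ ↔ ∀ i, c i ≤ 0 := by
  constructor
  · intro hk
    obtain ⟨d, h1, h2, h3⟩ := natSpan_exists_coef P hk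
    have e : lc P (-c) = lc P d := by
      rw [lc, map_neg]
      show -lc P c = _
      rw [h, h3]
    have := coef_unique P hΔ.linInd (support_neg_subset hc) h1 e
    intro i
    have h2i := h2 i
    rw [← this] at h2i
    simpa using h2i
  · intro h0
    have e : lc P (-c) = -P.root k := by
      rw [lc, map_neg]
      show -lc P c = _
      rw [h]
    rw [← e]
    refine mem_natSpan_of_coef P (-c) (support_neg_subset hc) ?_
    intro i
    simpa using h0 i

theorem coef_ne_zero {k : ι} {c : ι →₀ ℤ} (h : lc P c = P.root k) : c ≠ 0 := by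
  rintro rfl
  simp [lc] at h
  exact P.ne_zero k h.symm


theorem natSpan_posOf_le {Δ : Set ι} : natSpan P (posOf P Δ) ≤ natSpan P Δ := by
  apply AddSubmonoid.closure_le.mpr
  rintro _ ⟨k, hk, rfl⟩
  exact hk

theorem subset_posOf {Δ : Set ι} : Δ ⊆ posOf P Δ :=
  fun _ hδ => AddSubmonoid.subset_closure (Set.mem_image_of_mem _ hδ)

theorem neg_mem_posOf_iff {Δ : Set ι} (k : ι) :
    P.reflectionPerm k k ∈ posOf P Δ ↔ -P.root k ∈ natSpan P Δ := by
  show P.root (P.reflectionPerm k k) ∈ natSpan P Δ ↔ _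
  rw [root_neg]

theorem isPosSys_posOf {Δ : Set ι} (hΔ : IsSimpleSys P Δ) : IsPosSys P (posOf P Δ) := by
  refine ⟨?_, ?_, ?_⟩
  · intro k hk hk'
    obtain ⟨c, hc, -, hck⟩ := exists_coef P hΔ k
    have h1 := (mem_posOf_iff P hΔ k hc hck).mp hk
    have h2 := (neg_mem_natSpan_iff P hΔ k hc hck).mp ((neg_mem_posOf_iff P k).mp hk')
    apply coef_ne_zero P hck
    ext i
    exact le_antisymm (h2 i) (h1 i)
  · intro k
    rcases hΔ.mem_or_neg_mem k with h | h
    · exact Or.inl h
    · exact Or.inr ((neg_mem_posOf_iff P k).mpr h)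
  · intro k n hn hk
    have hk' := natSpan_posOf_le P hk
    obtain ⟨c, hc, -, hck⟩ := exists_coef P hΔ k
    obtain ⟨d, hd, hd0, hdk⟩ := natSpan_exists_coef P hk'
    have e : lc P ((n : ℤ) • c) = lc P d := by
      rw [hdk, lc, map_smul]
      show (n : ℤ) • lc P c = _
      rw [hck, natCast_zsmul]
    have := coef_unique P hΔ.linInd (support_smul_subset hc n) hd e
    apply (mem_posOf_iff P hΔ k hc hck).mpr
    intro i
    have hi := hd0 i
    rw [← this] at hi
    simp only [Finsupp.coe_smul, Pi.smul_apply, smul_eq_mul] at hi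
    have hn' : (0 : ℤ) < n := by exact_mod_cast hn
    exact (mul_nonneg_iff_of_pos_left hn').mp hi

theorem posSys_eq_posOf_iff {Δ : Set ι} (hΔ : IsSimpleSys P Δ) {S : Set ι} (hS : IsPosSys P S) :
    Δ ⊆ S ↔ S = posOf P Δ := by
  constructor
  · intro hsub
    have h1 : posOf P Δ ⊆ S := by
      intro k hk
      apply hS.sat 1 one_pos
      rw [one_smul]
      exact AddSubmonoid.closure_mono (Set.image_mono hsub) hk
    apply Set.Subset.antisymm _ h1
    intro k hk
    by_contra hk'
    have h2 : P.reflectionPerm k k ∈ posOf P Δ :=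
      ((isPosSys_posOf P hΔ).cover k).resolve_left hk'
    exact hS.disjoint hk (h1 h2)
  · rintro rfl
    exact subset_posOf P


theorem reflection_coef {k i : ι} {c : ι →₀ ℤ} (hck : lc P c = P.root k) :
    lc P (c - Finsupp.single i (P.pairing k i)) = P.root (P.reflectionPerm i k) := by
  rw [P.root_reflectionPerm, P.reflection_apply_root, lc, map_sub]
  show lc P c - lc P _ = _
  rw [hck, lc_single]

/-- coefficients of a root are all ≥ 0 or all ≤ 0 -/
theorem coef_sign {Δ : Set ι} (hΔ : IsSimpleSys P Δ) {k : ι} {c : ι →₀ ℤ} (hc : ↑c.support ⊆ Δ)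
    (hck : lc P c = P.root k) : (∀ i, 0 ≤ c i) ∨ (∀ i, c i ≤ 0) := by
  obtain ⟨d, hd, hsign, hdk⟩ := exists_coef P hΔ k
  have := coef_unique P hΔ.linInd hc hd (hck.trans hdk.symm)
  rw [this]
  exact hsign

theorem posOf_reflection_of_exists {Δ : Set ι} (hΔ : IsSimpleSys P Δ) {k i : ι}
    (hi : i ∈ Δ) {c : ι →₀ ℤ} (hc : ↑c.support ⊆ Δ) (hck : lc P c = P.root k)
    (h : ∃ j, j ≠ i ∧ 0 < c j) : P.reflectionPerm i k ∈ posOf P Δ := by
  have hc' : ↑(c - Finsupp.single i (P.pairing k i)).support ⊆ Δ :=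
    support_sub_subset hc (support_single_subset hi _)
  have hr := reflection_coef P (i := i) hck
  apply (mem_posOf_iff P hΔ _ hc' hr).mpr
  rcases coef_sign P hΔ hc' hr with h0 | h0
  · exact h0
  · exfalso
    obtain ⟨j, hji, hj⟩ := h
    have := h0 j
    rw [Finsupp.sub_apply, Finsupp.single_eq_of_ne hji, sub_zero] at this
    omega

theorem exists_ne_pos_of_linearIndependent {k i : ι}
    {c : ι →₀ ℤ} (hck : lc P c = P.root k) (h0 : ∀ j, 0 ≤ c j)
    (hli : LinearIndependent ℤ ![P.root k, P.root i]) : ∃ j, j ≠ i ∧ 0 < c j := by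
  by_contra hcon
  push Not at hcon
  have hc : c = Finsupp.single i (c i) := by
    ext j
    by_cases hj : j = i
    · subst hj; simp
    · rw [Finsupp.single_eq_of_ne hj]
      exact le_antisymm (hcon j hj) (h0 j)
  rw [hc, lc_single] at hck
  have := (LinearIndependent.pair_iff.mp hli) 1 (-(c i)) (by rw [one_smul, neg_smul, hck]; abel)
  exact one_ne_zero this.1


theorem pairing_lc (c : ι →₀ ℤ) (k : ι) :
    P.toLinearMap (lc P c) (P.coroot k) = c.sum (fun i a => a * P.pairing i k) := by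
  rw [lc, Finsupp.linearCombination_apply, Finsupp.sum, map_sum, LinearMap.sum_apply,
    Finsupp.sum]
  refine Finset.sum_congr rfl ?_
  intro i _
  rw [map_smul, LinearMap.smul_apply, smul_eq_mul]
  rfl

theorem exists_pos_coef_pos_pairing {k : ι} {c : ι →₀ ℤ} (hck : lc P c = P.root k)
    (h0 : ∀ j, 0 ≤ c j) : ∃ i, 0 < c i ∧ 0 < P.pairing i k := by
  have h2 : c.sum (fun i a => a * P.pairing i k) = 2 := by
    rw [← pairing_lc, hck]
    exact P.pairing_same k
  by_contra hcon
  push Not at hcon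
  have : c.sum (fun i a => a * P.pairing i k) ≤ 0 := by
    apply Finset.sum_nonpos
    intro i _
    rcases (h0 i).eq_or_lt with h | h
    · rw [← h]; simp
    · exact mul_nonpos_of_nonneg_of_nonpos (h0 i) (hcon i h)
  omega


theorem mem_inSpan_iff {Δ Δ' : Set ι} (hΔ : IsSimpleSys P Δ) (hsub : Δ' ⊆ Δ) {k : ι}
    {c : ι →₀ ℤ} (hc : ↑c.support ⊆ Δ) (hck : lc P c = P.root k) :
    k ∈ inSpan P Δ' ↔ ↑c.support ⊆ Δ' := by
  constructor
  · intro hk
    obtain ⟨d, hd, hdk⟩ := (Finsupp.mem_span_image_iff_linearCombination ℤ).mp hk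
    have hd' : ↑d.support ⊆ Δ' := hd
    have := coef_unique P hΔ.linInd hc (hd'.trans hsub) (hck.trans hdk.symm)
    rw [this]
    exact hd'
  · intro h
    show P.root k ∈ Submodule.span ℤ (P.root '' Δ')
    rw [← hck]
    exact (Finsupp.mem_span_image_iff_linearCombination ℤ).mpr ⟨c, h, rfl⟩

/-- simple reflection in `Δ'` preserves positive roots outside the span of `Δ'` -/
theorem refl_mem_pos_diff {Δ Δ' : Set ι} (hΔ : IsSimpleSys P Δ) (hsub : Δ' ⊆ Δ) {i k : ι}
    (hi : i ∈ Δ') (hk : k ∈ posOf P Δ) (hk' : k ∉ inSpan P Δ') :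
    P.reflectionPerm i k ∈ posOf P Δ ∧ P.reflectionPerm i k ∉ inSpan P Δ' := by
  obtain ⟨c, hc, -, hck⟩ := exists_coef P hΔ k
  have h0 := (mem_posOf_iff P hΔ k hc hck).mp hk
  have hns : ¬ (↑c.support ⊆ Δ') := fun h => hk' ((mem_inSpan_iff P hΔ hsub hc hck).mpr h)
  obtain ⟨j, hj, hjΔ'⟩ := Set.not_subset.mp hns
  have hcj : 0 < c j := lt_of_le_of_ne (h0 j) (Ne.symm (Finsupp.mem_support_iff.mp hj))
  have hji : j ≠ i := fun h => hjΔ' (h ▸ hi)
  refine ⟨posOf_reflection_of_exists P hΔ (hsub hi) hc hck ⟨j, hji, hcj⟩, ?_⟩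
  have hc' : ↑(c - Finsupp.single i (P.pairing k i)).support ⊆ Δ :=
    support_sub_subset hc (support_single_subset (hsub hi) _)
  have hr := reflection_coef P (i := i) hck
  rw [mem_inSpan_iff P hΔ hsub hc' hr]
  intro hcon
  apply hjΔ'
  apply hcon
  rw [Finset.mem_coe, Finsupp.mem_support_iff, Finsupp.sub_apply, Finsupp.single_eq_of_ne hji,
    sub_zero]
  exact ne_of_gt hcj

theorem closure_preserves {G : Type*} [Group G] {α : Type*} [MulAction G α] [Finite α]
    (s : Set G) (A : Set α) (h : ∀ g ∈ s, ∀ a ∈ A, g • a ∈ A) :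
    ∀ g ∈ Subgroup.closure s, ∀ a ∈ A, g • a ∈ A := by
  intro g hg
  induction hg using Subgroup.closure_induction with
  | mem x hx => exact h x hx
  | one => intro a ha; simpa using ha
  | mul x y _ _ hx hy =>
    intro a ha
    rw [mul_smul]
    exact hx _ (hy a ha)
  | inv x _ hx =>
    intro a ha
    let f : A → A := fun b => ⟨x • b.1, hx b.1 b.2⟩
    have hf : Function.Injective f := by
      intro b b' hbb'
      have : x • b.1 = x • b'.1 := congrArg Subtype.val hbb'
      exact Subtype.ext (MulAction.injective x this)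
    obtain ⟨b, hb⟩ := Finite.surjective_of_injective hf ⟨a, ha⟩
    have : x • b.1 = a := congrArg Subtype.val hb
    rw [← this, inv_smul_smul]
    exact b.2

end Groth.Agent.H8.RootD
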