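import Mathlib
import Groth.Prelude.Def_W4sga3xxiRoot
import Groth.Agent.Lib.helper8.RootD3

/-! Helper library (helper8): root pairings, part 4 (height, descent, orthogonal partitions). -/

set_option autoImplicit false

namespace Groth.Agent.H8.RootD

open RootPairing _root_.RootD

variable {ι M N : Type*} [AddCommGroup M] [AddCommGroup N] (P : RootPairing ι ℤ M N)

/-- sum of coefficients -/
noncomputable def ht : (ι →₀ ℤ) →ₗ[ℤ] ℤ := Finsupp.linearCombination ℤ (fun _ : ι => (1 : ℤ))

omit [AddCommGroup M] [AddCommGroup N] in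
theorem ht_single (i : ι) (a : ℤ) : ht (ι := ι) (Finsupp.single i a) = a := by
  simp [ht]

theorem ht_apply (c : ι →₀ ℤ) : ht c = c.sum (fun _ a => a) := by
  simp [ht, Finsupp.linearCombination_apply]

theorem ht_nonneg {c : ι →₀ ℤ} (h0 : ∀ i, 0 ≤ c i) : 0 ≤ ht c := by
  rw [ht_apply]
  exact Finset.sum_nonneg (fun i _ => h0 i)

theorem eq_zero_of_ht_eq_zero {c : ι →₀ ℤ} (h0 : ∀ i, 0 ≤ c i) (h : ht c = 0) : c = 0 := by
  rw [ht_apply, Finsupp.sum] at h
  have := (Finset.sum_eq_zero_iff_of_nonneg (fun i _ => h0 i)).mp h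
  ext i
  by_cases hi : i ∈ c.support
  · exact this i hi
  · simpa using hi

theorem ht_pos_of_root {k : ι} {c : ι →₀ ℤ} (hck : lc P c = P.root k) (h0 : ∀ i, 0 ≤ c i) :
    0 < ht c := by
  rcases (ht_nonneg h0).eq_or_lt with h | h
  · exact absurd (eq_zero_of_ht_eq_zero h0 h.symm) (coef_ne_zero P hck)
  · exact h

variable [Finite ι]

/-- descent: a positive non-simple root is (positive root) + (simple root). -/
theorem pos_descent {Δ : Set ι} (hΔ : IsSimpleSys P Δ) {k : ι} {c : ι →₀ ℤ} (hc : ↑c.support ⊆ Δ)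
    (hck : lc P c = P.root k) (h0 : ∀ i, 0 ≤ c i) (hkΔ : k ∉ Δ) :
    ∃ i ∈ Δ, ∃ j, 0 < c i ∧ 0 < P.pairing k i ∧ P.root k = P.root j + P.root i ∧
      ↑(c - Finsupp.single i 1).support ⊆ Δ ∧
      lc P (c - Finsupp.single i 1) = P.root j ∧
      (∀ a, 0 ≤ (c - Finsupp.single i (1 : ℤ) : ι →₀ ℤ) a) := by
  obtain ⟨i, hci, hpi⟩ := exists_pos_coef_pos_pairing P hck h0
  have hiΔ : i ∈ Δ := hc (Finsupp.mem_support_iff.mpr (ne_of_gt hci))
  have hki : k ≠ i := fun h => hkΔ (h ▸ hiΔ)
  have hpk := (pairing_pos_symm P).mp hpi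
  obtain ⟨j, hj⟩ := sub_mem_of_pos P hpk hki
  refine ⟨i, hiΔ, j, hci, hpk, by rw [hj]; abel,
    support_sub_subset hc (support_single_subset hiΔ 1), ?_, ?_⟩
  · rw [hj, lc, map_sub]
    show lc P c - lc P _ = _
    rw [hck, lc_single, one_smul]
  · intro a
    rw [Finsupp.sub_apply]
    by_cases ha : a = i
    · rw [ha, Finsupp.single_eq_same]; omega
    · rw [Finsupp.single_eq_of_ne ha, sub_zero]; exact h0 a

theorem coef_simple {Δ : Set ι} (hΔ : IsSimpleSys P Δ) {k : ι} (hk : k ∈ Δ) {c : ι →₀ ℤ}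
    (hc : ↑c.support ⊆ Δ) (hck : lc P c = P.root k) : c = Finsupp.single k 1 := by
  apply coef_unique P hΔ.linInd hc (support_single_subset hk 1)
  rw [hck, lc_single, one_smul]

theorem partition_step {Δ A : Set ι} (hΔ : IsSimpleSys P Δ) {i j k : ι} (hi : i ∈ Δ)
    {cj : ι →₀ ℤ} (hcj : ↑cj.support ⊆ A) (hA : A ⊆ Δ) (hcjk : lc P cj = P.root j)
    (hiA : i ∉ A) (horth : ∀ a ∈ A, P.IsOrthogonal a i)
    (hk : P.root k = P.root j + P.root i) : False := by
  have hji : P.pairing j i = 0 := by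
    show P.toLinearMap (P.root j) (P.coroot i) = 0
    rw [← hcjk, pairing_lc]
    apply Finset.sum_eq_zero
    intro a ha
    show cj a * P.pairing a i = 0
    rw [(horth a (hcj ha)).1, mul_zero]
  have hij : P.pairing i j = 0 := (P.pairing_eq_zero_iff' (i := j) (j := i)).mp hji
  have hkj : P.pairing k j = 2 := by
    rw [pairing_add_left P hk, P.pairing_same, hij, add_zero]
  have hr : lc P (Finsupp.single i 1 - cj) = P.root (P.reflectionPerm j k) := by
    rw [P.root_reflectionPerm, P.reflection_apply_root, hkj, lc, map_sub]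
    show lc P _ - lc P cj = _
    rw [lc_single, one_smul, hcjk, hk, two_smul]
    abel
  have hci : cj i = 0 := by
    by_contra h
    exact hiA (hcj (Finsupp.mem_support_iff.mpr h))
  have hsupp : ↑(Finsupp.single i 1 - cj).support ⊆ Δ :=
    support_sub_subset (support_single_subset hi 1) (hcj.trans hA)
  rcases coef_sign P hΔ hsupp hr with h | h
  · -- all ≥ 0 : then cj ≤ 0 off i
    obtain ⟨d, hd, hsign, hdj⟩ := exists_coef P hΔ j
    have hdc := coef_unique P hΔ.linInd (hcj.trans hA) hd (hcjk.trans hdj.symm)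
    -- cj has all coefficients ≤ 0 and ... use sign of cj
    have hcjsign := coef_sign P hΔ (hcj.trans hA) hcjk
    have hle : ∀ a, cj a ≤ 0 := by
      intro a
      by_cases ha : a = i
      · rw [ha, hci]
      · have := h a
        rw [Finsupp.sub_apply, Finsupp.single_eq_of_ne ha] at this
        omega
    -- then s_j k = i - j has coefficient 1 at i and j negative: consider k = j + i: sign of k
    have hck : lc P (cj + Finsupp.single i 1) = P.root k := by
      rw [hk, lc, map_add]
      show lc P cj + lc P _ = _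
      rw [hcjk, lc_single, one_smul]
    have hsk : ↑(cj + Finsupp.single i 1).support ⊆ Δ :=
      support_add_subset (hcj.trans hA) (support_single_subset hi 1)
    rcases coef_sign P hΔ hsk hck with h' | h'
    · apply coef_ne_zero P hcjk
      ext a
      by_cases ha : a = i
      · rw [ha, hci]; rfl
      · have := h' a
        rw [Finsupp.add_apply, Finsupp.single_eq_of_ne ha, add_zero] at this
        exact le_antisymm (hle a) this
    · have := h' i
      rw [Finsupp.add_apply, Finsupp.single_eq_same, hci] at this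
      omega
  · have := h i
    rw [Finsupp.sub_apply, Finsupp.single_eq_same, hci] at this
    omega

theorem partition_pos {Δ Δ' : Set ι} (hΔ : IsSimpleSys P Δ) (hsub : Δ' ⊆ Δ)
    (horth : ∀ i ∈ Δ', ∀ j ∈ Δ \ Δ', P.IsOrthogonal i j) :
    ∀ (n : ℕ) (k : ι) (c : ι →₀ ℤ), ↑c.support ⊆ Δ → lc P c = P.root k → (∀ i, 0 ≤ c i) →
      ht c = n → (↑c.support ⊆ Δ' ∨ ↑c.support ⊆ Δ \ Δ') := by
  classical
  intro n
  induction n with
  | zero =>
    intro k c _ hck h0 hn
    have := ht_pos_of_root P hck h0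
    rw [hn] at this
    simp at this
  | succ n ih =>
    intro k c hc hck h0 hn
    by_cases hkΔ : k ∈ Δ
    · have := coef_simple P hΔ hkΔ hc hck
      rw [this]
      by_cases hk' : k ∈ Δ'
      · exact Or.inl (support_single_subset hk' 1)
      · exact Or.inr (support_single_subset (S := Δ \ Δ') ⟨hkΔ, hk'⟩ 1)
    · obtain ⟨i, hiΔ, j, hci, hpk, hkji, hsj, hcj, hj0⟩ := pos_descent P hΔ hc hck h0 hkΔ
      have hnj : ht (c - Finsupp.single i 1) = n := by
        rw [map_sub, ht_single, hn]; push_cast; ring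
      have hcdecomp : c = (c - Finsupp.single i 1) + Finsupp.single i 1 := by abel
      rcases ih j _ hsj hcj hj0 hnj with h | h
      · by_cases hi' : i ∈ Δ'
        · left
          rw [hcdecomp]
          exact support_add_subset h (support_single_subset hi' 1)
        · exfalso
          exact partition_step P hΔ hiΔ h hsub hcj hi'
            (fun a ha => horth a ha i ⟨hiΔ, hi'⟩) hkji
      · by_cases hi' : i ∈ Δ'
        · exfalso
          exact partition_step P hΔ hiΔ h Set.diff_subset hcj (fun h' => h'.2 hi')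
            (fun a ha => (P.isOrthogonal_symm _ _).mp (horth i hi' a ha)) hkji
        · right
          rw [hcdecomp]
          exact support_add_subset h (support_single_subset (S := Δ \ Δ') ⟨hiΔ, hi'⟩ 1)

theorem mem_inSpan_neg_iff {S : Set ι} (k : ι) :
    P.reflectionPerm k k ∈ inSpan P S ↔ k ∈ inSpan P S := by
  show P.root (P.reflectionPerm k k) ∈ Submodule.span ℤ (P.root '' S) ↔
    P.root k ∈ Submodule.span ℤ (P.root '' S)
  rw [root_neg, neg_mem_iff]

theorem partition_all {Δ Δ' : Set ι} (hΔ : IsSimpleSys P Δ) (hsub : Δ' ⊆ Δ)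
    (horth : ∀ i ∈ Δ', ∀ j ∈ Δ \ Δ', P.IsOrthogonal i j) (k : ι) :
    (k ∈ inSpan P Δ' ∨ k ∈ inSpan P (Δ \ Δ')) ∧
      ¬ (k ∈ inSpan P Δ' ∧ k ∈ inSpan P (Δ \ Δ')) := by
  obtain ⟨c, hc, hsign, hck⟩ := exists_coef P hΔ k
  constructor
  · rcases hsign with h0 | h0
    · obtain ⟨n, hn⟩ := Int.eq_ofNat_of_zero_le (ht_nonneg h0)
      rcases partition_pos P hΔ hsub horth n k c hc hck h0 hn with h | h
      · exact Or.inl ((mem_inSpan_iff P hΔ hsub hc hck).mpr h)
      · exact Or.inr ((mem_inSpan_iff P hΔ Set.diff_subset hc hck).mpr h)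
    · -- negative root: use -k
      have hck' : lc P (-c) = P.root (P.reflectionPerm k k) := by
        rw [root_neg, lc, map_neg]
        show -lc P c = _
        rw [hck]
      have h0' : ∀ i, 0 ≤ (-c) i := by
        intro i; simpa using h0 i
      have hc' := support_neg_subset hc
      obtain ⟨n, hn⟩ := Int.eq_ofNat_of_zero_le (ht_nonneg h0')
      rcases partition_pos P hΔ hsub horth n _ (-c) hc' hck' h0' hn with h | h
      · exact Or.inl ((mem_inSpan_neg_iff P k).mp ((mem_inSpan_iff P hΔ hsub hc' hck').mpr h))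
      · exact Or.inr ((mem_inSpan_neg_iff P k).mp
          ((mem_inSpan_iff P hΔ Set.diff_subset hc' hck').mpr h))
  · rintro ⟨h1, h2⟩
    have h1' := (mem_inSpan_iff P hΔ hsub hc hck).mp h1
    have h2' := (mem_inSpan_iff P hΔ Set.diff_subset hc hck).mp h2
    apply coef_ne_zero P hck
    ext a
    by_contra ha
    have hm : a ∈ c.support := Finsupp.mem_support_iff.mpr ha
    exact (h2' hm).2 (h1' hm)


omit [Finite ι] in
theorem exists_not_orth_of_support {k : ι} {c : ι →₀ ℤ} (hck : lc P c = P.root k) :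
    ∃ δ ∈ c.support, ¬ P.IsOrthogonal δ k := by
  by_contra hcon
  push Not at hcon
  have h2 : c.sum (fun i a => a * P.pairing i k) = 2 := by
    rw [← pairing_lc, hck]
    exact P.pairing_same k
  have : c.sum (fun i a => a * P.pairing i k) = 0 := by
    apply Finset.sum_eq_zero
    intro a ha
    show c a * P.pairing a k = 0
    rw [(hcon a ha).1, mul_zero]
  omega

theorem closedSymm_partition {Δ R' : Set ι} (hΔ : IsSimpleSys P Δ)
    (hc : IsClosedSub P R') (hs : IsSymmSub P R') (hc' : IsClosedSub P R'ᶜ)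
    (hs' : IsSymmSub P R'ᶜ) :
    R' = inSpan P (Δ ∩ R') ∧ R'ᶜ = inSpan P (Δ \ R') ∧
      ∀ i ∈ Δ ∩ R', ∀ j ∈ Δ \ R', P.IsOrthogonal i j := by
  have horth : ∀ i ∈ Δ ∩ R', ∀ j ∈ Δ \ R', P.IsOrthogonal i j := by
    intro i hi j hj
    by_contra h
    exact hj.2 (mem_of_not_orth P hc hs hc' hs' hi.2 h)
  have hdiff : Δ \ (Δ ∩ R') = Δ \ R' := by
    ext x; simp only [Set.mem_diff, Set.mem_inter_iff]; tauto
  have horth' : ∀ i ∈ Δ ∩ R', ∀ j ∈ Δ \ (Δ ∩ R'), P.IsOrthogonal i j := by
    rw [hdiff]; exact horth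
  have hpart := fun k => partition_all P hΔ (Set.inter_subset_left (t := R')) horth' k
  rw [hdiff] at hpart
  have h1 : ∀ k, k ∈ inSpan P (Δ ∩ R') → k ∈ R' := by
    intro k hk
    obtain ⟨c, hcs, -, hck⟩ := exists_coef P hΔ k
    have hsup := (mem_inSpan_iff P hΔ Set.inter_subset_left hcs hck).mp hk
    obtain ⟨δ, hδ, hδk⟩ := exists_not_orth_of_support P hck
    exact mem_of_not_orth P hc hs hc' hs' (hsup hδ).2 hδk
  have h2 : ∀ k, k ∈ inSpan P (Δ \ R') → k ∈ R'ᶜ := by
    intro k hk
    obtain ⟨c, hcs, -, hck⟩ := exists_coef P hΔ k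
    have hsup := (mem_inSpan_iff P hΔ Set.diff_subset hcs hck).mp hk
    obtain ⟨δ, hδ, hδk⟩ := exists_not_orth_of_support P hck
    have hcc : IsClosedSub P R'ᶜᶜ := by rwa [compl_compl]
    have hsc : IsSymmSub P R'ᶜᶜ := by rwa [compl_compl]
    exact mem_of_not_orth P hc' hs' hcc hsc (hsup hδ).2 hδk
  refine ⟨?_, ?_, horth⟩
  · ext k
    constructor
    · intro hk
      rcases (hpart k).1 with h | h
      · exact h
      · exact absurd hk (h2 k h)
    · exact h1 k
  · ext k
    constructor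
    · intro hk
      rcases (hpart k).1 with h | h
      · exact absurd (h1 k h) hk
      · exact h
    · exact h2 k

end Groth.Agent.H8.RootD
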