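import Mathlib
import Groth.Prelude.Def_W4sga3xxiRoot
import Groth.Agent.Lib.helper8.RootD4

/-! Helper library (helper8): root pairings, part 5 (Weyl group generated by simple reflections). -/

set_option autoImplicit false

namespace Groth.Agent.H8.RootD

open RootPairing _root_.RootD

variable {ι M N : Type*} [AddCommGroup M] [AddCommGroup N] (P : RootPairing ι ℤ M N)

theorem torsionFree_M (Q : RootPairing ι ℤ M N) : IsAddTorsionFree M := by
  have : Module.IsReflexive ℤ M := .of_isPerfPair Q.toLinearMap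
  exact .of_isTorsionFree ℤ M

theorem torsionFree_N (Q : RootPairing ι ℤ M N) : IsAddTorsionFree N := by
  have : Module.IsReflexive ℤ N := .of_isPerfPair Q.flip.toLinearMap
  exact .of_isTorsionFree ℤ N

theorem smul_idx_neg (g : P.Aut) (i : ι) :
    g • P.reflectionPerm i i = P.reflectionPerm (g • i) (g • i) := by
  apply P.root.injective
  rw [← aut_smul_root, root_neg, root_neg, smul_neg, aut_smul_root]

theorem isIndiv_smul (g : P.Aut) {k : ι} (h : IsIndiv P k) : IsIndiv P (g • k) := by
  intro j hj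
  apply h (g⁻¹ • j)
  rw [← aut_smul_root, ← smul_comm, hj, aut_smul_root, smul_smul, inv_mul_cancel, one_smul]

variable [Finite ι]

theorem coroot_of_two_smul {j k : ι} (h : (2 : ℤ) • P.root j = P.root k) :
    (2 : ℤ) • P.coroot k = P.coroot j := by
  have := torsionFree_N P
  exact smul_coroot_eq_of_root_eq_smul (P := P) j k 2 h.symm

theorem reflection_eq_of_two_smul {j k : ι} (h : (2 : ℤ) • P.root j = P.root k) :
    Equiv.reflection P k = Equiv.reflection P j := by
  apply Equiv.weightHom_injective P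
  ext x
  show Equiv.reflection P k • x = Equiv.reflection P j • x
  rw [Equiv.reflection_smul, Equiv.reflection_smul, P.reflection_apply, P.reflection_apply]
  congr 1
  show P.toLinearMap x (P.coroot k) • P.root k = P.toLinearMap x (P.coroot j) • P.root j
  rw [← coroot_of_two_smul P h, ← h, map_smul, smul_smul, smul_eq_mul, mul_comm]

theorem isIndiv_of_two_smul {j k : ι} (h : (2 : ℤ) • P.root j = P.root k) : IsIndiv P j := by
  intro j' hj'
  have h4 : (4 : ℤ) • P.root j' = P.root k := by
    rw [← h, ← hj', smul_smul]; norm_num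
  have e : P.toLinearMap (P.root k) (P.coroot k) = 2 := P.pairing_same k
  rw [← h4, map_smul, LinearMap.smul_apply, smul_eq_mul] at e
  omega


/-- S5467 as a library lemma. -/
theorem exists_simple_pos_pairing {Δ : Set ι} (hΔ : IsSimpleSys P Δ) {k : ι}
    (hk : k ∈ posOf P Δ) (hkΔ : k ∉ Δ) (hind : IsIndiv P k) :
    ∃ i ∈ Δ, 0 < P.pairing k i ∧ P.reflectionPerm i k ∈ posOf P Δ := by
  obtain ⟨c, hc, -, hck⟩ := exists_coef P hΔ k
  have h0 := (mem_posOf_iff P hΔ k hc hck).mp hk
  obtain ⟨i, hci, hpi⟩ := exists_pos_coef_pos_pairing P hck h0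
  have hiΔ : i ∈ Δ := hc (Finsupp.mem_support_iff.mpr (ne_of_gt hci))
  refine ⟨i, hiΔ, (pairing_pos_symm P).mp hpi, ?_⟩
  apply posOf_reflection_of_exists P hΔ hiΔ hc hck
  by_contra hcon
  push Not at hcon
  have hcs : c = Finsupp.single i (c i) := by
    ext j
    by_cases hj : j = i
    · subst hj; simp
    · rw [Finsupp.single_eq_of_ne hj]
      exact le_antisymm (hcon j hj) (h0 j)
  have hk2 : P.root k = c i • P.root i := by
    rw [← hck, hcs, lc_single]
    simp
  have h2 : c i * P.pairing i k = 2 := by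
    have e' : P.toLinearMap (P.root k) (P.coroot k) = 2 := P.pairing_same k
    rw [hk2, map_smul, LinearMap.smul_apply, smul_eq_mul] at e'
    exact e'
  have hci2 : c i = 1 ∨ c i = 2 := by
    have hdvd : c i ∣ 2 := Dvd.intro _ h2
    have hle : c i ≤ 2 := Int.le_of_dvd (by norm_num) hdvd
    have : c i ≠ 0 := ne_of_gt hci
    omega
  rcases hci2 with h1 | h1
  · rw [h1, one_smul] at hk2
    exact hkΔ (P.root.injective hk2 ▸ hiΔ)
  · rw [h1] at hk2
    exact hind i hk2.symm

/-- the subgroup generated by the reflections in `Δ` -/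
noncomputable def WΔ (Δ : Set ι) : Subgroup P.Aut :=
  Subgroup.closure ((fun i : ι => Equiv.reflection P i) '' Δ)

theorem refl_mem_WΔ {Δ : Set ι} {i : ι} (hi : i ∈ Δ) : Equiv.reflection P i ∈ WΔ P Δ :=
  Subgroup.subset_closure ⟨i, hi, rfl⟩

theorem conj_simple_pos {Δ : Set ι} (hΔ : IsSimpleSys P Δ) :
    ∀ (n : ℕ) (k : ι) (c : ι →₀ ℤ), ↑c.support ⊆ Δ → lc P c = P.root k → (∀ i, 0 ≤ c i) →
      ht c = n → IsIndiv P k → ∃ g ∈ WΔ P Δ, ∃ i ∈ Δ, g • i = k := by
  intro n
  induction n using Nat.strong_induction_on with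
  | _ n ih =>
    intro k c hc hck h0 hn hind
    by_cases hkΔ : k ∈ Δ
    · exact ⟨1, Subgroup.one_mem _, k, hkΔ, one_smul _ _⟩
    · have hkpos : k ∈ posOf P Δ := (mem_posOf_iff P hΔ k hc hck).mpr h0
      obtain ⟨i, hiΔ, hpos, hrefl⟩ := exists_simple_pos_pairing P hΔ hkpos hkΔ hind
      have hc' : ↑(c - Finsupp.single i (P.pairing k i)).support ⊆ Δ :=
        support_sub_subset hc (support_single_subset hiΔ _)
      have hr := reflection_coef P (i := i) hck
      have h0' := (mem_posOf_iff P hΔ _ hc' hr).mp hrefl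
      have hht : ht (c - Finsupp.single i (P.pairing k i)) = n - P.pairing k i := by
        rw [map_sub, ht_single, hn]
      have hnn := ht_nonneg h0'
      have hlt : (ht (c - Finsupp.single i (P.pairing k i))).toNat < n := by
        rw [hht] at hnn ⊢
        omega
      have hind' : IsIndiv P (P.reflectionPerm i k) :=
        isIndiv_smul P (Equiv.reflection P i) hind
      obtain ⟨g', hg', i', hi', hgi⟩ := ih _ hlt _ _ hc' hr h0'
        (Int.toNat_of_nonneg hnn).symm hind'
      refine ⟨Equiv.reflection P i * g', Subgroup.mul_mem _ (refl_mem_WΔ P hiΔ) hg', i', hi', ?_⟩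
      rw [mul_smul, hgi]
      exact P.reflectionPerm_self i k

theorem conj_simple {Δ : Set ι} (hΔ : IsSimpleSys P Δ) {k : ι} (hind : IsIndiv P k) :
    ∃ g ∈ WΔ P Δ, ∃ i ∈ Δ, g • i = k := by
  obtain ⟨c, hc, hsign, hck⟩ := exists_coef P hΔ k
  rcases hsign with h0 | h0
  · obtain ⟨n, hn⟩ := Int.eq_ofNat_of_zero_le (ht_nonneg h0)
    exact conj_simple_pos P hΔ n k c hc hck h0 hn hind
  · have hck' : lc P (-c) = P.root (P.reflectionPerm k k) := by
      rw [root_neg, lc, map_neg]
      show -lc P c = _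
      rw [hck]
    have h0' : ∀ i, 0 ≤ (-c) i := by
      intro i; simpa using h0 i
    have hc' := support_neg_subset hc
    obtain ⟨n, hn⟩ := Int.eq_ofNat_of_zero_le (ht_nonneg h0')
    have hind' : IsIndiv P (P.reflectionPerm k k) := isIndiv_smul P (Equiv.reflection P k) hind
    obtain ⟨g, hg, i, hi, hgi⟩ := conj_simple_pos P hΔ n _ (-c) hc' hck' h0' hn hind'
    refine ⟨g * Equiv.reflection P i, Subgroup.mul_mem _ hg (refl_mem_WΔ P hi), i, hi, ?_⟩
    rw [mul_smul]
    show g • P.reflectionPerm i i = k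
    rw [smul_idx_neg, hgi, neg_neg_idx]

theorem WΔ_eq_weylGroup {Δ : Set ι} (hΔ : IsSimpleSys P Δ) : WΔ P Δ = P.weylGroup := by
  apply le_antisymm
  · apply (Subgroup.closure_le _).mpr
    rintro _ ⟨i, -, rfl⟩
    exact P.reflection_mem_weylGroup i
  · apply (Subgroup.closure_le _).mpr
    rintro _ ⟨k, rfl⟩
    have key : ∀ k, IsIndiv P k → Equiv.reflection P k ∈ WΔ P Δ := by
      intro k hk
      obtain ⟨g, hg, i, hi, hgi⟩ := conj_simple P hΔ hk
      rw [← hgi, ← aut_conj_reflection]
      exact Subgroup.mul_mem _ (Subgroup.mul_mem _ hg (refl_mem_WΔ P hi)) (Subgroup.inv_mem _ hg)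
    by_cases hk : IsIndiv P k
    · exact key k hk
    · unfold IsIndiv at hk
      push Not at hk
      obtain ⟨j, hj⟩ := hk
      rw [reflection_eq_of_two_smul P hj]
      exact key j (isIndiv_of_two_smul P hj)

end Groth.Agent.H8.RootD
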