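import Mathlib
import Groth.Prelude.Def_W4sga3xxiRoot
import Groth.Agent.Lib.helper8.RootD5

/-! Helper library (helper8): root pairings, part 6 (proportional roots). -/

set_option autoImplicit false

namespace Groth.Agent.H8.RootD

open RootPairing _root_.RootD

variable {ι M N : Type*} [AddCommGroup M] [AddCommGroup N] (P : RootPairing ι ℤ M N) [Finite ι]

theorem root_injective_smul {a : ℤ} (ha : a ≠ 0) {x y : M} (Q : RootPairing ι ℤ M N)
    (h : a • x = a • y) : x = y := by
  have : Module.IsReflexive ℤ M := .of_isPerfPair Q.toLinearMap
  exact smul_right_injective M ha h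

/-- proportional roots: the six possibilities -/
theorem prop_cases {i j : ι} (h : ¬ LinearIndependent ℤ ![P.root i, P.root j]) :
    P.root j = P.root i ∨ P.root j = -P.root i ∨ P.root j = (2 : ℤ) • P.root i ∨
      P.root j = -((2 : ℤ) • P.root i) ∨ (2 : ℤ) • P.root j = P.root i ∨
      (2 : ℤ) • P.root j = -P.root i := by
  have : Module.IsReflexive ℤ M := .of_isPerfPair P.toLinearMap
  have : Module.IsReflexive ℤ N := .of_isPerfPair P.flip.toLinearMap
  have h4 : P.coxeterWeight i j = 4 := (P.coxeterWeight_eq_four_iff_not_linearIndependent).mpr h
  have h1 := P.pairing_smul_root_eq_of_not_linearIndependent h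
  have hpq : P.pairing i j * P.pairing j i = 4 := h4
  have hdvd : P.pairing j i ∣ 4 := Dvd.intro_left _ hpq
  have hle : P.pairing j i ≤ 4 := Int.le_of_dvd (by norm_num) hdvd
  have hge : -4 ≤ P.pairing j i := by
    have : -P.pairing j i ∣ 4 := (neg_dvd).mpr hdvd
    have := Int.le_of_dvd (by norm_num) this
    omega
  generalize P.pairing j i = p at *
  generalize P.pairing i j = q at *
  interval_cases p
  · -- p = -4
    right; right; right; left
    have : (2 : ℤ) • P.root j = (2 : ℤ) • (-((2 : ℤ) • P.root i)) := by
      rw [← h1, smul_neg, smul_smul]; norm_num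
    exact root_injective_smul two_ne_zero P this
  · omega
  · -- p = -2
    right; left
    have : (2 : ℤ) • P.root j = (2 : ℤ) • (-P.root i) := by
      rw [← h1, smul_neg, neg_smul]
    exact root_injective_smul two_ne_zero P this
  · -- p = -1
    right; right; right; right; right
    rw [← h1]; simp
  · omega
  · -- p = 1
    right; right; right; right; left
    rw [← h1]; simp
  · -- p = 2
    left
    exact (root_injective_smul two_ne_zero P h1).symm
  · omega
  · -- p = 4
    right; right; left
    have : (2 : ℤ) • P.root j = (2 : ℤ) • ((2 : ℤ) • P.root i) := by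
      rw [← h1, smul_smul]; norm_num
    exact root_injective_smul two_ne_zero P this

theorem reflection_neg_eq (i : ι) :
    Equiv.reflection P (P.reflectionPerm i i) = Equiv.reflection P i := by
  apply Equiv.weightHom_injective P
  ext x
  show Equiv.reflection P _ • x = Equiv.reflection P i • x
  rw [Equiv.reflection_smul, Equiv.reflection_smul, P.reflection_apply, P.reflection_apply]
  congr 1
  show P.toLinearMap x (P.coroot _) • P.root _ = P.toLinearMap x (P.coroot i) • P.root i
  rw [coroot_neg, root_neg, map_neg, neg_smul, smul_neg, neg_neg]

theorem equivReflection_eq_of_not_li {i j : ι}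
    (h : ¬ LinearIndependent ℤ ![P.root i, P.root j]) :
    Equiv.reflection P j = Equiv.reflection P i := by
  rcases prop_cases P h with h | h | h | h | h | h
  · rw [P.root.injective h]
  · have : j = P.reflectionPerm i i := P.root.injective (by rw [root_neg, h])
    rw [this, reflection_neg_eq]
  · exact reflection_eq_of_two_smul P h.symm
  · have h' : (2 : ℤ) • P.root (P.reflectionPerm i i) = P.root j := by
      rw [root_neg, h, smul_neg]
    rw [reflection_eq_of_two_smul P h', reflection_neg_eq]
  · exact (reflection_eq_of_two_smul P h).symm
  · have h' : (2 : ℤ) • P.root j = P.root (P.reflectionPerm i i) := by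
      rw [root_neg, h]
    rw [← reflection_neg_eq P i, reflection_eq_of_two_smul P h']

theorem reflection_eq_of_not_li {i j : ι}
    (h : ¬ LinearIndependent ℤ ![P.root i, P.root j]) :
    P.reflection j = P.reflection i := by
  have := equivReflection_eq_of_not_li P h
  ext x
  rw [← Equiv.reflection_smul, ← Equiv.reflection_smul, this]

end Groth.Agent.H8.RootD
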