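import Mathlib
import Groth.Prelude.Def_W4sga3xxiRoot
import Groth.Agent.Lib.helper8.RootD6

/-! Helper library (helper8): root pairings, part 7 (automorphisms acting trivially mod roots). -/

set_option autoImplicit false

namespace Groth.Agent.H8.RootD

open RootPairing _root_.RootD

variable {ι M N : Type*} [AddCommGroup M] [AddCommGroup N] (P : RootPairing ι ℤ M N)

theorem aut_smul_mem_rootSpan (u : P.Aut) {x : M}
    (hx : x ∈ Submodule.span ℤ (Set.range P.root)) :
    u • x ∈ Submodule.span ℤ (Set.range P.root) := by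
  induction hx using Submodule.span_induction with
  | mem x hx =>
    obtain ⟨i, rfl⟩ := hx
    rw [aut_smul_root]
    exact Submodule.subset_span (Set.mem_range_self _)
  | zero => rw [smul_zero]; exact Submodule.zero_mem _
  | add x y _ _ hx hy => rw [smul_add]; exact Submodule.add_mem _ hx hy
  | smul a x _ hx => rw [smul_comm]; exact Submodule.smul_mem _ _ hx

/-- automorphisms acting trivially on `M` modulo the rational span of the roots -/
def KSub : Subgroup P.Aut where
  carrier := {u | ∀ m : M, ∃ n : ℕ, 0 < n ∧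
    n • (u • m - m) ∈ Submodule.span ℤ (Set.range P.root)}
  one_mem' := by
    intro m
    exact ⟨1, one_pos, by simp⟩
  mul_mem' := by
    intro u u' hu hu' m
    obtain ⟨n, hn, h⟩ := hu (u' • m)
    obtain ⟨n', hn', h'⟩ := hu' m
    refine ⟨n * n', Nat.mul_pos hn hn', ?_⟩
    have e1 : (n * n') • (u • (u' • m) - u' • m) = n' • (n • (u • (u' • m) - u' • m)) := by
      rw [mul_comm, mul_smul]
    have e2 : (n * n') • (u' • m - m) = n • (n' • (u' • m - m)) := by
      rw [mul_smul]
    have e : (n * n') • ((u * u') • m - m) =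
        n' • (n • (u • (u' • m) - u' • m)) + n • (n' • (u' • m - m)) := by
      rw [← e1, ← e2, ← smul_add, mul_smul u u' m]
      congr 1
      abel
    rw [e]
    exact Submodule.add_mem _ (Submodule.smul_of_tower_mem _ _ h)
      (Submodule.smul_of_tower_mem _ _ h')
  inv_mem' := by
    intro u hu m
    obtain ⟨n, hn, h⟩ := hu m
    refine ⟨n, hn, ?_⟩
    have e : n • (u⁻¹ • m - m) = -(u⁻¹ • (n • (u • m - m))) := by
      rw [smul_comm u⁻¹ n, smul_sub u⁻¹, inv_smul_smul, ← smul_neg, neg_sub]
    rw [e]
    exact Submodule.neg_mem _ (aut_smul_mem_rootSpan P _ h)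

theorem mem_KSub {u : P.Aut} : u ∈ KSub P ↔ ∀ m : M, ∃ n : ℕ, 0 < n ∧
    n • (u • m - m) ∈ Submodule.span ℤ (Set.range P.root) := Iff.rfl

variable [Finite ι]

theorem eq_one_of_fix (u : P.Aut) (hs : u ∈ KSub P) (hfix : ∀ i : ι, u • i = i) : u = 1 := by
  have : Module.IsReflexive ℤ M := .of_isPerfPair P.toLinearMap
  have : Fintype ι := Fintype.ofFinite ι
  apply Equiv.weightHom_injective P
  ext m
  show u • m = (1 : P.Aut) • m
  rw [one_smul]
  obtain ⟨n, hn, h⟩ := hs m
  have hd : ∀ i, P.coroot' i (u • m - m) = 0 := by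
    intro i
    have := aut_coroot' P u i m
    rw [hfix i] at this
    rw [map_sub, this, sub_self]
  have hx : ∀ i, P.coroot' i (n • (u • m - m)) = 0 := by
    intro i
    rw [map_nsmul, hd i, smul_zero]
  have hform : P.RootForm (n • (u • m - m)) (n • (u • m - m)) = 0 := by
    rw [P.rootForm_apply_apply]
    apply Finset.sum_eq_zero
    intro i _
    rw [hx i, mul_zero]
  have h0 := P.eq_zero_of_mem_rootSpan_of_rootForm_self_eq_zero h hform
  have h1 : u • m - m = 0 := by
    rw [← natCast_zsmul] at h0
    rcases smul_eq_zero.mp h0 with h2 | h2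
    · exfalso; omega
    · exact h2
  exact sub_eq_zero.mp h1

theorem KSub_finite : Set.Finite (KSub P : Set P.Aut) := by
  refine Set.Finite.of_injOn (f := MulAction.toPermHom P.Aut ι) (t := Set.univ)
    (fun _ _ => Set.mem_univ _) ?_ Set.finite_univ
  intro u hu u' hu' h
  have hv : u⁻¹ * u' ∈ KSub P := (KSub P).mul_mem ((KSub P).inv_mem hu) hu'
  have hfix : ∀ i : ι, (u⁻¹ * u') • i = i := by
    intro i
    have : u • i = u' • i := by
      have := congrArg (fun f => f i) h
      exact this
    rw [mul_smul, ← this, inv_smul_smul]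
  have := eq_one_of_fix P _ hv hfix
  exact (inv_mul_eq_one.mp this)

omit [Finite ι] in
theorem weylGroup_le_KSub : P.weylGroup ≤ KSub P := by
  apply (Subgroup.closure_le _).mpr
  rintro _ ⟨i, rfl⟩ m
  refine ⟨1, one_pos, ?_⟩
  rw [one_smul, Equiv.reflection_smul, P.reflection_apply]
  have : m - (P.coroot' i) m • P.root i - m = -((P.coroot' i) m • P.root i) := by abel
  rw [this]
  exact Submodule.neg_mem _ (Submodule.smul_mem _ _ (Submodule.subset_span (Set.mem_range_self i)))

end Groth.Agent.H8.RootD
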