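import Mathlib
import Groth.Prelude.Def_W4sga3xxiRoot
import Groth.Agent.Lib.helper8.RootD7

/-! Helper library (helper8): root pairings, part 8 (the simple system of a positive system). -/

set_option autoImplicit false

namespace Groth.Agent.H8.RootD

open RootPairing _root_.RootD

variable {ι M N : Type*} [AddCommGroup M] [AddCommGroup N] (P : RootPairing ι ℤ M N) [Finite ι]

omit [Finite ι] in
theorem lc_add (c d : ι →₀ ℤ) : lc P (c + d) = lc P c + lc P d := map_add _ _ _

omit [Finite ι] in
theorem lc_sub (c d : ι →₀ ℤ) : lc P (c - d) = lc P c - lc P d := map_sub _ _ _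

omit [Finite ι] in
theorem lc_neg (c : ι →₀ ℤ) : lc P (-c) = -lc P c := map_neg _ _

omit [Finite ι] in
theorem lc_smul (a : ℤ) (c : ι →₀ ℤ) : lc P (a • c) = a • lc P c := map_smul _ _ _

omit [Finite ι] in
theorem IsPosSys.closed {S : Set ι} (hS : IsPosSys P S) : IsClosedSub P S := by
  intro i j k hi hj hk
  apply hS.sat 1 one_pos
  rw [one_smul, hk]
  exact AddSubmonoid.add_mem _ (AddSubmonoid.subset_closure ⟨i, hi, rfl⟩)
    (AddSubmonoid.subset_closure ⟨j, hj, rfl⟩)

/-- the indecomposable elements of `S` -/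
def indec (S : Set ι) : Set ι :=
  {k | k ∈ S ∧ ¬ ∃ i ∈ S, ∃ j ∈ S, P.root k = P.root i + P.root j}

omit [Finite ι] in
theorem indec_subset (S : Set ι) : indec P S ⊆ S := fun _ h => h.1

/-- no nonempty multiset of elements of a positive system sums to zero -/
theorem posSys_no_zero_sum {S : Set ι} (hS : IsPosSys P S) (t : Multiset ι) (ht : t ≠ 0)
    (htS : ∀ a ∈ t, a ∈ S) : (t.map P.root).sum ≠ 0 := by
  obtain ⟨n, hn⟩ : ∃ n, t.card = n + 1 := by
    have : 0 < t.card := Multiset.card_pos.mpr ht
    exact ⟨t.card - 1, by omega⟩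
  exact no_zero_sum P (IsPosSys.closed P hS) (fun i hi => hS.disjoint hi) n t hn htS

/-- the relation `j ≺ k` : `root k = root j + root i` for some `i ∈ S` -/
def prec (S : Set ι) (j k : ι) : Prop := ∃ i ∈ S, P.root k = P.root j + P.root i

omit [Finite ι] in
theorem transGen_prec {S : Set ι} {j k : ι} (h : Relation.TransGen (prec P S) j k) :
    ∃ t : Multiset ι, t ≠ 0 ∧ (∀ a ∈ t, a ∈ S) ∧ P.root k = P.root j + (t.map P.root).sum := by
  induction h with
  | single h =>
    obtain ⟨i, hi, hk⟩ := h
    exact ⟨{i}, by simp, by simpa using hi, by simpa using hk⟩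
  | tail _ h ih =>
    obtain ⟨t, ht, htS, hsum⟩ := ih
    obtain ⟨i, hi, hk⟩ := h
    refine ⟨i ::ₘ t, by simp, ?_, ?_⟩
    · intro a ha
      rcases Multiset.mem_cons.mp ha with rfl | ha
      · exact hi
      · exact htS a ha
    · rw [hk, hsum, Multiset.map_cons, Multiset.sum_cons]; abel

theorem prec_wf {S : Set ι} (hS : IsPosSys P S) : WellFounded (prec P S) := by
  have hirr : IsIrrefl ι (Relation.TransGen (prec P S)) := ⟨by
    intro k hk
    obtain ⟨t, ht, htS, hsum⟩ := transGen_prec P hk
    apply posSys_no_zero_sum P hS t ht htS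
    have : P.root k + 0 = P.root k + (t.map P.root).sum := by rw [add_zero]; exact hsum
    exact (add_left_cancel this).symm⟩
  have htr : IsTrans ι (Relation.TransGen (prec P S)) := ⟨fun _ _ _ => Relation.TransGen.trans⟩
  have hwf : WellFounded (Relation.TransGen (prec P S)) :=
    Finite.wellFounded_of_trans_of_irrefl _
  exact Subrelation.wf (fun h => Relation.TransGen.single h) hwf

theorem posSys_subset_natSpan_indec {S : Set ι} (hS : IsPosSys P S) :
    ∀ k ∈ S, P.root k ∈ natSpan P (indec P S) := by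
  intro k
  induction k using (prec_wf P hS).induction with
  | _ k ih =>
    intro hk
    by_cases hdec : ∃ i ∈ S, ∃ j ∈ S, P.root k = P.root i + P.root j
    · obtain ⟨i, hi, j, hj, hsum⟩ := hdec
      have h1 := ih i ⟨j, hj, hsum⟩ hi
      have h2 := ih j ⟨i, hi, by rw [hsum, add_comm]⟩ hj
      rw [hsum]
      exact AddSubmonoid.add_mem _ h1 h2
    · exact AddSubmonoid.subset_closure ⟨k, ⟨hk, hdec⟩, rfl⟩

theorem indec_obtuse {S : Set ι} (hS : IsPosSys P S) {i j : ι} (hi : i ∈ indec P S)
    (hj : j ∈ indec P S) (hij : i ≠ j) : P.pairing i j ≤ 0 := by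
  by_contra hpos
  push Not at hpos
  obtain ⟨k, hk⟩ := sub_mem_of_pos P hpos hij
  rcases hS.cover k with hkS | hkS
  · exact hi.2 ⟨k, hkS, j, hj.1, by rw [hk]; abel⟩
  · exact hj.2 ⟨i, hi.1, _, hkS, by rw [root_neg, hk]; abel⟩

theorem rootForm_root_pos [Fintype ι] (i : ι) : 0 < P.RootForm (P.root i) (P.root i) :=
  P.rootForm_pos_of_ne_zero (Submodule.subset_span (Set.mem_range_self i)) (P.ne_zero i)

theorem rootForm_root_root_nonpos [Fintype ι] {i j : ι} (h : P.pairing i j ≤ 0) :
    P.RootForm (P.root i) (P.root j) ≤ 0 := by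
  have h2 : 2 * P.RootForm (P.root i) (P.root j) =
      P.pairing i j * P.RootForm (P.root j) (P.root j) :=
    P.toInvariantForm.two_mul_apply_root_root i j
  have hpos := rootForm_root_pos P j
  nlinarith

/-- nonneg ℤ-combination of elements of a positive system vanishing ⇒ zero coefficients -/
theorem coef_zero_of_lc_zero {S : Set ι} (hS : IsPosSys P S) {c : ι →₀ ℤ} (hc : ↑c.support ⊆ S)
    (h0 : ∀ i, 0 ≤ c i) (h : lc P c = 0) : c = 0 := by
  by_contra hne
  obtain ⟨i₀, hi₀⟩ : ∃ i₀, c i₀ ≠ 0 := by
    by_contra hcon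
    push Not at hcon
    exact hne (Finsupp.ext hcon)
  have hi₀S : i₀ ∈ S := hc (Finsupp.mem_support_iff.mpr hi₀)
  have hpos : 0 < c i₀ := lt_of_le_of_ne (h0 i₀) (Ne.symm hi₀)
  have hc' : ↑(c - Finsupp.single i₀ 1).support ⊆ S :=
    support_sub_subset hc (support_single_subset hi₀S 1)
  have h0' : ∀ a, 0 ≤ (c - Finsupp.single i₀ (1 : ℤ) : ι →₀ ℤ) a := by
    intro a
    rw [Finsupp.sub_apply]
    by_cases ha : a = i₀
    · rw [ha, Finsupp.single_eq_same]; omega
    · rw [Finsupp.single_eq_of_ne ha, sub_zero]; exact h0 a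
  have hmem := mem_natSpan_of_coef P _ hc' h0'
  obtain ⟨t, htS, hsum⟩ := exists_multiset_of_mem_natSpan P hmem
  apply posSys_no_zero_sum P hS (i₀ ::ₘ t) (by simp)
  · intro a ha
    rcases Multiset.mem_cons.mp ha with rfl | ha
    · exact hi₀S
    · exact htS a ha
  · rw [Multiset.map_cons, Multiset.sum_cons, hsum, ← h]
    have : c = Finsupp.single i₀ 1 + (c - Finsupp.single i₀ 1) := by abel
    conv_rhs => rw [this]
    rw [lc_add, lc_single, one_smul]

theorem indec_linInd {S : Set ι} (hS : IsPosSys P S) : LinearIndepOn ℤ P.root (indec P S) := by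
  classical
  have : Fintype ι := Fintype.ofFinite ι
  rw [linearIndepOn_iff]
  intro c hc hlc
  have hc' : ↑c.support ⊆ indec P S := hc
  -- positive and negative parts
  let cp : ι →₀ ℤ := c.mapRange (fun a => max a 0) (by simp)
  let cn : ι →₀ ℤ := c.mapRange (fun a => max (-a) 0) (by simp)
  have hcp : ∀ i, cp i = max (c i) 0 := fun i => by simp [cp]
  have hcn : ∀ i, cn i = max (-(c i)) 0 := fun i => by simp [cn]
  have hsplit : c = cp - cn := by
    ext i
    rw [Finsupp.sub_apply, hcp, hcn]
    rcases le_total (c i) 0 with h | h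
    · rw [max_eq_right h, max_eq_left (by omega)]; omega
    · rw [max_eq_left h, max_eq_right (by omega)]; omega
  have hcps : ↑cp.support ⊆ indec P S := by
    intro i hi
    apply hc'
    rw [Finset.mem_coe, Finsupp.mem_support_iff] at hi ⊢
    intro h0
    apply hi
    rw [hcp, h0]; simp
  have hcns : ↑cn.support ⊆ indec P S := by
    intro i hi
    apply hc'
    rw [Finset.mem_coe, Finsupp.mem_support_iff] at hi ⊢
    intro h0
    apply hi
    rw [hcn, h0]; simp
  have heq : lc P cp = lc P cn := by
    have : lc P c = lc P cp - lc P cn := by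
      conv_lhs => rw [hsplit]
      rw [lc_sub]
    have hlc' : lc P c = 0 := hlc
    rw [hlc'] at this
    exact (sub_eq_zero.mp this.symm)
  -- the form
  have hform : P.RootForm (lc P cp) (lc P cn) ≤ 0 := by
    have e1 : lc P cp = ∑ i, cp i • P.root i := by
      rw [lc, Finsupp.linearCombination_apply, Finsupp.sum_fintype]
      intro i; simp
    have e2 : lc P cn = ∑ j, cn j • P.root j := by
      rw [lc, Finsupp.linearCombination_apply, Finsupp.sum_fintype]
      intro i; simp
    rw [e1, e2, map_sum]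
    apply Finset.sum_nonpos
    intro j _
    rw [map_sum, LinearMap.sum_apply]
    apply Finset.sum_nonpos
    intro i _
    rw [map_smul, map_smul, LinearMap.smul_apply, smul_eq_mul, smul_eq_mul]
    by_cases hi0 : cp i = 0
    · rw [hi0]; simp
    by_cases hj0 : cn j = 0
    · rw [hj0]; simp
    have hi : i ∈ indec P S := hcps (Finsupp.mem_support_iff.mpr hi0)
    have hj : j ∈ indec P S := hcns (Finsupp.mem_support_iff.mpr hj0)
    have hij : i ≠ j := by
      rintro rfl
      rw [hcp] at hi0
      rw [hcn] at hj0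
      rcases le_total (c i) 0 with h | h
      · exact hi0 (max_eq_right h)
      · exact hj0 (max_eq_right (by omega))
    have hB := rootForm_root_root_nonpos P (indec_obtuse P hS hi hj hij)
    have hcpi : 0 ≤ cp i := by rw [hcp]; exact le_max_right _ _
    have hcnj : 0 ≤ cn j := by rw [hcn]; exact le_max_right _ _
    have := mul_nonneg hcpi hcnj
    nlinarith
  have hx : lc P cp ∈ P.rootSpan ℤ := by
    rw [lc, Finsupp.linearCombination_apply]
    refine Submodule.sum_mem _ ?_
    intro i _
    exact Submodule.smul_mem _ _ (Submodule.subset_span (Set.mem_range_self i))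
  have hzero : lc P cp = 0 := by
    apply P.eq_zero_of_mem_rootSpan_of_rootForm_self_eq_zero hx
    apply le_antisymm
    · have := hform
      rwa [← heq] at this
    · exact P.zero_le_rootForm _
  have hcp0 : cp = 0 := coef_zero_of_lc_zero P hS (hcps.trans (indec_subset P S))
    (fun i => by rw [hcp]; exact le_max_right _ _) hzero
  have hcn0 : cn = 0 := coef_zero_of_lc_zero P hS (hcns.trans (indec_subset P S))
    (fun i => by rw [hcn]; exact le_max_right _ _) (heq ▸ hzero)
  rw [hsplit, hcp0, hcn0, sub_zero]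

theorem indec_isSimpleSys {S : Set ι} (hS : IsPosSys P S) : IsSimpleSys P (indec P S) := by
  refine ⟨indec_linInd P hS, ?_⟩
  intro k
  rcases hS.cover k with h | h
  · exact Or.inl (posSys_subset_natSpan_indec P hS k h)
  · right
    have := posSys_subset_natSpan_indec P hS _ h
    rwa [root_neg] at this

end Groth.Agent.H8.RootD
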