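import Mathlib
import Groth.Prelude.Def_W4sga3xxiRoot
import Groth.Agent.Lib.helper8.RootD8

/-! Helper library (helper8): root pairings, part 9 (Weyl group transitivity). -/

set_option autoImplicit false

namespace Groth.Agent.H8.RootD

open RootPairing _root_.RootD

variable {ι M N : Type*} [AddCommGroup M] [AddCommGroup N] (P : RootPairing ι ℤ M N)

theorem smul_mem_natSpan_image (g : P.Aut) {S : Set ι} {x : M} (hx : x ∈ natSpan P S) :
    g • x ∈ natSpan P ((fun i : ι => g • i) '' S) := by
  induction hx using AddSubmonoid.closure_induction with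
  | mem x hx =>
    obtain ⟨i, hi, rfl⟩ := hx
    rw [aut_smul_root]
    exact AddSubmonoid.subset_closure ⟨g • i, ⟨i, hi, rfl⟩, rfl⟩
  | zero => rw [smul_zero]; exact AddSubmonoid.zero_mem _
  | add x y _ _ hx hy => rw [smul_add]; exact AddSubmonoid.add_mem _ hx hy

theorem image_inv_image (g : P.Aut) (S : Set ι) :
    (fun i : ι => g⁻¹ • i) '' ((fun i : ι => g • i) '' S) = S := by
  ext x
  constructor
  · rintro ⟨_, ⟨i, hi, rfl⟩, rfl⟩
    show g⁻¹ • g • i ∈ S
    rwa [inv_smul_smul]
  · intro hx
    exact ⟨g • x, ⟨x, hx, rfl⟩, inv_smul_smul g x⟩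

theorem mem_natSpan_image_iff (g : P.Aut) {S : Set ι} {x : M} :
    g • x ∈ natSpan P ((fun i : ι => g • i) '' S) ↔ x ∈ natSpan P S := by
  constructor
  · intro h
    have := smul_mem_natSpan_image P g⁻¹ h
    rwa [inv_smul_smul, image_inv_image] at this
  · exact smul_mem_natSpan_image P g

theorem IsPosSys.image (g : P.Aut) {S : Set ι} (hS : IsPosSys P S) :
    IsPosSys P ((fun i : ι => g • i) '' S) := by
  refine ⟨?_, ?_, ?_⟩
  · rintro _ ⟨i, hi, rfl⟩ ⟨j, hj, hji⟩
    have hji' : g • j = g • P.reflectionPerm i i := by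
      change g • j = P.reflectionPerm (g • i) (g • i) at hji
      rw [hji, smul_idx_neg]
    have : j = P.reflectionPerm i i := MulAction.injective g hji'
    exact hS.disjoint hi (this ▸ hj)
  · intro x
    rcases hS.cover (g⁻¹ • x) with h | h
    · left
      exact ⟨g⁻¹ • x, h, smul_inv_smul g x⟩
    · right
      refine ⟨_, h, ?_⟩
      change g • P.reflectionPerm (g⁻¹ • x) (g⁻¹ • x) = P.reflectionPerm x x
      rw [smul_idx_neg, smul_inv_smul]
  · intro x n hn hx
    have hx' : g • (n • P.root (g⁻¹ • x)) ∈ natSpan P ((fun i : ι => g • i) '' S) := by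
      rw [smul_comm, aut_smul_root, smul_inv_smul]
      exact hx
    have := hS.sat n hn ((mem_natSpan_image_iff P g).mp hx')
    exact ⟨g⁻¹ • x, this, smul_inv_smul g x⟩

theorem IsSimpleSys.image (g : P.Aut) {Δ : Set ι} (hΔ : IsSimpleSys P Δ) :
    IsSimpleSys P ((fun i : ι => g • i) '' Δ) := by
  classical
  refine ⟨?_, ?_⟩
  · rw [linearIndepOn_iff]
    intro c hc hlc
    -- pull back the coefficients
    have hc' : ↑c.support ⊆ (fun i : ι => g • i) '' Δ := hc
    let d : ι →₀ ℤ := c.mapDomain (fun i => g⁻¹ • i)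
    have hd : lc P d = g⁻¹ • lc P c := by
      simp only [lc, d, Finsupp.linearCombination_mapDomain]
      rw [Finsupp.linearCombination_apply, Finsupp.linearCombination_apply, Finsupp.sum,
        Finsupp.sum, Finset.smul_sum]
      apply Finset.sum_congr rfl
      intro i _
      rw [Function.comp_apply, ← aut_smul_root, smul_comm]
    have hds : ↑d.support ⊆ Δ := by
      intro j hj
      have := Finsupp.mapDomain_support hj
      obtain ⟨i, hi, rfl⟩ := Finset.mem_image.mp this
      obtain ⟨i', hi', rfl⟩ := hc' hi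
      rw [inv_smul_smul]
      exact hi'
    have hlc' : lc P c = 0 := hlc
    rw [hlc', smul_zero] at hd
    have hd0 : d = 0 := linearIndepOn_iff.mp hΔ.linInd d hds hd
    have hinj : Function.Injective (fun i : ι => g⁻¹ • i) := MulAction.injective g⁻¹
    exact Finsupp.mapDomain_injective hinj (by rw [Finsupp.mapDomain_zero]; exact hd0)
  · intro x
    have hx : P.root x = g • P.root (g⁻¹ • x) := by rw [aut_smul_root, smul_inv_smul]
    rcases hΔ.mem_or_neg_mem (g⁻¹ • x) with h | h
    · left
      rw [hx]
      exact smul_mem_natSpan_image P g h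
    · right
      rw [hx, ← smul_neg]
      exact smul_mem_natSpan_image P g h

variable [Finite ι]

theorem simple_indiv {Δ : Set ι} (hΔ : IsSimpleSys P Δ) {i : ι} (hi : i ∈ Δ) : IsIndiv P i := by
  intro j hj
  obtain ⟨c, hc, -, hcj⟩ := exists_coef P hΔ j
  have h1 : lc P ((2 : ℤ) • c) = lc P (Finsupp.single i 1) := by
    rw [lc_single, one_smul, ← hj, ← hcj, lc_smul]
  have h2 := coef_unique P hΔ.linInd (support_smul_subset hc 2) (support_single_subset hi 1) h1
  have h3 := DFunLike.congr_fun h2 i
  simp at h3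
  omega

theorem posSys_eq_of_subset {S S' : Set ι} (hS : IsPosSys P S) (hS' : IsPosSys P S')
    (h : S ⊆ S') : S = S' := by
  apply Set.Subset.antisymm h
  intro k hk
  by_contra hk'
  have := (hS.cover k).resolve_left hk'
  exact hS'.disjoint hk (h this)

omit [Finite ι] in
theorem refl_image_eq (δ : ι) (S : Set ι) :
    (fun i : ι => Equiv.reflection P δ • i) '' S = (fun i => P.reflectionPerm δ i) '' S := rfl

/-- the key step: reflecting a positive system in a simple root not in `T` -/
theorem step_diff {S T : Set ι} (hS : IsPosSys P S) (hTc : IsClosedSub P T)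
    (hTcov : ∀ i : ι, i ∈ T ∨ P.reflectionPerm i i ∈ T) {δ : ι} (hδ : δ ∈ indec P S)
    (hδT : δ ∉ T) :
    ((fun i : ι => Equiv.reflection P δ • i) '' S) \ T ⊂ S \ T := by
  have hΔ := indec_isSimpleSys P hS
  have hSeq : S = posOf P (indec P S) :=
    (posSys_eq_posOf_iff P hΔ hS).mp (indec_subset P S)
  have hnegδ : P.reflectionPerm δ δ ∈ T := (hTcov δ).resolve_left hδT
  rw [Set.ssubset_iff_of_subset]
  · refine ⟨δ, ⟨hδ.1, hδT⟩, ?_⟩
    rintro ⟨⟨k, hk, hkδ⟩, -⟩
    change P.reflectionPerm δ k = δ at hkδ
    have : k = P.reflectionPerm δ δ := by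
      have h1 := P.reflectionPerm_self δ k
      rw [hkδ] at h1
      exact h1.symm
    exact hS.disjoint hδ.1 (this ▸ hk)
  · rintro x ⟨⟨k, hk, rfl⟩, hxT⟩
    refine ⟨?_, hxT⟩
    change P.reflectionPerm δ k ∈ S
    by_cases hli : LinearIndependent ℤ ![P.root k, P.root δ]
    · rw [hSeq]
      obtain ⟨c, hc, -, hck⟩ := exists_coef P hΔ k
      have h0 := (mem_posOf_iff P hΔ k hc hck).mp (hSeq ▸ hk)
      exact posOf_reflection_of_exists P hΔ hδ hc hck
        (exists_ne_pos_of_linearIndependent P hck h0 hli)
    · exfalso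
      apply hxT
      change P.reflectionPerm δ k ∈ T
      have hind := simple_indiv P hΔ hδ
      have hrefl : ∀ c : ℤ, P.root k = c • P.root δ →
          P.root (P.reflectionPerm δ k) = c • P.root (P.reflectionPerm δ δ) := by
        intro c hc
        rw [P.root_reflectionPerm, hc, map_smul, P.reflection_apply_self, root_neg]
      rcases prop_cases P hli with h | h | h | h | h | h
      · -- root δ = root k
        have : k = δ := (P.root.injective h).symm
        rw [this]
        exact hnegδ
      · -- root δ = - root k : k = -δ ∈ S, contradiction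
        exfalso
        have : k = P.reflectionPerm δ δ := by
          apply P.root.injective
          rw [root_neg, h, neg_neg]
        exact hS.disjoint hδ.1 (this ▸ hk)
      · exact absurd h.symm (hind k)
      · exfalso
        apply hind (P.reflectionPerm k k)
        rw [root_neg, h, smul_neg]
      · -- 2 root δ = root k
        have h2 := hrefl 2 h.symm
        have : P.root (P.reflectionPerm δ k) =
            P.root (P.reflectionPerm δ δ) + P.root (P.reflectionPerm δ δ) := by
          rw [h2, two_smul]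
        exact hTc hnegδ hnegδ this
      · -- 2 root δ = - root k : then -k ∈ S by saturation, contradiction
        exfalso
        have : P.reflectionPerm k k ∈ S := by
          apply hS.sat 1 one_pos
          rw [one_smul, root_neg, ← h, two_smul]
          exact AddSubmonoid.add_mem _ (AddSubmonoid.subset_closure ⟨δ, hδ.1, rfl⟩)
            (AddSubmonoid.subset_closure ⟨δ, hδ.1, rfl⟩)
        exact hS.disjoint hk this

/-- S5453: a closed set `T` with `T ∪ -T = R` contains a Weyl conjugate of any positive system -/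
theorem conj_into_closed {T : Set ι} (hTc : IsClosedSub P T)
    (hTcov : ∀ i : ι, i ∈ T ∨ P.reflectionPerm i i ∈ T) :
    ∀ (n : ℕ) (S : Set ι), IsPosSys P S → (S \ T).ncard = n →
      ∃ g : P.Aut, g ∈ P.weylGroup ∧ (fun i : ι => g • i) '' S ⊆ T := by
  intro n
  induction n using Nat.strong_induction_on with
  | _ n ih =>
    intro S hS hn
    have hΔ := indec_isSimpleSys P hS
    have hSeq : S = posOf P (indec P S) :=
      (posSys_eq_posOf_iff P hΔ hS).mp (indec_subset P S)
    by_cases hsub : indec P S ⊆ T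
    · refine ⟨1, Subgroup.one_mem _, ?_⟩
      rintro _ ⟨k, hk, rfl⟩
      show (1 : P.Aut) • k ∈ T
      rw [one_smul]
      rw [hSeq] at hk
      have hk' : P.root k ∈ natSpan P T := AddSubmonoid.closure_mono (Set.image_mono hsub) hk
      obtain ⟨t, htT, hsum⟩ := exists_multiset_of_mem_natSpan P hk'
      exact mem_of_closed_of_sum P hTc _ t rfl htT k hsum.symm
    · obtain ⟨δ, hδ, hδT⟩ := Set.not_subset.mp hsub
      have hstep := step_diff P hS hTc hTcov hδ hδT
      have hlt : (((fun i : ι => Equiv.reflection P δ • i) '' S) \ T).ncard < n := by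
        rw [← hn]
        exact Set.ncard_lt_ncard hstep (Set.toFinite _)
      obtain ⟨g, hg, hgS⟩ := ih _ hlt _ (IsPosSys.image P (Equiv.reflection P δ) hS) rfl
      refine ⟨g * Equiv.reflection P δ,
        Subgroup.mul_mem _ hg (P.reflection_mem_weylGroup δ), ?_⟩
      rintro _ ⟨k, hk, rfl⟩
      show (g * Equiv.reflection P δ) • k ∈ T
      rw [mul_smul]
      exact hgS ⟨_, ⟨k, hk, rfl⟩, rfl⟩

theorem weyl_transitive_posSys {S S' : Set ι} (hS : IsPosSys P S) (hS' : IsPosSys P S') :
    ∃ g : P.Aut, g ∈ P.weylGroup ∧ (fun i : ι => g • i) '' S = S' := by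
  obtain ⟨g, hg, hgS⟩ := conj_into_closed P (IsPosSys.closed P hS') hS'.cover _ S hS rfl
  exact ⟨g, hg, posSys_eq_of_subset P (IsPosSys.image P g hS) hS' hgS⟩

theorem simpleSys_unique {S Δ Δ' : Set ι} (hS : IsPosSys P S) (hΔ : IsSimpleSys P Δ)
    (hΔ' : IsSimpleSys P Δ') (h : Δ ⊆ S) (h' : Δ' ⊆ S) : Δ = Δ' := by
  have key : ∀ D : Set ι, IsSimpleSys P D → D ⊆ S → D = indec P S := by
    intro D hD hsub
    have hSeq : S = posOf P D := (posSys_eq_posOf_iff P hD hS).mp hsub
    ext k
    constructor
    · intro hk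
      refine ⟨hsub hk, ?_⟩
      rintro ⟨i, hi, j, hj, hsum⟩
      obtain ⟨ci, hci, -, hcik⟩ := exists_coef P hD i
      obtain ⟨cj, hcj, -, hcjk⟩ := exists_coef P hD j
      have hi0 := (mem_posOf_iff P hD i hci hcik).mp (hSeq ▸ hi)
      have hj0 := (mem_posOf_iff P hD j hcj hcjk).mp (hSeq ▸ hj)
      have e : lc P (Finsupp.single k 1) = lc P (ci + cj) := by
        rw [lc_single, one_smul, hsum, lc_add, hcik, hcjk]
      have hu := coef_unique P hD.linInd (support_single_subset hk 1)
        (support_add_subset hci hcj) e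
      have hval : ∀ a, (Finsupp.single k (1 : ℤ)) a = ci a + cj a := by
        intro a; rw [hu]; rfl
      have hk1 := hval k
      rw [Finsupp.single_eq_same] at hk1
      have hik := hi0 k
      have hjk := hj0 k
      rcases (by omega : ci k = 0 ∨ cj k = 0) with hz | hz
      · apply coef_ne_zero P hcik
        ext a
        by_cases ha : a = k
        · rw [ha, hz]; rfl
        · have := hval a
          rw [Finsupp.single_eq_of_ne ha] at this
          have h1 := hi0 a
          have h2 := hj0 a
          show ci a = 0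
          omega
      · apply coef_ne_zero P hcjk
        ext a
        by_cases ha : a = k
        · rw [ha, hz]; rfl
        · have := hval a
          rw [Finsupp.single_eq_of_ne ha] at this
          have h1 := hi0 a
          have h2 := hj0 a
          show cj a = 0
          omega
    · rintro ⟨hkS, hk⟩
      by_contra hkD
      obtain ⟨c, hc, -, hck⟩ := exists_coef P hD k
      have h0 := (mem_posOf_iff P hD k hc hck).mp (hSeq ▸ hkS)
      obtain ⟨i, hiD, j, -, -, hkji, hsj, hcj, hj0⟩ := pos_descent P hD hc hck h0 hkD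
      apply hk
      refine ⟨j, ?_, i, hsub hiD, hkji⟩
      rw [hSeq]
      exact (mem_posOf_iff P hD j hsj hcj).mpr hj0
  rw [key Δ hΔ h, key Δ' hΔ' h']

theorem weyl_transitive_simpleSys {Δ Δ' : Set ι} (hΔ : IsSimpleSys P Δ) (hΔ' : IsSimpleSys P Δ') :
    ∃ g : P.Aut, g ∈ P.weylGroup ∧ (fun i : ι => g • i) '' Δ = Δ' := by
  obtain ⟨g, hg, hgS⟩ := weyl_transitive_posSys P (isPosSys_posOf P hΔ) (isPosSys_posOf P hΔ')
  refine ⟨g, hg, ?_⟩
  apply simpleSys_unique P (isPosSys_posOf P hΔ') (IsSimpleSys.image P g hΔ) hΔ' _ (subset_posOf P)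
  rw [← hgS]
  exact Set.image_mono (subset_posOf P)

end Groth.Agent.H8.RootD
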