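import Mathlib
import Groth.Prelude.Def_W4sga3xxiRoot
import Groth.Agent.Lib.helper8.RootD9

/-! Helper library (helper8): root pairings, part 10 (existence of positive systems, parabolic sets). -/

set_option autoImplicit false

namespace Groth.Agent.H8.RootD

open RootPairing _root_.RootD

variable {ι M N : Type*} [AddCommGroup M] [AddCommGroup N] (P : RootPairing ι ℤ M N)

/-- S5457 as a library lemma -/
theorem isPosSys_of_hom {G : Type*} [AddCommGroup G] [PartialOrder G]
    [IsOrderedAddMonoid G] (φ : M →+ G) (hφ : ∀ i : ι, 0 < φ (P.root i) ∨ φ (P.root i) < 0) :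
    IsPosSys P {i : ι | 0 < φ (P.root i)} := by
  refine ⟨?_, ?_, ?_⟩
  · intro i hi hi'
    change 0 < φ (P.root i) at hi
    change 0 < φ (P.root (P.reflectionPerm i i)) at hi'
    rw [root_neg, map_neg] at hi'
    have : φ (P.root i) < 0 := by simpa using hi'
    exact lt_asymm hi this
  · intro i
    rcases hφ i with h | h
    · exact Or.inl h
    · right
      change 0 < φ (P.root (P.reflectionPerm i i))
      rw [root_neg, map_neg]
      simpa using h
  · intro k n hn hk
    have hnonneg : ∀ x ∈ natSpan P {i : ι | 0 < φ (P.root i)}, 0 ≤ φ x := by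
      intro x hx
      induction hx using AddSubmonoid.closure_induction with
      | mem x hx =>
        obtain ⟨i, hi, rfl⟩ := hx
        exact le_of_lt hi
      | zero => simp
      | add x y _ _ hx hy =>
        rw [map_add]
        exact add_nonneg hx hy
    have h1 := hnonneg _ hk
    rw [map_nsmul] at h1
    rcases hφ k with h | h
    · exact h
    · exfalso
      have h2 : 0 < n • (-φ (P.root k)) := nsmul_pos (by simpa using h) (Nat.pos_iff_ne_zero.mp hn)
      rw [smul_neg] at h2
      have h3 : n • φ (P.root k) < 0 := by simpa using h2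
      exact absurd h1 (not_le_of_gt h3)

variable [Finite ι]

theorem exists_posSys : ∃ S : Set ι, IsPosSys P S := by
  classical
  let r := Nat.card ι
  let e : ι ≃ Fin r := Finite.equivFin ι
  let φ : M →+ Lex (Fin r → ℤ) :=
    AddMonoidHom.mk' (fun m => toLex (fun j => P.toLinearMap m (P.coroot (e.symm j))))
      (by
        intro a b
        apply (ofLex).injective
        funext j
        simp only [map_add, LinearMap.add_apply]
        rfl)
  refine ⟨_, isPosSys_of_hom P φ ?_⟩
  intro i
  have hne : φ (P.root i) ≠ 0 := by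
    intro h0
    have h1 := congrArg (fun f => (ofLex f : Fin r → ℤ) (e i)) h0
    have h2 : P.toLinearMap (P.root i) (P.coroot i) = 2 := P.pairing_same i
    simp [φ, h2] at h1
    have h3 : (0 : Lex (Fin r → ℤ)) (e i) = (0 : ℤ) := rfl
    rw [h3] at h1
    norm_num at h1
  rcases lt_or_gt_of_ne hne with h | h
  · exact Or.inr h
  · exact Or.inl h

/-- S5458 -/
theorem closed_superset_eq {S Δ P' : Set ι} (hS : IsPosSys P S) (hΔ : IsSimpleSys P Δ)
    (hΔS : Δ ⊆ S) (hcl : IsClosedSub P P') (hSP : S ⊆ P') :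
    P' = S ∪ {k : ι | -P.root k ∈ natSpan P {i : ι | i ∈ Δ ∧ P.reflectionPerm i i ∈ P'}} := by
  have hSeq : S = posOf P Δ := (posSys_eq_posOf_iff P hΔ hS).mp hΔS
  apply Set.Subset.antisymm
  · intro k hk
    by_cases hkS : k ∈ S
    · exact Or.inl hkS
    right
    have hβ : P.reflectionPerm k k ∈ S := (hS.cover k).resolve_left hkS
    have key : ∀ (n : ℕ) (β : ι) (c : ι →₀ ℤ), ↑c.support ⊆ Δ → lc P c = P.root β →
        (∀ i, 0 ≤ c i) → ht c = n → P.reflectionPerm β β ∈ P' →
        ↑c.support ⊆ {i : ι | i ∈ Δ ∧ P.reflectionPerm i i ∈ P'} := by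
      intro n
      induction n with
      | zero =>
        intro β c _ hcβ h0 hn
        have := ht_pos_of_root P hcβ h0
        rw [hn] at this
        simp at this
      | succ n ih =>
        intro β c hc hcβ h0 hn hβP
        by_cases hβΔ : β ∈ Δ
        · rw [coef_simple P hΔ hβΔ hc hcβ]
          exact support_single_subset (S := {i : ι | i ∈ Δ ∧ P.reflectionPerm i i ∈ P'})
            ⟨hβΔ, hβP⟩ 1
        · obtain ⟨δ, hδΔ, β', -, -, hsum, hsβ', hcβ', hβ'0⟩ := pos_descent P hΔ hc hcβ h0 hβΔ
          have hnβ' : ht (c - Finsupp.single δ 1) = n := by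
            rw [map_sub, ht_single, hn]; push_cast; ring
          have hβ'P : P.reflectionPerm β' β' ∈ P' := by
            refine hcl hβP (hSP (hΔS hδΔ)) ?_
            rw [root_neg, root_neg, hsum]; abel
          have hβ'S : β' ∈ S := by
            rw [hSeq]
            exact (mem_posOf_iff P hΔ β' hsβ' hcβ').mpr hβ'0
          have hδP : P.reflectionPerm δ δ ∈ P' := by
            refine hcl hβP (hSP hβ'S) ?_
            rw [root_neg, root_neg, hsum]; abel
          have hih := ih β' _ hsβ' hcβ' hβ'0 hnβ' hβ'P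
          have hcdecomp : c = (c - Finsupp.single δ 1) + Finsupp.single δ 1 := by abel
          rw [hcdecomp]
          exact support_add_subset hih
            (support_single_subset (S := {i : ι | i ∈ Δ ∧ P.reflectionPerm i i ∈ P'})
              ⟨hδΔ, hδP⟩ 1)
    obtain ⟨c, hc, -, hcβ⟩ := exists_coef P hΔ (P.reflectionPerm k k)
    have h0 := (mem_posOf_iff P hΔ _ hc hcβ).mp (hSeq ▸ hβ)
    obtain ⟨n, hn⟩ := Int.eq_ofNat_of_zero_le (ht_nonneg h0)
    have hkk : P.reflectionPerm (P.reflectionPerm k k) (P.reflectionPerm k k) ∈ P' := by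
      rw [neg_neg_idx]; exact hk
    have hsupp := key n _ c hc hcβ h0 hn hkk
    show -P.root k ∈ natSpan P _
    rw [← root_neg, ← hcβ]
    exact mem_natSpan_of_coef P c hsupp h0
  · rintro k (hk | hk)
    · exact hSP hk
    · obtain ⟨t, htΔ', hsum⟩ := exists_multiset_of_mem_natSpan P hk
      have hsum' : P.root k = ((t.map (fun a => P.reflectionPerm a a)).map P.root).sum := by
        rw [Multiset.map_map]
        have : (P.root ∘ fun a => P.reflectionPerm a a) = fun a => -P.root a := by
          funext a; exact root_neg P a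
        rw [this, Multiset.sum_map_neg, hsum, neg_neg]
      refine mem_of_closed_of_sum P hcl _ _ rfl ?_ k hsum'
      intro a ha
      obtain ⟨b, hb, rfl⟩ := Multiset.mem_map.mp ha
      exact (htΔ' b hb).2

/-- S5459 -/
theorem exists_simpleSys_of_closed_P2 {P' : Set ι}
    (hP2 : ∀ i : ι, i ∈ P' ∨ P.reflectionPerm i i ∈ P') (hcl : IsClosedSub P P') :
    ∃ Δ Δ' : Set ι, IsSimpleSys P Δ ∧ Δ' ⊆ Δ ∧
      P' = posOf P Δ ∪ {k : ι | -P.root k ∈ natSpan P Δ'} := by
  obtain ⟨S₀, hS₀⟩ := exists_posSys P
  obtain ⟨g, -, hgS⟩ := conj_into_closed P hcl hP2 _ S₀ hS₀ rfl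
  have hS := IsPosSys.image P g hS₀
  have hΔ := indec_isSimpleSys P hS
  have hSeq := (posSys_eq_posOf_iff P hΔ hS).mp (indec_subset P _)
  refine ⟨_, {i : ι | i ∈ indec P ((fun i : ι => g • i) '' S₀) ∧ P.reflectionPerm i i ∈ P'}, hΔ,
    fun i hi => hi.1, ?_⟩
  have := closed_superset_eq P hS hΔ (indec_subset P _) hcl hgS
  rw [← hSeq]
  exact this

end Groth.Agent.H8.RootD
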