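import Mathlib
import Groth.Prelude.Def_W4sga3xxiRoot
import Groth.Agent.Lib.helper8.RootD10

/-! Helper library (helper8): root pairings, part 11 (linear independence of obtuse sets). -/

set_option autoImplicit false

namespace Groth.Agent.H8.RootD

open RootPairing _root_.RootD

variable {ι M N : Type*} [AddCommGroup M] [AddCommGroup N] (P : RootPairing ι ℤ M N) [Finite ι]

theorem linInd_of_obtuse {Δ : Set ι}
    (hobt : ∀ i ∈ Δ, ∀ j ∈ Δ, i ≠ j → P.pairing i j ≤ 0)
    (hz : ∀ c : ι →₀ ℤ, ↑c.support ⊆ Δ → (∀ i, 0 ≤ c i) → lc P c = 0 → c = 0) :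
    LinearIndepOn ℤ P.root Δ := by
  classical
  have : Fintype ι := Fintype.ofFinite ι
  rw [linearIndepOn_iff]
  intro c hc hlc
  have hc' : ↑c.support ⊆ Δ := hc
  let cp : ι →₀ ℤ := c.mapRange (fun a => max a 0) (by simp)
  let cn : ι →₀ ℤ := c.mapRange (fun a => max (-a) 0) (by simp)
  have hcp : ∀ i, cp i = max (c i) 0 := fun i => by simp [cp]
  have hcn : ∀ i, cn i = max (-(c i)) 0 := fun i => by simp [cn]
  have hsplit : c = cp - cn := by
    ext i
    rw [Finsupp.sub_apply, hcp, hcn]
    rcases le_total (c i) 0 with h | h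
    · rw [max_eq_right h, max_eq_left (by omega)]; omega
    · rw [max_eq_left h, max_eq_right (by omega)]; omega
  have hcps : ↑cp.support ⊆ Δ := by
    intro i hi
    apply hc'
    rw [Finset.mem_coe, Finsupp.mem_support_iff] at hi ⊢
    intro h0
    apply hi
    rw [hcp, h0]; simp
  have hcns : ↑cn.support ⊆ Δ := by
    intro i hi
    apply hc'
    rw [Finset.mem_coe, Finsupp.mem_support_iff] at hi ⊢
    intro h0
    apply hi
    rw [hcn, h0]; simp
  have heq : lc P cp = lc P cn := by
    have : lc P c = lc P cp - lc P cn := by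
      conv_lhs => rw [hsplit]
      rw [lc_sub]
    have hlc' : lc P c = 0 := hlc
    rw [hlc'] at this
    exact (sub_eq_zero.mp this.symm)
  have hform : P.RootForm (lc P cp) (lc P cn) ≤ 0 := by
    have e1 : lc P cp = ∑ i, cp i • P.root i := by
      rw [lc, Finsupp.linearCombination_apply, Finsupp.sum_fintype]
      intro i; simp
    have e2 : lc P cn = ∑ j, cn j • P.root j := by
      rw [lc, Finsupp.linearCombination_apply, Finsupp.sum_fintype]
      intro i; simp
    rw [e1, e2, map_sum]
    apply Finset.sum_nonpos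
    intro j _
    rw [map_sum, LinearMap.sum_apply]
    apply Finset.sum_nonpos
    intro i _
    rw [map_smul, map_smul, LinearMap.smul_apply, smul_eq_mul, smul_eq_mul]
    by_cases hi0 : cp i = 0
    · rw [hi0]; simp
    by_cases hj0 : cn j = 0
    · rw [hj0]; simp
    have hi : i ∈ Δ := hcps (Finsupp.mem_support_iff.mpr hi0)
    have hj : j ∈ Δ := hcns (Finsupp.mem_support_iff.mpr hj0)
    have hij : i ≠ j := by
      rintro rfl
      rw [hcp] at hi0
      rw [hcn] at hj0
      rcases le_total (c i) 0 with h | h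
      · exact hi0 (max_eq_right h)
      · exact hj0 (max_eq_right (by omega))
    have hB := rootForm_root_root_nonpos P (hobt i hi j hj hij)
    have hcpi : 0 ≤ cp i := by rw [hcp]; exact le_max_right _ _
    have hcnj : 0 ≤ cn j := by rw [hcn]; exact le_max_right _ _
    have := mul_nonneg hcpi hcnj
    nlinarith
  have hx : lc P cp ∈ P.rootSpan ℤ := by
    rw [lc, Finsupp.linearCombination_apply]
    refine Submodule.sum_mem _ ?_
    intro i _
    exact Submodule.smul_mem _ _ (Submodule.subset_span (Set.mem_range_self i))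
  have hzero : lc P cp = 0 := by
    apply P.eq_zero_of_mem_rootSpan_of_rootForm_self_eq_zero hx
    apply le_antisymm
    · have := hform
      rwa [← heq] at this
    · exact P.zero_le_rootForm _
  have hcp0 : cp = 0 := hz cp hcps (fun i => by rw [hcp]; exact le_max_right _ _) hzero
  have hcn0 : cn = 0 := hz cn hcns (fun i => by rw [hcn]; exact le_max_right _ _) (heq ▸ hzero)
  rw [hsplit, hcp0, hcn0, sub_zero]

/-- S5447 -/
theorem isSimpleSys_of_existsUnique {Δ : Set ι}
    (h : ∀ k : ι, ∃! c : ι →₀ ℤ, (↑c.support ⊆ Δ ∧ ((∀ j, 0 ≤ c j) ∨ (∀ j, c j ≤ 0)) ∧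
      Finsupp.linearCombination ℤ P.root c = P.root k)) :
    IsSimpleSys P Δ := by
  have huniq : ∀ (k : ι) (c d : ι →₀ ℤ), ↑c.support ⊆ Δ → ((∀ j, 0 ≤ c j) ∨ (∀ j, c j ≤ 0)) →
      lc P c = P.root k → ↑d.support ⊆ Δ → ((∀ j, 0 ≤ d j) ∨ (∀ j, d j ≤ 0)) →
      lc P d = P.root k → c = d := by
    intro k c d hc hcs hck hd hds hdk
    exact (h k).unique ⟨hc, hcs, hck⟩ ⟨hd, hds, hdk⟩
  have hsingle : ∀ δ ∈ Δ, ∀ c : ι →₀ ℤ, ↑c.support ⊆ Δ → (∀ j, 0 ≤ c j) →
      lc P c = P.root δ → c = Finsupp.single δ 1 := by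
    intro δ hδ c hc hc0 hcδ
    refine huniq δ c _ hc (Or.inl hc0) hcδ (support_single_subset hδ 1) (Or.inl ?_) ?_
    · intro j
      classical
      rw [Finsupp.single_apply]
      split_ifs <;> norm_num
    · rw [lc_single, one_smul]
  have hobt : ∀ i ∈ Δ, ∀ j ∈ Δ, i ≠ j → P.pairing i j ≤ 0 := by
    intro δ hδ ε hε hne
    by_contra hpos
    push Not at hpos
    obtain ⟨k, hk⟩ := sub_mem_of_pos P hpos hne
    obtain ⟨c, ⟨hc, hcs, hck⟩, -⟩ := h k
    have hck' : lc P c = P.root k := hck
    rcases hcs with h0 | h0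
    · have e : lc P (Finsupp.single ε 1 + c) = P.root δ := by
        rw [lc_add, lc_single, one_smul, hck', hk]; abel
      have := hsingle δ hδ _ (support_add_subset (support_single_subset hε 1) hc) (by
        intro j
        rw [Finsupp.add_apply]
        have : (0 : ℤ) ≤ (Finsupp.single ε (1 : ℤ)) j := by
          classical
          rw [Finsupp.single_apply]; split_ifs <;> norm_num
        linarith [h0 j]) e
      have h1 := DFunLike.congr_fun this ε
      rw [Finsupp.add_apply, Finsupp.single_eq_same, Finsupp.single_eq_of_ne (Ne.symm hne)] at h1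
      have := h0 ε
      omega
    · have e : lc P (Finsupp.single δ 1 - c) = P.root ε := by
        rw [lc_sub, lc_single, one_smul, hck', hk]; abel
      have := hsingle ε hε _ (support_sub_subset (support_single_subset hδ 1) hc) (by
        intro j
        rw [Finsupp.sub_apply]
        have : (0 : ℤ) ≤ (Finsupp.single δ (1 : ℤ)) j := by
          classical
          rw [Finsupp.single_apply]; split_ifs <;> norm_num
        linarith [h0 j]) e
      have h1 := DFunLike.congr_fun this δ
      rw [Finsupp.sub_apply, Finsupp.single_eq_same, Finsupp.single_eq_of_ne hne] at h1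
      have := h0 δ
      omega
  have hz : ∀ c : ι →₀ ℤ, ↑c.support ⊆ Δ → (∀ i, 0 ≤ c i) → lc P c = 0 → c = 0 := by
    intro c hc h0 hlc
    by_contra hne
    obtain ⟨i₀, hi₀⟩ : ∃ i₀, c i₀ ≠ 0 := by
      by_contra hcon
      push Not at hcon
      exact hne (Finsupp.ext hcon)
    have hi₀Δ : i₀ ∈ Δ := hc (Finsupp.mem_support_iff.mpr hi₀)
    have e : lc P (Finsupp.single i₀ 1 + c) = P.root i₀ := by
      rw [lc_add, lc_single, one_smul, hlc, add_zero]
    have := hsingle i₀ hi₀Δ _ (support_add_subset (support_single_subset hi₀Δ 1) hc) (by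
      intro j
      rw [Finsupp.add_apply]
      have : (0 : ℤ) ≤ (Finsupp.single i₀ (1 : ℤ)) j := by
        classical
        rw [Finsupp.single_apply]; split_ifs <;> norm_num
      linarith [h0 j]) e
    have h1 := DFunLike.congr_fun this i₀
    rw [Finsupp.add_apply, Finsupp.single_eq_same] at h1
    exact hi₀ (by omega)
  refine ⟨linInd_of_obtuse P hobt hz, ?_⟩
  intro k
  obtain ⟨c, ⟨hc, hcs, hck⟩, -⟩ := h k
  have hck' : lc P c = P.root k := hck
  rcases hcs with h0 | h0
  · left
    rw [← hck']
    exact mem_natSpan_of_coef P c hc h0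
  · right
    rw [← hck', ← lc_neg]
    exact mem_natSpan_of_coef P (-c) (support_neg_subset hc) (fun i => by simpa using h0 i)

end Groth.Agent.H8.RootD
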