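import Mathlib
import Groth.Prelude.Def_W4sga3xxiRoot
import Groth.Agent.Lib.helper8.RootD11

/-! Helper library (helper8): root pairings, part 12 (S5446). -/

set_option autoImplicit false

namespace Groth.Agent.H8.RootD

open RootPairing _root_.RootD

variable {ι M N : Type*} [AddCommGroup M] [AddCommGroup N] (P : RootPairing ι ℤ M N) [Finite ι]

omit [Finite ι] in
theorem eq_zero_of_mem_natSpan_of_neg_mem {Δ : Set ι} (hli : LinearIndepOn ℤ P.root Δ) {x : M}
    (h1 : x ∈ natSpan P Δ) (h2 : -x ∈ natSpan P Δ) : x = 0 := by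
  obtain ⟨c, hc, hc0, hcx⟩ := natSpan_exists_coef P h1
  obtain ⟨d, hd, hd0, hdx⟩ := natSpan_exists_coef P h2
  have h : lc P (c + d) = lc P 0 := by
    rw [lc_add, hcx, hdx]; simp [lc]
  have := coef_unique P hli (support_add_subset hc hd) (by simp) h
  have hc' : c = 0 := by
    ext i
    have hi := DFunLike.congr_fun this i
    rw [Finsupp.add_apply] at hi
    have := hc0 i
    have := hd0 i
    simp only [Finsupp.coe_zero, Pi.zero_apply] at hi ⊢
    omega
  rw [← hcx, hc']
  simp [lc]

theorem isSimpleSys_of_cone {Δ : Set ι}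
    (hind : ∀ i ∈ Δ, IsIndiv P i) (hli : LinearIndepOn ℤ P.root Δ)
    (hcone : ∀ k : ι, ∃ n : ℕ, 0 < n ∧
      (n • P.root k ∈ natSpan P Δ ∨ n • (-P.root k) ∈ natSpan P Δ)) :
    IsSimpleSys P Δ := by
  classical
  have : Module.IsReflexive ℤ M := .of_isPerfPair P.toLinearMap
  set S : Set ι := {k | ∃ n : ℕ, 0 < n ∧ n • P.root k ∈ natSpan P Δ} with hSdef
  have hnatS : ∀ x ∈ natSpan P S, ∃ n : ℕ, 0 < n ∧ n • x ∈ natSpan P Δ := by
    intro x hx
    induction hx using AddSubmonoid.closure_induction with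
    | mem x hx =>
      obtain ⟨k, hk, rfl⟩ := hx
      exact hk
    | zero => exact ⟨1, one_pos, by simp⟩
    | add x y _ _ hx hy =>
      obtain ⟨n, hn, hnx⟩ := hx
      obtain ⟨n', hn', hny⟩ := hy
      refine ⟨n * n', Nat.mul_pos hn hn', ?_⟩
      rw [smul_add]
      refine AddSubmonoid.add_mem _ ?_ ?_
      · rw [mul_comm, mul_smul]; exact AddSubmonoid.nsmul_mem _ hnx _
      · rw [mul_smul]; exact AddSubmonoid.nsmul_mem _ hny _
  have hS : IsPosSys P S := by
    refine ⟨?_, ?_, ?_⟩
    · rintro k ⟨n, hn, hk⟩ ⟨n', hn', hk'⟩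
      rw [root_neg] at hk'
      have h1 : (n * n') • P.root k ∈ natSpan P Δ := by
        rw [mul_comm, mul_smul]; exact AddSubmonoid.nsmul_mem _ hk _
      have h2 : -((n * n') • P.root k) ∈ natSpan P Δ := by
        rw [← smul_neg, mul_smul]; exact AddSubmonoid.nsmul_mem _ hk' _
      have h0 := eq_zero_of_mem_natSpan_of_neg_mem P hli h1 h2
      rw [← natCast_zsmul] at h0
      rcases smul_eq_zero.mp h0 with h | h
      · have : 0 < n * n' := Nat.mul_pos hn hn'
        exact absurd h (by exact_mod_cast this.ne')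
      · exact P.ne_zero k h
    · intro k
      obtain ⟨n, hn, h | h⟩ := hcone k
      · exact Or.inl ⟨n, hn, h⟩
      · exact Or.inr ⟨n, hn, by rw [root_neg]; exact h⟩
    · intro k n hn hk
      obtain ⟨n', hn', h⟩ := hnatS _ hk
      exact ⟨n' * n, Nat.mul_pos hn' hn, by rw [mul_smul]; exact h⟩
  have hΔS : Δ ⊆ S := by
    intro δ hδ
    exact ⟨1, one_pos, by rw [one_smul]; exact AddSubmonoid.subset_closure ⟨δ, hδ, rfl⟩⟩
  have hΔ₀ := indec_isSimpleSys P hS
  have hSeq : S = posOf P (indec P S) :=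
    (posSys_eq_posOf_iff P hΔ₀ hS).mp (indec_subset P S)
  -- coefficient vectors wrt Δ₀
  choose a ha_supp ha_sign ha_lc using fun k => exists_coef P hΔ₀ k
  have ha0 : ∀ δ ∈ Δ, ∀ i, 0 ≤ a δ i := by
    intro δ hδ
    exact (mem_posOf_iff P hΔ₀ δ (ha_supp δ) (ha_lc δ)).mp (hSeq ▸ hΔS hδ)
  -- Δ ⊆ Δ₀
  have hsub0 : indec P S ⊆ Δ := by
    intro ε₀ hε₀
    obtain ⟨n, hn, hnε⟩ := hΔS.trans (le_refl _) |> fun _ => indec_subset P S hε₀
    obtain ⟨b, hb, hb0, hbx⟩ := natSpan_exists_coef P hnε
    let Φ : (ι →₀ ℤ) →ₗ[ℤ] (ι →₀ ℤ) := Finsupp.linearCombination ℤ a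
    have hΦlc : ∀ c : ι →₀ ℤ, lc P (Φ c) = lc P c := by
      intro c
      have : (Finsupp.linearCombination ℤ P.root) ∘ₗ Φ = Finsupp.linearCombination ℤ P.root := by
        apply Finsupp.lhom_ext
        intro i r
        simp only [LinearMap.comp_apply, Φ, Finsupp.linearCombination_single, map_smul]
        rw [show (Finsupp.linearCombination ℤ P.root) (a i) = lc P (a i) from rfl, ha_lc]
      exact LinearMap.congr_fun this c
    have hΦsupp : ↑(Φ b).support ⊆ indec P S := by
      intro j hj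
      rw [Finset.mem_coe, Finsupp.mem_support_iff] at hj
      by_contra hjn
      apply hj
      simp only [Φ, Finsupp.linearCombination_apply, Finsupp.sum, Finsupp.finset_sum_apply,
        Finsupp.smul_apply]
      apply Finset.sum_eq_zero
      intro i _
      have : a i j = 0 := by
        by_contra h
        exact hjn (ha_supp i (Finsupp.mem_support_iff.mpr h))
      rw [this, smul_zero]
    have hΦeq : Φ b = (n : ℤ) • Finsupp.single ε₀ 1 := by
      apply coef_unique P hΔ₀.linInd hΦsupp
        (support_smul_subset (support_single_subset hε₀ 1) _)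
      rw [hΦlc, hbx, lc_smul, lc_single, one_smul, natCast_zsmul]
    -- some δ with b δ > 0
    have hbne : b ≠ 0 := by
      rintro rfl
      have : lc P (0 : ι →₀ ℤ) = 0 := by simp [lc]
      rw [this] at hbx
      rw [← natCast_zsmul] at hbx
      rcases smul_eq_zero.mp hbx.symm with h | h
      · exact absurd h (by exact_mod_cast hn.ne')
      · exact P.ne_zero ε₀ h
    obtain ⟨δ, hδ⟩ : ∃ δ, b δ ≠ 0 := by
      by_contra hcon
      push Not at hcon
      exact hbne (Finsupp.ext hcon)
    have hδΔ : δ ∈ Δ := hb (Finsupp.mem_support_iff.mpr hδ)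
    have hbδ : 0 < b δ := lt_of_le_of_ne (hb0 δ) (Ne.symm hδ)
    -- a δ vanishes off ε₀
    have hoff : ∀ ε, ε ≠ ε₀ → a δ ε = 0 := by
      intro ε hε
      have h1 := DFunLike.congr_fun hΦeq ε
      simp only [Φ, Finsupp.linearCombination_apply, Finsupp.sum, Finsupp.finset_sum_apply,
        Finsupp.smul_apply, Finsupp.single_eq_of_ne hε, smul_zero] at h1
      have h2 := (Finset.sum_eq_zero_iff_of_nonneg (fun i hi => by
        have hiΔ : i ∈ Δ := hb hi
        exact smul_nonneg (hb0 i) (ha0 i hiΔ ε))).mp h1 δ (Finsupp.mem_support_iff.mpr hδ)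
      rw [smul_eq_mul] at h2
      rcases mul_eq_zero.mp h2 with h | h
      · exact absurd h hδ
      · exact h
    have haδ : a δ = Finsupp.single ε₀ (a δ ε₀) := by
      ext ε
      by_cases hε : ε = ε₀
      · rw [hε, Finsupp.single_eq_same]
      · rw [Finsupp.single_eq_of_ne hε, hoff ε hε]
    have hprop : P.root δ = (a δ ε₀) • P.root ε₀ := by
      rw [← ha_lc δ, haδ, lc_single, Finsupp.single_eq_same]
    have hapos : 0 ≤ a δ ε₀ := ha0 δ hδΔ ε₀
    have hnli : ¬ LinearIndependent ℤ ![P.root ε₀, P.root δ] := by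
      intro hli'
      have := (LinearIndependent.pair_iff.mp hli') (a δ ε₀) (-1) (by rw [hprop]; simp)
      omega
    have hindε := simple_indiv P hΔ₀ hε₀
    have hrne : P.root ε₀ ≠ 0 := P.ne_zero ε₀
    have hcancel : ∀ c : ℤ, P.root δ = c • P.root ε₀ → a δ ε₀ = c := by
      intro c hc
      rw [hprop] at hc
      have : (a δ ε₀ - c) • P.root ε₀ = 0 := by rw [sub_smul, hc, sub_self]
      have := (smul_eq_zero.mp this).resolve_right hrne
      omega
    rcases prop_cases P hnli with h | h | h | h | h | h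
    · rw [← P.root.injective h]; exact hδΔ
    · have := hcancel (-1) (by rw [h]; simp)
      omega
    · exact absurd h.symm (hind δ hδΔ ε₀)
    · have := hcancel (-2) (by rw [h, neg_smul])
      omega
    · exact absurd h (hindε δ)
    · exfalso
      have h2 : (2 * a δ ε₀ + 1) • P.root ε₀ = 0 := by
        rw [add_smul, mul_smul, ← hprop, h, one_smul]; abel
      have := (smul_eq_zero.mp h2).resolve_right hrne
      omega
  have hsub : Δ ⊆ indec P S := by
    intro δ hδ
    have h1 : a δ = Finsupp.single δ 1 := by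
      apply coef_unique P hli ((ha_supp δ).trans hsub0) (support_single_subset hδ 1)
      rw [ha_lc, lc_single, one_smul]
    apply ha_supp δ
    rw [Finset.mem_coe, Finsupp.mem_support_iff, h1, Finsupp.single_eq_same]
    norm_num
  have : Δ = indec P S := Set.Subset.antisymm hsub hsub0
  rw [this]
  exact hΔ₀

end Groth.Agent.H8.RootD
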