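import Mathlib
import Groth.Prelude.Def_W4sga3xxiRoot
import Groth.Agent.Lib.helper8.RootD12

/-! Helper library (helper8): root pairings, part 13 (words in simple reflections). -/

set_option autoImplicit false

namespace Groth.Agent.H8.RootD

open RootPairing _root_.RootD

variable {ι M N : Type*} [AddCommGroup M] [AddCommGroup N] (P : RootPairing ι ℤ M N)

/-- the product of the reflections of a word -/
noncomputable def wd (l : List ι) : P.Aut := (l.map fun a => Equiv.reflection P a).prod

@[simp] theorem wd_nil : wd P [] = 1 := by simp [wd]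

@[simp] theorem wd_cons (a : ι) (l : List ι) : wd P (a :: l) = Equiv.reflection P a * wd P l := by
  simp [wd]

@[simp] theorem wd_append (l l' : List ι) : wd P (l ++ l') = wd P l * wd P l' := by
  simp [wd]

theorem refl_mul_self (i : ι) : Equiv.reflection P i * Equiv.reflection P i = 1 := by
  calc Equiv.reflection P i * Equiv.reflection P i
      = (Equiv.reflection P i)⁻¹ * Equiv.reflection P i := by rw [Equiv.reflection_inv]
    _ = 1 := inv_mul_cancel _

theorem wd_mem_WΔ {Δ : Set ι} {l : List ι} (hl : ∀ a ∈ l, a ∈ Δ) : wd P l ∈ WΔ P Δ := by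
  induction l with
  | nil => simp
  | cons a l ih =>
    rw [wd_cons]
    refine Subgroup.mul_mem _ ?_ (ih (fun b hb => hl b (by simp [hb])))
    exact Subgroup.subset_closure ⟨a, hl a (by simp), rfl⟩

theorem wd_reverse (l : List ι) : wd P l.reverse = (wd P l)⁻¹ := by
  induction l with
  | nil => simp
  | cons a l ih =>
    rw [List.reverse_cons, wd_append, ih, wd_cons, wd_nil, mul_one, wd_cons, mul_inv_rev,
      Equiv.reflection_inv]

theorem exists_word_of_mem_WΔ {Δ : Set ι} {g : P.Aut} (hg : g ∈ WΔ P Δ) :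
    ∃ l : List ι, (∀ a ∈ l, a ∈ Δ) ∧ wd P l = g := by
  induction hg using Subgroup.closure_induction with
  | mem x hx =>
    obtain ⟨i, hi, rfl⟩ := hx
    exact ⟨[i], by simpa using hi, by simp⟩
  | one => exact ⟨[], by simp, by simp⟩
  | mul x y _ _ hx hy =>
    obtain ⟨l, hl, rfl⟩ := hx
    obtain ⟨l', hl', rfl⟩ := hy
    refine ⟨l ++ l', ?_, by simp⟩
    intro a ha
    rcases List.mem_append.mp ha with h | h
    exacts [hl a h, hl' a h]
  | inv x _ hx =>
    obtain ⟨l, hl, rfl⟩ := hx
    exact ⟨l.reverse, fun a ha => hl a (List.mem_reverse.mp ha), wd_reverse P l⟩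

variable [Finite ι]

/-- splitting a word at the place where the root `w(q) β` changes sign -/
theorem exists_split {Δ : Set ι} (β : ι) (hβ : β ∈ posOf P Δ) :
    ∀ l₀ : List ι, wd P l₀ • β ∉ posOf P Δ →
      ∃ (p : List ι) (a : ι) (q : List ι), l₀ = p ++ a :: q ∧ wd P q • β ∈ posOf P Δ ∧
        Equiv.reflection P a • (wd P q • β) ∉ posOf P Δ := by
  intro l₀
  induction l₀ with
  | nil =>
    intro h
    rw [wd_nil, one_smul] at h
    exact absurd hβ h
  | cons a q ih =>
    intro h
    by_cases hq : wd P q • β ∈ posOf P Δ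
    · refine ⟨[], a, q, rfl, hq, ?_⟩
      rw [wd_cons, mul_smul] at h
      exact h
    · obtain ⟨p', a', q', hq', h1, h2⟩ := ih hq
      exact ⟨a :: p', a', q', by rw [hq']; rfl, h1, h2⟩

/-- a positive indivisible root sent to a negative root by a simple reflection is that simple root -/
theorem eq_simple_of_refl_neg {Δ : Set ι} (hΔ : IsSimpleSys P Δ) {a γ : ι} (ha : a ∈ Δ)
    (hγ : γ ∈ posOf P Δ) (hind : IsIndiv P γ)
    (hneg : Equiv.reflection P a • γ ∉ posOf P Δ) : γ = a := by
  have : Module.IsReflexive ℤ M := .of_isPerfPair P.toLinearMap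
  have hnli : ¬ LinearIndependent ℤ ![P.root γ, P.root a] := by
    intro hli
    apply hneg
    obtain ⟨c, hc, -, hck⟩ := exists_coef P hΔ γ
    have h0 := (mem_posOf_iff P hΔ γ hc hck).mp hγ
    exact posOf_reflection_of_exists P hΔ ha hc hck
      (exists_ne_pos_of_linearIndependent P hck h0 hli)
  have hposS := isPosSys_posOf P hΔ
  have haS : a ∈ posOf P Δ := subset_posOf P ha
  have hinda := simple_indiv P hΔ ha
  rcases prop_cases P hnli with h | h | h | h | h | h
  · exact (P.root.injective h).symm
  · exfalso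
    have : a = P.reflectionPerm γ γ := by
      apply P.root.injective
      rw [root_neg, h]
    exact hposS.disjoint hγ (this ▸ haS)
  · exact absurd h.symm (hinda γ)
  · exfalso
    apply hinda (P.reflectionPerm γ γ)
    rw [root_neg, h, smul_neg]
  · exact absurd h (hind a)
  · exfalso
    apply hind (P.reflectionPerm a a)
    rw [root_neg, smul_neg, h, neg_neg]

/-- S5504 -/
theorem neg_root_last_of_minimal_word {Δ : Set ι} (hΔ : IsSimpleSys P Δ)
    (l : List ι) (hl : ∀ a ∈ l, a ∈ Δ) (hne : l ≠ [])
    (hmin : ∀ l' : List ι, (∀ a ∈ l', a ∈ Δ) → wd P l' = wd P l → l.length ≤ l'.length) :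
    -P.root (wd P l • l.getLast hne) ∈ natSpan P Δ := by
  obtain ⟨l₀, β, rfl⟩ : ∃ l₀ β, l = l₀ ++ [β] :=
    ⟨l.dropLast, l.getLast hne, (List.dropLast_append_getLast hne).symm⟩
  have hβΔ : β ∈ Δ := hl β (by simp)
  have hl₀ : ∀ a ∈ l₀, a ∈ Δ := fun a ha => hl a (by simp [ha])
  rw [List.getLast_append_singleton]
  have hgβ : wd P (l₀ ++ [β]) • β = P.reflectionPerm (wd P l₀ • β) (wd P l₀ • β) := by
    rw [wd_append, mul_smul, wd_cons, wd_nil, mul_one]
    show wd P l₀ • P.reflectionPerm β β = _
    rw [smul_idx_neg]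
  rw [hgβ, root_neg, neg_neg]
  by_contra hneg
  have hneg' : wd P l₀ • β ∉ posOf P Δ := hneg
  obtain ⟨p, a, q, hpq, hqpos, hqneg⟩ := exists_split P β (subset_posOf P hβΔ) l₀ hneg'
  have haΔ : a ∈ Δ := hl₀ a (by rw [hpq]; simp)
  have hindq : IsIndiv P (wd P q • β) := isIndiv_smul P _ (simple_indiv P hΔ hβΔ)
  have hqa : wd P q • β = a := eq_simple_of_refl_neg P hΔ haΔ hqpos hindq hqneg
  have hconj : wd P q * Equiv.reflection P β * (wd P q)⁻¹ = Equiv.reflection P a := by
    rw [aut_conj_reflection, hqa]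
  have hcomm : Equiv.reflection P a * wd P q = wd P q * Equiv.reflection P β := by
    rw [← hconj]; group
  have hprod : wd P (p ++ q) = wd P (l₀ ++ [β]) := by
    rw [hpq, wd_append, wd_append, wd_append, wd_cons, wd_cons, wd_nil, mul_one]
    calc wd P p * wd P q = wd P p * (wd P q * (Equiv.reflection P β * Equiv.reflection P β)) := by
          rw [refl_mul_self, mul_one]
      _ = wd P p * ((wd P q * Equiv.reflection P β) * Equiv.reflection P β) := by group
      _ = wd P p * ((Equiv.reflection P a * wd P q) * Equiv.reflection P β) := by rw [hcomm]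
      _ = wd P p * (Equiv.reflection P a * wd P q) * Equiv.reflection P β := by group
  have hlen := hmin (p ++ q) (by
    intro b hb
    apply hl₀
    rw [hpq]
    rcases List.mem_append.mp hb with h | h
    · simp [h]
    · simp [h]) hprod
  rw [hpq] at hlen
  simp at hlen

end Groth.Agent.H8.RootD
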