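import Mathlib
import Groth.Prelude.Def_W4sga3xxiRoot
import Groth.Agent.Lib.helper8.RootD13

/-! RootD14: triviality of the stabiliser of a simple system; parabolic subgroups. -/

set_option autoImplicit false

namespace Groth.Agent.H8.RootD

open RootPairing _root_.RootD

variable {ι M N : Type*} [AddCommGroup M] [AddCommGroup N] (P : RootPairing ι ℤ M N) [Finite ι]

theorem exists_minimal_word {Δ : Set ι} {g : P.Aut} (hg : g ∈ WΔ P Δ) :
    ∃ l : List ι, (∀ a ∈ l, a ∈ Δ) ∧ wd P l = g ∧
      ∀ l' : List ι, (∀ a ∈ l', a ∈ Δ) → wd P l' = g → l.length ≤ l'.length := by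
  classical
  have hex : ∃ n : ℕ, ∃ l : List ι, (∀ a ∈ l, a ∈ Δ) ∧ wd P l = g ∧ l.length = n := by
    obtain ⟨l, hl, hlg⟩ := exists_word_of_mem_WΔ P hg
    exact ⟨l.length, l, hl, hlg, rfl⟩
  obtain ⟨l, hl, hlg, hlen⟩ := Nat.find_spec hex
  refine ⟨l, hl, hlg, ?_⟩
  intro l' hl' hl'g
  rw [hlen]
  exact Nat.find_min' hex ⟨l', hl', hl'g, rfl⟩

theorem stab_trivial {Δ : Set ι} (hΔ : IsSimpleSys P Δ) {g : P.Aut} (hg : g ∈ WΔ P Δ)
    (h : ∀ a ∈ Δ, g • a ∈ posOf P Δ) : g = 1 := by
  obtain ⟨l, hl, hlg, hmin⟩ := exists_minimal_word P hg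
  by_cases hne : l = []
  · subst hne
    simpa using hlg.symm
  · exfalso
    have h1 := neg_root_last_of_minimal_word P hΔ l hl hne
      (by intro l' hl' e; exact hmin l' hl' (e.trans hlg))
    rw [hlg] at h1
    have h2 : P.root (g • l.getLast hne) ∈ natSpan P Δ := h _ (hl _ (List.getLast_mem hne))
    have := eq_zero_of_mem_natSpan_of_neg_mem P hΔ.linInd h2 h1
    exact P.ne_zero _ this

/-- an element of the subgroup generated by the reflections in `Δ'` moves every vector by an
element of the span of `Δ'` -/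
theorem smul_sub_mem_span_of_mem_WΔ {Δ' : Set ι} {g : P.Aut} (hg : g ∈ WΔ P Δ') (x : M) :
    g • x - x ∈ Submodule.span ℤ (P.root '' Δ') := by
  induction hg using Subgroup.closure_induction generalizing x with
  | mem g hg =>
    obtain ⟨i, hi, rfl⟩ := hg
    rw [Equiv.reflection_smul, P.reflection_apply, sub_sub_cancel_left]
    exact Submodule.neg_mem _ (Submodule.smul_mem _ _ (Submodule.subset_span ⟨i, hi, rfl⟩))
  | one => simp
  | mul a b _ _ iha ihb =>
    have : (a * b) • x - x = (a • (b • x) - b • x) + (b • x - x) := by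
      rw [mul_smul]; abel
    rw [this]
    exact Submodule.add_mem _ (iha _) (ihb _)
  | inv a _ iha =>
    have : a⁻¹ • x - x = -(a • (a⁻¹ • x) - a⁻¹ • x) := by
      rw [smul_smul, mul_inv_cancel, one_smul]; abel
    rw [this]
    exact Submodule.neg_mem _ (iha _)

theorem mem_of_smul_sub_mem_span {Δ Δ' : Set ι} (hΔ : IsSimpleSys P Δ) (hsub : Δ' ⊆ Δ)
    {δ j : ι} (hδ : δ ∈ Δ) (hneg : -P.root j ∈ natSpan P Δ) {m : ℕ} (hm : 0 < m)
    (h : m • (P.root j - P.root δ) ∈ Submodule.span ℤ (P.root '' Δ')) : δ ∈ Δ' := by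
  classical
  obtain ⟨d, hd, hd0, hdj⟩ := natSpan_exists_coef P hneg
  obtain ⟨e, he, hek⟩ := (Finsupp.mem_span_image_iff_linearCombination ℤ).mp h
  have he' : ↑e.support ⊆ Δ' := he
  have h1 : lc P ((m : ℤ) • (-d - Finsupp.single δ 1)) = lc P e := by
    rw [lc_smul, lc_sub, lc_neg, hdj, lc_single, one_smul, neg_neg, natCast_zsmul]
    exact hek.symm
  have h2 := coef_unique P hΔ.linInd
    (support_smul_subset (support_sub_subset (support_neg_subset hd) (support_single_subset hδ 1)) _)
    (he'.trans hsub) h1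
  apply he'
  rw [Finset.mem_coe, Finsupp.mem_support_iff, ← h2]
  simp only [Finsupp.smul_apply, Finsupp.sub_apply, Finsupp.neg_apply, Finsupp.single_eq_same,
    smul_eq_mul]
  have := hd0 δ
  have hm' : (0 : ℤ) < m := by exact_mod_cast hm
  have : -d δ - 1 < 0 := by omega
  exact ne_of_lt (mul_neg_of_pos_of_neg hm' this)

theorem mem_WΔ_of_span {Δ Δ' : Set ι} (hΔ : IsSimpleSys P Δ) (hsub : Δ' ⊆ Δ) :
    ∀ (n : ℕ) (l : List ι), l.length = n → (∀ a ∈ l, a ∈ Δ) →
      (∀ k : ι, ∃ m : ℕ, 0 < m ∧
        m • (P.root (wd P l • k) - P.root k) ∈ Submodule.span ℤ (P.root '' Δ')) →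
      wd P l ∈ WΔ P Δ' := by
  intro n
  induction n using Nat.strong_induction_on with
  | _ n ih =>
    intro l hlen hl hk
    by_cases hmin : ∀ l' : List ι, (∀ a ∈ l', a ∈ Δ) → wd P l' = wd P l → l.length ≤ l'.length
    · by_cases hne : l = []
      · subst hne
        simpa using (WΔ P Δ').one_mem
      · have h1 := neg_root_last_of_minimal_word P hΔ l hl hne hmin
        set δ := l.getLast hne with hδdef
        have hδΔ : δ ∈ Δ := hl _ (List.getLast_mem hne)
        obtain ⟨m, hm, hmem⟩ := hk δ
        have hδ : δ ∈ Δ' := mem_of_smul_sub_mem_span P hΔ hsub hδΔ h1 hm hmem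
        have hsplit : l = l.dropLast ++ [δ] := (List.dropLast_append_getLast hne).symm
        have hwd : wd P l = wd P l.dropLast * Equiv.reflection P δ := by
          conv_lhs => rw [hsplit]
          simp
        have hwd' : wd P l.dropLast = wd P l * Equiv.reflection P δ := by
          rw [hwd, mul_assoc, refl_mul_self, mul_one]
        have hlen' : l.dropLast.length < n := by
          rw [List.length_dropLast, hlen]
          have : 0 < l.length := List.length_pos_of_ne_nil hne
          omega
        have hrec : wd P l.dropLast ∈ WΔ P Δ' := by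
          refine ih _ hlen' _ rfl (fun a ha => hl a (List.mem_of_mem_dropLast ha)) ?_
          intro k
          obtain ⟨m', hm', hmem'⟩ := hk (P.reflectionPerm δ k)
          refine ⟨m', hm', ?_⟩
          have e1 : wd P l.dropLast • k = wd P l • (P.reflectionPerm δ k) := by
            rw [hwd', mul_smul]; rfl
          have e2 : P.root (wd P l.dropLast • k) - P.root k =
              (P.root (wd P l • (P.reflectionPerm δ k)) - P.root (P.reflectionPerm δ k)) +
                (-(P.pairing k δ • P.root δ)) := by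
            rw [e1, P.root_reflectionPerm, P.reflection_apply_root]
            abel
          rw [e2, smul_add]
          refine Submodule.add_mem _ hmem' (Submodule.smul_of_tower_mem _ _ ?_)
          exact Submodule.neg_mem _ (Submodule.smul_mem _ _ (Submodule.subset_span ⟨δ, hδ, rfl⟩))
        rw [hwd]
        exact (WΔ P Δ').mul_mem hrec (refl_mem_WΔ P hδ)
    · push Not at hmin
      obtain ⟨l', hl', hwl', hlt⟩ := hmin
      rw [← hwl']
      refine ih _ (hlen ▸ hlt) l' rfl hl' ?_
      rw [hwl']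
      exact hk

end Groth.Agent.H8.RootD
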