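import Mathlib
import Groth.Prelude.Def_W4sga3xxiRoot
import Groth.Agent.Lib.helper8.RootD14

/-! RootD15: existence of simple systems, spans. -/

set_option autoImplicit false

namespace Groth.Agent.H8.RootD

open RootPairing _root_.RootD

variable {ι M N : Type*} [AddCommGroup M] [AddCommGroup N] (P : RootPairing ι ℤ M N) [Finite ι]

theorem exists_simpleSys : ∃ Δ : Set ι, IsSimpleSys P Δ := by
  obtain ⟨S, hS⟩ := exists_posSys P
  exact ⟨_, indec_isSimpleSys P hS⟩

theorem exists_simpleSys_mem_of_indiv {i : ι} (hi : IsIndiv P i) :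
    ∃ Δ : Set ι, IsSimpleSys P Δ ∧ i ∈ Δ := by
  obtain ⟨Δ, hΔ⟩ := exists_simpleSys P
  obtain ⟨g, -, a, ha, rfl⟩ := conj_simple P hΔ hi
  exact ⟨_, IsSimpleSys.image P g hΔ, a, ha, rfl⟩

omit [Finite ι] in
theorem natSpan_le_span (S : Set ι) {x : M} (hx : x ∈ natSpan P S) :
    x ∈ Submodule.span ℤ (P.root '' S) := by
  induction hx using AddSubmonoid.closure_induction with
  | mem x hx => exact Submodule.subset_span hx
  | zero => exact Submodule.zero_mem _
  | add x y _ _ hx hy => exact Submodule.add_mem _ hx hy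

omit [Finite ι] in
theorem root_mem_span_simple {Δ : Set ι} (hΔ : IsSimpleSys P Δ) (k : ι) :
    P.root k ∈ Submodule.span ℤ (P.root '' Δ) := by
  rcases hΔ.mem_or_neg_mem k with h | h
  · exact natSpan_le_span P Δ h
  · have := natSpan_le_span P Δ h
    rwa [neg_mem_iff] at this

omit [Finite ι] in
theorem span_simple_eq {Δ : Set ι} (hΔ : IsSimpleSys P Δ) :
    Submodule.span ℤ (P.root '' Δ) = Submodule.span ℤ (Set.range P.root) := by
  apply le_antisymm
  · exact Submodule.span_mono (Set.image_subset_range _ _)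
  · apply Submodule.span_le.mpr
    rintro _ ⟨k, rfl⟩
    exact root_mem_span_simple P hΔ k

omit [Finite ι] in
theorem exists_coef_of_mem_span {Δ : Set ι} (hΔ : IsSimpleSys P Δ) {x : M}
    (hx : x ∈ Submodule.span ℤ (Set.range P.root)) :
    ∃ c : ι →₀ ℤ, ↑c.support ⊆ Δ ∧ lc P c = x := by
  rw [← span_simple_eq P hΔ] at hx
  obtain ⟨c, hc, hcx⟩ := (Finsupp.mem_span_image_iff_linearCombination ℤ).mp hx
  exact ⟨c, hc, hcx⟩

theorem unit_of_smul_eq_root (had : Submodule.span ℤ (Set.range P.root) = ⊤)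
    {i : ι} (hind : IsIndiv P i) (m : M) (n : ℤ) (h : n • m = P.root i) : n = 1 ∨ n = -1 := by
  classical
  obtain ⟨Δ, hΔ, hi⟩ := exists_simpleSys_mem_of_indiv P hind
  obtain ⟨c, hc, hcm⟩ := exists_coef_of_mem_span P hΔ (x := m) (by rw [had]; trivial)
  have h1 : lc P (n • c) = lc P (Finsupp.single i 1) := by
    rw [lc_smul, hcm, h, lc_single, one_smul]
  have h2 := coef_unique P hΔ.linInd (support_smul_subset hc n) (support_single_subset hi 1) h1
  have h3 : n * c i = 1 := by
    have := DFunLike.congr_fun h2 i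
    simpa using this
  exact Int.eq_one_or_neg_one_of_mul_eq_one h3

end Groth.Agent.H8.RootD
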