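import Mathlib
import Groth.Prelude.Def_W4sga3xxiRoot
import Groth.Agent.Lib.helper8.RootD15

/-! RootD16: additive functions on roots extend to the root lattice. -/

set_option autoImplicit false

namespace Groth.Agent.H8.RootD

open RootPairing _root_.RootD

variable {ι M N : Type*} [AddCommGroup M] [AddCommGroup N] (P : RootPairing ι ℤ M N) [Finite ι]

section Ext

variable {G : Type*} [AddCommGroup G] (f : ι → G)

/-- evaluation of a coefficient vector against `f` -/
noncomputable def ev : (ι →₀ ℤ) →+ G :=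
  (Finsupp.liftAddHom (fun i : ι => (zmultiplesHom G) (f i)))

omit [Finite ι] in
theorem ev_single (i : ι) (a : ℤ) : ev (ι := ι) f (Finsupp.single i a) = a • f i := by
  simp [ev]

theorem ev_pos {Δ : Set ι} (hΔ : IsSimpleSys P Δ)
    (hadd : ∀ i j k : ι, P.root k = P.root i + P.root j → f k = f i + f j) :
    ∀ (n : ℕ) (k : ι) (c : ι →₀ ℤ), ↑c.support ⊆ Δ → lc P c = P.root k → (∀ i, 0 ≤ c i) →
      ht c = n → ev f c = f k := by
  intro n
  induction n using Nat.strong_induction_on with
  | _ n ih =>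
    intro k c hc hck h0 hht
    by_cases hkΔ : k ∈ Δ
    · rw [coef_simple P hΔ hkΔ hc hck, ev_single, one_smul]
    · obtain ⟨i, hi, j, hci, -, hkji, hc', hc'j, h0'⟩ := pos_descent P hΔ hc hck h0 hkΔ
      have hht' : ht (c - Finsupp.single i (1 : ℤ)) = ((n - 1 : ℕ) : ℤ) := by
        rw [map_sub, ht_single, hht]
        have : 0 < ht c := ht_pos_of_root P hck h0
        omega
      have hn : 0 < n := by
        have : 0 < ht c := ht_pos_of_root P hck h0
        omega
      have := ih (n - 1) (by omega) j _ hc' hc'j h0' hht'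
      have e : c = (c - Finsupp.single i (1 : ℤ)) + Finsupp.single i 1 := by
        rw [sub_add_cancel]
      rw [e, map_add, this, ev_single, one_smul]
      exact (hadd j i k hkji).symm

theorem ev_root {Δ : Set ι} (hΔ : IsSimpleSys P Δ)
    (hneg : ∀ i : ι, f (P.reflectionPerm i i) = -f i)
    (hadd : ∀ i j k : ι, P.root k = P.root i + P.root j → f k = f i + f j)
    {k : ι} {c : ι →₀ ℤ} (hc : ↑c.support ⊆ Δ) (hck : lc P c = P.root k) : ev f c = f k := by
  rcases coef_sign P hΔ hc hck with h0 | h0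
  · obtain ⟨n, hn⟩ := Int.eq_ofNat_of_zero_le (ht_nonneg h0)
    exact ev_pos P f hΔ hadd n k c hc hck h0 hn
  · have h0' : ∀ i, 0 ≤ (-c) i := fun i => by
      rw [Finsupp.neg_apply]; exact neg_nonneg.mpr (h0 i)
    have hck' : lc P (-c) = P.root (P.reflectionPerm k k) := by
      rw [lc_neg, hck, root_neg]
    obtain ⟨n, hn⟩ := Int.eq_ofNat_of_zero_le (ht_nonneg h0')
    have := ev_pos P f hΔ hadd n _ (-c) (support_neg_subset hc) hck' h0' hn
    rw [map_neg, hneg] at this
    exact neg_injective this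

theorem exists_extension
    (hneg : ∀ i : ι, f (P.reflectionPerm i i) = -f i)
    (hadd : ∀ i j k : ι, P.root k = P.root i + P.root j → f k = f i + f j) :
    ∃ φ : Submodule.span ℤ (Set.range P.root) →+ G,
      ∀ i : ι, φ ⟨P.root i, Submodule.subset_span (Set.mem_range_self i)⟩ = f i := by
  classical
  obtain ⟨Δ, hΔ⟩ := exists_simpleSys P
  have hex : ∀ x : Submodule.span ℤ (Set.range P.root),
      ∃ c : ι →₀ ℤ, ↑c.support ⊆ Δ ∧ lc P c = (x : M) :=
    fun x => exists_coef_of_mem_span P hΔ x.2
  choose co hco1 hco2 using hex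
  have hco_add : ∀ x y, co (x + y) = co x + co y := by
    intro x y
    apply coef_unique P hΔ.linInd (hco1 _) (support_add_subset (hco1 x) (hco1 y))
    rw [hco2, lc_add, hco2, hco2]
    rfl
  refine ⟨AddMonoidHom.mk' (fun x => ev f (co x)) (fun x y => by rw [hco_add, map_add]), ?_⟩
  intro i
  show ev f (co _) = f i
  exact ev_root P f hΔ hneg hadd (hco1 _) (hco2 _)

omit [Finite ι] in
theorem extension_unique
    (φ ψ : Submodule.span ℤ (Set.range P.root) →+ G)
    (h : ∀ i : ι, φ ⟨P.root i, Submodule.subset_span (Set.mem_range_self i)⟩ =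
      ψ ⟨P.root i, Submodule.subset_span (Set.mem_range_self i)⟩) : φ = ψ := by
  ext ⟨x, hx⟩
  induction hx using Submodule.span_induction with
  | mem x hx =>
    obtain ⟨i, rfl⟩ := hx
    exact h i
  | zero =>
    have : (⟨0, Submodule.zero_mem _⟩ : Submodule.span ℤ (Set.range P.root)) = 0 := rfl
    rw [this, map_zero, map_zero]
  | add x y hx hy ihx ihy =>
    have : (⟨x + y, Submodule.add_mem _ hx hy⟩ : Submodule.span ℤ (Set.range P.root)) =
        ⟨x, hx⟩ + ⟨y, hy⟩ := rfl
    rw [this, map_add, map_add, ihx, ihy]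
  | smul a x hx ihx =>
    have : (⟨a • x, Submodule.smul_mem _ a hx⟩ : Submodule.span ℤ (Set.range P.root)) =
        a • ⟨x, hx⟩ := rfl
    rw [this, map_zsmul, map_zsmul, ihx]

end Ext

end Groth.Agent.H8.RootD
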