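import Mathlib
import Groth.Prelude.Def_W4sga3xxiRoot
import Groth.Agent.Lib.helper8.RootD16

/-! RootD17: lengths of roots. -/

set_option autoImplicit false

namespace Groth.Agent.H8.RootD

open RootPairing _root_.RootD

variable {ι M N : Type*} [AddCommGroup M] [AddCommGroup N] (P : RootPairing ι ℤ M N) [Finite ι]

theorem pairing_mul_length [Fintype ι] (i j : ι) :
    P.pairing j i * P.RootForm (P.root i) (P.root i) =
      P.pairing i j * P.RootForm (P.root j) (P.root j) := by
  have : Module.IsReflexive ℤ M := .of_isPerfPair P.toLinearMap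
  have : Module.IsReflexive ℤ N := .of_isPerfPair P.flip.toLinearMap
  exact P.toInvariantForm.pairing_mul_eq_pairing_mul_swap i j

theorem coxeterWeight_mem (i j : ι) :
    P.pairing i j * P.pairing j i ∈ ({0, 1, 2, 3, 4} : Set ℤ) := by
  have : Module.IsReflexive ℤ M := .of_isPerfPair P.toLinearMap
  have : Module.IsReflexive ℤ N := .of_isPerfPair P.flip.toLinearMap
  have hcw := P.coxeterWeightIn_mem_set_of_isCrystallographic i j
  have hcw' : P.coxeterWeightIn ℤ i j = P.pairing i j * P.pairing j i := by
    rw [RootPairing.coxeterWeightIn, pairingIn_int, pairingIn_int]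
  rwa [hcw'] at hcw

theorem length_le_of_pairing_two [Fintype ι] {i k : ι} (h : P.pairing i k = 2) :
    P.RootForm (P.root k) (P.root k) ≤ P.RootForm (P.root i) (P.root i) ∧
      (P.RootForm (P.root k) (P.root k) = P.RootForm (P.root i) (P.root i) → i = k) := by
  have : Module.IsReflexive ℤ M := .of_isPerfPair P.toLinearMap
  have : Module.IsReflexive ℤ N := .of_isPerfPair P.flip.toLinearMap
  have h1 := pairing_mul_length P i k
  rw [h] at h1
  have hi := rootForm_root_pos P i
  have hk := rootForm_root_pos P k
  have hcw := coxeterWeight_mem P i k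
  rw [h] at hcw
  simp only [Set.mem_insert_iff, Set.mem_singleton_iff] at hcw
  have hpos : 0 < P.pairing k i := by
    by_contra hcon
    push Not at hcon
    have : P.pairing k i * P.RootForm (P.root i) (P.root i) ≤ 0 :=
      mul_nonpos_of_nonpos_of_nonneg hcon hi.le
    linarith
  have hcases : P.pairing k i = 1 ∨ P.pairing k i = 2 := by omega
  rcases hcases with h2 | h2
  · rw [h2] at h1
    constructor
    · linarith
    · intro heq; exfalso; linarith
  · constructor
    · rw [h2] at h1; linarith
    · intro _
      exact (P.pairing_two_two_iff i k).mp ⟨h, h2⟩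

end Groth.Agent.H8.RootD
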