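import Mathlib
import Groth.Prelude.Def_W4sga3xxiRoot
import Groth.Agent.Lib.helper8.RootD17

/-! RootD18: irreducible root systems: connectedness, conjugacy. -/

set_option autoImplicit false

namespace Groth.Agent.H8.RootD

open RootPairing _root_.RootD

variable {ι M N : Type*} [AddCommGroup M] [AddCommGroup N] (P : RootPairing ι ℤ M N) [Finite ι]

/-- the combinatorial irreducibility hypothesis used in the statements -/
def Irr : Prop :=
  ∀ R' : Set ι, IsClosedSub P R' → IsSymmSub P R' → IsClosedSub P R'ᶜ →
    IsSymmSub P R'ᶜ → R' = ∅ ∨ R' = Set.univ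

omit [Finite ι] in
theorem connected_of_irr (hirr : Irr P) (i j : ι) :
    Relation.ReflTransGen (fun a b : ι => ¬ P.IsOrthogonal a b) i j := by
  obtain ⟨h1, h2, h3, h4⟩ := comp_props P i
  rcases hirr _ h1 h2 h3 h4 with h | h
  · exfalso
    have : i ∈ {j : ι | Relation.ReflTransGen (fun a b : ι => ¬ P.IsOrthogonal a b) i j} :=
      Relation.ReflTransGen.refl
    rw [h] at this
    exact this
  · have : j ∈ (Set.univ : Set ι) := trivial
    rw [← h] at this
    exact this

omit [Finite ι] in
theorem pairing_reflection_left (a b c : ι) :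
    P.pairing (P.reflectionPerm b a) c = P.pairing a c - P.pairing a b * P.pairing b c := by
  show P.toLinearMap (P.root (P.reflectionPerm b a)) (P.coroot c) = _
  rw [P.root_reflectionPerm, P.reflection_apply_root, map_sub, LinearMap.sub_apply, map_smul,
    LinearMap.smul_apply]
  rfl

theorem exists_weyl_pairing_ne_zero {i j : ι}
    (h : Relation.ReflTransGen (fun a b : ι => ¬ P.IsOrthogonal a b) i j) :
    ∃ w : P.Aut, w ∈ P.weylGroup ∧ P.pairing (w • i) j ≠ 0 := by
  induction h with
  | refl =>
    refine ⟨1, one_mem _, ?_⟩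
    rw [one_smul, P.pairing_same]
    norm_num
  | @tail b c _ hbc ih =>
    obtain ⟨w, hw, hwb⟩ := ih
    by_cases hc : P.pairing (w • i) c = 0
    · refine ⟨Equiv.reflection P b * w, mul_mem (P.reflection_mem_weylGroup b) hw, ?_⟩
      rw [mul_smul, reflection_smul_idx, pairing_reflection_left, hc, zero_sub, neg_ne_zero]
      exact mul_ne_zero hwb (pairing_ne_zero_of_not_orth P hbc)
    · exact ⟨w, hw, hc⟩

omit [Finite ι] in
theorem rootForm_weyl_smul [Fintype ι] {w : P.Aut} (hw : w ∈ P.weylGroup) (x y : M) :
    P.RootForm (w • x) (w • y) = P.RootForm x y := by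
  induction hw using Subgroup.closure_induction generalizing x y with
  | mem g hg =>
    obtain ⟨i, rfl⟩ := hg
    rw [Equiv.reflection_smul, Equiv.reflection_smul, P.rootForm_reflection_reflection_apply]
  | one => simp
  | mul a b _ _ iha ihb => rw [mul_smul, mul_smul, iha, ihb]
  | inv a _ iha =>
    have := iha (a⁻¹ • x) (a⁻¹ • y)
    rw [smul_smul, smul_smul, mul_inv_cancel, one_smul, one_smul] at this
    exact this.symm

omit [Finite ι] in
theorem length_weyl_smul [Fintype ι] {w : P.Aut} (hw : w ∈ P.weylGroup) (i : ι) :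
    P.RootForm (P.root (w • i)) (P.root (w • i)) = P.RootForm (P.root i) (P.root i) := by
  rw [← aut_smul_root, rootForm_weyl_smul P hw]

omit [Finite ι] in
theorem not_orth_of_pairing_ne_zero {i j : ι} (h : P.pairing i j ≠ 0) : ¬ P.IsOrthogonal i j :=
  fun ho => h ho.1

end Groth.Agent.H8.RootD
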