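import Mathlib
import Groth.Prelude.Def_W4sga3xxiRoot
import Groth.Agent.Lib.helper8.RootD18

/-! RootD19: length ratios. -/

set_option autoImplicit false

namespace Groth.Agent.H8.RootD

open RootPairing _root_.RootD

variable {ι M N : Type*} [AddCommGroup M] [AddCommGroup N] (P : RootPairing ι ℤ M N) [Finite ι]

theorem int_ratio (p q La Lb : ℤ) (hne : p ≠ 0) (ha : 0 < La) (hb : 0 < Lb) (hle : La ≤ Lb)
    (h1 : q * La = p * Lb)
    (hcw : p * q = 0 ∨ p * q = 1 ∨ p * q = 2 ∨ p * q = 3 ∨ p * q = 4) :
    Lb = La ∨ Lb = 2 * La ∨ Lb = 3 * La ∨ (Lb = 4 * La ∧ p * q = 4) := by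
  have hq0 : q ≠ 0 := by
    intro h0
    rw [h0, zero_mul] at h1
    exact (mul_ne_zero hne hb.ne') h1.symm
  have hpq : 0 < p * q := by
    rcases hcw with h | h | h | h | h
    · exact absurd h (mul_ne_zero hne hq0)
    all_goals omega
  have hp2 : p * p ≤ 4 := by
    have e : p * p * Lb = p * q * La := by rw [mul_assoc, ← h1]; ring
    have : p * p * Lb ≤ p * q * Lb := by
      rw [e]; exact mul_le_mul_of_nonneg_left hle hpq.le
    have h3 : p * p ≤ p * q := le_of_mul_le_mul_right this hb
    omega
  have hp1 : -2 ≤ p := by nlinarith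
  have hp2' : p ≤ 2 := by nlinarith
  interval_cases p
  · -- p = -2
    have hq : q = -1 ∨ q = -2 := by omega
    rcases hq with rfl | rfl <;> omega
  · -- p = -1
    have hq : q = -1 ∨ q = -2 ∨ q = -3 ∨ q = -4 := by omega
    rcases hq with rfl | rfl | rfl | rfl <;> omega
  · exact absurd rfl hne
  · have hq : q = 1 ∨ q = 2 ∨ q = 3 ∨ q = 4 := by omega
    rcases hq with rfl | rfl | rfl | rfl <;> omega
  · have hq : q = 1 ∨ q = 2 := by omega
    rcases hq with rfl | rfl <;> omega

/-- ratio of lengths of two non-orthogonal roots -/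
theorem length_ratio [Fintype ι] {a b : ι} (hne : P.pairing a b ≠ 0)
    (hle : P.RootForm (P.root a) (P.root a) ≤ P.RootForm (P.root b) (P.root b)) :
    P.RootForm (P.root b) (P.root b) = P.RootForm (P.root a) (P.root a) ∨
    P.RootForm (P.root b) (P.root b) = 2 * P.RootForm (P.root a) (P.root a) ∨
    P.RootForm (P.root b) (P.root b) = 3 * P.RootForm (P.root a) (P.root a) ∨
    (P.RootForm (P.root b) (P.root b) = 4 * P.RootForm (P.root a) (P.root a) ∧
      P.pairing a b * P.pairing b a = 4) := by
  have h1 := pairing_mul_length P a b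
  have ha := rootForm_root_pos P a
  have hb := rootForm_root_pos P b
  have hcw := coxeterWeight_mem P a b
  simp only [Set.mem_insert_iff, Set.mem_singleton_iff] at hcw
  exact int_ratio _ _ _ _ hne ha hb hle h1 hcw

theorem length_ratio_reduced [Fintype ι] [P.IsReduced] {a b : ι} (hne : P.pairing a b ≠ 0)
    (hle : P.RootForm (P.root a) (P.root a) ≤ P.RootForm (P.root b) (P.root b)) :
    P.RootForm (P.root b) (P.root b) = P.RootForm (P.root a) (P.root a) ∨
    P.RootForm (P.root b) (P.root b) = 2 * P.RootForm (P.root a) (P.root a) ∨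
    P.RootForm (P.root b) (P.root b) = 3 * P.RootForm (P.root a) (P.root a) := by
  have : Module.IsReflexive ℤ M := .of_isPerfPair P.toLinearMap
  have : Module.IsReflexive ℤ N := .of_isPerfPair P.flip.toLinearMap
  rcases length_ratio P hne hle with h | h | h | ⟨h, h4⟩
  · exact Or.inl h
  · exact Or.inr (Or.inl h)
  · exact Or.inr (Or.inr h)
  · exfalso
    have hnli : ¬ LinearIndependent ℤ ![P.root a, P.root b] :=
      (P.coxeterWeight_eq_four_iff_not_linearIndependent (i := a) (j := b)).mp h4
    have ha := rootForm_root_pos P a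
    rcases IsReduced.eq_or_eq_neg (P := P) a b hnli with e | e
    · rw [e] at h; rw [e] at ha; linarith
    · rw [e] at h; rw [e] at ha
      simp only [map_neg, LinearMap.neg_apply, neg_neg] at h ha
      linarith

end Groth.Agent.H8.RootD
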