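import Mathlib
import Groth.Prelude.Def_W4sga3xxiRoot
import Groth.Agent.Lib.helper8.RootD19

/-! RootD20: the map root ↦ (normalised) coroot is additive. -/

set_option autoImplicit false

namespace Groth.Agent.H8.RootD

open RootPairing _root_.RootD

variable {ι M N : Type*} [AddCommGroup M] [AddCommGroup N] (P : RootPairing ι ℤ M N) [Finite ι]

theorem length_dvd_of_min [Fintype ι] (hirr : Irr P) (i₀ : ι)
    (hmin : ∀ i : ι, P.RootForm (P.root i₀) (P.root i₀) ≤ P.RootForm (P.root i) (P.root i))
    (i : ι) : P.RootForm (P.root i₀) (P.root i₀) ∣ P.RootForm (P.root i) (P.root i) := by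
  have hconn := connected_of_irr P hirr i₀ i
  obtain ⟨w, hw, hwj⟩ := exists_weyl_pairing_ne_zero P hconn
  have hlen := length_weyl_smul P hw i₀
  have := length_ratio P hwj (by rw [hlen]; exact hmin i)
  rw [hlen] at this
  rcases this with h | h | h | ⟨h, -⟩
  · rw [h]
  · rw [h]; exact Dvd.intro_left 2 rfl
  · rw [h]; exact Dvd.intro_left 3 rfl
  · rw [h]; exact Dvd.intro_left 4 rfl

omit [Finite ι] in
theorem length_neg [Fintype ι] (i : ι) :
    P.RootForm (P.root (P.reflectionPerm i i)) (P.root (P.reflectionPerm i i)) =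
      P.RootForm (P.root i) (P.root i) := by
  rw [root_neg]
  simp

theorem normalized_coroot_additive [Fintype ι] (hirr : Irr P) (i₀ : ι)
    (hmin : ∀ i : ι, P.RootForm (P.root i₀) (P.root i₀) ≤ P.RootForm (P.root i) (P.root i)) :
    (∀ i : ι, (P.RootForm (P.root (P.reflectionPerm i i)) (P.root (P.reflectionPerm i i)) /
        P.RootForm (P.root i₀) (P.root i₀)) • P.coroot (P.reflectionPerm i i) =
      -((P.RootForm (P.root i) (P.root i) / P.RootForm (P.root i₀) (P.root i₀)) • P.coroot i)) ∧
    (∀ i j k : ι, P.root k = P.root i + P.root j →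
      (P.RootForm (P.root k) (P.root k) / P.RootForm (P.root i₀) (P.root i₀)) • P.coroot k =
      (P.RootForm (P.root i) (P.root i) / P.RootForm (P.root i₀) (P.root i₀)) • P.coroot i +
      (P.RootForm (P.root j) (P.root j) / P.RootForm (P.root i₀) (P.root i₀)) • P.coroot j) := by
  have hN := torsionFree_N P
  have hpos := rootForm_root_pos P i₀
  constructor
  · intro i
    rw [length_neg, coroot_neg, smul_neg]
  · intro i j k hk
    have hd := length_dvd_of_min P hirr i₀ hmin
    have key : ∀ a : ι, P.RootForm (P.root i₀) (P.root i₀) •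
        ((P.RootForm (P.root a) (P.root a) / P.RootForm (P.root i₀) (P.root i₀)) • P.coroot a) =
        2 • P.Polarization (P.root a) := by
      intro a
      rw [smul_smul, mul_comm, Int.ediv_mul_cancel (hd a), P.rootForm_self_smul_coroot]
    have h1 : P.RootForm (P.root i₀) (P.root i₀) •
        ((P.RootForm (P.root k) (P.root k) / P.RootForm (P.root i₀) (P.root i₀)) • P.coroot k) =
        P.RootForm (P.root i₀) (P.root i₀) •
        ((P.RootForm (P.root i) (P.root i) / P.RootForm (P.root i₀) (P.root i₀)) • P.coroot i +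
      (P.RootForm (P.root j) (P.root j) / P.RootForm (P.root i₀) (P.root i₀)) • P.coroot j) := by
      rw [smul_add, key, key, key, hk, map_add, smul_add]
    exact smul_right_injective N hpos.ne' h1

end Groth.Agent.H8.RootD
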