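import Mathlib
import Groth.Prelude.Def_W4sga3xxiRoot
import Groth.Agent.Lib.helper8.RootD20

/-! RootD21: the symmetrised Cartan matrix is positive definite. -/

set_option autoImplicit false

namespace Groth.Agent.H8.RootD

open RootPairing _root_.RootD

variable {ι M N : Type*} [AddCommGroup M] [AddCommGroup N] (P : RootPairing ι ℤ M N) [Finite ι]

omit [Finite ι] in
theorem gram_entry [Fintype ι] (a b : ι) :
    P.RootForm (P.root a) (P.root a) * P.pairing b a = 2 * P.RootForm (P.root b) (P.root a) := by
  have : Module.IsReflexive ℤ M := .of_isPerfPair P.toLinearMap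
  have : Module.IsReflexive ℤ N := .of_isPerfPair P.flip.toLinearMap
  have := P.toInvariantForm.two_mul_apply_root_root b a
  rw [mul_comm]
  exact this.symm

/-- the vector attached to a coefficient family on a finset -/
noncomputable def vec (s : Finset ι) (x : ↥s →₀ ℤ) : M := x.sum fun a xa => xa • P.root (a : ι)

omit [Finite ι] in
theorem vec_eq_lc (s : Finset ι) (x : ↥s →₀ ℤ) :
    vec P s x = lc P (x.mapDomain (fun a : ↥s => (a : ι))) := by
  rw [lc, Finsupp.linearCombination_mapDomain, Finsupp.linearCombination_apply]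
  rfl

omit [Finite ι] in
theorem quad_eq [Fintype ι] (s : Finset ι) (x : ↥s →₀ ℤ) :
    (x.sum fun i xi => x.sum fun j xj =>
      xi * (P.RootForm (P.root (i : ι)) (P.root (i : ι)) * P.pairing (j : ι) (i : ι)) * xj) =
      2 * P.RootForm (vec P s x) (vec P s x) := by
  simp only [vec, Finsupp.sum, map_sum, LinearMap.sum_apply, map_smul, LinearMap.smul_apply,
    smul_eq_mul, Finset.mul_sum]
  apply Finset.sum_congr rfl; intro i _
  apply Finset.sum_congr rfl; intro j _
  rw [gram_entry P (i : ι) (j : ι)]
  ring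

omit [Finite ι] in
theorem vec_ne_zero {s : Finset ι} (hli : LinearIndepOn ℤ P.root (↑s : Set ι)) {x : ↥s →₀ ℤ}
    (hx : x ≠ 0) : vec P s x ≠ 0 := by
  classical
  intro h0
  apply hx
  rw [vec_eq_lc] at h0
  have hsupp : ↑(x.mapDomain (fun a : ↥s => (a : ι))).support ⊆ (↑s : Set ι) := by
    intro j hj
    have := Finsupp.mapDomain_support hj
    obtain ⟨a, -, rfl⟩ := Finset.mem_image.mp this
    exact a.2
  have h1 : x.mapDomain (fun a : ↥s => (a : ι)) = 0 := by
    apply coef_unique P hli hsupp (by simp)
    rw [h0]; simp [lc]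
  exact Finsupp.mapDomain_injective Subtype.val_injective (by rw [h1, Finsupp.mapDomain_zero])

omit [Finite ι] in
theorem vec_mem_span (s : Finset ι) (x : ↥s →₀ ℤ) :
    vec P s x ∈ Submodule.span ℤ (Set.range P.root) := by
  rw [vec, Finsupp.sum]
  exact Submodule.sum_mem _ fun a _ =>
    Submodule.smul_mem _ _ (Submodule.subset_span (Set.mem_range_self _))

theorem quad_pos [Fintype ι] {s : Finset ι} (hli : LinearIndepOn ℤ P.root (↑s : Set ι))
    {x : ↥s →₀ ℤ} (hx : x ≠ 0) :
    0 < (x.sum fun i xi => x.sum fun j xj =>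
      xi * (P.RootForm (P.root (i : ι)) (P.root (i : ι)) * P.pairing (j : ι) (i : ι)) * xj) := by
  have : Module.IsReflexive ℤ M := .of_isPerfPair P.toLinearMap
  have : Module.IsReflexive ℤ N := .of_isPerfPair P.flip.toLinearMap
  rw [quad_eq]
  have := P.rootForm_pos_of_ne_zero (vec_mem_span P s x) (vec_ne_zero P hli hx)
  linarith

theorem cartan_posDef [Fintype ι] {s : Finset ι} (hli : LinearIndepOn ℤ P.root (↑s : Set ι)) :
    (Matrix.of fun (a b : ↥s) =>
      P.RootForm (P.root (a : ι)) (P.root (a : ι)) * P.pairing (b : ι) (a : ι)).IsSymm ∧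
    (Matrix.of fun (a b : ↥s) =>
      P.RootForm (P.root (a : ι)) (P.root (a : ι)) * P.pairing (b : ι) (a : ι)).PosDef := by
  have hsymm : ∀ a b : ι, P.RootForm (P.root a) (P.root a) * P.pairing b a =
      P.RootForm (P.root b) (P.root b) * P.pairing a b := by
    intro a b
    rw [gram_entry, gram_entry]
    have := P.rootForm_symmetric.eq (P.root b) (P.root a)
    simp only [RingHom.id_apply] at this
    rw [this]
  refine ⟨?_, ?_, ?_⟩
  · ext a b
    exact hsymm _ _
  · ext a b
    simp only [Matrix.conjTranspose_apply, Matrix.of_apply, star_trivial]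
    exact hsymm _ _
  · intro x hx
    simp only [Matrix.of_apply, star_trivial]
    exact quad_pos P hli hx

end Groth.Agent.H8.RootD
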