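import Mathlib
import Groth.Prelude.Def_W4sga3xxiRoot
import Groth.Agent.Lib.helper8.RootD21

/-! RootD22: principal minors of the Cartan matrix are positive. -/

set_option autoImplicit false

namespace Groth.Agent.H8.RootD

open RootPairing _root_.RootD

theorem det_gram_nonneg {k n : Type*} [Fintype k] [Fintype n] [DecidableEq n] (G : Matrix k n ℤ) :
    0 ≤ (G.transpose * G).det := by
  have h := (Matrix.posSemidef_conjTranspose_mul_self (G.map (Int.cast : ℤ → ℝ))).det_nonneg
  have e : (G.map (Int.cast : ℤ → ℝ)).conjTranspose * G.map (Int.cast : ℤ → ℝ) =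
      (Int.castRingHom ℝ).mapMatrix (G.transpose * G) := by
    ext a b
    simp [Matrix.mul_apply]
  rw [e, ← RingHom.map_det, eq_intCast] at h
  exact_mod_cast h

variable {ι M N : Type*} [AddCommGroup M] [AddCommGroup N] (P : RootPairing ι ℤ M N) [Finite ι]

theorem cartan_det_pos [Fintype ι] [DecidableEq ι] {s : Finset ι} [DecidableEq ↥s]
    (hli : LinearIndepOn ℤ P.root (↑s : Set ι)) :
    0 < Matrix.det (Matrix.of fun (a b : ↥s) => P.pairing (b : ι) (a : ι)) := by
  set C : Matrix ↥s ↥s ℤ := Matrix.of fun (a b : ↥s) => P.pairing (b : ι) (a : ι) with hC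
  set D : Matrix ↥s ↥s ℤ :=
    Matrix.diagonal fun a : ↥s => P.RootForm (P.root (a : ι)) (P.root (a : ι)) with hD
  set A : Matrix ↥s ↥s ℤ := Matrix.of fun (a b : ↥s) =>
      P.RootForm (P.root (a : ι)) (P.root (a : ι)) * P.pairing (b : ι) (a : ι) with hA
  set G : Matrix ι ↥s ℤ := Matrix.of fun (k : ι) (a : ↥s) => P.pairing (a : ι) k with hG
  have hDC : D * C = A := by
    ext a b
    simp [hD, hC, hA, Matrix.diagonal_mul]
  have hAG : A = (2 : ℤ) • (G.transpose * G) := by
    ext a b
    simp only [hA, hG, Matrix.of_apply, Matrix.smul_apply, Matrix.mul_apply,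
      Matrix.transpose_apply, smul_eq_mul]
    rw [gram_entry, P.rootForm_apply_apply]
    congr 1
    apply Finset.sum_congr rfl
    intro k _
    rw [mul_comm]
    rfl
  have hdetA_ne : A.det ≠ 0 := by
    intro h0
    obtain ⟨v, hv, hAv⟩ := Matrix.exists_mulVec_eq_zero_iff.mpr h0
    have hpd := (cartan_posDef P hli).2
    rw [Matrix.posDef_iff_dotProduct_mulVec] at hpd
    have := hpd.2 hv
    rw [← hA, hAv] at this
    simp at this
  have hdetA_nonneg : 0 ≤ A.det := by
    rw [hAG, Matrix.det_smul]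
    exact mul_nonneg (pow_nonneg (by norm_num) _) (det_gram_nonneg G)
  have hdetA : 0 < A.det := lt_of_le_of_ne hdetA_nonneg (Ne.symm hdetA_ne)
  rw [← hDC, Matrix.det_mul, hD, Matrix.det_diagonal] at hdetA
  have hprod : 0 < ∏ a : ↥s, P.RootForm (P.root (a : ι)) (P.root (a : ι)) :=
    Finset.prod_pos fun a _ => rootForm_root_pos P _
  exact (mul_pos_iff_of_pos_left hprod).mp hdetA

end Groth.Agent.H8.RootD
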