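import Mathlib
import Groth.Prelude.Def_W4sga3xxiRoot
import Groth.Agent.Lib.helper8.RootD22

/-! RootD23: minimal words (refined), dominance. -/

set_option autoImplicit false

namespace Groth.Agent.H8.RootD

open RootPairing _root_.RootD

variable {ι M N : Type*} [AddCommGroup M] [AddCommGroup N] (P : RootPairing ι ℤ M N) [Finite ι]

/-- refined version of `neg_root_last_of_minimal_word`: minimality is only needed among
words in the letters of the given word. -/
theorem pos_of_minimal_append {Δ : Set ι} (hΔ : IsSimpleSys P Δ)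
    (l₀ : List ι) (β : ι) (hl : ∀ a ∈ l₀ ++ [β], a ∈ Δ)
    (hmin : ∀ l' : List ι, (∀ a ∈ l', a ∈ l₀ ++ [β]) → wd P l' = wd P (l₀ ++ [β]) →
      (l₀ ++ [β]).length ≤ l'.length) :
    wd P l₀ • β ∈ posOf P Δ := by
  have hβΔ : β ∈ Δ := hl β (by simp)
  have hl₀ : ∀ a ∈ l₀, a ∈ Δ := fun a ha => hl a (by simp [ha])
  by_contra hneg
  obtain ⟨p, a, q, hpq, hqpos, hqneg⟩ := exists_split P β (subset_posOf P hβΔ) l₀ hneg
  have haΔ : a ∈ Δ := hl₀ a (by rw [hpq]; simp)
  have hindq : IsIndiv P (wd P q • β) := isIndiv_smul P _ (simple_indiv P hΔ hβΔ)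
  have hqa : wd P q • β = a := eq_simple_of_refl_neg P hΔ haΔ hqpos hindq hqneg
  have hconj : wd P q * Equiv.reflection P β * (wd P q)⁻¹ = Equiv.reflection P a := by
    rw [aut_conj_reflection, hqa]
  have hcomm : Equiv.reflection P a * wd P q = wd P q * Equiv.reflection P β := by
    rw [← hconj]; group
  have hprod : wd P (p ++ q) = wd P (l₀ ++ [β]) := by
    rw [hpq, wd_append, wd_append, wd_append, wd_cons, wd_cons, wd_nil, mul_one]
    calc wd P p * wd P q = wd P p * (wd P q * (Equiv.reflection P β * Equiv.reflection P β)) := by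
          rw [refl_mul_self, mul_one]
      _ = wd P p * ((wd P q * Equiv.reflection P β) * Equiv.reflection P β) := by group
      _ = wd P p * ((Equiv.reflection P a * wd P q) * Equiv.reflection P β) := by rw [hcomm]
      _ = wd P p * (Equiv.reflection P a * wd P q) * Equiv.reflection P β := by group
  have hlen := hmin (p ++ q) (by
    intro b hb
    rw [hpq]
    rcases List.mem_append.mp hb with h | h
    · simp [h]
    · simp [h]) hprod
  rw [hpq] at hlen
  simp at hlen

omit [Finite ι] in
theorem nsmul_root_mem_natSpan {Δ : Set ι} {j : ι} (hj : P.root j ∈ natSpan P Δ) {z : ℤ}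
    (hz : 0 ≤ z) : z • P.root j ∈ natSpan P Δ := by
  obtain ⟨n, rfl⟩ := Int.eq_ofNat_of_zero_le hz
  rw [natCast_zsmul]
  exact AddSubmonoid.nsmul_mem _ hj n

omit [Finite ι] in
theorem add_ne_zero_of_mem_natSpan {Δ : Set ι} (hli : LinearIndepOn ℤ P.root Δ) {x y : M}
    (hx : x ∈ natSpan P Δ) (hy : y ∈ natSpan P Δ) (h : x ≠ 0 ∨ y ≠ 0) : x + y ≠ 0 := by
  intro h0
  have hxy : -x = y := by rw [neg_eq_iff_add_eq_zero]; exact h0
  have hx0 : x = 0 := eq_zero_of_mem_natSpan_of_neg_mem P hli hx (hxy ▸ hy)
  have hy0 : y = 0 := by rw [← hxy, hx0, neg_zero]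
  rcases h with h | h
  · exact h hx0
  · exact h hy0

/-- for a "dominant" root `k` (w.r.t. the letters used), `k - w k` is a non-negative combination
of simple roots, nonzero if the reduced word for `w` involves a letter not orthogonal to `k`. -/
theorem dominant_sub_mem {Δ : Set ι} (hΔ : IsSimpleSys P Δ) (k : ι) :
    ∀ l : List ι, (∀ a ∈ l, a ∈ Δ) → (∀ a ∈ l, 0 ≤ P.pairing k a) →
      (∀ l' : List ι, (∀ a ∈ l', a ∈ l) → wd P l' = wd P l → l.length ≤ l'.length) →
      P.root k - P.root (wd P l • k) ∈ natSpan P Δ ∧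
        ((∃ a ∈ l, 0 < P.pairing k a) → P.root k - P.root (wd P l • k) ≠ 0) := by
  have hM := torsionFree_M P
  intro l
  induction l using List.reverseRecOn with
  | nil =>
    intro _ _ _
    refine ⟨by simp, ?_⟩
    rintro ⟨a, ha, -⟩
    simp at ha
  | append_singleton l₀ β ih =>
    intro hl hdom hmin
    have hl₀ : ∀ a ∈ l₀, a ∈ Δ := fun a ha => hl a (by simp [ha])
    have hdom₀ : ∀ a ∈ l₀, 0 ≤ P.pairing k a := fun a ha => hdom a (by simp [ha])
    have hmin₀ : ∀ l' : List ι, (∀ a ∈ l', a ∈ l₀) → wd P l' = wd P l₀ →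
        l₀.length ≤ l'.length := by
      intro l' hl' hwd
      have := hmin (l' ++ [β]) (by
        intro a ha
        rcases List.mem_append.mp ha with h | h
        · exact List.mem_append_left _ (hl' a h)
        · exact List.mem_append_right _ h) (by rw [wd_append, wd_append, hwd])
      simpa using this
    obtain ⟨ih1, ih2⟩ := ih hl₀ hdom₀ hmin₀
    have hpos := pos_of_minimal_append P hΔ l₀ β hl hmin
    have hβdom : 0 ≤ P.pairing k β := hdom β (by simp)
    have hsplit : P.root k - P.root (wd P (l₀ ++ [β]) • k) =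
        (P.root k - P.root (wd P l₀ • k)) + P.pairing k β • P.root (wd P l₀ • β) := by
      rw [wd_append, mul_smul, wd_cons, wd_nil, mul_one, ← aut_smul_root, reflection_smul_idx,
        P.root_reflectionPerm, P.reflection_apply_root, smul_sub, aut_smul_root, smul_comm,
        aut_smul_root]
      abel
    have h2 : P.pairing k β • P.root (wd P l₀ • β) ∈ natSpan P Δ :=
      nsmul_root_mem_natSpan P hpos hβdom
    rw [hsplit]
    refine ⟨AddSubmonoid.add_mem _ ih1 h2, ?_⟩
    rintro ⟨a, ha, hapos⟩
    apply add_ne_zero_of_mem_natSpan P hΔ.linInd ih1 h2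
    rcases List.mem_append.mp ha with h | h
    · exact Or.inl (ih2 ⟨a, h, hapos⟩)
    · right
      have hab : a = β := by simpa using h
      rw [hab] at hapos
      intro h0
      rcases smul_eq_zero.mp h0 with h1 | h1
      · omega
      · exact P.ne_zero _ h1

end Groth.Agent.H8.RootD
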