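import Mathlib
import Groth.Prelude.Def_W4sga3xxiRoot
import Groth.Agent.Lib.helper8.RootD23

/-! RootD24: rank two dominance statement (S5472). -/

set_option autoImplicit false

namespace Groth.Agent.H8.RootD

open RootPairing _root_.RootD

variable {ι M N : Type*} [AddCommGroup M] [AddCommGroup N] (P : RootPairing ι ℤ M N) [Finite ι]

theorem rank_two_dominance {Δ : Set ι} (hΔ : IsSimpleSys P Δ)
    (k i j : ι) (hi : i ∈ Δ) (hj : j ∈ Δ)
    (hα : 0 < P.pairing k i) (hβ : 0 ≤ P.pairing k j)
    (g : P.Aut) (hg : g ∈ Subgroup.closure {Equiv.reflection P i, Equiv.reflection P j})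
    (c : ι →₀ ℤ) (hc : ↑c.support ⊆ Δ)
    (hck : lc P c = P.root k - P.root (g • k)) :
    0 ≤ ht c ∧ (g ≠ 1 → g ≠ Equiv.reflection P j → 0 < ht c) := by
  have hg' : g ∈ WΔ P ({i, j} : Set ι) := by
    rw [WΔ, Set.image_pair]
    exact hg
  obtain ⟨l, hl, hlg, hmin⟩ := exists_minimal_word P hg'
  have hlΔ : ∀ a ∈ l, a ∈ Δ := by
    intro a ha
    rcases hl a ha with rfl | rfl
    · exact hi
    · exact hj
  have hdom : ∀ a ∈ l, 0 ≤ P.pairing k a := by
    intro a ha
    rcases hl a ha with rfl | rfl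
    · exact hα.le
    · exact hβ
  have hmin' : ∀ l' : List ι, (∀ a ∈ l', a ∈ l) → wd P l' = wd P l → l.length ≤ l'.length :=
    fun l' h hwd => hmin l' (fun a ha => hl a (h a ha)) (hwd.trans hlg)
  obtain ⟨h1, h2⟩ := dominant_sub_mem P hΔ k l hlΔ hdom hmin'
  rw [hlg] at h1 h2
  obtain ⟨d, hd, hd0, hdk⟩ := natSpan_exists_coef P h1
  have hcd : c = d := coef_unique P hΔ.linInd hc hd (hck.trans hdk.symm)
  subst hcd
  refine ⟨ht_nonneg hd0, ?_⟩
  intro hg1 hgj
  have hil : i ∈ l := by
    by_contra hil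
    have hall : ∀ a ∈ l, a = j := by
      intro a ha
      rcases hl a ha with rfl | rfl
      · exact absurd ha hil
      · rfl
    match l, hlg, hmin', hall with
    | [], hlg, _, _ => exact hg1 (by simpa using hlg.symm)
    | [a], hlg, _, hall =>
      have : a = j := hall a (by simp)
      subst this
      exact hgj (by simpa using hlg.symm)
    | a :: b :: t, _, hmin', hall =>
      have ha : a = j := hall a (by simp)
      have hb : b = j := hall b (by simp)
      have := hmin' t (fun x hx => by simp [hx]) (by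
        rw [wd_cons, wd_cons, ha, hb, ← mul_assoc, refl_mul_self, one_mul])
      simp at this
  have hne := h2 ⟨i, hil, hα⟩
  rcases (ht_nonneg hd0).eq_or_lt with h | h
  · exfalso
    apply hne
    rw [← hck, eq_zero_of_ht_eq_zero hd0 h.symm]
    simp [lc]
  · exact h

end Groth.Agent.H8.RootD
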