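import Mathlib
import Groth.Prelude.Def_W4sga3xxiRoot
import Groth.Agent.Lib.helper8.RootD24

/-! RootD25: p-morphisms of root data: basic identities. -/

set_option autoImplicit false

namespace Groth.Agent.H8.RootD

open RootPairing _root_.RootD

variable {ι M N ι' M' N' : Type*} [AddCommGroup M] [AddCommGroup N] [AddCommGroup M']
  [AddCommGroup N'] (P : RootPairing ι ℤ M N) (P' : RootPairing ι' ℤ M' N')

/-- data of a "p-morphism" (without the p-power condition) -/
structure PMor (f : M' →ₗ[ℤ] M) (g : N →ₗ[ℤ] N') (u : ι ≃ ι') (q : ι → ℕ) : Prop where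
  adj : ∀ (m' : M') (n : N), P.toLinearMap (f m') n = P'.toLinearMap m' (g n)
  qpos : ∀ i, 0 < q i
  root : ∀ i : ι, f (P'.root (u i)) = (q i : ℤ) • P.root i
  coroot : ∀ i : ι, g (P.coroot i) = (q i : ℤ) • P'.coroot (u i)

variable {P P'} {f : M' →ₗ[ℤ] M} {g : N →ₗ[ℤ] N'} {u : ι ≃ ι'} {q : ι → ℕ}

theorem PMor.pairing (h : PMor P P' f g u q) (i j : ι) :
    (q i : ℤ) * P'.pairing (u j) (u i) = (q j : ℤ) * P.pairing j i := by
  have h1 : P'.toLinearMap (P'.root (u j)) (g (P.coroot i)) =
      P.toLinearMap (f (P'.root (u j))) (P.coroot i) := (h.adj _ _).symm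
  rw [h.coroot, h.root, map_smul, map_smul, LinearMap.smul_apply] at h1
  exact h1

theorem PMor.length_rel [Fintype ι] [Fintype ι'] [Finite ι] [Finite ι']
    (h : PMor P P' f g u q) {i j : ι} (hij : P.pairing i j ≠ 0) :
    ((q i : ℤ) ^ 2 * P.RootForm (P.root i) (P.root i)) * P'.RootForm (P'.root (u j)) (P'.root (u j)) =
      ((q j : ℤ) ^ 2 * P.RootForm (P.root j) (P.root j)) *
        P'.RootForm (P'.root (u i)) (P'.root (u i)) := by
  have e1 := h.pairing i j  -- q i * p'(uj,ui) = q j * p(j,i)
  have e2 := h.pairing j i  -- q j * p'(ui,uj) = q i * p(i,j)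
  have l1 := pairing_mul_length P i j   -- p(j,i) L i = p(i,j) L j
  have l2 := pairing_mul_length P' (u i) (u j)  -- p'(uj,ui) L'(ui) = p'(ui,uj) L'(uj)
  have hqi : (0 : ℤ) < q i := by exact_mod_cast h.qpos i
  have hqj : (0 : ℤ) < q j := by exact_mod_cast h.qpos j
  -- multiply out
  have key : P.pairing i j * (((q i : ℤ) ^ 2 * P.RootForm (P.root i) (P.root i)) *
      P'.RootForm (P'.root (u j)) (P'.root (u j))) =
      P.pairing i j * (((q j : ℤ) ^ 2 * P.RootForm (P.root j) (P.root j)) *
        P'.RootForm (P'.root (u i)) (P'.root (u i))) := by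
    -- LHS = q i * (q i p(i,j)) L i L'(uj) = q i * q j p'(ui,uj) L'(uj) L i
    --     = q i q j L i * p'(uj,ui) L'(ui) = q j L i L'(ui) * q j p(j,i) = q j^2 L'(ui) p(i,j) L j
    calc P.pairing i j * (((q i : ℤ) ^ 2 * P.RootForm (P.root i) (P.root i)) *
          P'.RootForm (P'.root (u j)) (P'.root (u j)))
        = (q i : ℤ) * P.RootForm (P.root i) (P.root i) * (((q i : ℤ) * P.pairing i j) *
            P'.RootForm (P'.root (u j)) (P'.root (u j))) := by ring
      _ = (q i : ℤ) * P.RootForm (P.root i) (P.root i) * (((q j : ℤ) * P'.pairing (u i) (u j)) *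
            P'.RootForm (P'.root (u j)) (P'.root (u j))) := by rw [e2]
      _ = (q i : ℤ) * P.RootForm (P.root i) (P.root i) * (q j : ℤ) *
            (P'.pairing (u i) (u j) * P'.RootForm (P'.root (u j)) (P'.root (u j))) := by ring
      _ = (q i : ℤ) * P.RootForm (P.root i) (P.root i) * (q j : ℤ) *
            (P'.pairing (u j) (u i) * P'.RootForm (P'.root (u i)) (P'.root (u i))) := by rw [l2]
      _ = (q j : ℤ) * P'.RootForm (P'.root (u i)) (P'.root (u i)) *
            (((q i : ℤ) * P'.pairing (u j) (u i)) * P.RootForm (P.root i) (P.root i)) := by ring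
      _ = (q j : ℤ) * P'.RootForm (P'.root (u i)) (P'.root (u i)) *
            (((q j : ℤ) * P.pairing j i) * P.RootForm (P.root i) (P.root i)) := by rw [e1]
      _ = (q j : ℤ) ^ 2 * P'.RootForm (P'.root (u i)) (P'.root (u i)) *
            (P.pairing j i * P.RootForm (P.root i) (P.root i)) := by ring
      _ = (q j : ℤ) ^ 2 * P'.RootForm (P'.root (u i)) (P'.root (u i)) *
            (P.pairing i j * P.RootForm (P.root j) (P.root j)) := by rw [l1]
      _ = _ := by ring
  exact mul_left_cancel₀ hij key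

theorem PMor.length_rel_of_conn [Fintype ι] [Fintype ι'] [Finite ι] [Finite ι']
    (h : PMor P P' f g u q) {i j : ι}
    (hc : Relation.ReflTransGen (fun a b : ι => ¬ P.IsOrthogonal a b) i j) :
    ((q i : ℤ) ^ 2 * P.RootForm (P.root i) (P.root i)) * P'.RootForm (P'.root (u j)) (P'.root (u j)) =
      ((q j : ℤ) ^ 2 * P.RootForm (P.root j) (P.root j)) *
        P'.RootForm (P'.root (u i)) (P'.root (u i)) := by
  induction hc with
  | refl => rfl
  | @tail b c _ hbc ih =>
    have hbc' := h.length_rel (pairing_ne_zero_of_not_orth P hbc)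
    have hb : 0 < (q b : ℤ) ^ 2 * P.RootForm (P.root b) (P.root b) := by
      have : (0 : ℤ) < q b := by exact_mod_cast h.qpos b
      exact mul_pos (pow_pos this 2) (rootForm_root_pos P b)
    have hb' : 0 < P'.RootForm (P'.root (u b)) (P'.root (u b)) := rootForm_root_pos P' _
    -- ih : A_i L'_b = A_b L'_i ; hbc' : A_b L'_c = A_c L'_b ; want A_i L'_c = A_c L'_i
    have key : (P'.RootForm (P'.root (u b)) (P'.root (u b))) *
        (((q i : ℤ) ^ 2 * P.RootForm (P.root i) (P.root i)) *
          P'.RootForm (P'.root (u c)) (P'.root (u c))) =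
        (P'.RootForm (P'.root (u b)) (P'.root (u b))) *
        (((q c : ℤ) ^ 2 * P.RootForm (P.root c) (P.root c)) *
          P'.RootForm (P'.root (u i)) (P'.root (u i))) := by
      calc _ = (((q i : ℤ) ^ 2 * P.RootForm (P.root i) (P.root i)) *
            P'.RootForm (P'.root (u b)) (P'.root (u b))) *
            P'.RootForm (P'.root (u c)) (P'.root (u c)) := by ring
        _ = (((q b : ℤ) ^ 2 * P.RootForm (P.root b) (P.root b)) *
            P'.RootForm (P'.root (u i)) (P'.root (u i))) *
            P'.RootForm (P'.root (u c)) (P'.root (u c)) := by rw [ih]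
        _ = (((q b : ℤ) ^ 2 * P.RootForm (P.root b) (P.root b)) *
            P'.RootForm (P'.root (u c)) (P'.root (u c))) *
            P'.RootForm (P'.root (u i)) (P'.root (u i)) := by ring
        _ = (((q c : ℤ) ^ 2 * P.RootForm (P.root c) (P.root c)) *
            P'.RootForm (P'.root (u b)) (P'.root (u b))) *
            P'.RootForm (P'.root (u i)) (P'.root (u i)) := by rw [hbc']
        _ = _ := by ring
    exact mul_left_cancel₀ hb'.ne' key

end Groth.Agent.H8.RootD
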