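import Mathlib
import Groth.Prelude.Def_W4sga3xxiRoot
import Groth.Agent.Lib.helper8.RootD25

/-! RootD26: p-morphisms: compatibility with reflections, Weyl groups. -/

set_option autoImplicit false

namespace Groth.Agent.H8.RootD

open RootPairing _root_.RootD

section Red

variable {ι M N : Type*} [AddCommGroup M] [AddCommGroup N] (P : RootPairing ι ℤ M N)

theorem eq_of_pos_smul_eq [P.IsReduced] {a b : ι} {x y : ℤ} (hx : 0 < x) (hy : 0 < y)
    (h : x • P.root a = y • P.root b) : a = b ∧ x = y := by
  have hM := torsionFree_M P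
  have hnli : ¬ LinearIndependent ℤ ![P.root a, P.root b] := by
    intro hli
    rw [LinearIndependent.pair_iff] at hli
    have := hli x (-y) (by rw [neg_smul, h]; abel)
    omega
  have hab : P.root a = P.root b := by
    rcases IsReduced.eq_or_eq_neg (P := P) a b hnli with e | e
    · exact e
    · exfalso
      rw [e, smul_neg] at h
      have h2 : (x + y) • P.root b = 0 := by
        rw [add_smul, ← h]; abel
      rcases smul_eq_zero.mp h2 with h3 | h3
      · omega
      · exact P.ne_zero b h3
  refine ⟨P.root.injective hab, ?_⟩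
  rw [hab] at h
  have h2 : (x - y) • P.root b = 0 := by rw [sub_smul, h, sub_self]
  rcases smul_eq_zero.mp h2 with h3 | h3
  · omega
  · exact absurd h3 (P.ne_zero b)

end Red

variable {ι M N ι' M' N' : Type*} [AddCommGroup M] [AddCommGroup N] [AddCommGroup M']
  [AddCommGroup N'] {P : RootPairing ι ℤ M N} {P' : RootPairing ι' ℤ M' N'}
  {f : M' →ₗ[ℤ] M} {g : N →ₗ[ℤ] N'} {u : ι ≃ ι'} {q : ι → ℕ}

theorem PMor.refl [P.IsReduced] (h : PMor P P' f g u q) (i j : ι) :
    q (P.reflectionPerm i j) = q j ∧
      u (P.reflectionPerm i j) = P'.reflectionPerm (u i) (u j) := by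
  set k' := P'.reflectionPerm (u i) (u j) with hk'
  set k := u.symm k' with hk
  have huk : u k = k' := by rw [hk]; simp
  have h1 : f (P'.root k') = (q j : ℤ) • P.root (P.reflectionPerm i j) := by
    rw [hk', P'.root_reflectionPerm, P'.reflection_apply_root, map_sub, map_smul, h.root, h.root,
      smul_smul, mul_comm, h.pairing, P.root_reflectionPerm, P.reflection_apply_root, smul_sub,
      smul_smul]
  have h2 : f (P'.root k') = (q k : ℤ) • P.root k := by rw [← huk, h.root]
  have hqk : (0 : ℤ) < q k := by exact_mod_cast h.qpos k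
  have hqj : (0 : ℤ) < q j := by exact_mod_cast h.qpos j
  obtain ⟨e1, e2⟩ := eq_of_pos_smul_eq P hqk hqj (h2.symm.trans h1)
  constructor
  · rw [← e1]; exact_mod_cast e2
  · rw [← e1, huk]

theorem PMor.q_weyl [P.IsReduced] (h : PMor P P' f g u q) {w : P.Aut} (hw : w ∈ P.weylGroup)
    (i : ι) : q (w • i) = q i := by
  induction hw using Subgroup.closure_induction generalizing i with
  | mem x hx =>
    obtain ⟨k, rfl⟩ := hx
    exact (h.refl k i).1
  | one => rw [one_smul]
  | mul a b _ _ iha ihb => rw [mul_smul, iha, ihb]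
  | inv a _ iha =>
    have := iha (a⁻¹ • i)
    rw [smul_smul, mul_inv_cancel, one_smul] at this
    exact this.symm

section Weyl

variable [Finite ι] [Finite ι']

/-- the permutation representation of the Weyl group, transported along `u` -/
noncomputable def permHom (P : RootPairing ι ℤ M N) {κ : Type*} (u : ι ≃ κ) :
    P.weylGroup →* Equiv.Perm κ :=
  (u.permCongrHom.toMonoidHom.comp (MulAction.toPermHom P.Aut ι)).comp P.weylGroup.subtype

omit [Finite ι] in
theorem permHom_apply {κ : Type*} (v : ι ≃ κ) (w : P.weylGroup) (x : κ) :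
    permHom P v w x = v ((w : P.Aut) • v.symm x) := rfl

theorem permHom_injective {κ : Type*} (v : ι ≃ κ) : Function.Injective (permHom P v) := by
  rw [injective_iff_map_eq_one]
  intro w hw
  apply Subtype.ext
  apply eq_one_of_fix P _ (weylGroup_le_KSub P w.2)
  intro i
  have := DFunLike.congr_fun hw (v i)
  rw [permHom_apply] at this
  simpa using this

omit [Finite ι] in
theorem permHom_range {κ : Type*} (v : ι ≃ κ) :
    (permHom P v).range = Subgroup.closure
      (Set.range fun i : ι => (v.permCongrHom (MulAction.toPermHom P.Aut ι (Equiv.reflection P i)))) := by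
  have h1 : (permHom P v).range =
      P.weylGroup.map (v.permCongrHom.toMonoidHom.comp (MulAction.toPermHom P.Aut ι)) := by
    rw [permHom, MonoidHom.range_comp, Subgroup.range_subtype]
  rw [h1, RootPairing.weylGroup, MonoidHom.map_closure]
  congr 1
  ext σ
  constructor
  · rintro ⟨_, ⟨i, rfl⟩, rfl⟩
    exact ⟨i, rfl⟩
  · rintro ⟨i, rfl⟩
    exact ⟨_, ⟨i, rfl⟩, rfl⟩

theorem PMor.range_eq [P.IsReduced] (h : PMor P P' f g u q) :
    (permHom P u).range = (permHom P' (Equiv.refl ι')).range := by
  rw [permHom_range, permHom_range]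
  congr 1
  ext σ
  constructor
  · rintro ⟨i, rfl⟩
    refine ⟨u i, ?_⟩
    ext x
    show P'.reflectionPerm (u i) x = u (P.reflectionPerm i (u.symm x))
    rw [(h.refl i (u.symm x)).2]
    simp
  · rintro ⟨i', rfl⟩
    refine ⟨u.symm i', ?_⟩
    ext x
    show u (P.reflectionPerm (u.symm i') (u.symm x)) = P'.reflectionPerm i' x
    rw [(h.refl (u.symm i') (u.symm x)).2]
    simp

theorem PMor.exists_weyl_iso [P.IsReduced] (h : PMor P P' f g u q) :
    ∃ ubar : P.weylGroup ≃* P'.weylGroup,
        (∀ i : ι, ubar (RootPairing.weylGroup.ofIdx P i) = RootPairing.weylGroup.ofIdx P' (u i)) ∧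
        ∀ (w : P.weylGroup) (i : ι), u ((w : P.Aut) • i) = ((ubar w : P'.weylGroup) : P'.Aut) • u i := by
  let e1 := MonoidHom.ofInjective (permHom_injective (P := P) u)
  let e2 := MonoidHom.ofInjective (permHom_injective (P := P') (Equiv.refl ι'))
  let ubar : P.weylGroup ≃* P'.weylGroup :=
    e1.trans ((MulEquiv.subgroupCongr h.range_eq).trans e2.symm)
  have key : ∀ w : P.weylGroup, permHom P' (Equiv.refl ι') (ubar w) = permHom P u w := by
    intro w
    have : (e2 (ubar w) : Equiv.Perm ι') = permHom P u w := by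
      show (e2 (e2.symm _) : Equiv.Perm ι') = _
      rw [MulEquiv.apply_symm_apply]
      rfl
    exact this
  have hact : ∀ (w : P.weylGroup) (i : ι),
      u ((w : P.Aut) • i) = ((ubar w : P'.weylGroup) : P'.Aut) • u i := by
    intro w i
    have := DFunLike.congr_fun (key w) (u i)
    rw [permHom_apply, permHom_apply] at this
    simpa using this.symm
  refine ⟨ubar, ?_, hact⟩
  intro i
  apply permHom_injective (P := P') (Equiv.refl ι')
  rw [key]
  ext x
  rw [permHom_apply, permHom_apply]
  show u (P.reflectionPerm i (u.symm x)) = P'.reflectionPerm (u i) x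
  rw [(h.refl i (u.symm x)).2]
  simp

end Weyl

end Groth.Agent.H8.RootD
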