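import Mathlib
import Groth.Prelude.Def_W4sga3xxiRoot
import Groth.Agent.Lib.helper8.RootD26

/-! RootD27: p-morphisms: transfer of positive systems and simple systems. -/

set_option autoImplicit false

namespace Groth.Agent.H8.RootD

open RootPairing _root_.RootD

section One

variable {ι M N : Type*} [AddCommGroup M] [AddCommGroup N] (P : RootPairing ι ℤ M N)

theorem isIndiv_of_reduced [P.IsReduced] (i : ι) : IsIndiv P i := by
  intro j hj
  have := eq_of_pos_smul_eq P (a := j) (b := i) (x := 2) (y := 1) (by norm_num) (by norm_num)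
    (by rw [one_smul]; exact hj)
  omega

theorem simple_obtuse [Finite ι] {Δ : Set ι} (hΔ : IsSimpleSys P Δ) {i j : ι} (hi : i ∈ Δ)
    (hj : j ∈ Δ) (hij : i ≠ j) : P.pairing i j ≤ 0 := by
  classical
  by_contra hpos
  push Not at hpos
  obtain ⟨k, hk⟩ := sub_mem_of_pos P hpos hij
  have hck : lc P (Finsupp.single i 1 - Finsupp.single j 1) = P.root k := by
    rw [lc_sub, lc_single, lc_single, one_smul, one_smul, hk]
  have hc : ↑(Finsupp.single i (1 : ℤ) - Finsupp.single j (1 : ℤ)).support ⊆ Δ :=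
    support_sub_subset (support_single_subset hi 1) (support_single_subset hj 1)
  rcases coef_sign P hΔ hc hck with h0 | h0
  · have := h0 j
    rw [Finsupp.sub_apply, Finsupp.single_eq_same, Finsupp.single_eq_of_ne (Ne.symm hij)] at this
    omega
  · have := h0 i
    rw [Finsupp.sub_apply, Finsupp.single_eq_same, Finsupp.single_eq_of_ne hij] at this
    omega

end One

variable {ι M N ι' M' N' : Type*} [AddCommGroup M] [AddCommGroup N] [AddCommGroup M']
  [AddCommGroup N'] {P : RootPairing ι ℤ M N} {P' : RootPairing ι' ℤ M' N'}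
  {f : M' →ₗ[ℤ] M} {g : N →ₗ[ℤ] N'} {u : ι ≃ ι'} {q : ι → ℕ}

theorem PMor.root_nat (h : PMor P P' f g u q) (i : ι) : f (P'.root (u i)) = q i • P.root i := by
  rw [h.root, natCast_zsmul]

theorem PMor.f_injOn_span [Finite ι'] (h : PMor P P' f g u q) {x : M'}
    (hx : x ∈ Submodule.span ℤ (Set.range P'.root)) (hfx : f x = 0) : x = 0 := by
  have : Fintype ι' := Fintype.ofFinite ι'
  have : Module.IsReflexive ℤ M' := .of_isPerfPair P'.toLinearMap
  have : Module.IsReflexive ℤ N' := .of_isPerfPair P'.flip.toLinearMap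
  by_contra hne
  have hpos := P'.rootForm_pos_of_ne_zero hx hne
  rw [P'.rootForm_apply_apply] at hpos
  have hz : ∀ k : ι', P'.coroot' k x = 0 := by
    intro k
    obtain ⟨i, rfl⟩ := u.surjective k
    have h1 : P'.toLinearMap x (g (P.coroot i)) = P.toLinearMap (f x) (P.coroot i) :=
      (h.adj _ _).symm
    rw [hfx, map_zero, LinearMap.zero_apply, h.coroot, map_smul, smul_eq_mul] at h1
    have hq : (q i : ℤ) ≠ 0 := by exact_mod_cast (h.qpos i).ne'
    exact (mul_eq_zero.mp h1).resolve_left hq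
  simp [hz] at hpos

theorem PMor.map_natSpan (h : PMor P P' f g u q) {S : Set ι} {x' : M'}
    (hx' : x' ∈ natSpan P' (u '' S)) : f x' ∈ natSpan P S := by
  induction hx' using AddSubmonoid.closure_induction with
  | mem x hx =>
    obtain ⟨_, ⟨s, hs, rfl⟩, rfl⟩ := hx
    rw [h.root_nat]
    have hs' : P.root s ∈ natSpan P S :=
      AddSubmonoid.subset_closure (Set.mem_image_of_mem _ hs)
    exact AddSubmonoid.nsmul_mem _ hs' _
  | zero => rw [map_zero]; exact AddSubmonoid.zero_mem _
  | add x y _ _ hx hy => rw [map_add]; exact AddSubmonoid.add_mem _ hx hy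

theorem PMor.lift_natSpan [Fintype ι] [DecidableEq ι] (h : PMor P P' f g u q) {S : Set ι} {x : M}
    (hx : x ∈ natSpan P S) : ∃ x' ∈ natSpan P' (u '' S), f x' = (∏ i, q i) • x := by
  induction hx using AddSubmonoid.closure_induction with
  | mem x hx =>
    obtain ⟨s, hs, rfl⟩ := hx
    have hs' : P'.root (u s) ∈ natSpan P' (u '' S) :=
      AddSubmonoid.subset_closure (Set.mem_image_of_mem _ (Set.mem_image_of_mem _ hs))
    refine ⟨(∏ i ∈ Finset.univ.erase s, q i) • P'.root (u s),
      AddSubmonoid.nsmul_mem _ hs' _, ?_⟩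
    rw [map_nsmul, h.root_nat, smul_smul, mul_comm, Finset.mul_prod_erase _ _ (Finset.mem_univ s)]
  | zero => exact ⟨0, AddSubmonoid.zero_mem _, by simp⟩
  | add x y _ _ hx hy =>
    obtain ⟨x', hx', hfx⟩ := hx
    obtain ⟨y', hy', hfy⟩ := hy
    exact ⟨x' + y', AddSubmonoid.add_mem _ hx' hy', by rw [map_add, hfx, hfy, smul_add]⟩

omit [AddCommGroup M] [AddCommGroup N] in
theorem natSpan_le_rootSpan' (S : Set ι') {x : M'} (hx : x ∈ natSpan P' S) :
    x ∈ Submodule.span ℤ (Set.range P'.root) :=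
  Submodule.span_mono (Set.image_subset_range _ _) (natSpan_le_span P' S hx)

theorem PMor.root_lift [Fintype ι] [DecidableEq ι] [Finite ι'] (h : PMor P P' f g u q)
    {S : Set ι} {k : ι} {n : ℕ} (hk : n • P.root k ∈ natSpan P S) :
    (n * ∏ i ∈ Finset.univ.erase k, q i) • P'.root (u k) ∈ natSpan P' (u '' S) := by
  obtain ⟨x', hx', hfx⟩ := h.lift_natSpan hk
  have hf2 : f ((n * ∏ i ∈ Finset.univ.erase k, q i) • P'.root (u k)) = (∏ i, q i) • n • P.root k := by
    rw [map_nsmul, h.root_nat, smul_smul, smul_smul, mul_assoc, mul_comm _ (q k),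
      Finset.mul_prod_erase _ _ (Finset.mem_univ k), mul_comm]
  have hmem : x' - (n * ∏ i ∈ Finset.univ.erase k, q i) • P'.root (u k) ∈
      Submodule.span ℤ (Set.range P'.root) :=
    Submodule.sub_mem _ (natSpan_le_rootSpan' _ hx')
      (Submodule.smul_of_tower_mem _ _ (Submodule.subset_span (Set.mem_range_self _)))
  have := h.f_injOn_span hmem (by rw [map_sub, hfx, hf2, sub_self])
  rw [sub_eq_zero] at this
  rw [← this]
  exact hx'

theorem PMor.isPosSys_iff [Finite ι] [Finite ι'] [P.IsReduced] (h : PMor P P' f g u q)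
    (S : Set ι) : IsPosSys P S ↔ IsPosSys P' (u '' S) := by
  classical
  have : Fintype ι := Fintype.ofFinite ι
  have hnegu : ∀ i, u (P.reflectionPerm i i) = P'.reflectionPerm (u i) (u i) :=
    fun i => (h.refl i i).2
  constructor
  · intro hS
    refine ⟨?_, ?_, ?_⟩
    · rintro _ ⟨i, hi, rfl⟩ ⟨j, hj, hji⟩
      rw [← hnegu] at hji
      have := u.injective hji
      exact hS.disjoint hi (this ▸ hj)
    · intro k'
      obtain ⟨k, rfl⟩ := u.surjective k'
      rcases hS.cover k with hk | hk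
      · exact Or.inl ⟨k, hk, rfl⟩
      · exact Or.inr ⟨_, hk, hnegu k⟩
    · intro k' n hn hk'
      obtain ⟨k, rfl⟩ := u.surjective k'
      have := h.map_natSpan hk'
      rw [map_nsmul, h.root_nat, smul_smul] at this
      exact ⟨k, hS.sat _ (Nat.mul_pos hn (h.qpos k)) this, rfl⟩
  · intro hS
    refine ⟨?_, ?_, ?_⟩
    · intro i hi hi'
      apply hS.disjoint ⟨i, hi, rfl⟩
      rw [← hnegu]
      exact ⟨_, hi', rfl⟩
    · intro k
      rcases hS.cover (u k) with hk | hk
      · obtain ⟨j, hj, hjk⟩ := hk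
        exact Or.inl (u.injective hjk ▸ hj)
      · rw [← hnegu] at hk
        obtain ⟨j, hj, hjk⟩ := hk
        exact Or.inr (u.injective hjk ▸ hj)
    · intro k n hn hk
      have h1 := h.root_lift hk
      have hpos : 0 < n * ∏ i ∈ Finset.univ.erase k, q i :=
        Nat.mul_pos hn (Finset.prod_pos fun i _ => h.qpos i)
      obtain ⟨j, hj, hjk⟩ := hS.sat _ hpos h1
      exact u.injective hjk ▸ hj

end Groth.Agent.H8.RootD
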