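import Mathlib
import Groth.Prelude.Def_W4sga3xxiRoot
import Groth.Agent.Lib.helper8.RootD27

/-! RootD28: p-morphisms: transfer of simple systems. -/

set_option autoImplicit false

namespace Groth.Agent.H8.RootD

open RootPairing _root_.RootD

variable {ι M N ι' M' N' : Type*} [AddCommGroup M] [AddCommGroup N] [AddCommGroup M']
  [AddCommGroup N'] {P : RootPairing ι ℤ M N} {P' : RootPairing ι' ℤ M' N'}
  {f : M' →ₗ[ℤ] M} {g : N →ₗ[ℤ] N'} {u : ι ≃ ι'} {q : ι → ℕ}

theorem PMor.isSimpleSys_iff [Finite ι] [Finite ι'] [P.IsReduced] [P'.IsReduced]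
    (h : PMor P P' f g u q) (Δ : Set ι) : IsSimpleSys P Δ ↔ IsSimpleSys P' (u '' Δ) := by
  classical
  have : Fintype ι := Fintype.ofFinite ι
  have hnegu : ∀ i, u (P.reflectionPerm i i) = P'.reflectionPerm (u i) (u i) :=
    fun i => (h.refl i i).2
  have hqpos : ∀ i, (0 : ℤ) < q i := fun i => by exact_mod_cast h.qpos i
  constructor
  · intro hΔ
    apply isSimpleSys_of_cone P' (fun i _ => isIndiv_of_reduced P' i)
    · apply linInd_of_obtuse P'
      · rintro _ ⟨i, hi, rfl⟩ _ ⟨j, hj, rfl⟩ hij
        have hij' : i ≠ j := fun e => hij (e ▸ rfl)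
        have h1 := simple_obtuse P hΔ hi hj hij'
        have h2 := h.pairing j i
        have : (q j : ℤ) * P'.pairing (u i) (u j) ≤ 0 := by
          rw [h2]; exact mul_nonpos_of_nonneg_of_nonpos (hqpos i).le h1
        by_contra hcon
        push Not at hcon
        have := mul_pos (hqpos j) hcon
        omega
      · intro c hc h0 hlc
        have hS' := (h.isPosSys_iff (posOf P Δ)).mp (isPosSys_posOf P hΔ)
        exact coef_zero_of_lc_zero P' hS'
          (hc.trans (Set.image_mono (subset_posOf P))) h0 hlc
    · intro k'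
      obtain ⟨k, rfl⟩ := u.surjective k'
      rcases hΔ.mem_or_neg_mem k with hk | hk
      · have hk1 : 1 • P.root k ∈ natSpan P Δ := by rwa [one_smul]
        exact ⟨_, Nat.mul_pos one_pos (Finset.prod_pos fun i _ => h.qpos i),
          Or.inl (h.root_lift hk1)⟩
      · have hk1 : 1 • P.root (P.reflectionPerm k k) ∈ natSpan P Δ := by
          rwa [one_smul, root_neg]
        have := h.root_lift hk1
        rw [hnegu, root_neg] at this
        exact ⟨_, Nat.mul_pos one_pos (Finset.prod_pos fun i _ => h.qpos i), Or.inr this⟩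
  · intro hΔ'
    apply isSimpleSys_of_cone P (fun i _ => isIndiv_of_reduced P i)
    · apply linInd_of_obtuse P
      · intro i hi j hj hij
        have hij' : u i ≠ u j := fun e => hij (u.injective e)
        have h1 := simple_obtuse P' hΔ' ⟨i, hi, rfl⟩ ⟨j, hj, rfl⟩ hij'
        have h2 := h.pairing j i
        have : (q i : ℤ) * P.pairing i j ≤ 0 := by
          rw [← h2]; exact mul_nonpos_of_nonneg_of_nonpos (hqpos j).le h1
        by_contra hcon
        push Not at hcon
        have := mul_pos (hqpos i) hcon
        omega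
      · intro c hc h0 hlc
        have himg : u '' {i | u i ∈ posOf P' (u '' Δ)} = posOf P' (u '' Δ) := by
          ext x
          constructor
          · rintro ⟨i, hi, rfl⟩
            exact hi
          · intro hx
            exact ⟨u.symm x, by simpa using hx, by simp⟩
        have hS : IsPosSys P {i | u i ∈ posOf P' (u '' Δ)} := by
          rw [h.isPosSys_iff, himg]
          exact isPosSys_posOf P' hΔ'
        refine coef_zero_of_lc_zero P hS (hc.trans ?_) h0 hlc
        intro i hi
        exact subset_posOf P' ⟨i, hi, rfl⟩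
    · intro k
      rcases hΔ'.mem_or_neg_mem (u k) with hk | hk
      · have := h.map_natSpan hk
        rw [h.root_nat] at this
        exact ⟨q k, h.qpos k, Or.inl this⟩
      · have := h.map_natSpan hk
        rw [map_neg, h.root_nat, ← smul_neg] at this
        exact ⟨q k, h.qpos k, Or.inr this⟩

end Groth.Agent.H8.RootD
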