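import Mathlib
import Groth.Prelude.Def_W4sga3xxiRoot
import Groth.Agent.Lib.helper8.RootD28

/-! RootD29: roots versus coroots via the polarization. -/

set_option autoImplicit false

namespace Groth.Agent.H8.RootD

open RootPairing _root_.RootD

variable {ι M N : Type*} [AddCommGroup M] [AddCommGroup N] (P : RootPairing ι ℤ M N) [Finite ι]

/-- the polarization is injective on the root span -/
theorem polarization_injOn [Fintype ι] {x : M} (hx : x ∈ Submodule.span ℤ (Set.range P.root))
    (h : P.Polarization x = 0) : x = 0 := by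
  have : Module.IsReflexive ℤ M := .of_isPerfPair P.toLinearMap
  have : Module.IsReflexive ℤ N := .of_isPerfPair P.flip.toLinearMap
  by_contra hne
  have hpos := P.rootForm_pos_of_ne_zero hx hne
  rw [← P.toLinearMap_apply_apply_Polarization, h, map_zero] at hpos
  exact lt_irrefl _ hpos

omit [Finite ι] in
theorem lc_mem_rootSpan (c : ι →₀ ℤ) : lc P c ∈ Submodule.span ℤ (Set.range P.root) := by
  rw [lc, Finsupp.linearCombination_apply, Finsupp.sum]
  exact Submodule.sum_mem _ fun a _ =>
    Submodule.smul_mem _ _ (Submodule.subset_span (Set.mem_range_self _))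

/-- `L(k) • coroot k = ∑ c_i L(i) • coroot i` when `root k = ∑ c_i root i` -/
theorem length_smul_coroot_eq [Fintype ι] {k : ι} {c : ι →₀ ℤ} (hck : lc P c = P.root k) :
    P.RootForm (P.root k) (P.root k) • P.coroot k =
      c.sum fun i a => (a * P.RootForm (P.root i) (P.root i)) • P.coroot i := by
  rw [P.rootForm_self_smul_coroot, ← hck, lc, Finsupp.linearCombination_apply, map_finsuppSum,
    Finsupp.sum, Finsupp.sum, Finset.smul_sum]
  apply Finset.sum_congr rfl
  intro i _
  rw [map_smul, mul_smul, P.rootForm_self_smul_coroot, smul_comm]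

/-- linear independence of roots implies that of the corresponding coroots -/
theorem linInd_coroot_of_linInd_root {S : Set ι} (hli : LinearIndepOn ℤ P.root S) :
    LinearIndepOn ℤ P.coroot S := by
  classical
  have : Fintype ι := Fintype.ofFinite ι
  have hN := torsionFree_N P
  rw [linearIndepOn_iff]
  intro c hc hlc
  have hc' : ↑c.support ⊆ S := hc
  set Λ : ι → ℤ := fun j => ∏ k ∈ Finset.univ.erase j, P.RootForm (P.root k) (P.root k) with hΛ
  have hΛpos : ∀ j, 0 < Λ j := fun j => Finset.prod_pos fun k _ => rootForm_root_pos P k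
  have hΛmul : ∀ j, P.RootForm (P.root j) (P.root j) * Λ j =
      ∏ k, P.RootForm (P.root k) (P.root k) :=
    fun j => Finset.mul_prod_erase Finset.univ (fun k => P.RootForm (P.root k) (P.root k))
      (Finset.mem_univ j)
  set d : ι →₀ ℤ := Finsupp.equivFunOnFinite.symm (fun j => c j * Λ j) with hd
  have hdapp : ∀ j, d j = c j * Λ j := fun j => rfl
  have hdsupp : ↑d.support ⊆ S := by
    intro j hj
    apply hc'
    rw [Finset.mem_coe, Finsupp.mem_support_iff] at hj ⊢
    intro h0
    apply hj
    rw [hdapp, h0, zero_mul]
  have hpol : (2 : ℕ) • P.Polarization (lc P d) = 0 := by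
    rw [lc, Finsupp.linearCombination_apply, Finsupp.sum_fintype _ _ (by simp), map_sum,
      Finset.smul_sum]
    have hlc' : ∑ j, c j • P.coroot j = 0 := by
      rw [Finsupp.linearCombination_apply, Finsupp.sum_fintype _ _ (by simp)] at hlc
      exact hlc
    have : ∀ j, (2 : ℕ) • P.Polarization (d j • P.root j) =
        (∏ k, P.RootForm (P.root k) (P.root k)) • (c j • P.coroot j) := by
      intro j
      rw [map_smul, smul_comm, ← P.rootForm_self_smul_coroot, hdapp, smul_smul, smul_smul,
        ← hΛmul j]
      congr 1
      ring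
    rw [Finset.sum_congr rfl fun j _ => this j, ← Finset.smul_sum, hlc', smul_zero]
  have hpol0 : P.Polarization (lc P d) = 0 := by
    rcases smul_eq_zero.mp hpol with h | h
    · norm_num at h
    · exact h
  have hlcd : lc P d = 0 := polarization_injOn P (lc_mem_rootSpan P d) hpol0
  have hd0 : d = 0 := (linearIndepOn_iff.mp hli) d hdsupp hlcd
  ext j
  have := DFunLike.congr_fun hd0 j
  rw [hdapp, Finsupp.zero_apply] at this
  rcases mul_eq_zero.mp this with h | h
  · exact h
  · exact absurd h (hΛpos j).ne'

end Groth.Agent.H8.RootD
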