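import Mathlib
import Groth.Prelude.Def_W4sga3xxiRoot
import Groth.Agent.Lib.helper8.RootD29

/-! RootD30: the simple system of coroots (S5485). -/

set_option autoImplicit false

namespace Groth.Agent.H8.RootD

open RootPairing _root_.RootD

variable {ι M N : Type*} [AddCommGroup M] [AddCommGroup N] (P : RootPairing ι ℤ M N) [Finite ι]

omit [Finite ι] in
theorem zsmul_mem_natSpan {S : Set ι} {x : M} (hx : x ∈ natSpan P S) {z : ℤ} (hz : 0 ≤ z) :
    z • x ∈ natSpan P S := by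
  obtain ⟨n, rfl⟩ := Int.eq_ofNat_of_zero_le hz
  rw [natCast_zsmul]
  exact AddSubmonoid.nsmul_mem _ hx n

/-- witnesses for membership in the dual simple set -/
theorem dual_witness {Δ : Set ι} {j : ι}
    (hj : j ∈ {j : ι | ∃ i ∈ Δ, (j = i ∧ IsIndiv P.flip i) ∨ (2 : ℤ) • P.coroot j = P.coroot i}) :
    ∃ i ∈ Δ, ∃ ε : ℤ, (ε = 1 ∨ ε = 2) ∧ ε • P.coroot j = P.coroot i ∧ P.root j = ε • P.root i ∧
      (ε = 1 → j = i ∧ IsIndiv P.flip i) := by
  obtain ⟨i, hi, h | h⟩ := hj
  · obtain ⟨rfl, hind⟩ := h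
    exact ⟨j, hi, 1, Or.inl rfl, one_smul _ _, (one_smul _ _).symm, fun _ => ⟨rfl, hind⟩⟩
  · refine ⟨i, hi, 2, Or.inr rfl, h, ?_, fun h => by norm_num at h⟩
    exact (coroot_of_two_smul P.flip (j := j) (k := i) h).symm

theorem dual_obtuse {Δ : Set ι} (hΔ : IsSimpleSys P Δ) :
    ∀ j ∈ {j : ι | ∃ i ∈ Δ, (j = i ∧ IsIndiv P.flip i) ∨ (2 : ℤ) • P.coroot j = P.coroot i},
    ∀ j' ∈ {j : ι | ∃ i ∈ Δ, (j = i ∧ IsIndiv P.flip i) ∨ (2 : ℤ) • P.coroot j = P.coroot i},
      j ≠ j' → P.pairing j j' ≤ 0 := by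
  intro j hj j' hj' hjj'
  obtain ⟨i, hi, ε, hε, hcj, hrj, h1⟩ := dual_witness P hj
  obtain ⟨i', hi', ε', hε', hcj', hrj', h1'⟩ := dual_witness P hj'
  by_cases hii : i = i'
  · exfalso
    subst hii
    rcases hε with rfl | rfl <;> rcases hε' with rfl | rfl
    · exact hjj' ((h1 rfl).1.trans (h1' rfl).1.symm)
    · exact (h1 rfl).2 j' hcj'
    · exact (h1' rfl).2 j hcj
    · exact hjj' (P.root.injective (hrj.trans hrj'.symm))
  · have hobt := simple_obtuse P hΔ hi hi' hii
    -- pairing j j' = ε * ⟨root i, coroot j'⟩ and ε' * ⟨root i, coroot j'⟩ = pairing i i'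
    have e1 : P.pairing j j' = ε * P.toLinearMap (P.root i) (P.coroot j') := by
      show P.toLinearMap (P.root j) (P.coroot j') = _
      rw [hrj, map_smul, LinearMap.smul_apply, smul_eq_mul]
    have e2 : ε' * P.toLinearMap (P.root i) (P.coroot j') = P.pairing i i' := by
      show _ = P.toLinearMap (P.root i) (P.coroot i')
      rw [← hcj', map_smul, smul_eq_mul]
    have hεpos : 0 < ε := by rcases hε with rfl | rfl <;> norm_num
    have hε'pos : 0 < ε' := by rcases hε' with rfl | rfl <;> norm_num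
    have h3 : P.toLinearMap (P.root i) (P.coroot j') ≤ 0 := by
      by_contra hcon
      push Not at hcon
      have := mul_pos hε'pos hcon
      omega
    rw [e1]
    exact mul_nonpos_of_nonneg_of_nonpos hεpos.le h3

theorem dual_subset_posOf {Δ : Set ι} :
    {j : ι | ∃ i ∈ Δ, (j = i ∧ IsIndiv P.flip i) ∨ (2 : ℤ) • P.coroot j = P.coroot i} ⊆
      posOf P Δ := by
  intro j hj
  obtain ⟨i, hi, ε, hε, -, hrj, -⟩ := dual_witness P hj
  show P.root j ∈ natSpan P Δ
  rw [hrj]
  apply zsmul_mem_natSpan P (subset_posOf P hi)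
  rcases hε with rfl | rfl <;> norm_num

theorem dual_linInd {Δ : Set ι} (hΔ : IsSimpleSys P Δ) :
    LinearIndepOn ℤ P.coroot
      {j : ι | ∃ i ∈ Δ, (j = i ∧ IsIndiv P.flip i) ∨ (2 : ℤ) • P.coroot j = P.coroot i} := by
  apply linInd_coroot_of_linInd_root
  apply linInd_of_obtuse P (dual_obtuse P hΔ)
  intro c hc h0 hlc
  exact coef_zero_of_lc_zero P (isPosSys_posOf P hΔ) (hc.trans (dual_subset_posOf P)) h0 hlc

theorem simple_coroot_mem {Δ : Set ι} {i : ι} (hi : i ∈ Δ) :
    P.coroot i ∈ natSpan P.flip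
      {j : ι | ∃ i ∈ Δ, (j = i ∧ IsIndiv P.flip i) ∨ (2 : ℤ) • P.coroot j = P.coroot i} := by
  by_cases hind : IsIndiv P.flip i
  · exact AddSubmonoid.subset_closure ⟨i, ⟨i, hi, Or.inl ⟨rfl, hind⟩⟩, rfl⟩
  · unfold IsIndiv at hind
    push Not at hind
    obtain ⟨j, hj⟩ := hind
    have hj' : (2 : ℤ) • P.coroot j = P.coroot i := hj
    have hjm : P.flip.root j ∈ natSpan P.flip
        {j : ι | ∃ i ∈ Δ, (j = i ∧ IsIndiv P.flip i) ∨ (2 : ℤ) • P.coroot j = P.coroot i} :=
      AddSubmonoid.subset_closure ⟨j, ⟨i, hi, Or.inr hj'⟩, rfl⟩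
    rw [← hj']
    exact zsmul_mem_natSpan P.flip hjm (by norm_num)

theorem dual_isSimpleSys {Δ : Set ι} (hΔ : IsSimpleSys P Δ) :
    IsSimpleSys P.flip
      {j : ι | ∃ i ∈ Δ, (j = i ∧ IsIndiv P.flip i) ∨ (2 : ℤ) • P.coroot j = P.coroot i} := by
  classical
  have : Fintype ι := Fintype.ofFinite ι
  apply isSimpleSys_of_cone P.flip
  · intro j hj
    obtain ⟨i, hi, h | h⟩ := hj
    · exact h.1 ▸ h.2
    · exact isIndiv_of_two_smul P.flip (j := j) (k := i) h
  · exact dual_linInd P hΔ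
  · intro k
    obtain ⟨c, hc, hsign, hck⟩ := exists_coef P hΔ k
    have hL := rootForm_root_pos P k
    have key := length_smul_coroot_eq P hck
    refine ⟨(P.RootForm (P.root k) (P.root k)).toNat, by omega, ?_⟩
    have hn : ∀ x : N, (P.RootForm (P.root k) (P.root k)).toNat • x =
        P.RootForm (P.root k) (P.root k) • x := by
      intro x
      rw [← natCast_zsmul, Int.toNat_of_nonneg hL.le]
    rcases hsign with h0 | h0
    · left
      show _ • P.coroot k ∈ _
      rw [hn, key, Finsupp.sum]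
      apply AddSubmonoid.sum_mem
      intro i hi
      exact zsmul_mem_natSpan P.flip (simple_coroot_mem P (hc hi))
        (mul_nonneg (h0 i) (rootForm_root_pos P i).le)
    · right
      show _ • (-P.coroot k) ∈ _
      rw [hn, smul_neg, key, Finsupp.sum, ← Finset.sum_neg_distrib]
      apply AddSubmonoid.sum_mem
      intro i hi
      rw [← neg_smul]
      apply zsmul_mem_natSpan P.flip (simple_coroot_mem P (hc hi))
      have := mul_nonpos_of_nonpos_of_nonneg (h0 i) (rootForm_root_pos P i).le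
      omega

end Groth.Agent.H8.RootD
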