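import Mathlib
import Groth.Prelude.Def_W4sga3xxiRoot
import Groth.Agent.Lib.helper8.RootD30

/-! RootD31: divisibility of coefficients (S5502). -/

set_option autoImplicit false

namespace Groth.Agent.H8.RootD

open RootPairing _root_.RootD

variable {ι M N : Type*} [AddCommGroup M] [AddCommGroup N] (P : RootPairing ι ℤ M N) [Finite ι]

theorem coef_dvd [Fintype ι] {Δ : Set ι} (hΔ : IsSimpleSys P Δ)
    (k : ι) (c : ι →₀ ℤ) (hc : ↑c.support ⊆ Δ) (hck : lc P c = P.root k)
    (i : ι) (hi : i ∈ Δ) :
    P.RootForm (P.root k) (P.root k) ∣ 2 * c i * P.RootForm (P.root i) (P.root i) ∧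
      (IsIndiv P.flip i →
        2 * P.RootForm (P.root k) (P.root k) ∣ 2 * c i * P.RootForm (P.root i) (P.root i)) := by
  classical
  set D : Set ι :=
    {j : ι | ∃ i ∈ Δ, (j = i ∧ IsIndiv P.flip i) ∨ (2 : ℤ) • P.coroot j = P.coroot i} with hD
  have hDs : IsSimpleSys P.flip D := dual_isSimpleSys P hΔ
  have hliN : LinearIndepOn ℤ P.flip.root Δ := linInd_coroot_of_linInd_root P hΔ.linInd
  -- witnesses
  have hw : ∀ j : ι, ∃ i' : ι, ∃ t : ℤ, j ∈ D → (i' ∈ Δ ∧ (t = 1 ∨ t = 2) ∧
      t • P.coroot i' = (2 : ℤ) • P.coroot j ∧ (t = 1 → (2 : ℤ) • P.coroot j = P.coroot i')) := by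
    intro j
    by_cases hj : j ∈ D
    · obtain ⟨i', hi', ε, hε, hcj, -, -⟩ := dual_witness P hj
      rcases hε with rfl | rfl
      · refine ⟨i', 2, fun _ => ⟨hi', Or.inr rfl, ?_, fun h => by norm_num at h⟩⟩
        rw [← hcj, one_smul]
      · exact ⟨i', 1, fun _ => ⟨hi', Or.inl rfl, by rw [one_smul, hcj], fun _ => hcj⟩⟩
    · exact ⟨j, 1, fun h => absurd h hj⟩
  choose iw tw hiw using hw
  obtain ⟨d, hd, -, hdk⟩ := exists_coef P.flip hDs k
  -- E : coefficients of 2 • coroot k in terms of coroots of Δ
  set E : ι →₀ ℤ := d.sum (fun j a => Finsupp.single (iw j) (a * tw j)) with hE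
  have hEsupp : ↑E.support ⊆ Δ := by
    intro x hx
    rw [hE] at hx
    have := Finsupp.support_sum hx
    obtain ⟨j, hj, hxj⟩ := Finset.mem_biUnion.mp this
    have hjD : j ∈ D := hd hj
    have := Finsupp.support_single_subset hxj
    rw [Finset.mem_singleton] at this
    rw [this]
    exact (hiw j hjD).1
  have hElc : lc P.flip E = (2 : ℤ) • P.coroot k := by
    have hdk' : lc P.flip d = P.coroot k := hdk
    rw [← hdk', hE]
    simp only [lc, Finsupp.linearCombination_apply]
    rw [Finsupp.sum_sum_index (by simp) (by intro a b c; rw [add_smul]), Finsupp.sum, Finsupp.sum,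
      Finset.smul_sum]
    apply Finset.sum_congr rfl
    intro j hj
    have hjD : j ∈ D := hd hj
    rw [Finsupp.sum_single_index (by simp), mul_smul]
    show d j • tw j • P.coroot (iw j) = (2 : ℤ) • d j • P.coroot j
    rw [(hiw j hjD).2.2.1, smul_comm]
  -- F : coefficients of 2 L(k) • coroot k
  set F : ι →₀ ℤ := c.sum (fun i a => Finsupp.single i (2 * a * P.RootForm (P.root i) (P.root i)))
    with hF
  have hFsupp : ↑F.support ⊆ Δ := by
    intro x hx
    rw [hF] at hx
    have := Finsupp.support_sum hx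
    obtain ⟨j, hj, hxj⟩ := Finset.mem_biUnion.mp this
    have := Finsupp.support_single_subset hxj
    rw [Finset.mem_singleton] at this
    rw [this]
    exact hc hj
  have hFapp : F i = 2 * c i * P.RootForm (P.root i) (P.root i) := by
    rw [hF, Finsupp.sum, Finsupp.finset_sum_apply]
    by_cases hci : i ∈ c.support
    · rw [Finset.sum_eq_single i]
      · simp
      · intro b _ hb
        exact Finsupp.single_eq_of_ne (Ne.symm hb)
      · intro h; exact absurd hci h
    · rw [Finset.sum_eq_zero]
      · have : c i = 0 := by simpa using hci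
        rw [this]; ring
      · intro b hb
        apply Finsupp.single_eq_of_ne
        rintro rfl
        exact hci hb
  have hFlc : lc P.flip F = (2 : ℤ) • (P.RootForm (P.root k) (P.root k) • P.coroot k) := by
    rw [length_smul_coroot_eq P hck, hF]
    simp only [lc, Finsupp.linearCombination_apply]
    rw [Finsupp.sum_sum_index (by simp) (by intro a b c; rw [add_smul]), Finsupp.sum, Finsupp.sum,
      Finset.smul_sum]
    apply Finset.sum_congr rfl
    intro j _
    rw [Finsupp.sum_single_index (by simp), smul_smul]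
    show _ • P.coroot j = _
    congr 1
    ring
  have hEF : P.RootForm (P.root k) (P.root k) • E = F := by
    apply coef_unique P.flip hliN (support_smul_subset hEsupp _) hFsupp
    rw [lc_smul, hElc, hFlc, smul_comm]
  have hEFi : P.RootForm (P.root k) (P.root k) * E i =
      2 * c i * P.RootForm (P.root i) (P.root i) := by
    rw [← hFapp, ← hEF]; rfl
  refine ⟨⟨E i, hEFi.symm⟩, ?_⟩
  intro hind
  have h2 : (2 : ℤ) ∣ E i := by
    rw [hE, Finsupp.sum, Finsupp.finset_sum_apply]
    apply Finset.dvd_sum
    intro j hj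
    have hjD : j ∈ D := hd hj
    by_cases hji : iw j = i
    · rw [hji, Finsupp.single_eq_same]
      obtain ⟨-, ht, -, ht1⟩ := hiw j hjD
      rcases ht with h1 | h2
      · exfalso
        have := ht1 h1
        rw [hji] at this
        exact hind j this
      · rw [h2]; exact Dvd.intro_left _ rfl
    · rw [Finsupp.single_eq_of_ne (Ne.symm hji)]
      exact dvd_zero _
  obtain ⟨e, he⟩ := h2
  exact ⟨e, by rw [← hEFi, he]; ring⟩

end Groth.Agent.H8.RootD
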