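import Mathlib
import Groth.Prelude.Def_W4sga3xxiRoot
import Groth.Agent.Lib.helper8.RootD31
import Groth.Agent.Lib.helper8.Dihedral

/-! RootD32: the group generated by two reflections (S5496). -/

set_option autoImplicit false

namespace Groth.Agent.H8.RootD

open RootPairing _root_.RootD

variable {ι M N : Type*} [AddCommGroup M] [AddCommGroup N] (P : RootPairing ι ℤ M N) [Finite ι]

/-- an element of `⟨s_i, s_j⟩` fixing `i` and `j` is trivial (for linearly independent `i, j`) -/
theorem eq_one_of_fix_pair {i j : ι} (hli : LinearIndependent ℤ ![P.root i, P.root j])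
    {g : P.Aut} (hg : g ∈ Subgroup.closure {Equiv.reflection P i, Equiv.reflection P j})
    (hi : g • i = i) (hj : g • j = j) : g = 1 := by
  have : Module.IsReflexive ℤ M := .of_isPerfPair P.toLinearMap
  have hg' : g ∈ WΔ P ({i, j} : Set ι) := by
    rw [WΔ, Set.image_pair]
    exact hg
  have hcw : P.coxeterWeight i j ≠ 4 := (P.linearIndependent_iff_coxeterWeight_ne_four).mp hli
  have hcw' : P.pairing i j * P.pairing j i ≠ 4 := hcw
  apply Equiv.weightHom_injective P
  ext x
  show g • x = (1 : P.Aut) • x
  rw [one_smul]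
  have hspan := smul_sub_mem_span_of_mem_WΔ P hg' x
  rw [Set.image_pair, Submodule.mem_span_pair] at hspan
  obtain ⟨α, β, hαβ⟩ := hspan
  have e1 : P.coroot' i (g • x) = P.coroot' i x := by
    have := aut_coroot' P g i x
    rwa [hi] at this
  have e2 : P.coroot' j (g • x) = P.coroot' j x := by
    have := aut_coroot' P g j x
    rwa [hj] at this
  have f1 : P.coroot' i (g • x - x) = 0 := by rw [map_sub, e1, sub_self]
  have f2 : P.coroot' j (g • x - x) = 0 := by rw [map_sub, e2, sub_self]
  rw [← hαβ] at f1 f2
  have g1 : α * 2 + β * P.pairing j i = 0 := by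
    have : P.coroot' i (α • P.root i + β • P.root j) = α * P.pairing i i + β * P.pairing j i := by
      rw [map_add, map_smul, map_smul]; rfl
    rw [this, P.pairing_same] at f1
    exact f1
  have g2 : α * P.pairing i j + β * 2 = 0 := by
    have : P.coroot' j (α • P.root i + β • P.root j) = α * P.pairing i j + β * P.pairing j j := by
      rw [map_add, map_smul, map_smul]; rfl
    rw [this, P.pairing_same] at f2
    exact f2
  have hα : α = 0 := by
    have : (4 - P.pairing i j * P.pairing j i) * α = 0 := by linear_combination 2 * g1 - P.pairing j i * g2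
    rcases mul_eq_zero.mp this with h | h
    · exfalso; apply hcw'; linarith
    · exact h
  have hβ : β = 0 := by
    rw [hα] at g2
    omega
  rw [hα, hβ] at hαβ
  simp at hαβ
  exact (sub_eq_zero.mp hαβ.symm)

theorem reflection_ne_one (i : ι) : Equiv.reflection P i ≠ 1 := by
  have hM := torsionFree_M P
  intro h
  have h1 : Equiv.reflection P i • P.root i = P.root i := by rw [h, one_smul]
  rw [Equiv.reflection_smul, P.reflection_apply_self] at h1
  have h2 : (2 : ℤ) • P.root i = 0 := by
    rw [two_smul]
    nth_rw 1 [← h1]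
    exact neg_add_cancel _
  rcases smul_eq_zero.mp h2 with h3 | h3
  · norm_num at h3
  · exact P.ne_zero i h3

theorem card_pair_closure {i j : ι} (hli : LinearIndependent ℤ ![P.root i, P.root j])
    (n : ℕ) (hn : IsLeast {m : ℕ | 0 < m ∧ ((Equiv.reflection P i * Equiv.reflection P j) ^ m) • i = i ∧
      ((Equiv.reflection P i * Equiv.reflection P j) ^ m) • j = j} n) :
    Nat.card (Subgroup.closure ({Equiv.reflection P i, Equiv.reflection P j} : Set P.Aut)) = 2 * n := by
  rw [Groth.Agent.H8.card_closure_two_involutions _ _ (refl_mul_self P i) (refl_mul_self P j)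
    (reflection_ne_one P i) (reflection_ne_one P j)]
  congr 1
  set r := Equiv.reflection P i * Equiv.reflection P j with hr
  have hrD : r ∈ Subgroup.closure ({Equiv.reflection P i, Equiv.reflection P j} : Set P.Aut) :=
    mul_mem (Subgroup.subset_closure (by simp)) (Subgroup.subset_closure (by simp))
  obtain ⟨⟨hn0, hni, hnj⟩, hmin⟩ := hn
  rw [orderOf_eq_iff hn0]
  refine ⟨eq_one_of_fix_pair P hli (pow_mem hrD n) hni hnj, ?_⟩
  intro m hmn hm0 hrm
  have : m ∈ {m : ℕ | 0 < m ∧ (r ^ m) • i = i ∧ (r ^ m) • j = j} := by
    refine ⟨hm0, ?_, ?_⟩ <;> rw [hrm, one_smul]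
  have := hmin this
  omega

end Groth.Agent.H8.RootD
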