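import Mathlib
import Groth.Prelude.Def_W4sga3xxiRoot
import Groth.Agent.Lib.helper8.RootD32

/-! RootD33: dominant homomorphisms (S19155, S19156, S19161). -/

set_option autoImplicit false

namespace Groth.Agent.H8.RootD

open RootPairing _root_.RootD

variable {ι M N : Type*} [AddCommGroup M] [AddCommGroup N] (P : RootPairing ι ℤ M N) [Finite ι]

section Dom

variable {Γ : Type*} [AddCommGroup Γ] [LinearOrder Γ] [IsOrderedAddMonoid Γ] (f : M →+ Γ)

/-- every homomorphism is Weyl-conjugate to a dominant one -/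
theorem exists_weyl_dominant {S : Set ι} (hS : IsPosSys P S) :
    ∃ g : P.Aut, g ∈ P.weylGroup ∧ ∀ i ∈ S, 0 ≤ f (g • P.root i) := by
  set T : Set ι := {i | 0 ≤ f (P.root i)} with hT
  have hTc : IsClosedSub P T := by
    intro i j k hi hj hk
    show 0 ≤ f (P.root k)
    rw [hk, map_add]
    exact add_nonneg hi hj
  have hTcov : ∀ i : ι, i ∈ T ∨ P.reflectionPerm i i ∈ T := by
    intro i
    rcases le_total 0 (f (P.root i)) with h | h
    · exact Or.inl h
    · right
      show 0 ≤ f (P.root (P.reflectionPerm i i))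
      rw [root_neg, map_neg]
      exact neg_nonneg.mpr h
  obtain ⟨g, hg, hgS⟩ := conj_into_closed P hTc hTcov _ S hS rfl
  refine ⟨g, hg, ?_⟩
  intro i hi
  rw [aut_smul_root]
  exact hgS ⟨i, hi, rfl⟩

/-- two dominant homomorphisms in the same Weyl orbit are equal -/
theorem dominant_unique_aux {Δ : Set ι} (hΔ : IsSimpleSys P Δ)
    (hf : ∀ i ∈ posOf P Δ, 0 ≤ f (P.root i)) :
    ∀ (n : ℕ) (l : List ι), l.length = n → (∀ a ∈ l, a ∈ Δ) →
      (∀ i ∈ posOf P Δ, 0 ≤ f (wd P l • P.root i)) → ∀ m : M, f (wd P l • m) = f m := by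
  intro n
  induction n using Nat.strong_induction_on with
  | _ n ih =>
    intro l hlen hl hdom
    by_cases hmin : ∀ l' : List ι, (∀ a ∈ l', a ∈ l) → wd P l' = wd P l → l.length ≤ l'.length
    · by_cases hne : l = []
      · subst hne
        intro m
        rw [wd_nil, one_smul]
      · obtain ⟨l₀, β, rfl⟩ : ∃ l₀ β, l = l₀ ++ [β] :=
          ⟨l.dropLast, l.getLast hne, (List.dropLast_append_getLast hne).symm⟩
        have hβΔ : β ∈ Δ := hl β (by simp)
        have hl₀ : ∀ a ∈ l₀, a ∈ Δ := fun a ha => hl a (by simp [ha])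
        have hpos := pos_of_minimal_append P hΔ l₀ β hl hmin
        -- f (root (wd l₀ • β)) = 0
        have h1 : 0 ≤ f (P.root (wd P l₀ • β)) := hf _ hpos
        have h2 : 0 ≤ f (wd P (l₀ ++ [β]) • P.root β) := hdom β (subset_posOf P hβΔ)
        have h3 : wd P (l₀ ++ [β]) • P.root β = -P.root (wd P l₀ • β) := by
          rw [wd_append, mul_smul, wd_cons, wd_nil, mul_one, Equiv.reflection_smul,
            P.reflection_apply_self, smul_neg, aut_smul_root]
        rw [h3, map_neg] at h2
        have h0 : f (P.root (wd P l₀ • β)) = 0 := le_antisymm (neg_nonneg.mp h2) h1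
        have hsame : ∀ m : M, f (wd P (l₀ ++ [β]) • m) = f (wd P l₀ • m) := by
          intro m
          rw [wd_append, mul_smul, wd_cons, wd_nil, mul_one, Equiv.reflection_smul,
            P.reflection_apply, smul_sub, map_sub, smul_comm, aut_smul_root, map_zsmul, h0,
            smul_zero, sub_zero]
        intro m
        rw [hsame]
        have hlen₀ : l₀.length < n := by
          rw [← hlen]; simp
        refine ih _ hlen₀ l₀ rfl hl₀ ?_ m
        intro i hi
        rw [← hsame]
        exact hdom i hi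
    · push Not at hmin
      obtain ⟨l', hl', hwl', hlt⟩ := hmin
      rw [← hwl']
      refine ih _ (hlen ▸ hlt) l' rfl (fun a ha => hl a (hl' a ha)) ?_
      rw [hwl']
      exact hdom

theorem dominant_unique {S : Set ι} (hS : IsPosSys P S)
    (hf : ∀ i ∈ S, 0 ≤ f (P.root i)) {g : P.Aut} (hg : g ∈ P.weylGroup)
    (hfg : ∀ i ∈ S, 0 ≤ f (g • P.root i)) (m : M) : f (g • m) = f m := by
  have hΔ := indec_isSimpleSys P hS
  have hSeq : S = posOf P (indec P S) := (posSys_eq_posOf_iff P hΔ hS).mp (indec_subset P S)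
  rw [← WΔ_eq_weylGroup P hΔ] at hg
  obtain ⟨l, hl, rfl⟩ := exists_word_of_mem_WΔ P hg
  rw [hSeq] at hf hfg
  exact dominant_unique_aux P f hΔ hf _ l rfl hl hfg m

end Dom

end Groth.Agent.H8.RootD
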