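import Mathlib
import Groth.Prelude.Def_W4sga3xxiRoot
import Groth.Agent.Lib.helper8.RootD33

/-! RootD34: dominant homomorphisms: f - f∘g as a non-negative combination. -/

set_option autoImplicit false

namespace Groth.Agent.H8.RootD

open RootPairing _root_.RootD

variable {ι M N : Type*} [AddCommGroup M] [AddCommGroup N] (P : RootPairing ι ℤ M N) [Finite ι]

section Dom

variable {Γ : Type*} [AddCommGroup Γ] [LinearOrder Γ] [IsOrderedAddMonoid Γ] (f : M →+ Γ)

theorem dominant_sub_eq_sum_aux [Fintype ι] [DecidableEq ι] {Δ : Set ι} (hΔ : IsSimpleSys P Δ)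
    (hf : ∀ i ∈ posOf P Δ, 0 ≤ f (P.root i)) :
    ∀ l : List ι, (∀ a ∈ l, a ∈ Δ) →
      (∀ l' : List ι, (∀ a ∈ l', a ∈ l) → wd P l' = wd P l → l.length ≤ l'.length) →
      ∃ c : ι → Γ, (∀ i, 0 ≤ c i) ∧ (∀ i, i ∉ Δ → c i = 0) ∧
        ∀ m : M, f m - f (wd P l • m) = ∑ i, (P.coroot' i m) • c i := by
  intro l
  induction l using List.reverseRecOn with
  | nil =>
    intro _ _
    exact ⟨fun _ => 0, fun _ => le_rfl, fun _ _ => rfl, fun m => by simp⟩
  | append_singleton l₀ β ih =>
    intro hl hmin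
    have hβΔ : β ∈ Δ := hl β (by simp)
    have hl₀ : ∀ a ∈ l₀, a ∈ Δ := fun a ha => hl a (by simp [ha])
    have hmin₀ : ∀ l' : List ι, (∀ a ∈ l', a ∈ l₀) → wd P l' = wd P l₀ →
        l₀.length ≤ l'.length := by
      intro l' hl' hwd
      have := hmin (l' ++ [β]) (by
        intro a ha
        rcases List.mem_append.mp ha with h | h
        · exact List.mem_append_left _ (hl' a h)
        · exact List.mem_append_right _ h) (by rw [wd_append, wd_append, hwd])
      simpa using this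
    obtain ⟨c', hc'0, hc'Δ, hc'⟩ := ih hl₀ hmin₀
    have hpos := pos_of_minimal_append P hΔ l₀ β hl hmin
    have hx : 0 ≤ f (P.root (wd P l₀ • β)) := hf _ hpos
    refine ⟨fun i => c' i + (if i = β then f (P.root (wd P l₀ • β)) else 0), ?_, ?_, ?_⟩
    · intro i
      apply add_nonneg (hc'0 i)
      by_cases hi : i = β
      · simpa [hi] using hx
      · simp [hi]
    · intro i hi
      have hiβ : i ≠ β := fun e => hi (e ▸ hβΔ)
      simp [hc'Δ i hi, hiβ]
    · intro m
      have e1 : f (wd P (l₀ ++ [β]) • m) =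
          f (wd P l₀ • m) - (P.coroot' β m) • f (P.root (wd P l₀ • β)) := by
        rw [wd_append, mul_smul, wd_cons, wd_nil, mul_one, Equiv.reflection_smul,
          P.reflection_apply, smul_sub, map_sub, smul_comm, aut_smul_root, map_zsmul]
      rw [e1]
      simp only [smul_add, Finset.sum_add_distrib]
      rw [← hc' m]
      have : ∑ i, (P.coroot' i m) • (if i = β then f (P.root (wd P l₀ • β)) else 0 : Γ) =
          (P.coroot' β m) • f (P.root (wd P l₀ • β)) := by
        rw [Finset.sum_eq_single β]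
        · simp
        · intro b _ hb
          simp [hb]
        · intro h; exact absurd (Finset.mem_univ β) h
      rw [this]
      abel

theorem dominant_sub_eq_sum [Fintype ι] {S : Set ι} (hS : IsPosSys P S)
    (hf : ∀ i ∈ S, 0 ≤ f (P.root i)) {g : P.Aut} (hg : g ∈ P.weylGroup) :
    ∃ c : ι → Γ, (∀ i, 0 ≤ c i) ∧ (∀ i, i ∉ S → c i = 0) ∧
      ∀ m : M, f m - f (g • m) = ∑ i, (P.coroot' i m) • c i := by
  classical
  have hΔ := indec_isSimpleSys P hS
  have hSeq : S = posOf P (indec P S) := (posSys_eq_posOf_iff P hΔ hS).mp (indec_subset P S)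
  rw [← WΔ_eq_weylGroup P hΔ] at hg
  obtain ⟨l, hl, rfl, hmin⟩ := exists_minimal_word P hg
  rw [hSeq] at hf
  obtain ⟨c, hc0, hcΔ, hc⟩ := dominant_sub_eq_sum_aux P f hΔ hf l hl
    (fun l' hl' hwd => hmin l' (fun a ha => hl a (hl' a ha)) hwd)
  exact ⟨c, hc0, fun i hi => hcΔ i (fun h => hi (indec_subset P S h)), hc⟩

theorem dominant_le [Fintype ι] {S : Set ι} (hS : IsPosSys P S)
    (hf : ∀ i ∈ S, 0 ≤ f (P.root i)) {g : P.Aut} (hg : g ∈ P.weylGroup) (m : M)
    (hm : ∀ i ∈ S, 0 ≤ P.coroot' i m) : f (g • m) ≤ f m := by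
  obtain ⟨c, hc0, hcS, hc⟩ := dominant_sub_eq_sum P f hS hf hg
  rw [← sub_nonneg, hc m]
  apply Finset.sum_nonneg
  intro i _
  by_cases hi : i ∈ S
  · exact zsmul_nonneg (hc0 i) (hm i hi)
  · rw [hcS i hi, smul_zero]

end Dom

end Groth.Agent.H8.RootD
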