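import Mathlib
import Groth.Prelude.Def_W4sga3xxiRoot
import Groth.Agent.Lib.helper8.RootD34

/-! RootD35: the sum of the positive roots is strictly dominant. -/

set_option autoImplicit false

namespace Groth.Agent.H8.RootD

open RootPairing _root_.RootD

variable {ι M N : Type*} [AddCommGroup M] [AddCommGroup N] (P : RootPairing ι ℤ M N) [Finite ι]

/-- sum of the roots indexed by a set -/
noncomputable def rho2 [Fintype ι] (S : Set ι) : M := by
  classical
  exact ∑ k ∈ Finset.univ.filter (· ∈ S), P.root k

omit [Finite ι] in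
theorem rho2_pairing [Fintype ι] (S : Set ι) (a : ι) :
    P.coroot' a (rho2 P S) = by
      classical
      exact ∑ k ∈ Finset.univ.filter (· ∈ S), P.pairing k a := by
  classical
  rw [rho2, map_sum]
  rfl

/-- roots in the span of a simple root `a` pair positively with it when positive -/
theorem pairing_pos_of_mem_inSpan_single {Δ : Set ι} (hΔ : IsSimpleSys P Δ) {a k : ι}
    (ha : a ∈ Δ) (hk : k ∈ posOf P Δ) (hka : k ∈ inSpan P {a}) : 0 < P.pairing k a := by
  classical
  have hka' : P.root k ∈ Submodule.span ℤ (P.root '' {a}) := hka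
  rw [Set.image_singleton, Submodule.mem_span_singleton] at hka'
  obtain ⟨z, hz⟩ := hka'
  have hck : lc P (Finsupp.single a z) = P.root k := by rw [lc_single, hz]
  have h0 := (mem_posOf_iff P hΔ k (support_single_subset ha z) hck).mp hk a
  rw [Finsupp.single_eq_same] at h0
  have hz0 : z ≠ 0 := by
    rintro rfl
    rw [zero_smul] at hz
    exact P.ne_zero k hz.symm
  have : P.pairing k a = z * 2 := by
    show P.toLinearMap (P.root k) (P.coroot a) = _
    rw [← hz, map_smul, LinearMap.smul_apply, smul_eq_mul]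
    congr 1
    exact P.pairing_same a
  rw [this]
  omega

theorem rho2_simple_pos [Fintype ι] {Δ : Set ι} (hΔ : IsSimpleSys P Δ) {a : ι} (ha : a ∈ Δ) :
    0 < P.coroot' a (rho2 P (posOf P Δ)) := by
  classical
  rw [rho2_pairing]
  set S := posOf P Δ with hS
  have hsplit := Finset.sum_filter_add_sum_filter_not (Finset.univ.filter (· ∈ S))
    (· ∈ inSpan P {a}) (fun k => P.pairing k a)
  rw [← hsplit]
  -- second part vanishes
  have hinv : ∀ k, k ∈ (Finset.univ.filter (· ∈ S)).filter (fun k => ¬ k ∈ inSpan P {a}) →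
      P.reflectionPerm a k ∈ (Finset.univ.filter (· ∈ S)).filter (fun k => ¬ k ∈ inSpan P {a}) := by
    intro k hk
    simp only [Finset.mem_filter, Finset.mem_univ, true_and] at hk ⊢
    exact refl_mem_pos_diff P hΔ (Set.singleton_subset_iff.mpr ha) rfl hk.1 hk.2
  have hzero : ∑ k ∈ (Finset.univ.filter (· ∈ S)).filter (fun k => ¬ k ∈ inSpan P {a}),
      P.pairing k a = 0 := by
    have hre : ∑ k ∈ (Finset.univ.filter (· ∈ S)).filter (fun k => ¬ k ∈ inSpan P {a}),
        P.pairing k a = ∑ k ∈ (Finset.univ.filter (· ∈ S)).filter (fun k => ¬ k ∈ inSpan P {a}),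
        P.pairing (P.reflectionPerm a k) a := by
      apply Finset.sum_nbij' (fun k => P.reflectionPerm a k) (fun k => P.reflectionPerm a k)
      · intro k hk; exact hinv k hk
      · intro k hk; exact hinv k hk
      · intro k _; simp
      · intro k _; simp
      · intro k _; simp
    have hneg : ∀ k, P.pairing (P.reflectionPerm a k) a = - P.pairing k a := by
      intro k
      rw [pairing_reflection_left, P.pairing_same]
      ring
    simp only [hneg, Finset.sum_neg_distrib] at hre
    omega
  rw [hzero, add_zero]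
  have hamem : a ∈ (Finset.univ.filter (· ∈ S)).filter (fun k => k ∈ inSpan P {a}) := by
    simp only [Finset.mem_filter, Finset.mem_univ, true_and]
    exact ⟨subset_posOf P ha, Submodule.subset_span ⟨a, rfl, rfl⟩⟩
  apply Finset.sum_pos'
  · intro k hk
    simp only [Finset.mem_filter, Finset.mem_univ, true_and] at hk
    exact (pairing_pos_of_mem_inSpan_single P hΔ ha hk.1 hk.2).le
  · refine ⟨a, hamem, ?_⟩
    rw [P.pairing_same]; norm_num

theorem rho2_pos [Fintype ι] {Δ : Set ι} (hΔ : IsSimpleSys P Δ) {j : ι} (hj : j ∈ posOf P Δ) :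
    0 < P.coroot' j (rho2 P (posOf P Δ)) := by
  classical
  obtain ⟨c, hc, -, hck⟩ := exists_coef P hΔ j
  have h0 := (mem_posOf_iff P hΔ j hc hck).mp hj
  have key := length_smul_coroot_eq P hck
  have hL := rootForm_root_pos P j
  -- apply ⟨rho2, ·⟩ to key
  have h1 : P.RootForm (P.root j) (P.root j) * P.coroot' j (rho2 P (posOf P Δ)) =
      c.sum fun i a => (a * P.RootForm (P.root i) (P.root i)) *
        P.coroot' i (rho2 P (posOf P Δ)) := by
    have := congrArg (fun n => P.toLinearMap (rho2 P (posOf P Δ)) n) key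
    simp only [map_smul, smul_eq_mul, map_finsuppSum] at this
    exact this
  have h2 : 0 < c.sum fun i a => (a * P.RootForm (P.root i) (P.root i)) *
      P.coroot' i (rho2 P (posOf P Δ)) := by
    rw [Finsupp.sum]
    have hne : c ≠ 0 := coef_ne_zero P hck
    obtain ⟨i₀, hi₀⟩ : ∃ i₀, c i₀ ≠ 0 := by
      by_contra hcon
      push Not at hcon
      exact hne (Finsupp.ext hcon)
    apply Finset.sum_pos'
    · intro i hi
      exact mul_nonneg (mul_nonneg (h0 i) (rootForm_root_pos P i).le)
        (rho2_simple_pos P hΔ (hc hi)).le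
    · refine ⟨i₀, Finsupp.mem_support_iff.mpr hi₀, ?_⟩
      have hi₀Δ : i₀ ∈ Δ := hc (Finsupp.mem_support_iff.mpr hi₀)
      have : 0 < c i₀ := lt_of_le_of_ne (h0 i₀) (Ne.symm hi₀)
      exact mul_pos (mul_pos this (rootForm_root_pos P i₀)) (rho2_simple_pos P hΔ hi₀Δ)
  rw [← h1] at h2
  exact (mul_pos_iff_of_pos_left hL).mp h2

/-- a strictly dominant element for a positive system -/
theorem exists_strictly_dominant {S : Set ι} (hS : IsPosSys P S) :
    ∃ m : M, ∀ j ∈ S, 0 < P.coroot' j m := by
  have : Fintype ι := Fintype.ofFinite ι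
  have hΔ := indec_isSimpleSys P hS
  have hSeq : S = posOf P (indec P S) := (posSys_eq_posOf_iff P hΔ hS).mp (indec_subset P S)
  refine ⟨rho2 P (posOf P (indec P S)), ?_⟩
  intro j hj
  rw [hSeq] at hj
  exact rho2_pos P hΔ hj

end Groth.Agent.H8.RootD
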