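import Mathlib
import Groth.Prelude.Def_W4sga3xxiRoot
import Groth.Agent.Lib.helper8.RootD35

/-! RootD36: dominant weights; comparison of dominant homomorphisms (S19161). -/

set_option autoImplicit false

namespace Groth.Agent.H8.RootD

open RootPairing _root_.RootD

variable {ι M N : Type*} [AddCommGroup M] [AddCommGroup N] (P : RootPairing ι ℤ M N) [Finite ι]

theorem length_smul_coroot_add [Fintype ι] {i j k : ι} (hk : P.root k = P.root i + P.root j) :
    P.RootForm (P.root k) (P.root k) • P.coroot k =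
      P.RootForm (P.root i) (P.root i) • P.coroot i +
        P.RootForm (P.root j) (P.root j) • P.coroot j := by
  rw [P.rootForm_self_smul_coroot, P.rootForm_self_smul_coroot, P.rootForm_self_smul_coroot, hk,
    map_add, smul_add]

theorem exists_weyl_dominant_weight {S : Set ι} (hS : IsPosSys P S) (m : M) :
    ∃ g : P.Aut, g ∈ P.weylGroup ∧ ∀ i ∈ S, 0 ≤ P.coroot' i (g • m) := by
  have : Fintype ι := Fintype.ofFinite ι
  set T : Set ι := {i | 0 ≤ P.coroot' i m} with hT
  have hTc : IsClosedSub P T := by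
    intro i j k hi hj hk
    show 0 ≤ P.coroot' k m
    have h1 := congrArg (fun n => P.toLinearMap m n) (length_smul_coroot_add P hk)
    simp only [map_add, map_smul, smul_eq_mul] at h1
    have hi' : 0 ≤ P.toLinearMap m (P.coroot i) := hi
    have hj' : 0 ≤ P.toLinearMap m (P.coroot j) := hj
    have hpos : 0 ≤ P.RootForm (P.root k) (P.root k) * P.toLinearMap m (P.coroot k) := by
      rw [h1]
      exact add_nonneg (mul_nonneg (rootForm_root_pos P i).le hi')
        (mul_nonneg (rootForm_root_pos P j).le hj')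
    exact (mul_nonneg_iff_of_pos_left (rootForm_root_pos P k)).mp hpos
  have hTcov : ∀ i : ι, i ∈ T ∨ P.reflectionPerm i i ∈ T := by
    intro i
    rcases le_total 0 (P.coroot' i m) with h | h
    · exact Or.inl h
    · right
      show 0 ≤ P.toLinearMap m (P.coroot (P.reflectionPerm i i))
      rw [coroot_neg, map_neg]
      exact neg_nonneg.mpr h
  obtain ⟨g, hg, hgS⟩ := conj_into_closed P hTc hTcov _ S hS rfl
  refine ⟨g⁻¹, inv_mem hg, ?_⟩
  intro i hi
  have h1 : 0 ≤ P.coroot' (g • i) m := hgS ⟨i, hi, rfl⟩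
  have h2 := aut_coroot' P g i (g⁻¹ • m)
  rw [smul_smul, mul_inv_cancel, one_smul] at h2
  rw [← h2]
  exact h1

theorem weylGroup_finite : Finite P.weylGroup := by
  have : Finite (KSub P) := (KSub_finite P).to_subtype
  exact Finite.of_injective (fun w : P.weylGroup => (⟨w.1, weylGroup_le_KSub P w.2⟩ : KSub P))
    (fun a b h => Subtype.ext (by simpa using congrArg Subtype.val h))

section Dom

variable {Γ : Type*} [AddCommGroup Γ] [LinearOrder Γ] [IsOrderedAddMonoid Γ] (f₁ f₂ : M →+ Γ)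

theorem dominant_le_iff_sup {S : Set ι} (hS : IsPosSys P S)
    (hf₁ : ∀ i ∈ S, 0 ≤ f₁ (P.root i)) (hf₂ : ∀ i ∈ S, 0 ≤ f₂ (P.root i)) :
    (∀ m : M, (∀ i ∈ S, 0 ≤ P.coroot' i m) → f₁ m ≤ f₂ m) ↔
    ∀ (X : Finset M) (hX : X.Nonempty),
      (∀ g : P.Aut, g ∈ P.weylGroup → ∀ m ∈ X, g • m ∈ X) →
      X.sup' hX f₁ ≤ X.sup' hX f₂ := by
  classical
  have : Fintype ι := Fintype.ofFinite ι
  constructor
  · intro h X hX hstab
    rw [Finset.sup'_le_iff]
    intro m hm
    obtain ⟨g, hg, hgm⟩ := exists_weyl_dominant_weight P hS m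
    have hm' : g • m ∈ X := hstab g hg m hm
    have h1 : f₁ m ≤ f₁ (g • m) := by
      have := dominant_le P f₁ hS hf₁ (inv_mem hg) (g • m) hgm
      rwa [smul_smul, inv_mul_cancel, one_smul] at this
    exact h1.trans ((h _ hgm).trans (Finset.le_sup' f₂ hm'))
  · intro h m hm
    have hfin := weylGroup_finite P
    have : Fintype P.weylGroup := Fintype.ofFinite _
    set X : Finset M := Finset.image (fun w : P.weylGroup => (w : P.Aut) • m) Finset.univ with hXdef
    have hmX : m ∈ X := by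
      rw [hXdef, Finset.mem_image]
      exact ⟨1, Finset.mem_univ _, by simp⟩
    have hX : X.Nonempty := ⟨m, hmX⟩
    have hstab : ∀ g : P.Aut, g ∈ P.weylGroup → ∀ x ∈ X, g • x ∈ X := by
      intro g hg x hx
      rw [hXdef, Finset.mem_image] at hx ⊢
      obtain ⟨w, -, rfl⟩ := hx
      refine ⟨⟨g, hg⟩ * w, Finset.mem_univ _, ?_⟩
      show ((⟨g, hg⟩ * w : P.weylGroup) : P.Aut) • m = g • ((w : P.Aut) • m)
      rw [Subgroup.coe_mul, mul_smul]
    have h1 := h X hX hstab
    obtain ⟨x, hx, hxsup⟩ := Finset.exists_mem_eq_sup' hX f₂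
    rw [hXdef, Finset.mem_image] at hx
    obtain ⟨w, -, rfl⟩ := hx
    calc f₁ m ≤ X.sup' hX f₁ := Finset.le_sup' f₁ hmX
      _ ≤ X.sup' hX f₂ := h1
      _ = f₂ ((w : P.Aut) • m) := hxsup
      _ ≤ f₂ m := dominant_le P f₂ hS hf₂ w.2 m hm

end Dom

end Groth.Agent.H8.RootD
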