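import Mathlib
import Groth.Prelude.Def_W4sga3xxiRoot
import Groth.Agent.Lib.helper8.RootD36

/-! RootD37: Gram matrices and orthogonal complements (over ℤ, via adjugates). -/

set_option autoImplicit false

namespace Groth.Agent.H8.RootD

open RootPairing _root_.RootD Matrix

variable {ι M N : Type*} [AddCommGroup M] [AddCommGroup N] (P : RootPairing ι ℤ M N) [Finite ι]
  [Fintype ι]

/-- Gram matrix of the roots indexed by a finset -/
noncomputable def gram (E : Finset ι) : Matrix E E ℤ :=
  Matrix.of fun a b => P.RootForm (P.root (a : ι)) (P.root (b : ι))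

omit [Finite ι] in
theorem rootForm_symm (x y : M) : P.RootForm x y = P.RootForm y x := by
  have := P.rootForm_symmetric.eq x y
  simpa using this

theorem gram_det_ne_zero [DecidableEq ι] {E : Finset ι}
    (hE : LinearIndepOn ℤ P.root (↑E : Set ι)) : (gram P E).det ≠ 0 := by
  have : Module.IsReflexive ℤ M := .of_isPerfPair P.toLinearMap
  have : Module.IsReflexive ℤ N := .of_isPerfPair P.flip.toLinearMap
  intro h0
  obtain ⟨v, hv, hAv⟩ := Matrix.exists_mulVec_eq_zero_iff.mpr h0
  set x : E →₀ ℤ := Finsupp.equivFunOnFinite.symm v with hx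
  have hx0 : x ≠ 0 := by
    intro h
    apply hv
    funext a
    have := DFunLike.congr_fun h a
    simpa [hx] using this
  have hvec : vec P E x = ∑ b : E, v b • P.root (b : ι) := by
    rw [vec, Finsupp.sum_fintype _ _ (by simp)]
    rfl
  have horth : ∀ a : E, P.RootForm (P.root (a : ι)) (vec P E x) = 0 := by
    intro a
    rw [hvec, map_sum]
    have := congrFun hAv a
    simp only [Matrix.mulVec, dotProduct, gram, Matrix.of_apply, Pi.zero_apply] at this
    rw [← this]
    apply Finset.sum_congr rfl
    intro b _
    rw [map_smul, smul_eq_mul, mul_comm]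
  have hself : P.RootForm (vec P E x) (vec P E x) = 0 := by
    nth_rw 1 [hvec]
    rw [map_sum, LinearMap.sum_apply]
    apply Finset.sum_eq_zero
    intro a _
    rw [map_smul, LinearMap.smul_apply, horth a, smul_zero]
  have hpos := P.rootForm_pos_of_ne_zero (vec_mem_span P E x) (vec_ne_zero P hE hx0)
  rw [hself] at hpos
  exact lt_irrefl _ hpos

/-- `det(G) • v` minus its "orthogonal projection" to the span of `E`, all scaled to stay
integral: a vector orthogonal to the roots of `E`. -/
noncomputable def perpVec [DecidableEq ι] (E : Finset ι) (v : M) : M :=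
  (gram P E).det • v -
    ∑ e : E, ((gram P E).adjugate *ᵥ (fun e' : E => P.RootForm (P.root (e' : ι)) v)) e •
      P.root (e : ι)

omit [Finite ι] in
theorem perpVec_orth [DecidableEq ι] (E : Finset ι) (v : M) (e' : E) :
    P.RootForm (P.root (e' : ι)) (perpVec P E v) = 0 := by
  set b : E → ℤ := fun e' : E => P.RootForm (P.root (e' : ι)) v with hb
  rw [perpVec, map_sub, map_smul, map_sum]
  have h1 : ∑ e : E, P.RootForm (P.root (e' : ι))
      (((gram P E).adjugate *ᵥ b) e • P.root (e : ι)) =
      ((gram P E) *ᵥ ((gram P E).adjugate *ᵥ b)) e' := by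
    simp only [Matrix.mulVec, dotProduct, gram, Matrix.of_apply]
    apply Finset.sum_congr rfl
    intro e _
    rw [map_smul, smul_eq_mul, mul_comm]
  rw [h1, Matrix.mulVec_mulVec, Matrix.mul_adjugate, Matrix.smul_mulVec, Matrix.one_mulVec]
  simp [hb]

omit [Finite ι] in
theorem perpVec_mem_span [DecidableEq ι] (E : Finset ι) {v : M}
    (hv : v ∈ Submodule.span ℤ (Set.range P.root)) :
    perpVec P E v ∈ Submodule.span ℤ (Set.range P.root) := by
  rw [perpVec]
  refine Submodule.sub_mem _ (Submodule.smul_mem _ _ hv) (Submodule.sum_mem _ fun e _ => ?_)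
  exact Submodule.smul_mem _ _ (Submodule.subset_span (Set.mem_range_self _))

omit [Finite ι] in
theorem perpVec_self [DecidableEq ι] (E : Finset ι) (v : M) :
    P.RootForm (perpVec P E v) (perpVec P E v) =
      (gram P E).det * P.RootForm v (perpVec P E v) := by
  nth_rw 1 [perpVec]
  rw [map_sub, LinearMap.sub_apply, map_smul, LinearMap.smul_apply, map_sum, LinearMap.sum_apply,
    smul_eq_mul]
  have : ∑ e : E, P.RootForm (((gram P E).adjugate *ᵥ
      (fun e' : E => P.RootForm (P.root (e' : ι)) v)) e • P.root (e : ι)) (perpVec P E v) = 0 := by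
    apply Finset.sum_eq_zero
    intro e _
    rw [map_smul, LinearMap.smul_apply, perpVec_orth, smul_zero]
  rw [this, sub_zero]

theorem perpVec_ne_zero [DecidableEq ι] (E : Finset ι) {v : M}
    (hv : (gram P E).det • v ∉ Submodule.span ℤ (P.root '' (↑E : Set ι))) :
    perpVec P E v ≠ 0 := by
  intro h0
  apply hv
  rw [perpVec, sub_eq_zero] at h0
  rw [h0]
  refine Submodule.sum_mem _ fun e _ => Submodule.smul_mem _ _ (Submodule.subset_span ?_)
  exact ⟨e, e.2, rfl⟩

/-- the pairing of `v` with `perpVec v` is nonzero when `v` is rationally outside the span -/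
theorem rootForm_perpVec_ne_zero [DecidableEq ι] (E : Finset ι) {v : M}
    (hvs : v ∈ Submodule.span ℤ (Set.range P.root))
    (hv : (gram P E).det • v ∉ Submodule.span ℤ (P.root '' (↑E : Set ι))) :
    P.RootForm v (perpVec P E v) ≠ 0 := by
  have : Module.IsReflexive ℤ M := .of_isPerfPair P.toLinearMap
  have : Module.IsReflexive ℤ N := .of_isPerfPair P.flip.toLinearMap
  intro h0
  have hpos := P.rootForm_pos_of_ne_zero (perpVec_mem_span P E hvs) (perpVec_ne_zero P E hv)
  rw [perpVec_self, h0, mul_zero] at hpos
  exact lt_irrefl _ hpos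

/-- orthogonality to `E` extends to everything rationally in the span of `E` -/
theorem orth_of_smul_mem_span {E : Set ι} {y : M} (hy : ∀ e ∈ E, P.RootForm (P.root e) y = 0)
    {x : M} {n : ℕ} (hn : 0 < n) (hx : n • x ∈ Submodule.span ℤ (P.root '' E)) :
    P.RootForm x y = 0 := by
  have h1 : ∀ z ∈ Submodule.span ℤ (P.root '' E), P.RootForm z y = 0 := by
    intro z hz
    induction hz using Submodule.span_induction with
    | mem z hz =>
      obtain ⟨e, he, rfl⟩ := hz
      exact hy e he
    | zero => simp
    | add a b _ _ ha hb => rw [map_add, LinearMap.add_apply, ha, hb, add_zero]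
    | smul c a _ ha => rw [map_smul, LinearMap.smul_apply, ha, smul_zero]
  have h2 := h1 _ hx
  rw [map_nsmul, LinearMap.smul_apply] at h2
  rcases smul_eq_zero.mp h2 with h | h
  · exact absurd h hn.ne'
  · exact h

end Groth.Agent.H8.RootD
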