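import Mathlib
import Groth.Prelude.Def_W4sga3xxiRoot
import Groth.Agent.Lib.helper8.RootD37

/-! RootD38: generic vectors orthogonal exactly to a saturated set of roots. -/

set_option autoImplicit false

namespace Groth.Agent.H8.RootD

open RootPairing _root_.RootD Matrix

variable {ι M N : Type*} [AddCommGroup M] [AddCommGroup N] (P : RootPairing ι ℤ M N) [Finite ι]

/-- rational saturation -/
def Sat (R' : Set ι) : Prop :=
  ∀ k : ι, (∃ n : ℕ, 0 < n ∧ n • P.root k ∈ Submodule.span ℤ (P.root '' R')) → k ∈ R'

theorem exists_max_indep (R' : Set ι) :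
    ∃ E : Finset ι, ↑E ⊆ R' ∧ LinearIndepOn ℤ P.root (↑E : Set ι) ∧
      ∀ k ∈ R', ∃ n : ℕ, 0 < n ∧ n • P.root k ∈ Submodule.span ℤ (P.root '' (↑E : Set ι)) := by
  classical
  have : Fintype ι := Fintype.ofFinite ι
  have hM := torsionFree_M P
  let 𝓔 := {E : Finset ι // ↑E ⊆ R' ∧ LinearIndepOn ℤ P.root (↑E : Set ι)}
  have hne : Nonempty 𝓔 := ⟨⟨∅, by simp, by simp⟩⟩
  obtain ⟨⟨E, hER, hEli⟩, hmax⟩ := Finite.exists_max (fun E : 𝓔 => E.1.card)
  refine ⟨E, hER, hEli, ?_⟩
  intro k hk
  by_cases hkE : k ∈ E
  · exact ⟨1, one_pos, by rw [one_smul]; exact Submodule.subset_span ⟨k, hkE, rfl⟩⟩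
  · have hnot : ¬ LinearIndepOn ℤ P.root (↑(insert k E) : Set ι) := by
      intro hli
      have hsub : (↑(insert k E) : Set ι) ⊆ R' := by
        intro x hx
        rw [Finset.coe_insert] at hx
        rcases hx with rfl | hx
        · exact hk
        · exact hER hx
      have := hmax ⟨insert k E, hsub, hli⟩
      simp only [Finset.card_insert_of_notMem hkE] at this
      omega
    rw [linearIndepOn_iff] at hnot
    push Not at hnot
    obtain ⟨c, hc, hlc, hc0⟩ := hnot
    have hcsupp : ↑c.support ⊆ (↑(insert k E) : Set ι) := hc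
    have hck : c k ≠ 0 := by
      intro h0
      apply hc0
      apply (linearIndepOn_iff.mp hEli) c _ hlc
      intro x hx
      have h1 := hcsupp hx
      rw [Finset.coe_insert] at h1
      rcases h1 with rfl | h1
      · exact absurd h0 (Finsupp.mem_support_iff.mp hx)
      · exact h1
    have hsplit : c k • P.root k + Finsupp.linearCombination ℤ P.root (c.erase k) = 0 := by
      rw [← hlc]
      nth_rw 3 [← Finsupp.single_add_erase k c]
      rw [map_add, Finsupp.linearCombination_single]
    have herase : Finsupp.linearCombination ℤ P.root (c.erase k) ∈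
        Submodule.span ℤ (P.root '' (↑E : Set ι)) := by
      apply (Finsupp.mem_span_image_iff_linearCombination ℤ).mpr
      refine ⟨c.erase k, ?_, rfl⟩
      intro x hx
      rw [Finset.mem_coe, Finsupp.support_erase, Finset.mem_erase] at hx
      have h1 := hcsupp hx.2
      rw [Finset.coe_insert] at h1
      rcases h1 with h1 | h1
      · exact absurd h1 hx.1
      · exact h1
    have hmem : c k • P.root k ∈ Submodule.span ℤ (P.root '' (↑E : Set ι)) := by
      have : c k • P.root k = -Finsupp.linearCombination ℤ P.root (c.erase k) :=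
        eq_neg_of_add_eq_zero_left hsplit
      rw [this]
      exact Submodule.neg_mem _ herase
    refine ⟨(c k).natAbs, Int.natAbs_pos.mpr hck, ?_⟩
    rcases Int.natAbs_eq (c k) with h | h
    · rw [← natCast_zsmul, ← h]; exact hmem
    · have : ((c k).natAbs : ℤ) = -c k := by omega
      rw [← natCast_zsmul, this, neg_smul]
      exact Submodule.neg_mem _ hmem

theorem exists_generic_orth [Fintype ι] {R' : Set ι} (hsat : Sat P R') :
    ∃ y : M, ∀ k : ι, P.RootForm (P.root k) y = 0 ↔ k ∈ R' := by
  classical
  obtain ⟨E, hER, hEli, hEspan⟩ := exists_max_indep P R'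
  have hdet := gram_det_ne_zero P hEli
  -- the vectors y_k
  have hyk : ∀ k : ι, k ∉ R' → (∀ k' ∈ R', P.RootForm (P.root k') (perpVec P E (P.root k)) = 0) ∧
      P.RootForm (P.root k) (perpVec P E (P.root k)) ≠ 0 := by
    intro k hk
    constructor
    · intro k' hk'
      obtain ⟨n, hn, hnk⟩ := hEspan k' hk'
      exact orth_of_smul_mem_span P (E := (↑E : Set ι))
        (fun e he => perpVec_orth P E (P.root k) ⟨e, he⟩) hn hnk
    · apply rootForm_perpVec_ne_zero P E (Submodule.subset_span (Set.mem_range_self k))
      intro hmem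
      apply hk
      apply hsat k
      refine ⟨(gram P E).det.natAbs, Int.natAbs_pos.mpr hdet, ?_⟩
      have hmem' : (gram P E).det • P.root k ∈ Submodule.span ℤ (P.root '' R') :=
        Submodule.span_mono (Set.image_mono hER) hmem
      rcases Int.natAbs_eq (gram P E).det with h | h
      · rw [← natCast_zsmul, ← h]; exact hmem'
      · have : ((gram P E).det.natAbs : ℤ) = -(gram P E).det := by omega
        rw [← natCast_zsmul, this, neg_smul]
        exact Submodule.neg_mem _ hmem'
  -- avoidance
  have key : ∀ F : Finset ι, (∀ k ∈ F, k ∉ R') →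
      ∃ y : M, (∀ k' ∈ R', P.RootForm (P.root k') y = 0) ∧ ∀ k ∈ F, P.RootForm (P.root k) y ≠ 0 := by
    intro F
    induction F using Finset.induction_on with
    | empty =>
      intro _
      exact ⟨0, by simp, by simp⟩
    | insert k₀ F hk₀F ih =>
      intro hF
      obtain ⟨y, hy1, hy2⟩ := ih (fun k hk => hF k (Finset.mem_insert_of_mem hk))
      have hk₀ : k₀ ∉ R' := hF k₀ (Finset.mem_insert_self _ _)
      obtain ⟨hz1, hz2⟩ := hyk k₀ hk₀
      by_cases h0 : P.RootForm (P.root k₀) y = 0
      · set z := perpVec P E (P.root k₀) with hz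
        set T : ℤ := 1 + ∑ k ∈ F, |P.RootForm (P.root k) z| with hT
        refine ⟨T • y + z, ?_, ?_⟩
        · intro k' hk'
          rw [map_add, map_smul, hy1 k' hk', hz1 k' hk', smul_zero, add_zero]
        · intro k hk
          rw [map_add, map_smul, smul_eq_mul]
          rcases Finset.mem_insert.mp hk with rfl | hkF
          · rw [h0, mul_zero, zero_add]; exact hz2
          · have ha := hy2 k hkF
            have hb : |P.RootForm (P.root k) z| < T := by
              have : |P.RootForm (P.root k) z| ≤ ∑ k ∈ F, |P.RootForm (P.root k) z| :=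
                Finset.single_le_sum (f := fun k => |P.RootForm (P.root k) z|)
                  (fun i _ => abs_nonneg _) hkF
              omega
            intro hsum
            have h1 : |T * P.RootForm (P.root k) y| = |P.RootForm (P.root k) z| := by
              have : T * P.RootForm (P.root k) y = -P.RootForm (P.root k) z := by omega
              rw [this, abs_neg]
            rw [abs_mul] at h1
            have hTpos : 0 < T := lt_of_le_of_lt (abs_nonneg _) hb
            have h2 : 1 ≤ |P.RootForm (P.root k) y| := Int.one_le_abs ha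
            have h3 : |T| = T := abs_of_pos hTpos
            rw [h3] at h1
            nlinarith
      · refine ⟨y, hy1, ?_⟩
        intro k hk
        rcases Finset.mem_insert.mp hk with rfl | hkF
        · exact h0
        · exact hy2 k hkF
  obtain ⟨y, hy1, hy2⟩ := key (Finset.univ.filter (· ∉ R')) (by simp)
  refine ⟨y, fun k => ⟨?_, hy1 k⟩⟩
  intro h
  by_contra hk
  exact hy2 k (by simp [hk]) h

end Groth.Agent.H8.RootD
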