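import Mathlib
import Groth.Prelude.Def_W4sga3xxiRoot
import Groth.Agent.Lib.helper8.RootD38

/-! RootD39: saturated sets of roots are the `inSpan` of part of a simple system (S5460). -/

set_option autoImplicit false

namespace Groth.Agent.H8.RootD

open RootPairing _root_.RootD Matrix

variable {ι M N : Type*} [AddCommGroup M] [AddCommGroup N] (P : RootPairing ι ℤ M N) [Finite ι]

theorem sat_of_inSpan {Δ Δ' : Set ι} (hΔ : IsSimpleSys P Δ) (hsub : Δ' ⊆ Δ) :
    Sat P (inSpan P Δ') := by
  classical
  have hM := torsionFree_M P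
  intro k ⟨n, hn, hnk⟩
  have h1 : Submodule.span ℤ (P.root '' inSpan P Δ') ≤ Submodule.span ℤ (P.root '' Δ') := by
    apply Submodule.span_le.mpr
    rintro _ ⟨j, hj, rfl⟩
    exact hj
  have h2 := h1 hnk
  obtain ⟨e, he, hek⟩ := (Finsupp.mem_span_image_iff_linearCombination ℤ).mp h2
  have he' : ↑e.support ⊆ Δ' := he
  obtain ⟨c, hc, -, hck⟩ := exists_coef P hΔ k
  have h3 : (n : ℤ) • c = e := by
    apply coef_unique P hΔ.linInd (support_smul_subset hc _) (he'.trans hsub)
    rw [lc_smul, hck, natCast_zsmul]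
    exact hek.symm
  rw [mem_inSpan_iff P hΔ hsub hc hck]
  intro x hx
  apply he'
  rw [Finset.mem_coe, Finsupp.mem_support_iff] at hx ⊢
  rw [← h3, Finsupp.smul_apply, smul_eq_mul]
  have : (n : ℤ) ≠ 0 := by exact_mod_cast hn.ne'
  exact mul_ne_zero this hx

theorem exists_simpleSys_of_sat {R' : Set ι} (hsat : Sat P R') :
    ∃ Δ Δ' : Set ι, IsSimpleSys P Δ ∧ Δ' ⊆ Δ ∧ R' = inSpan P Δ' := by
  classical
  have : Fintype ι := Fintype.ofFinite ι
  obtain ⟨y, hy⟩ := exists_generic_orth P hsat
  set T : Set ι := {k | 0 ≤ P.RootForm (P.root k) y} with hT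
  have hTc : IsClosedSub P T := by
    intro i j k hi hj hk
    show 0 ≤ P.RootForm (P.root k) y
    rw [hk, map_add, LinearMap.add_apply]
    exact add_nonneg hi hj
  have hTcov : ∀ i : ι, i ∈ T ∨ P.reflectionPerm i i ∈ T := by
    intro i
    rcases le_total 0 (P.RootForm (P.root i) y) with h | h
    · exact Or.inl h
    · right
      show 0 ≤ P.RootForm (P.root (P.reflectionPerm i i)) y
      rw [root_neg, map_neg, LinearMap.neg_apply]
      exact neg_nonneg.mpr h
  obtain ⟨Δ, Δ', hΔ, hsub, hTeq⟩ := exists_simpleSys_of_closed_P2 P hTcov hTc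
  refine ⟨Δ, Δ', hΔ, hsub, ?_⟩
  have hposS := isPosSys_posOf P hΔ
  -- the form vanishes on Δ'
  have hvan : ∀ d ∈ Δ', P.RootForm (P.root d) y = 0 := by
    intro d hd
    have h1 : d ∈ T := by
      rw [hTeq]; exact Or.inl (subset_posOf P (hsub hd))
    have h2 : P.reflectionPerm d d ∈ T := by
      rw [hTeq]
      right
      show -P.root (P.reflectionPerm d d) ∈ natSpan P Δ'
      rw [root_neg, neg_neg]
      exact AddSubmonoid.subset_closure ⟨d, hd, rfl⟩
    have h1' : 0 ≤ P.RootForm (P.root d) y := h1
    have h2' : 0 ≤ P.RootForm (P.root (P.reflectionPerm d d)) y := h2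
    rw [root_neg, map_neg, LinearMap.neg_apply] at h2'
    omega
  ext k
  constructor
  · intro hk
    have hk0 : P.RootForm (P.root k) y = 0 := (hy k).mpr hk
    have hkT : k ∈ T := by
      show 0 ≤ P.RootForm (P.root k) y
      rw [hk0]
    have hnkT : P.reflectionPerm k k ∈ T := by
      show 0 ≤ P.RootForm (P.root (P.reflectionPerm k k)) y
      rw [root_neg, map_neg, LinearMap.neg_apply, hk0, neg_zero]
    show P.root k ∈ Submodule.span ℤ (P.root '' Δ')
    by_cases hpos : k ∈ posOf P Δ
    · rw [hTeq] at hnkT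
      rcases hnkT with h | h
      · exact absurd h (hposS.disjoint hpos)
      · have h' : -P.root (P.reflectionPerm k k) ∈ natSpan P Δ' := h
        rw [root_neg, neg_neg] at h'
        exact natSpan_le_span P Δ' h'
    · rw [hTeq] at hkT
      rcases hkT with h | h
      · exact absurd h hpos
      · have h' : -P.root k ∈ natSpan P Δ' := h
        have := natSpan_le_span P Δ' h'
        rwa [neg_mem_iff] at this
  · intro hk
    rw [← hy k]
    have hk' : P.root k ∈ Submodule.span ℤ (P.root '' Δ') := hk
    have hall : ∀ z ∈ Submodule.span ℤ (P.root '' Δ'), P.RootForm z y = 0 := by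
      intro z hz
      induction hz using Submodule.span_induction with
      | mem z hz =>
        obtain ⟨d, hd, rfl⟩ := hz
        exact hvan d hd
      | zero => simp
      | add a b _ _ ha hb => rw [map_add, LinearMap.add_apply, ha, hb, add_zero]
      | smul c a _ ha => rw [map_smul, LinearMap.smul_apply, ha, smul_zero]
    exact hall _ hk'

end Groth.Agent.H8.RootD
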