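import Mathlib
import Groth.Prelude.Def_W4sga3xxiRoot
import Groth.Agent.Lib.helper8.RootD39

/-! RootD40: extending a simple system of a saturated subsystem (S5461). -/

set_option autoImplicit false

namespace Groth.Agent.H8.RootD

open RootPairing _root_.RootD Matrix

variable {ι M N : Type*} [AddCommGroup M] [AddCommGroup N] (P : RootPairing ι ℤ M N) [Finite ι]

theorem nonneg_of_lex_pos {K a b : ℤ} (hb : |b| < K) (h : 0 < K * a + b) : 0 ≤ a := by
  by_contra hcon
  push Not at hcon
  have h1 : K * a ≤ -K := by nlinarith [abs_nonneg b]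
  have h2 : b ≤ |b| := le_abs_self b
  omega

theorem lex_ne_zero {K a b : ℤ} (hb : |b| < K) (ha : a ≠ 0) : K * a + b ≠ 0 := by
  intro h
  have h1 : |K * a| = |b| := by
    have : K * a = -b := by omega
    rw [this, abs_neg]
  rw [abs_mul] at h1
  have hK : 0 < K := lt_of_le_of_lt (abs_nonneg _) hb
  have h2 : 1 ≤ |a| := Int.one_le_abs ha
  rw [abs_of_pos hK] at h1
  nlinarith

/-- a vector pairing to the same positive value with all roots of an independent set -/
theorem exists_vec_pos_on_indep [Fintype ι] {Δ' : Set ι} (hli : LinearIndepOn ℤ P.root Δ') :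
    ∃ (y₂ : M) (D : ℤ), 0 < D ∧ ∀ d ∈ Δ', P.RootForm (P.root d) y₂ = D := by
  classical
  set E : Finset ι := Finset.univ.filter (· ∈ Δ') with hE
  have hEcoe : (↑E : Set ι) = Δ' := by ext x; simp [hE]
  have hEli : LinearIndepOn ℤ P.root (↑E : Set ι) := by rw [hEcoe]; exact hli
  have hdet := gram_det_ne_zero P hEli
  set y' : M := ∑ e : E, ((gram P E).adjugate *ᵥ (fun _ : E => (1 : ℤ))) e • P.root (e : ι)
    with hy'
  have hval : ∀ e' : E, P.RootForm (P.root (e' : ι)) y' = (gram P E).det := by
    intro e'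
    rw [hy', map_sum]
    have h1 : ∑ e : E, P.RootForm (P.root (e' : ι))
        (((gram P E).adjugate *ᵥ (fun _ : E => (1 : ℤ))) e • P.root (e : ι)) =
        ((gram P E) *ᵥ ((gram P E).adjugate *ᵥ (fun _ : E => (1 : ℤ)))) e' := by
      simp only [Matrix.mulVec, dotProduct, gram, Matrix.of_apply]
      apply Finset.sum_congr rfl
      intro e _
      rw [map_smul, smul_eq_mul, mul_comm]
    rw [h1, Matrix.mulVec_mulVec, Matrix.mul_adjugate, Matrix.smul_mulVec, Matrix.one_mulVec]
    simp
  rcases lt_or_gt_of_ne hdet with hneg | hpos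
  · refine ⟨-y', -(gram P E).det, by omega, ?_⟩
    intro d hd
    have hdE : d ∈ E := by simp [hE, hd]
    rw [map_neg, hval ⟨d, hdE⟩]
  · refine ⟨y', (gram P E).det, hpos, ?_⟩
    intro d hd
    have hdE : d ∈ E := by simp [hE, hd]
    exact hval ⟨d, hdE⟩

theorem exists_simpleSys_extending
    {R' : Set ι} (hsat : Sat P R') {Δ' : Set ι} (hΔ'R : Δ' ⊆ R')
    (hli : LinearIndepOn ℤ P.root Δ')
    (hgen : ∀ k ∈ R', P.root k ∈ natSpan P Δ' ∨ -P.root k ∈ natSpan P Δ') :
    ∃ Δ : Set ι, IsSimpleSys P Δ ∧ Δ' ⊆ Δ ∧ R' = inSpan P Δ' := by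
  classical
  have : Fintype ι := Fintype.ofFinite ι
  obtain ⟨y, hy⟩ := exists_generic_orth P hsat
  obtain ⟨y₂, D, hD, hy₂⟩ := exists_vec_pos_on_indep P hli
  -- positivity of B(·, y₂) on natSpan Δ'
  have hb : ∀ x ∈ natSpan P Δ', 0 ≤ P.RootForm x y₂ ∧ (P.RootForm x y₂ = 0 → x = 0) := by
    intro x hx
    induction hx using AddSubmonoid.closure_induction with
    | mem x hx =>
      obtain ⟨d, hd, rfl⟩ := hx
      rw [hy₂ d hd]
      exact ⟨hD.le, fun h => absurd h hD.ne'⟩
    | zero => simp
    | add a b _ _ ha hb =>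
      rw [map_add, LinearMap.add_apply]
      refine ⟨add_nonneg ha.1 hb.1, ?_⟩
      intro h
      have h1 : P.RootForm a y₂ = 0 := by have := ha.1; have := hb.1; omega
      have h2 : P.RootForm b y₂ = 0 := by have := ha.1; have := hb.1; omega
      rw [ha.2 h1, hb.2 h2, add_zero]
  set K : ℤ := 1 + ∑ k : ι, |P.RootForm (P.root k) y₂| with hK
  have hKb : ∀ k : ι, |P.RootForm (P.root k) y₂| < K := by
    intro k
    have : |P.RootForm (P.root k) y₂| ≤ ∑ k : ι, |P.RootForm (P.root k) y₂| :=
      Finset.single_le_sum (f := fun k => |P.RootForm (P.root k) y₂|)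
        (fun i _ => abs_nonneg _) (Finset.mem_univ k)
    omega
  set φ : M →+ ℤ := (P.RootForm.flip (K • y + y₂)).toAddMonoidHom with hφdef
  have hφ : ∀ k : ι, φ (P.root k) = K * P.RootForm (P.root k) y + P.RootForm (P.root k) y₂ := by
    intro k
    show P.RootForm (P.root k) (K • y + y₂) = _
    rw [map_add, map_smul, smul_eq_mul]
  -- for roots in R', sign of b
  have hR'b : ∀ k ∈ R', P.RootForm (P.root k) y₂ ≠ 0 := by
    intro k hk h0
    rcases hgen k hk with h | h
    · exact P.ne_zero k ((hb _ h).2 h0)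
    · have : P.RootForm (-P.root k) y₂ = 0 := by rw [map_neg, LinearMap.neg_apply, h0, neg_zero]
      have := (hb _ h).2 this
      exact P.ne_zero k (neg_eq_zero.mp this)
  have hφne : ∀ k : ι, 0 < φ (P.root k) ∨ φ (P.root k) < 0 := by
    intro k
    have : φ (P.root k) ≠ 0 := by
      rw [hφ]
      by_cases ha : P.RootForm (P.root k) y = 0
      · rw [ha, mul_zero, zero_add]
        exact hR'b k ((hy k).mp ha)
      · exact lex_ne_zero (hKb k) ha
    rcases lt_trichotomy (φ (P.root k)) 0 with h | h | h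
    · exact Or.inr h
    · exact absurd h this
    · exact Or.inl h
  have hS := isPosSys_of_hom P φ hφne
  set S : Set ι := {i : ι | 0 < φ (P.root i)} with hSdef
  have hΔ := indec_isSimpleSys P hS
  -- facts about members of S
  have hSa : ∀ k ∈ S, 0 ≤ P.RootForm (P.root k) y := by
    intro k hk
    have hk' : 0 < φ (P.root k) := hk
    rw [hφ] at hk'
    exact nonneg_of_lex_pos (hKb k) hk'
  have hSR' : ∀ k ∈ S, k ∈ R' → P.root k ∈ natSpan P Δ' := by
    intro k hk hkR
    have hk' : 0 < φ (P.root k) := hk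
    rw [hφ, (hy k).mpr hkR, mul_zero, zero_add] at hk'
    rcases hgen k hkR with h | h
    · exact h
    · exfalso
      have := (hb _ h).1
      rw [map_neg, LinearMap.neg_apply] at this
      omega
  have hsub : Δ' ⊆ indec P S := by
    intro d hd
    have hdR := hΔ'R hd
    refine ⟨?_, ?_⟩
    · show 0 < φ (P.root d)
      rw [hφ, (hy d).mpr hdR, mul_zero, zero_add, hy₂ d hd]
      exact hD
    · rintro ⟨i, hi, j, hj, hdij⟩
      have hai := hSa i hi
      have haj := hSa j hj
      have had : P.RootForm (P.root d) y = 0 := (hy d).mpr hdR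
      rw [hdij, map_add, LinearMap.add_apply] at had
      have hai0 : P.RootForm (P.root i) y = 0 := by omega
      have haj0 : P.RootForm (P.root j) y = 0 := by omega
      have hi' := hSR' i hi ((hy i).mp hai0)
      have hj' := hSR' j hj ((hy j).mp haj0)
      obtain ⟨ci, hci, hci0, hcik⟩ := natSpan_exists_coef P hi'
      obtain ⟨cj, hcj, hcj0, hcjk⟩ := natSpan_exists_coef P hj'
      have heq : ci + cj = Finsupp.single d 1 := by
        apply coef_unique P hli (support_add_subset hci hcj) (support_single_subset hd 1)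
        rw [lc_add, hcik, hcjk, lc_single, one_smul, hdij]
      have h1 := ht_pos_of_root P hcik hci0
      have h2 := ht_pos_of_root P hcjk hcj0
      have h3 : ht (ci + cj) = 1 := by rw [heq, ht_single]
      rw [map_add] at h3
      omega
  refine ⟨indec P S, hΔ, hsub, ?_⟩
  ext k
  constructor
  · intro hk
    show P.root k ∈ Submodule.span ℤ (P.root '' Δ')
    rcases hgen k hk with h | h
    · exact natSpan_le_span P Δ' h
    · have := natSpan_le_span P Δ' h
      rwa [neg_mem_iff] at this
  · intro hk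
    apply hsat k
    refine ⟨1, one_pos, ?_⟩
    rw [one_smul]
    exact Submodule.span_mono (Set.image_mono hΔ'R) hk

end Groth.Agent.H8.RootD
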