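import Mathlib
import Groth.Prelude.Def_W4sga3xxiRoot
import Groth.Agent.Lib.helper8.RootD40

/-! RootD41: a simple system adapted to a pair of roots (S5464). -/

set_option autoImplicit false

namespace Groth.Agent.H8.RootD

open RootPairing _root_.RootD Matrix

variable {ι M N : Type*} [AddCommGroup M] [AddCommGroup N] (P : RootPairing ι ℤ M N) [Finite ι]

/-- the roots rationally in the plane of `i` and `k` -/
def planeSet (i k : ι) : Set ι :=
  {j | ∃ n : ℕ, 0 < n ∧ n • P.root j ∈ Submodule.span ℤ ({P.root i, P.root k} : Set M)}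

omit [Finite ι] in
theorem planeSet_sat (i k : ι) : Sat P (planeSet P i k) := by
  have key : ∀ x ∈ Submodule.span ℤ (P.root '' planeSet P i k),
      ∃ m : ℕ, 0 < m ∧ m • x ∈ Submodule.span ℤ ({P.root i, P.root k} : Set M) := by
    intro x hx
    induction hx using Submodule.span_induction with
    | mem x hx =>
      obtain ⟨j, hj, rfl⟩ := hx
      exact hj
    | zero => exact ⟨1, one_pos, by simp⟩
    | add a b _ _ ha hb =>
      obtain ⟨m, hm, hma⟩ := ha
      obtain ⟨m', hm', hmb⟩ := hb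
      refine ⟨m * m', Nat.mul_pos hm hm', ?_⟩
      rw [smul_add]
      refine Submodule.add_mem _ ?_ ?_
      · rw [mul_comm, mul_smul]
        exact Submodule.smul_of_tower_mem _ _ hma
      · rw [mul_smul]
        exact Submodule.smul_of_tower_mem _ _ hmb
    | smul c a _ ha =>
      obtain ⟨m, hm, hma⟩ := ha
      refine ⟨m, hm, ?_⟩
      rw [smul_comm]
      exact Submodule.smul_mem _ _ hma
  intro j ⟨n, hn, hnj⟩
  obtain ⟨m, hm, hmj⟩ := key _ hnj
  exact ⟨m * n, Nat.mul_pos hm hn, by rw [mul_smul]; exact hmj⟩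

omit [Finite ι] in
theorem planeSet_mem_iff (i k j : ι) : j ∈ planeSet P i k ↔
    ∃ n : ℕ, 0 < n ∧ ∃ α β : ℤ, α • P.root i + β • P.root k = n • P.root j := by
  constructor
  · rintro ⟨n, hn, h⟩
    rw [Submodule.mem_span_pair] at h
    exact ⟨n, hn, h⟩
  · rintro ⟨n, hn, h⟩
    exact ⟨n, hn, Submodule.mem_span_pair.mpr h⟩

/-- three distinct elements of a linearly independent set cannot lie in a plane -/
theorem planeSet_indep_false {Δ : Set ι} (hli : LinearIndepOn ℤ P.root Δ) {i k d₁ d₂ : ι}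
    (hi : i ∈ Δ) (h1 : d₁ ∈ Δ) (h2 : d₂ ∈ Δ) (hi1 : d₁ ≠ i) (hi2 : d₂ ≠ i) (h12 : d₁ ≠ d₂)
    (hp1 : d₁ ∈ planeSet P i k) (hp2 : d₂ ∈ planeSet P i k) : False := by
  classical
  obtain ⟨n₁, hn₁, α₁, β₁, e₁⟩ := (planeSet_mem_iff P i k d₁).mp hp1
  obtain ⟨n₂, hn₂, α₂, β₂, e₂⟩ := (planeSet_mem_iff P i k d₂).mp hp2
  have hrel : lc P (Finsupp.single d₁ (β₂ * n₁) - Finsupp.single d₂ (β₁ * n₂) -
      Finsupp.single i (β₂ * α₁ - β₁ * α₂)) = lc P 0 := by
    rw [lc_sub, lc_sub, lc_single, lc_single, lc_single]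
    have e₁' : (n₁ : ℤ) • P.root d₁ = α₁ • P.root i + β₁ • P.root k := by
      rw [natCast_zsmul]; exact e₁.symm
    have e₂' : (n₂ : ℤ) • P.root d₂ = α₂ • P.root i + β₂ • P.root k := by
      rw [natCast_zsmul]; exact e₂.symm
    rw [mul_smul, mul_smul, e₁', e₂']
    simp only [lc, map_zero, smul_add, sub_smul, smul_smul]
    have : β₂ * β₁ = β₁ * β₂ := mul_comm _ _
    rw [this]
    abel
  have hz := coef_unique P hli
    (support_sub_subset (support_sub_subset (support_single_subset h1 _)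
      (support_single_subset h2 _)) (support_single_subset hi _)) (by simp) hrel
  have hz1 := DFunLike.congr_fun hz d₁
  have hz2 := DFunLike.congr_fun hz d₂
  simp only [Finsupp.sub_apply, Finsupp.single_eq_same, Finsupp.zero_apply,
    Finsupp.single_eq_of_ne h12, Finsupp.single_eq_of_ne hi1,
    Finsupp.single_eq_of_ne (Ne.symm h12), Finsupp.single_eq_of_ne hi2] at hz1 hz2
  have hn₁' : (n₁ : ℤ) ≠ 0 := by exact_mod_cast hn₁.ne'
  have hn₂' : (n₂ : ℤ) ≠ 0 := by exact_mod_cast hn₂.ne'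
  have hβ₂ : β₂ = 0 := by
    have : β₂ * n₁ = 0 := by omega
    exact (mul_eq_zero.mp this).resolve_right hn₁'
  have hβ₁ : β₁ = 0 := by
    have : β₁ * n₂ = 0 := by omega
    exact (mul_eq_zero.mp this).resolve_right hn₂'
  -- now n₁ • root d₁ = α₁ • root i
  have hrel2 : lc P (Finsupp.single d₁ (n₁ : ℤ) - Finsupp.single i α₁) = lc P 0 := by
    rw [lc_sub, lc_single, lc_single, natCast_zsmul, ← e₁, hβ₁]
    simp [lc]
  have hz' := coef_unique P hli
    (support_sub_subset (support_single_subset h1 _) (support_single_subset hi _)) (by simp) hrel2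
  have hz3 := DFunLike.congr_fun hz' d₁
  simp only [Finsupp.sub_apply, Finsupp.single_eq_same, Finsupp.zero_apply,
    Finsupp.single_eq_of_ne hi1] at hz3
  omega

end Groth.Agent.H8.RootD
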