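import Mathlib
import Groth.Prelude.Def_W4sga3xxiRoot
import Groth.Agent.Lib.helper8.RootD41

/-! RootD42: a simple system adapted to a pair of roots (S5464), main theorem. -/

set_option autoImplicit false

namespace Groth.Agent.H8.RootD

open RootPairing _root_.RootD Matrix

variable {ι M N : Type*} [AddCommGroup M] [AddCommGroup N] (P : RootPairing ι ℤ M N) [Finite ι]

theorem exists_simpleSys_pair {i k : ι} (hα : IsIndiv P i)
    (hli : LinearIndependent ℤ ![P.root i, P.root k]) :
    ∃ Δ : Set ι, IsSimpleSys P Δ ∧ i ∈ Δ ∧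
      ∃ j ∈ Δ, ∃ a b : ℕ, P.root k = a • P.root i + b • P.root j := by
  classical
  have : Fintype ι := Fintype.ofFinite ι
  have hM := torsionFree_M P
  have : Module.IsReflexive ℤ M := .of_isPerfPair P.toLinearMap
  have : Module.IsReflexive ℤ N := .of_isPerfPair P.flip.toLinearMap
  rw [LinearIndependent.pair_iff] at hli
  set R' := planeSet P i k with hR'
  obtain ⟨y, hy⟩ := exists_generic_orth P (planeSet_sat P i k)
  have hiR : i ∈ R' := ⟨1, one_pos, by
    rw [one_smul]; exact Submodule.subset_span (by simp)⟩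
  have hkR : k ∈ R' := ⟨1, one_pos, by
    rw [one_smul]; exact Submodule.subset_span (by simp)⟩
  set Li := P.RootForm (P.root i) (P.root i) with hLi
  have hLipos : 0 < Li := rootForm_root_pos P i
  set Bik := P.RootForm (P.root i) (P.root k) with hBik
  set y₂ : M := Li • P.root k - Bik • P.root i with hy₂
  have hb_i : P.RootForm (P.root i) y₂ = 0 := by
    rw [hy₂, map_sub, map_smul, map_smul, smul_eq_mul, smul_eq_mul]
    ring
  have hy₂ne : y₂ ≠ 0 := by
    intro h0
    have := hli (-Bik) Li (by rw [hy₂] at h0; rw [neg_smul, ← h0]; abel)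
    exact hLipos.ne' this.2
  have hy₂mem : y₂ ∈ Submodule.span ℤ (Set.range P.root) :=
    Submodule.sub_mem _ (Submodule.smul_mem _ _ (Submodule.subset_span (Set.mem_range_self _)))
      (Submodule.smul_mem _ _ (Submodule.subset_span (Set.mem_range_self _)))
  have hb_k : 0 < P.RootForm (P.root k) y₂ := by
    have hpos := P.rootForm_pos_of_ne_zero hy₂mem hy₂ne
    have hgen : ∀ z : M, P.RootForm y₂ z =
        Li * P.RootForm (P.root k) z - Bik * P.RootForm (P.root i) z := by
      intro z
      rw [hy₂, map_sub, LinearMap.sub_apply, map_smul, map_smul, LinearMap.smul_apply,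
        LinearMap.smul_apply, smul_eq_mul, smul_eq_mul]
    have : P.RootForm y₂ y₂ = Li * P.RootForm (P.root k) y₂ := by
      rw [hgen y₂, hb_i, mul_zero, sub_zero]
    rw [this] at hpos
    exact (mul_pos_iff_of_pos_left hLipos).mp hpos
  -- roots of R' with b = 0 are proportional to i
  have hprop : ∀ j ∈ R', P.RootForm (P.root j) y₂ = 0 →
      ∃ n : ℕ, 0 < n ∧ ∃ α : ℤ, α ≠ 0 ∧ α • P.root i = n • P.root j := by
    intro j hj hbj
    obtain ⟨n, hn, α, β, e⟩ := (planeSet_mem_iff P i k j).mp hj
    have h1 : P.RootForm (n • P.root j) y₂ = 0 := by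
      rw [map_nsmul, LinearMap.smul_apply, hbj, smul_zero]
    rw [← e, map_add, LinearMap.add_apply, map_smul, map_smul, LinearMap.smul_apply,
      LinearMap.smul_apply, hb_i, smul_zero, zero_add, smul_eq_mul] at h1
    have hβ : β = 0 := (mul_eq_zero.mp h1).resolve_right hb_k.ne'
    rw [hβ, zero_smul, add_zero] at e
    refine ⟨n, hn, α, ?_, e⟩
    rintro rfl
    rw [zero_smul] at e
    have := (smul_eq_zero.mp e.symm).resolve_left hn.ne'
    exact P.ne_zero j this
  set K₂ : ℤ := 1 + ∑ j : ι, |P.RootForm (P.root j) (P.root i)| with hK₂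
  have hK₂b : ∀ j : ι, |P.RootForm (P.root j) (P.root i)| < K₂ := by
    intro j
    have : |P.RootForm (P.root j) (P.root i)| ≤ ∑ j : ι, |P.RootForm (P.root j) (P.root i)| :=
      Finset.single_le_sum (f := fun j => |P.RootForm (P.root j) (P.root i)|)
        (fun i _ => abs_nonneg _) (Finset.mem_univ j)
    omega
  set w : M := K₂ • y₂ + P.root i with hw
  have hwj : ∀ j : ι, P.RootForm (P.root j) w =
      K₂ * P.RootForm (P.root j) y₂ + P.RootForm (P.root j) (P.root i) := by
    intro j
    rw [hw, map_add, map_smul, smul_eq_mul]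
  set K₁ : ℤ := 1 + ∑ j : ι, |P.RootForm (P.root j) w| with hK₁
  have hK₁b : ∀ j : ι, |P.RootForm (P.root j) w| < K₁ := by
    intro j
    have : |P.RootForm (P.root j) w| ≤ ∑ j : ι, |P.RootForm (P.root j) w| :=
      Finset.single_le_sum (f := fun j => |P.RootForm (P.root j) w|)
        (fun i _ => abs_nonneg _) (Finset.mem_univ j)
    omega
  set φ : M →+ ℤ := (P.RootForm.flip (K₁ • y + w)).toAddMonoidHom with hφdef
  have hφ : ∀ j : ι, φ (P.root j) = K₁ * P.RootForm (P.root j) y + P.RootForm (P.root j) w := by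
    intro j
    show P.RootForm (P.root j) (K₁ • y + w) = _
    rw [map_add, map_smul, smul_eq_mul]
  -- w-value nonzero on R'
  have hwne : ∀ j ∈ R', P.RootForm (P.root j) w ≠ 0 := by
    intro j hj
    rw [hwj]
    by_cases hbj : P.RootForm (P.root j) y₂ = 0
    · rw [hbj, mul_zero, zero_add]
      obtain ⟨n, hn, α, hα0, e⟩ := hprop j hj hbj
      intro h0
      have h1 : P.RootForm (n • P.root j) (P.root i) = 0 := by
        rw [map_nsmul, LinearMap.smul_apply, h0, smul_zero]
      rw [← e, map_smul, LinearMap.smul_apply, smul_eq_mul] at h1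
      rcases mul_eq_zero.mp h1 with h | h
      · exact hα0 h
      · exact hLipos.ne' h
    · exact lex_ne_zero (hK₂b j) hbj
  have hφne : ∀ j : ι, 0 < φ (P.root j) ∨ φ (P.root j) < 0 := by
    intro j
    have : φ (P.root j) ≠ 0 := by
      rw [hφ]
      by_cases ha : P.RootForm (P.root j) y = 0
      · rw [ha, mul_zero, zero_add]
        exact hwne j ((hy j).mp ha)
      · exact lex_ne_zero (hK₁b j) ha
    rcases lt_trichotomy (φ (P.root j)) 0 with h | h | h
    · exact Or.inr h
    · exact absurd h this
    · exact Or.inl h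
  have hS := isPosSys_of_hom P φ hφne
  set S : Set ι := {j : ι | 0 < φ (P.root j)} with hSdef
  have hΔ := indec_isSimpleSys P hS
  have hSeq : S = posOf P (indec P S) := (posSys_eq_posOf_iff P hΔ hS).mp (indec_subset P S)
  have hSa : ∀ j ∈ S, 0 ≤ P.RootForm (P.root j) y := by
    intro j hj
    have hj' : 0 < φ (P.root j) := hj
    rw [hφ] at hj'
    exact nonneg_of_lex_pos (hK₁b j) hj'
  have hSb : ∀ j ∈ S, j ∈ R' → 0 ≤ P.RootForm (P.root j) y₂ ∧ 0 < P.RootForm (P.root j) w := by
    intro j hj hjR
    have hj' : 0 < φ (P.root j) := hj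
    rw [hφ, (hy j).mpr hjR, mul_zero, zero_add] at hj'
    refine ⟨?_, hj'⟩
    rw [hwj] at hj'
    exact nonneg_of_lex_pos (hK₂b j) hj'
  -- (1) i ∈ Δ
  have hiS : i ∈ S := by
    show 0 < φ (P.root i)
    rw [hφ, (hy i).mpr hiR, mul_zero, zero_add, hwj, hb_i, mul_zero, zero_add]
    exact hLipos
  have hiΔ : i ∈ indec P S := by
    refine ⟨hiS, ?_⟩
    rintro ⟨p, hp, q, hq, hipq⟩
    have hap := hSa p hp
    have haq := hSa q hq
    have hai : P.RootForm (P.root i) y = 0 := (hy i).mpr hiR
    rw [hipq, map_add, LinearMap.add_apply] at hai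
    have hap0 : P.RootForm (P.root p) y = 0 := by omega
    have haq0 : P.RootForm (P.root q) y = 0 := by omega
    have hpR := (hy p).mp hap0
    have hqR := (hy q).mp haq0
    obtain ⟨hbp, hwp⟩ := hSb p hp hpR
    obtain ⟨hbq, hwq⟩ := hSb q hq hqR
    have hbi := hb_i
    rw [hipq, map_add, LinearMap.add_apply] at hbi
    have hbp0 : P.RootForm (P.root p) y₂ = 0 := by omega
    have hbq0 : P.RootForm (P.root q) y₂ = 0 := by omega
    rw [hwj, hbp0, mul_zero, zero_add] at hwp
    rw [hwj, hbq0, mul_zero, zero_add] at hwq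
    -- p, q proportional to i with positive pairing
    have hcase : ∀ r : ι, r ∈ R' → P.RootForm (P.root r) y₂ = 0 →
        0 < P.RootForm (P.root r) (P.root i) →
        P.root r = P.root i ∨ P.root r = (2 : ℤ) • P.root i := by
      intro r hrR hbr hcr
      obtain ⟨n, hn, α, hα0, e⟩ := hprop r hrR hbr
      have hnli : ¬ LinearIndependent ℤ ![P.root i, P.root r] := by
        rw [LinearIndependent.pair_iff]
        intro h
        have := h α (-(n : ℤ)) (by rw [e, neg_smul, natCast_zsmul]; abel)
        exact hα0 this.1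
      rcases prop_cases P hnli with h | h | h | h | h | h
      · exact Or.inl h
      · exfalso
        rw [h, map_neg, LinearMap.neg_apply] at hcr
        omega
      · exact Or.inr h
      · exfalso
        rw [h, map_neg, LinearMap.neg_apply, map_smul, LinearMap.smul_apply, smul_eq_mul] at hcr
        omega
      · exact absurd h (hα r)
      · exfalso
        have h2 : P.RootForm ((2 : ℤ) • P.root r) (P.root i) = -Li := by
          rw [h, map_neg, LinearMap.neg_apply]
        rw [map_smul, LinearMap.smul_apply, smul_eq_mul] at h2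
        omega
    have hne : P.root i ≠ 0 := P.ne_zero i
    have hm : ∃ m : ℤ, 2 ≤ m ∧ P.root i = m • P.root i := by
      rcases hcase p hpR hbp0 hwp with h1 | h1 <;> rcases hcase q hqR hbq0 hwq with h2 | h2
      · exact ⟨2, le_rfl, by nth_rw 1 [hipq]; rw [h1, h2, two_smul]⟩
      · exact ⟨3, by norm_num, by
          nth_rw 1 [hipq]; rw [h1, h2]
          have : (3 : ℤ) • P.root i = (1 : ℤ) • P.root i + (2 : ℤ) • P.root i := by
            rw [← add_smul]; norm_num
          rw [this, one_smul]⟩
      · exact ⟨3, by norm_num, by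
          nth_rw 1 [hipq]; rw [h1, h2]
          have : (3 : ℤ) • P.root i = (2 : ℤ) • P.root i + (1 : ℤ) • P.root i := by
            rw [← add_smul]; norm_num
          rw [this, one_smul]⟩
      · exact ⟨4, by norm_num, by
          nth_rw 1 [hipq]; rw [h1, h2, ← add_smul]; norm_num⟩
    obtain ⟨m, hm2, hmi⟩ := hm
    have h0 : (m - 1) • P.root i = 0 := by
      rw [sub_smul, one_smul, ← hmi, sub_self]
    rcases smul_eq_zero.mp h0 with h | h
    · omega
    · exact hne h
  -- (2) k ∈ S
  have hkS : k ∈ S := by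
    show 0 < φ (P.root k)
    rw [hφ, (hy k).mpr hkR, mul_zero, zero_add, hwj]
    have h1 := hK₂b k
    have h2 : -|P.RootForm (P.root k) (P.root i)| ≤ P.RootForm (P.root k) (P.root i) :=
      neg_abs_le _
    have hK₂pos : 0 < K₂ := lt_of_le_of_lt (abs_nonneg _) h1
    have h3 : K₂ ≤ K₂ * P.RootForm (P.root k) y₂ :=
      le_mul_of_one_le_right hK₂pos.le hb_k
    omega
  have hkpos : k ∈ posOf P (indec P S) := hSeq ▸ hkS
  obtain ⟨c, hc, -, hck⟩ := exists_coef P hΔ k
  have hc0 := (mem_posOf_iff P hΔ k hc hck).mp hkpos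
  -- support of c lies in R'
  have hsuppR : ∀ d ∈ c.support, d ∈ R' := by
    intro d hd
    rw [← hy d]
    have hsum : c.sum (fun d a => a * P.RootForm (P.root d) y) = 0 := by
      have : P.RootForm (lc P c) y = 0 := by rw [hck]; exact (hy k).mpr hkR
      rw [lc, Finsupp.linearCombination_apply, Finsupp.sum, map_sum, LinearMap.sum_apply]
        at this
      rw [Finsupp.sum, ← this]
      apply Finset.sum_congr rfl
      intro x _
      rw [map_smul, LinearMap.smul_apply, smul_eq_mul]
    rw [Finsupp.sum] at hsum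
    have hterm := (Finset.sum_eq_zero_iff_of_nonneg (fun x hx =>
      mul_nonneg (hc0 x) (hSa x (indec_subset P S (hc hx))))).mp hsum d hd
    rcases mul_eq_zero.mp hterm with h | h
    · exact absurd h (Finsupp.mem_support_iff.mp hd)
    · exact h
  -- find j
  by_cases hex : ∃ j ∈ c.support, j ≠ i
  · obtain ⟨j, hj, hji⟩ := hex
    have hsupp : ∀ d ∈ c.support, d = i ∨ d = j := by
      intro d hd
      by_contra hcon
      push Not at hcon
      exact planeSet_indep_false P hΔ.linInd hiΔ (hc hj) (hc hd) hji hcon.1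
        (Ne.symm hcon.2) (hsuppR j hj) (hsuppR d hd)
    have hceq : c = Finsupp.single i (c i) + Finsupp.single j (c j) := by
      ext x
      rw [Finsupp.add_apply]
      by_cases hxi : x = i
      · subst hxi
        rw [Finsupp.single_eq_same, Finsupp.single_eq_of_ne (Ne.symm hji), add_zero]
      · by_cases hxj : x = j
        · subst hxj
          rw [Finsupp.single_eq_same, Finsupp.single_eq_of_ne hxi, zero_add]
        · rw [Finsupp.single_eq_of_ne hxi, Finsupp.single_eq_of_ne hxj, add_zero]
          by_contra hx0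
          rcases hsupp x (Finsupp.mem_support_iff.mpr hx0) with h | h
          · exact hxi h
          · exact hxj h
    refine ⟨indec P S, hΔ, hiΔ, j, hc hj, (c i).toNat, (c j).toNat, ?_⟩
    rw [← hck]
    nth_rw 1 [hceq]
    rw [lc_add, lc_single, lc_single, ← natCast_zsmul, ← natCast_zsmul,
      Int.toNat_of_nonneg (hc0 i), Int.toNat_of_nonneg (hc0 j)]
  · exfalso
    push Not at hex
    have hceq : c = Finsupp.single i (c i) := by
      ext x
      by_cases hxi : x = i
      · subst hxi
        rw [Finsupp.single_eq_same]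
      · rw [Finsupp.single_eq_of_ne hxi]
        by_contra hx0
        exact hxi (hex x (Finsupp.mem_support_iff.mpr hx0))
    have : c i • P.root i + (-1 : ℤ) • P.root k = 0 := by
      rw [← hck]
      nth_rw 2 [hceq]
      rw [lc_single]
      simp
    have := hli _ _ this
    omega

end Groth.Agent.H8.RootD
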