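import Mathlib
import Groth.Prelude.Def_W4sga3xxiRoot
import Groth.Agent.Lib.helper8.RootD42

/-! RootD43: morphisms of root data between semisimple data are isogenies (S5474). -/

set_option autoImplicit false

namespace Groth.Agent.H8.RootD

open RootPairing _root_.RootD

variable {ι M N ι' M' N' : Type*} [AddCommGroup M] [AddCommGroup N] [AddCommGroup M']
  [AddCommGroup N'] {P : RootPairing ι ℤ M N} {P' : RootPairing ι' ℤ M' N'}

theorem hom_adj (f : RootPairing.Hom P' P) (m' : M') (n : N) :
    P.toLinearMap (f.weightMap m') n = P'.toLinearMap m' (f.coweightMap n) := by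
  have := Hom.weight_coweight_transpose_apply P' P n f
  have h2 := LinearMap.congr_fun this m'
  simpa using h2

theorem hom_pmor (f : RootPairing.Hom P' P) :
    PMor P P' f.weightMap f.coweightMap f.indexEquiv.symm (fun _ => 1) where
  adj := hom_adj f
  qpos := fun _ => one_pos
  root := fun i => by
    rw [Hom.root_weightMap_apply]
    simp
  coroot := fun i => by
    rw [Hom.coroot_coweightMap_apply]
    simp

theorem hom_injective_finite [Finite ι] [Finite ι']
    [Module.Finite ℤ M] [Module.Finite ℤ N] [Module.Finite ℤ M'] [Module.Finite ℤ N']
    (hss : Module.finrank ℤ (Submodule.span ℤ (Set.range P.root)) = Module.finrank ℤ M)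
    (hss' : Module.finrank ℤ (Submodule.span ℤ (Set.range P'.root)) = Module.finrank ℤ M')
    (f : RootPairing.Hom P' P) :
    Function.Injective f.weightMap ∧ Finite (M ⧸ LinearMap.range f.weightMap) := by
  have : Module.IsReflexive ℤ M := .of_isPerfPair P.toLinearMap
  have : Module.IsReflexive ℤ M' := .of_isPerfPair P'.toLinearMap
  have hM := torsionFree_M P
  have hM' := torsionFree_M P'
  have hpm := hom_pmor f
  -- root span of P inside the range
  have hle : Submodule.span ℤ (Set.range P.root) ≤ LinearMap.range f.weightMap := by
    apply Submodule.span_le.mpr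
    rintro _ ⟨i, rfl⟩
    exact ⟨P'.root (f.indexEquiv.symm i), by rw [Hom.root_weightMap_apply]; simp⟩
  have hrange : Module.finrank ℤ (LinearMap.range f.weightMap) = Module.finrank ℤ M := by
    apply le_antisymm (Submodule.finrank_le _)
    rw [← hss]
    exact Submodule.finrank_mono hle
  -- restricted map on root spans is injective
  have hmaps : ∀ x ∈ Submodule.span ℤ (Set.range P'.root),
      f.weightMap x ∈ Submodule.span ℤ (Set.range P.root) := by
    intro x hx
    induction hx using Submodule.span_induction with
    | mem x hx =>
      obtain ⟨i, rfl⟩ := hx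
      rw [Hom.root_weightMap_apply]
      exact Submodule.subset_span (Set.mem_range_self _)
    | zero => rw [map_zero]; exact Submodule.zero_mem _
    | add a b _ _ ha hb => rw [map_add]; exact Submodule.add_mem _ ha hb
    | smul c a _ ha => rw [map_smul]; exact Submodule.smul_mem _ _ ha
  let g : Submodule.span ℤ (Set.range P'.root) →ₗ[ℤ] Submodule.span ℤ (Set.range P.root) :=
    f.weightMap.restrict hmaps
  have hginj : Function.Injective g := by
    rw [injective_iff_map_eq_zero]
    intro x hx
    have h1 : f.weightMap (x : M') = 0 := by
      have := congrArg Subtype.val hx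
      simpa [g] using this
    exact Subtype.ext (hpm.f_injOn_span x.2 h1)
  have hrk : Module.finrank ℤ M' ≤ Module.finrank ℤ (LinearMap.range f.weightMap) := by
    rw [hrange, ← hss, ← hss']
    exact LinearMap.finrank_le_finrank_of_injective hginj
  constructor
  · have hdisj : Disjoint (⊤ : Submodule ℤ M') (LinearMap.ker f.weightMap) := by
      apply Submodule.disjoint_ker_of_finrank_le
      rw [finrank_top, Submodule.map_top]
      exact hrk
    rw [← LinearMap.ker_eq_bot]
    exact top_disjoint.mp hdisj
  · exact Submodule.finiteQuotientOfFreeOfRankEq _ hrange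

end Groth.Agent.H8.RootD
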