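import Mathlib
import Groth.Prelude.Def_W4sga3xxiRoot
import Groth.Agent.Lib.helper8.RootD43

/-! RootD44: the coradical lattice (weights killed by all coroots) and its rank. -/

set_option autoImplicit false

namespace Groth.Agent.H8.RootD

open RootPairing _root_.RootD Matrix

variable {ι M N : Type*} [AddCommGroup M] [AddCommGroup N] (P : RootPairing ι ℤ M N) [Finite ι]

theorem orthRoots_disjoint_rootSpan :
    Disjoint (⨅ i : ι, LinearMap.ker (P.coroot' i) : Submodule ℤ M)
      (Submodule.span ℤ (Set.range P.root)) := by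
  classical
  have : Fintype ι := Fintype.ofFinite ι
  have : Module.IsReflexive ℤ M := .of_isPerfPair P.toLinearMap
  have : Module.IsReflexive ℤ N := .of_isPerfPair P.flip.toLinearMap
  rw [Submodule.disjoint_def]
  intro x hxK hxL
  by_contra hx0
  have hpos := P.rootForm_pos_of_ne_zero hxL hx0
  rw [P.rootForm_apply_apply] at hpos
  have : ∑ i, P.coroot' i x * P.coroot' i x = 0 := by
    apply Finset.sum_eq_zero
    intro i _
    have := (Submodule.mem_iInf _).mp hxK i
    rw [LinearMap.mem_ker] at this
    rw [this, mul_zero]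
  rw [this] at hpos
  exact lt_irrefl _ hpos

theorem coroot'_eq_zero_of_rootForm_eq_zero [Fintype ι] {y : M} {k : ι}
    (h : P.RootForm (P.root k) y = 0) : P.coroot' k y = 0 := by
  classical
  have : Module.IsReflexive ℤ M := .of_isPerfPair P.toLinearMap
  have : Module.IsReflexive ℤ N := .of_isPerfPair P.flip.toLinearMap
  have h1 := P.rootForm_self_smul_coroot k
  have h2 := congrArg (P.toLinearMap y) h1
  rw [map_smul, map_nsmul, P.toLinearMap_apply_apply_Polarization, h, smul_zero,
    smul_eq_mul] at h2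
  have hne : P.RootForm (P.root k) (P.root k) ≠ 0 :=
    IsAnisotropic.rootForm_root_ne_zero (P := P) k
  rcases mul_eq_zero.mp h2 with h3 | h3
  · exact absurd h3 hne
  · exact h3

theorem exists_smul_mem_orthRoots_sup_rootSpan (x : M) :
    ∃ d : ℤ, d ≠ 0 ∧ d • x ∈
      ((⨅ i : ι, LinearMap.ker (P.coroot' i) : Submodule ℤ M) ⊔
        Submodule.span ℤ (Set.range P.root)) := by
  classical
  have : Fintype ι := Fintype.ofFinite ι
  obtain ⟨E, -, hEli, hEmax⟩ := exists_max_indep P (Set.univ : Set ι)
  refine ⟨(gram P E).det, gram_det_ne_zero P hEli, ?_⟩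
  have hy : perpVec P E x ∈ (⨅ i : ι, LinearMap.ker (P.coroot' i) : Submodule ℤ M) := by
    rw [Submodule.mem_iInf]
    intro k
    rw [LinearMap.mem_ker]
    apply coroot'_eq_zero_of_rootForm_eq_zero
    obtain ⟨n, hn, hnk⟩ := hEmax k (Set.mem_univ k)
    exact orth_of_smul_mem_span P (E := (↑E : Set ι))
      (fun e he => perpVec_orth P E x ⟨e, he⟩) hn hnk
  have hS : ∑ e : E, ((gram P E).adjugate *ᵥ (fun e' : E => P.RootForm (P.root (e' : ι)) x)) e •
      P.root (e : ι) ∈ Submodule.span ℤ (Set.range P.root) :=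
    Submodule.sum_mem _ fun e _ =>
      Submodule.smul_mem _ _ (Submodule.subset_span (Set.mem_range_self _))
  have : (gram P E).det • x = perpVec P E x +
      ∑ e : E, ((gram P E).adjugate *ᵥ (fun e' : E => P.RootForm (P.root (e' : ι)) x)) e •
        P.root (e : ι) := by
    rw [perpVec]; abel
  rw [this]
  exact Submodule.add_mem_sup hy hS

theorem finrank_orthRoots_add_finrank_rootSpan [Module.Finite ℤ M] :
    Module.finrank ℤ (⨅ i : ι, LinearMap.ker (P.coroot' i) : Submodule ℤ M) +
      Module.finrank ℤ (Submodule.span ℤ (Set.range P.root)) = Module.finrank ℤ M := by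
  classical
  have : Module.IsReflexive ℤ M := .of_isPerfPair P.toLinearMap
  set K : Submodule ℤ M := ⨅ i : ι, LinearMap.ker (P.coroot' i) with hK
  set L : Submodule ℤ M := Submodule.span ℤ (Set.range P.root) with hL
  have hsup : Module.finrank ℤ (K ⊔ L : Submodule ℤ M) = Module.finrank ℤ M := by
    refine le_antisymm (Submodule.finrank_le _) ?_
    by_contra hlt
    push Not at hlt
    obtain ⟨m, hm⟩ := Submodule.exists_of_finrank_lt _ hlt
    obtain ⟨d, hd, hdm⟩ := exists_smul_mem_orthRoots_sup_rootSpan P m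
    exact hm d hd hdm
  have hinf : Module.finrank ℤ (K ⊓ L : Submodule ℤ M) = 0 := by
    rw [(orthRoots_disjoint_rootSpan P).eq_bot]
    simp
  have h := Submodule.rank_sup_add_rank_inf_eq K L
  rw [← Submodule.finrank_eq_rank, ← Submodule.finrank_eq_rank, ← Submodule.finrank_eq_rank,
    ← Submodule.finrank_eq_rank] at h
  have h' : Module.finrank ℤ (K ⊔ L : Submodule ℤ M) + Module.finrank ℤ (K ⊓ L : Submodule ℤ M) =
      Module.finrank ℤ K + Module.finrank ℤ L := by exact_mod_cast h
  rw [hsup, hinf, add_zero] at h'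
  exact h'.symm

end Groth.Agent.H8.RootD
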