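import Mathlib
import Groth.Prelude.Def_W4sga3xxiRoot
import Groth.Agent.Lib.helper8.RootD44

/-! RootD45: bridge from Mathlib's `RootPairing.Base` to `IsSimpleSys`, positivity. -/

set_option autoImplicit false

namespace Groth.Agent.H8.RootD

open RootPairing _root_.RootD

variable {ι M N : Type*} [AddCommGroup M] [AddCommGroup N] (P : RootPairing ι ℤ M N)

theorem base_isSimpleSys (b : P.Base) : IsSimpleSys P (↑b.support : Set ι) :=
  ⟨b.linearIndepOn_root, b.root_mem_or_neg_mem⟩

theorem lc_eq_sum_support (b : P.Base) {c : ι →₀ ℤ} (hc : ↑c.support ⊆ (↑b.support : Set ι)) :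
    lc P c = ∑ j ∈ b.support, c j • P.root j := by
  classical
  rw [lc, Finsupp.linearCombination_apply, Finsupp.sum]
  apply Finset.sum_subset (fun j hj => by exact_mod_cast hc hj)
  intro j _ hj
  rw [Finsupp.notMem_support_iff.mp hj, zero_smul]

theorem base_height_pos_of_mem (b : P.Base) {i : ι}
    (h : P.root i ∈ natSpan P (↑b.support : Set ι)) : 0 < b.height i := by
  obtain ⟨c, hc, hc0, hci⟩ := natSpan_exists_coef P h
  rw [lc_eq_sum_support P b hc] at hci
  have h1 := RootPairing.Base.height_eq_sum (b := b) hci.symm
  have h2 : 0 ≤ b.height i := by rw [h1]; exact Finset.sum_nonneg fun j _ => hc0 j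
  have h3 := b.height_ne_zero i
  omega

theorem base_isPos_iff (b : P.Base) (i : ι) :
    b.IsPos i ↔ i ∈ posOf P (↑b.support : Set ι) := by
  constructor
  · intro hi
    rcases b.root_mem_or_neg_mem i with h | h
    · exact h
    · exfalso
      have h' : P.root (P.reflectionPerm i i) ∈ natSpan P (↑b.support : Set ι) := by
        rw [P.root_reflectionPerm, P.reflection_apply_self]; exact h
      have h1 := base_height_pos_of_mem P b h'
      have h2 := b.height_reflectionPerm_self i
      have h3 : b.height (P.reflectionPerm i i) = - b.height i := h2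
      rw [RootPairing.Base.isPos_iff] at hi
      omega
  · intro hi
    exact base_height_pos_of_mem P b hi

/-- a dominant weight pairs non-negatively with every positive coroot -/
theorem base_dominant_nonneg [Finite ι] (b : P.Base) {ω : M}
    (hω : ∀ j ∈ b.support, 0 ≤ P.toLinearMap ω (P.coroot j)) {k : ι} (hk : b.IsPos k) :
    0 ≤ P.toLinearMap ω (P.coroot k) := by
  classical
  have : Fintype ι := Fintype.ofFinite ι
  have hk' : P.root k ∈ natSpan P (↑b.support : Set ι) := (base_isPos_iff P b k).mp hk
  obtain ⟨c, hc, hc0, hck⟩ := natSpan_exists_coef P hk'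
  have key := length_smul_coroot_eq P hck
  have h1 := congrArg (P.toLinearMap ω) key
  rw [map_smul, smul_eq_mul, Finsupp.sum, map_sum] at h1
  have h2 : 0 ≤ ∑ i ∈ c.support, P.toLinearMap ω
      ((c i * P.RootForm (P.root i) (P.root i)) • P.coroot i) := by
    apply Finset.sum_nonneg
    intro i hi
    rw [map_smul, smul_eq_mul]
    exact mul_nonneg (mul_nonneg (hc0 i) (rootForm_root_pos P i).le)
      (hω i (by exact_mod_cast hc hi))
  rw [← h1] at h2
  exact nonneg_of_mul_nonneg_right h2 (rootForm_root_pos P k)

end Groth.Agent.H8.RootD
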