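import Mathlib
import Groth.Prelude.Def_W4sga3xxiRoot
import Groth.Agent.Lib.helper8.RootD45

/-! RootD46: a total group order on the root lattice refining the height. -/

set_option autoImplicit false

namespace Groth.Agent.H8.RootD

open RootPairing _root_.RootD

variable {ι M N : Type*} [AddCommGroup M] [AddCommGroup N] (P : RootPairing ι ℤ M N)

theorem exists_positiveCone [Finite ι] (b : P.Base) :
    ∃ C : Set ↥(Submodule.span ℤ (Set.range P.root)),
      0 ∉ C ∧ (∀ x ∈ C, ∀ y ∈ C, x + y ∈ C) ∧ (∀ x, x ≠ 0 → (x ∈ C ∨ -x ∈ C)) ∧ (∀ x ∈ C, -x ∉ C) ∧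
      (∀ i : ι, (⟨P.root i, Submodule.subset_span (Set.mem_range_self i)⟩ : ↥(Submodule.span ℤ (Set.range P.root))) ∈ C ↔
        b.IsPos i) ∧
      ∀ φ : ↥(Submodule.span ℤ (Set.range P.root)) →+ ℤ,
        (∀ j ∈ b.support, φ ⟨P.root j, Submodule.subset_span (Set.mem_range_self j)⟩ = 1) →
        ∀ x y : ↥(Submodule.span ℤ (Set.range P.root)), y - x ∈ C → φ x ≤ φ y := by
  classical
  let Γ := ↥(Submodule.span ℤ (Set.range P.root))
  let B : Module.Basis b.support ℤ Γ := b.toWeightBasisInt
  have hB : ∀ s : b.support, B s = ⟨P.root s, Submodule.subset_span (Set.mem_range_self _)⟩ := by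
    intro s
    apply Subtype.ext
    exact b.coe_toWeightBasisInt_apply s
  let n := Fintype.card b.support
  let e : b.support ≃ Fin n := Fintype.equivFin _
  let ht : Γ →ₗ[ℤ] ℤ := ∑ s : b.support, B.coord s
  let crd : Γ →ₗ[ℤ] (Fin n → ℤ) :=
    (B.equivFun.trans (LinearEquiv.funCongrLeft ℤ ℤ e.symm)).toLinearMap
  have hcrd_inj : Function.Injective crd :=
    (B.equivFun.trans (LinearEquiv.funCongrLeft ℤ ℤ e.symm)).injective
  let key : Γ → ℤ ×ₗ Lex (Fin n → ℤ) := fun x => toLex (ht x, toLex (crd x))
  have key_add : ∀ x y, key (x + y) = key x + key y := by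
    intro x y
    simp only [key, map_add]
    rfl
  have key_zero : key 0 = 0 := by
    simp only [key, map_zero]
    rfl
  have key_neg : ∀ x, key (-x) = - key x := by
    intro x
    have := key_add x (-x)
    rw [add_neg_cancel, key_zero] at this
    exact eq_neg_of_add_eq_zero_right this.symm
  have key_inj : ∀ x, key x = 0 → x = 0 := by
    intro x hx
    have h2 : crd x = 0 := by
      have := congrArg (fun z => ofLex (ofLex z).2) hx
      exact this
    exact hcrd_inj (h2.trans (map_zero crd).symm)
  have key_pos_ht : ∀ x, 0 < key x → 0 ≤ ht x := by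
    intro x hx
    have := (Prod.Lex.le_iff (x := (0 : ℤ ×ₗ Lex (Fin n → ℤ))) (y := key x)).mp hx.le
    rcases this with h | h
    · exact h.le
    · exact h.1.le
  have ht_pos_key : ∀ x, 0 < ht x → 0 < key x := by
    intro x hx
    exact (Prod.Lex.lt_iff (x := (0 : ℤ ×ₗ Lex (Fin n → ℤ))) (y := key x)).mpr (Or.inl hx)
  -- height of a root
  have ht_root : ∀ i : ι, ht ⟨P.root i, Submodule.subset_span (Set.mem_range_self i)⟩ =
      b.height i := by
    intro i
    obtain ⟨f, -, -, hf⟩ := b.exists_root_eq_sum_int i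
    rw [RootPairing.Base.height_eq_sum hf]
    have hx : (⟨P.root i, Submodule.subset_span (Set.mem_range_self i)⟩ : Γ) =
        ∑ s : b.support, f s • B s := by
      apply Subtype.ext
      rw [Submodule.coe_sum]
      simp only [hB]
      rw [hf, ← Finset.sum_coe_sort b.support (fun j => f j • P.root j)]
      rfl
    rw [hx, map_sum]
    rw [← Finset.sum_coe_sort b.support f]
    apply Finset.sum_congr rfl
    intro s _
    simp only [ht, map_smul, LinearMap.coe_sum, Finset.sum_apply, Module.Basis.coord_apply,
      Module.Basis.repr_self, smul_eq_mul]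
    rw [Finset.sum_eq_single s]
    · simp
    · intro t _ hts
      simp [Finsupp.single_eq_of_ne hts]
    · simp
  refine ⟨{x | 0 < key x}, ?_, ?_, ?_, ?_, ?_, ?_⟩
  · simp only [Set.mem_ofPred_eq, key_zero, lt_self_iff_false, not_false_eq_true]
  · intro x hx y hy
    simp only [Set.mem_ofPred_eq] at hx hy ⊢
    rw [key_add]
    exact add_pos hx hy
  · intro x hx
    simp only [Set.mem_ofPred_eq]
    rcases lt_trichotomy (key x) 0 with h | h | h
    · right
      rw [key_neg]
      exact neg_pos.mpr h
    · exact absurd (key_inj x h) hx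
    · exact Or.inl h
  · intro x hx
    simp only [Set.mem_ofPred_eq] at hx ⊢
    rw [key_neg]
    exact not_lt.mpr (neg_nonpos.mpr hx.le)
  · intro i
    simp only [Set.mem_ofPred_eq]
    constructor
    · intro h
      have h1 := key_pos_ht _ h
      rw [ht_root] at h1
      exact (RootPairing.Base.isPos_iff' b).mpr h1
    · intro h
      apply ht_pos_key
      rw [ht_root]
      exact h
  · intro φ hφ x y hxy
    simp only [Set.mem_ofPred_eq] at hxy
    have h1 := key_pos_ht _ hxy
    have hφht : ∀ z : Γ, φ z = ht z := by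
      intro z
      have hz := B.sum_repr z
      rw [← hz, map_sum, map_sum]
      apply Finset.sum_congr rfl
      intro s _
      rw [map_zsmul, map_smul, hB, hφ s s.2, ht_root, RootPairing.Base.height_one_of_mem_support s.2]
    rw [← sub_nonneg, ← map_sub, hφht]
    exact h1

end Groth.Agent.H8.RootD
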