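import Mathlib
import Groth.Prelude.Def_W4sga3xxiRoot
import Groth.Agent.Lib.helper8.RootD46

/-! RootD47: existence of a `RootPairing.Base` for a finite reduced root pairing over `ℤ`. -/

set_option autoImplicit false

namespace Groth.Agent.H8.RootD

open RootPairing _root_.RootD

variable {ι M N : Type*} [AddCommGroup M] [AddCommGroup N] (P : RootPairing ι ℤ M N) [Finite ι]

theorem dual_set_eq_of_reduced [P.IsReduced] (Δ : Set ι) :
    {j : ι | ∃ i ∈ Δ, (j = i ∧ IsIndiv P.flip i) ∨ (2 : ℤ) • P.coroot j = P.coroot i} = Δ := by
  have : Module.IsReflexive ℤ N := .of_isPerfPair P.flip.toLinearMap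
  have : Module.IsReflexive ℤ M := .of_isPerfPair P.toLinearMap
  have hred : P.flip.IsReduced := inferInstance
  ext j
  constructor
  · rintro ⟨i, hi, h | h⟩
    · exact h.1 ▸ hi
    · exact absurd h (isIndiv_of_reduced P.flip i j)
  · intro hj
    exact ⟨j, hj, Or.inl ⟨rfl, isIndiv_of_reduced P.flip j⟩⟩

theorem exists_base_of_simpleSys [P.IsReduced] {Δ : Set ι} (hΔ : IsSimpleSys P Δ) :
    ∃ b : P.Base, (b.support : Set ι) = Δ := by
  classical
  have hdual := dual_isSimpleSys P hΔ
  rw [dual_set_eq_of_reduced] at hdual
  have hfin : Δ.Finite := Set.toFinite Δ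
  refine ⟨{ support := hfin.toFinset
            linearIndepOn_root := by simpa using hΔ.linInd
            linearIndepOn_coroot := by simpa using hdual.linInd
            root_mem_or_neg_mem := by
              intro i
              rw [Set.Finite.coe_toFinset]
              exact hΔ.mem_or_neg_mem i
            coroot_mem_or_neg_mem := by
              intro i
              rw [Set.Finite.coe_toFinset]
              exact hdual.mem_or_neg_mem i }, by simp⟩

theorem nonempty_base [P.IsReduced] : Nonempty P.Base := by
  obtain ⟨Δ, hΔ⟩ := exists_simpleSys P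
  obtain ⟨b, -⟩ := exists_base_of_simpleSys P hΔ
  exact ⟨b⟩

end Groth.Agent.H8.RootD
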