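import Mathlib
import Groth.Agent.Lib.helper8.RootAdj1
import Groth.Agent.Lib.helper8.RootD47

/-! RootAdj2 (helper8): presentation of the coroot lattice by reflection relations. -/

set_option autoImplicit false
set_option linter.unusedSectionVars false

namespace Groth.Agent.H8.RootAdj

open RootPairing Module

variable {ι R M N : Type*} [CommRing R] [IsDomain R] [CharZero R] [AddCommGroup M] [Module R M]
  [AddCommGroup N] [Module R N] (P : RootPairing ι R M N) [Finite ι] [P.IsCrystallographic]

/-- the reflection relation attached to a pair of roots -/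
noncomputable def relGen (p : ι × ι) : ι →₀ ℤ :=
  Finsupp.single (P.reflectionPerm p.1 p.2) (1 : ℤ) - Finsupp.single p.2 1 +
    P.pairingIn ℤ p.1 p.2 • Finsupp.single p.1 1

theorem lc_relGen (p : ι × ι) :
    Finsupp.linearCombination ℤ (fun i : ι => (P.coroot i : N)) (relGen P p) = 0 := by
  rw [relGen, map_add, map_sub, map_smul, Finsupp.linearCombination_single,
    Finsupp.linearCombination_single, Finsupp.linearCombination_single, one_smul, one_smul,
    one_smul]
  have h := P.reflectionPerm_coroot p.1 p.2
  rw [← h]
  have h2 : (P.pairingIn ℤ p.1 p.2 : ℤ) • P.coroot p.1 =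
      (P.toLinearMap (P.root p.1) (P.coroot p.2)) • P.coroot p.1 := by
    rw [← algebraMap_smul R (P.pairingIn ℤ p.1 p.2) (P.coroot p.1), P.algebraMap_pairingIn ℤ]
    rfl
  rw [h2]
  abel

theorem lc_adj_apply (l : ι →₀ ℤ) (x : P.rootSpan ℤ) :
    algebraMap ℤ R ((Finsupp.linearCombination ℤ (fun i : ι => (adjZ P).coroot i) l) x) =
      P.toLinearMap (x : M) (Finsupp.linearCombination ℤ (fun i : ι => (P.coroot i : N)) l) := by
  induction l using Finsupp.induction_linear with
  | zero => simp
  | add f g hf hg =>
    rw [map_add, map_add, LinearMap.add_apply, map_add, hf, hg, map_add]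
  | single i a =>
    rw [Finsupp.linearCombination_single, Finsupp.linearCombination_single, LinearMap.smul_apply,
      adjZ_coroot, smul_eq_mul, map_mul, algebraMap_coroot'In_apply, map_zsmul, zsmul_eq_mul]
    rfl

theorem linearIndepOn_coroot_of_adj {s : Set ι}
    (h : LinearIndepOn ℤ (fun i : ι => (adjZ P).coroot i) s) :
    LinearIndepOn ℤ (fun i : ι => (P.coroot i : N)) s := by
  rw [linearIndepOn_iff] at h ⊢
  intro l hl hl0
  apply h l hl
  apply LinearMap.ext
  intro x
  apply FaithfulSMul.algebraMap_injective ℤ R
  rw [lc_adj_apply, hl0, map_zero, LinearMap.zero_apply, map_zero]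

theorem ker_lc_coroot [P.IsReduced] :
    LinearMap.ker (Finsupp.linearCombination ℤ (fun i : ι => (P.coroot i : N))) =
      Submodule.span ℤ (Set.range (relGen P)) := by
  classical
  obtain ⟨b⟩ := Groth.Agent.H8.RootD.nonempty_base (adjZ P)
  apply le_antisymm
  · -- every generator is a combination of simple generators modulo relations
    set T : Submodule ℤ (ι →₀ ℤ) :=
      Finsupp.supported ℤ ℤ (b.support : Set ι) ⊔ Submodule.span ℤ (Set.range (relGen P)) with hT
    have hrel : ∀ p, relGen P p ∈ T := fun p =>
      Submodule.mem_sup_right (Submodule.subset_span (Set.mem_range_self p))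
    have hgen : ∀ i : ι, Finsupp.single i (1 : ℤ) ∈ T := by
      intro i
      refine b.induction_reflect i (p := fun i => Finsupp.single i (1 : ℤ) ∈ T) ?_ ?_ ?_
      · intro i hi
        have h1 := hrel (i, i)
        have h2 : Finsupp.single ((adjZ P).reflectionPerm i i) (1 : ℤ) =
            relGen P (i, i) + Finsupp.single i 1 - P.pairingIn ℤ i i • Finsupp.single i 1 := by
          rw [relGen]; simp only [adjZ_reflectionPerm]; abel
        rw [h2]
        exact Submodule.sub_mem _ (Submodule.add_mem _ h1 hi) (Submodule.smul_mem _ _ hi)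
      · intro i hi
        exact Submodule.mem_sup_left (Finsupp.single_mem_supported ℤ 1 hi)
      · intro i j hi hj
        have h1 := hrel (j, i)
        have hj' : Finsupp.single j (1 : ℤ) ∈ T :=
          Submodule.mem_sup_left (Finsupp.single_mem_supported ℤ 1 hj)
        have h2 : Finsupp.single ((adjZ P).reflectionPerm j i) (1 : ℤ) =
            relGen P (j, i) + Finsupp.single i 1 - P.pairingIn ℤ j i • Finsupp.single j 1 := by
          rw [relGen]; simp only [adjZ_reflectionPerm]; abel
        rw [h2]
        exact Submodule.sub_mem _ (Submodule.add_mem _ h1 hi) (Submodule.smul_mem _ _ hj')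
    have hTtop : T = ⊤ := by
      rw [eq_top_iff]
      intro x _
      rw [← x.sum_single]
      apply Submodule.sum_mem
      intro i _
      have : Finsupp.single i (x i) = x i • Finsupp.single i (1 : ℤ) := by
        rw [Finsupp.smul_single, smul_eq_mul, mul_one]
      rw [this]
      exact Submodule.smul_mem _ _ (hgen i)
    have hrel0 : ∀ r ∈ Submodule.span ℤ (Set.range (relGen P)),
        Finsupp.linearCombination ℤ (fun i : ι => (P.coroot i : N)) r = 0 := by
      intro r hr
      induction hr using Submodule.span_induction with
      | mem y hy =>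
        obtain ⟨p, rfl⟩ := hy
        exact lc_relGen P p
      | zero => simp
      | add u v _ _ hu hv => rw [map_add, hu, hv, add_zero]
      | smul c u _ hu => rw [map_smul, hu, smul_zero]
    intro x hx
    have hxT : x ∈ T := by rw [hTtop]; trivial
    obtain ⟨a, ha, r, hr, rfl⟩ := Submodule.mem_sup.mp hxT
    have hr0 := hrel0 r hr
    rw [LinearMap.mem_ker, map_add, hr0, add_zero] at hx
    have hli := linearIndepOn_coroot_of_adj P b.linearIndepOn_coroot
    have ha0 := (linearIndepOn_iff.mp hli) a ha hx
    rw [ha0, zero_add]
    exact hr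
  · rw [Submodule.span_le]
    rintro _ ⟨p, rfl⟩
    exact lc_relGen P p

end Groth.Agent.H8.RootAdj
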