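import Mathlib
import Groth.Agent.Lib.helper8.RootAdj2

/-! RootAdj3 (helper8): the canonical morphism from the adjoint datum (over `ℤ`). -/

set_option autoImplicit false
set_option linter.unusedSectionVars false

namespace Groth.Agent.H8.RootAdj

open RootPairing Module

variable {ι M N : Type*} [AddCommGroup M] [AddCommGroup N] (P : RootPairing ι ℤ M N) [Finite ι]

/-- the inclusion of the root lattice as a morphism of root data -/
noncomputable def adjHom : RootPairing.Hom (adjZ P) P where
  weightMap := (P.rootSpan ℤ).subtype
  coweightMap := (P.rootSpan ℤ).subtype.dualMap ∘ₗ P.toLinearMap.flip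
  indexEquiv := Equiv.refl ι
  weight_coweight_transpose := by
    apply LinearMap.ext
    intro n
    apply LinearMap.ext
    intro x
    rfl
  root_weightMap := by
    funext i
    rfl
  coroot_coweightMap := by
    funext i
    apply LinearMap.ext
    intro x
    show P.toLinearMap (x : M) (P.coroot i) = P.coroot'In ℤ i x
    have := P.algebraMap_coroot'In_apply ℤ i x
    simp only [algebraMap_int_eq, eq_intCast, Int.cast_id] at this
    rw [this]
    rfl

theorem adjHom_weightMap : (adjHom P).weightMap = (P.rootSpan ℤ).subtype := rfl

theorem adjoint_iff_isogeny_bijective {ι : Type*} {M : Type*} {N : Type*}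
    [AddCommGroup M] [AddCommGroup N]
    (P : RootPairing ι ℤ M N) [Finite ι] [Module.Finite ℤ M] [Module.Finite ℤ N]
    (hss : Module.finrank ℤ (Submodule.span ℤ (Set.range P.root)) = Module.finrank ℤ M) :
    (Submodule.span ℤ (Set.range P.root) = ⊤ →
      ∀ (ι' : Type*) (M' N' : Type*) [AddCommGroup M'] [AddCommGroup N']
        (P' : RootPairing ι' ℤ M' N') (f : RootPairing.Hom P' P),
        Function.Injective f.weightMap → Function.Bijective f.weightMap) ∧
    (Function.Bijective (adjHom P).weightMap → Submodule.span ℤ (Set.range P.root) = ⊤) ∧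
    Function.Injective (adjHom P).weightMap ∧
    Finite (M ⧸ LinearMap.range (adjHom P).weightMap) := by
  have : Module.IsReflexive ℤ M := .of_isPerfPair P.toLinearMap
  refine ⟨?_, ?_, ?_, ?_⟩
  · intro htop ι' M' N' _ _ P' f hinj
    refine ⟨hinj, ?_⟩
    rw [← LinearMap.range_eq_top, eq_top_iff, ← htop, Submodule.span_le]
    rintro _ ⟨i, rfl⟩
    refine ⟨P'.root (f.indexEquiv.symm i), ?_⟩
    rw [Hom.root_weightMap_apply, Equiv.apply_symm_apply]
  · intro hbij
    have := LinearMap.range_eq_top.mpr hbij.2
    rw [adjHom_weightMap, Submodule.range_subtype] at this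
    exact this
  · rw [adjHom_weightMap]
    exact Submodule.injective_subtype _
  · rw [adjHom_weightMap, Submodule.range_subtype]
    exact Submodule.finiteQuotientOfFreeOfRankEq _ hss

end Groth.Agent.H8.RootAdj
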