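import Mathlib
import Groth.Agent.Lib.helper8.RootD

/-! RootB1 (helper8): Weyl group and a base of a reduced crystallographic root pairing over a
general char-zero domain (Mathlib's `RootPairing.Base`): simple reflections generate, words. -/

set_option autoImplicit false
set_option linter.unusedSectionVars false

namespace Groth.Agent.H8.RootB

open RootPairing Groth.Agent.H8.RootD

variable {ι R M N : Type*} [CommRing R] [AddCommGroup M] [Module R M] [AddCommGroup N] [Module R N]
  (P : RootPairing ι R M N)

/-- subgroup generated by the simple reflections -/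
noncomputable def WB (b : P.Base) : Subgroup P.Aut :=
  Subgroup.closure ((fun i : ι => Equiv.reflection P i) '' (b.support : Set ι))

theorem root_neg_idx (i : ι) : P.root (P.reflectionPerm i i) = - P.root i := by
  rw [P.root_reflectionPerm, P.reflection_apply_self]

theorem smul_idx_neg (g : P.Aut) (i : ι) :
    g • P.reflectionPerm i i = P.reflectionPerm (g • i) (g • i) := by
  apply P.root.injective
  rw [← aut_smul_root, root_neg_idx, root_neg_idx, smul_neg, aut_smul_root]

theorem refl_mul_self (i : ι) : Equiv.reflection P i * Equiv.reflection P i = 1 := by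
  calc Equiv.reflection P i * Equiv.reflection P i
      = (Equiv.reflection P i)⁻¹ * Equiv.reflection P i := by rw [Equiv.reflection_inv]
    _ = 1 := inv_mul_cancel _

theorem simple_mem_WB (b : P.Base) {j : ι} (hj : j ∈ b.support) :
    Equiv.reflection P j ∈ WB P b :=
  Subgroup.subset_closure ⟨j, hj, rfl⟩

theorem WB_le_weylGroup (b : P.Base) : WB P b ≤ P.weylGroup := by
  apply Subgroup.closure_mono
  rintro _ ⟨i, -, rfl⟩
  exact Set.mem_range_self i

/-- the product of the reflections of a word -/
noncomputable def wd (l : List ι) : P.Aut := (l.map fun a => Equiv.reflection P a).prod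

@[simp] theorem wd_nil : wd P [] = 1 := by simp [wd]

@[simp] theorem wd_cons (a : ι) (l : List ι) : wd P (a :: l) = Equiv.reflection P a * wd P l := by
  simp [wd]

@[simp] theorem wd_append (l l' : List ι) : wd P (l ++ l') = wd P l * wd P l' := by
  simp [wd]

theorem wd_mem_WB (b : P.Base) {l : List ι} (hl : ∀ a ∈ l, a ∈ b.support) : wd P l ∈ WB P b := by
  induction l with
  | nil => simp
  | cons a l ih =>
    rw [wd_cons]
    exact Subgroup.mul_mem _ (simple_mem_WB P b (hl a (by simp)))
      (ih (fun c hc => hl c (by simp [hc])))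

theorem wd_reverse (l : List ι) : wd P l.reverse = (wd P l)⁻¹ := by
  induction l with
  | nil => simp
  | cons a l ih =>
    rw [List.reverse_cons, wd_append, ih, wd_cons, wd_nil, mul_one, wd_cons, mul_inv_rev,
      Equiv.reflection_inv]

theorem exists_word_of_mem_WB (b : P.Base) {g : P.Aut} (hg : g ∈ WB P b) :
    ∃ l : List ι, (∀ a ∈ l, a ∈ b.support) ∧ wd P l = g := by
  induction hg using Subgroup.closure_induction with
  | mem x hx =>
    obtain ⟨i, hi, rfl⟩ := hx
    exact ⟨[i], by simpa using hi, by simp⟩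
  | one => exact ⟨[], by simp, by simp⟩
  | mul x y _ _ hx hy =>
    obtain ⟨l, hl, rfl⟩ := hx
    obtain ⟨l', hl', rfl⟩ := hy
    refine ⟨l ++ l', ?_, by simp⟩
    intro a ha
    rcases List.mem_append.mp ha with h | h
    exacts [hl a h, hl' a h]
  | inv x _ hx =>
    obtain ⟨l, hl, rfl⟩ := hx
    exact ⟨l.reverse, fun a ha => hl a (List.mem_reverse.mp ha), wd_reverse P l⟩

variable [CharZero R] [IsDomain R] [Finite ι] [P.IsCrystallographic] [P.IsReduced]

/-- every root is conjugate to a simple root under the group generated by simple reflections -/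
theorem exists_conj_simple (b : P.Base) (i : ι) :
    ∃ g : P.Aut, g ∈ WB P b ∧ ∃ j ∈ b.support, g • j = i := by
  refine b.induction_reflect i (p := fun i => ∃ g : P.Aut, g ∈ WB P b ∧ ∃ j ∈ b.support, g • j = i)
    ?_ ?_ ?_
  · rintro i ⟨g, hg, j, hj, rfl⟩
    refine ⟨g * Equiv.reflection P j, Subgroup.mul_mem _ hg (simple_mem_WB P b hj), j, hj, ?_⟩
    rw [mul_smul, reflection_smul_idx, smul_idx_neg]
  · intro i hi
    exact ⟨1, Subgroup.one_mem _, i, hi, one_smul _ _⟩
  · rintro i k ⟨g, hg, j, hj, rfl⟩ hk
    refine ⟨Equiv.reflection P k * g, Subgroup.mul_mem _ (simple_mem_WB P b hk) hg, j, hj, ?_⟩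
    rw [mul_smul, reflection_smul_idx]

theorem reflection_mem_WB (b : P.Base) (i : ι) : Equiv.reflection P i ∈ WB P b := by
  obtain ⟨g, hg, j, hj, rfl⟩ := exists_conj_simple P b i
  rw [← aut_conj_reflection]
  exact Subgroup.mul_mem _ (Subgroup.mul_mem _ hg (simple_mem_WB P b hj)) (Subgroup.inv_mem _ hg)

theorem WB_eq_weylGroup (b : P.Base) : WB P b = P.weylGroup := by
  apply le_antisymm (WB_le_weylGroup P b)
  rw [weylGroup, Subgroup.closure_le]
  rintro _ ⟨i, rfl⟩
  exact reflection_mem_WB P b i

/-- splitting a word at the place where the root `w(q) β` changes sign -/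
theorem exists_split (b : P.Base) (β : ι) (hβ : b.IsPos β) :
    ∀ l₀ : List ι, ¬ b.IsPos (wd P l₀ • β) →
      ∃ (p : List ι) (a : ι) (q : List ι), l₀ = p ++ a :: q ∧ b.IsPos (wd P q • β) ∧
        ¬ b.IsPos (Equiv.reflection P a • (wd P q • β)) := by
  intro l₀
  induction l₀ with
  | nil =>
    intro h
    rw [wd_nil, one_smul] at h
    exact absurd hβ h
  | cons a q ih =>
    intro h
    by_cases hq : b.IsPos (wd P q • β)
    · refine ⟨[], a, q, rfl, hq, ?_⟩
      rw [wd_cons, mul_smul] at h
      exact h
    · obtain ⟨p', a', q', hq', h1, h2⟩ := ih hq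
      exact ⟨a :: p', a', q', by rw [hq']; rfl, h1, h2⟩

theorem isPos_neg_iff (b : P.Base) (i : ι) : b.IsPos (P.reflectionPerm i i) ↔ ¬ b.IsPos i :=
  RootPairing.Base.IsPos.neg_iff_not b i

/-- the last letter of a minimal word is sent to a negative root -/
theorem neg_root_last_of_minimal_word (b : P.Base)
    (l : List ι) (hl : ∀ a ∈ l, a ∈ b.support) (hne : l ≠ [])
    (hmin : ∀ l' : List ι, (∀ a ∈ l', a ∈ b.support) → wd P l' = wd P l → l.length ≤ l'.length) :
    ¬ b.IsPos (wd P l • l.getLast hne) := by
  obtain ⟨l₀, β, rfl⟩ : ∃ l₀ β, l = l₀ ++ [β] :=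
    ⟨l.dropLast, l.getLast hne, (List.dropLast_append_getLast hne).symm⟩
  have hβΔ : β ∈ b.support := hl β (by simp)
  have hl₀ : ∀ a ∈ l₀, a ∈ b.support := fun a ha => hl a (by simp [ha])
  rw [List.getLast_append_singleton]
  have hgβ : wd P (l₀ ++ [β]) • β = P.reflectionPerm (wd P l₀ • β) (wd P l₀ • β) := by
    rw [wd_append, mul_smul, wd_cons, wd_nil, mul_one, reflection_smul_idx, smul_idx_neg]
  rw [hgβ, isPos_neg_iff, not_not]
  by_contra hneg
  obtain ⟨p, a, q, hpq, hqpos, hqneg⟩ :=
    exists_split P b β (b.isPos_of_mem_support hβΔ) l₀ hneg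
  have haΔ : a ∈ b.support := hl₀ a (by rw [hpq]; simp)
  have hqa : wd P q • β = a := by
    by_contra hne'
    apply hqneg
    rw [reflection_smul_idx]
    exact hqpos.reflectionPerm haΔ hne'
  have hconj : wd P q * Equiv.reflection P β * (wd P q)⁻¹ = Equiv.reflection P a := by
    rw [aut_conj_reflection, hqa]
  have hcomm : Equiv.reflection P a * wd P q = wd P q * Equiv.reflection P β := by
    rw [← hconj]; group
  have hprod : wd P (p ++ q) = wd P (l₀ ++ [β]) := by
    rw [hpq, wd_append, wd_append, wd_append, wd_cons, wd_cons, wd_nil, mul_one]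
    calc wd P p * wd P q = wd P p * (wd P q * (Equiv.reflection P β * Equiv.reflection P β)) := by
          rw [refl_mul_self, mul_one]
      _ = wd P p * ((wd P q * Equiv.reflection P β) * Equiv.reflection P β) := by group
      _ = wd P p * ((Equiv.reflection P a * wd P q) * Equiv.reflection P β) := by rw [hcomm]
      _ = wd P p * (Equiv.reflection P a * wd P q) * Equiv.reflection P β := by group
  have hlen := hmin (p ++ q) (by
    intro c hc
    apply hl₀
    rw [hpq]
    rcases List.mem_append.mp hc with h | h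
    · simp [h]
    · simp [h]) hprod
  rw [hpq] at hlen
  simp at hlen

theorem exists_minimal_word (b : P.Base) {g : P.Aut} (hg : g ∈ WB P b) :
    ∃ l : List ι, (∀ a ∈ l, a ∈ b.support) ∧ wd P l = g ∧
      ∀ l' : List ι, (∀ a ∈ l', a ∈ b.support) → wd P l' = wd P l → l.length ≤ l'.length := by
  classical
  have hex : ∃ n : ℕ, ∃ l : List ι, (∀ a ∈ l, a ∈ b.support) ∧ wd P l = g ∧ l.length = n := by
    obtain ⟨l, hl, hlg⟩ := exists_word_of_mem_WB P b hg
    exact ⟨l.length, l, hl, hlg, rfl⟩
  obtain ⟨l, hl, hlg, hlen⟩ := Nat.find_spec hex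
  refine ⟨l, hl, hlg, ?_⟩
  intro l' hl' hl'g
  rw [hlen]
  exact Nat.find_min' hex ⟨l', hl', hl'g.trans hlg, rfl⟩

/-- an element of the Weyl group preserving the positive roots is trivial -/
theorem eq_one_of_preserves_pos (b : P.Base) {g : P.Aut} (hg : g ∈ P.weylGroup)
    (hpos : ∀ i, b.IsPos i → b.IsPos (g • i)) : g = 1 := by
  rw [← WB_eq_weylGroup P b] at hg
  obtain ⟨l, hl, rfl, hmin⟩ := exists_minimal_word P b hg
  by_cases hne : l = []
  · rw [hne, wd_nil]
  · exfalso
    have h1 := neg_root_last_of_minimal_word P b l hl hne hmin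
    apply h1
    apply hpos
    exact b.isPos_of_mem_support (hl _ (List.getLast_mem hne))

end Groth.Agent.H8.RootB
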