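import Mathlib
import Groth.Agent.Lib.helper8.RootB1

/-! RootB2 (helper8): the Weyl group acts simply transitively on bases (general base ring). -/

set_option autoImplicit false
set_option linter.unusedSectionVars false

namespace Groth.Agent.H8.RootB

open RootPairing Groth.Agent.H8.RootD

variable {ι R M N : Type*} [CommRing R] [AddCommGroup M] [Module R M] [AddCommGroup N] [Module R N]
  (P : RootPairing ι R M N)
  [CharZero R] [IsDomain R] [Finite ι] [P.IsCrystallographic] [P.IsReduced]

theorem aut_root_add (g : P.Aut) {i j k : ι} (h : P.root k = P.root i + P.root j) :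
    P.root (g • k) = P.root (g • i) + P.root (g • j) := by
  rw [← aut_smul_root, ← aut_smul_root, ← aut_smul_root, h, smul_add]

/-- a non-simple positive root is the sum of a positive root and a simple root -/
theorem exists_decomp (b : P.Base) {i : ι} (hi : b.IsPos i) (hns : i ∉ b.support) :
    ∃ j ∈ b.support, ∃ k, b.IsPos k ∧ P.root i = P.root k + P.root j := by
  obtain ⟨j, hj, hj'⟩ := hi.exists_mem_support_pos_pairingIn
  rw [P.zero_lt_pairingIn_iff'] at hj'
  have hij : i ≠ j := by rintro rfl; exact hns hj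
  obtain ⟨k, hk⟩ := P.root_sub_root_mem_of_pairingIn_pos hj' hij
  refine ⟨j, hj, k, ?_, by rw [hk]; abel⟩
  rw [RootPairing.Base.isPos_iff', b.height_sub hk, RootPairing.Base.height_one_of_mem_support hj]
  have : 0 < b.height i := hi
  omega

/-- if `g` maps the simple roots of `b` to `b'`-positive roots, it maps `b`-positive roots to
`b'`-positive roots -/
theorem pos_of_simple_pos (b b' : P.Base) (g : P.Aut)
    (h : ∀ s ∈ b.support, b'.IsPos (g • s)) : ∀ i, b.IsPos i → b'.IsPos (g • i) := by
  intro i hi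
  refine hi.induction_on_add (p := fun i => b'.IsPos (g • i)) h ?_
  intro i j k hk hi hj
  exact hi.add (h j hj) (aut_root_add P g hk)

theorem neg_smul_idx (g : P.Aut) (i : ι) :
    g • P.reflectionPerm i i = P.reflectionPerm (g • i) (g • i) := smul_idx_neg P g i

/-- if `g` maps `b`-positive roots to `b'`-positive roots then `g⁻¹` maps `b'`-positive roots to
`b`-positive ones -/
theorem inv_pos_of_pos (b b' : P.Base) (g : P.Aut)
    (h : ∀ i, b.IsPos i → b'.IsPos (g • i)) : ∀ j, b'.IsPos j → b.IsPos (g⁻¹ • j) := by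
  intro j hj
  by_contra hneg
  have h1 : b.IsPos (P.reflectionPerm (g⁻¹ • j) (g⁻¹ • j)) := (isPos_neg_iff P b _).mpr hneg
  have h2 := h _ h1
  rw [← neg_smul_idx, smul_smul, mul_inv_cancel, one_smul, isPos_neg_iff] at h2
  exact h2 hj

/-- if `g` maps `b`-positive roots to `b'`-positive roots then it maps simple roots to simple
roots -/
theorem simple_of_pos (b b' : P.Base) (g : P.Aut)
    (h : ∀ i, b.IsPos i → b'.IsPos (g • i)) : ∀ s ∈ b.support, g • s ∈ b'.support := by
  intro s hs
  by_contra hns
  have hpos := h s (b.isPos_of_mem_support hs)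
  obtain ⟨j, hj, k, hk, hsum⟩ := exists_decomp P b' hpos hns
  have hinv := inv_pos_of_pos P b b' g h
  have h1 := aut_root_add P g⁻¹ hsum
  rw [smul_smul, inv_mul_cancel, one_smul] at h1
  have h2 := b.height_add h1
  rw [RootPairing.Base.height_one_of_mem_support hs] at h2
  have h3 : 0 < b.height (g⁻¹ • k) := hinv k hk
  have h4 : 0 < b.height (g⁻¹ • j) := hinv j (b'.isPos_of_mem_support hj)
  omega

theorem image_support_eq_of_pos (b b' : P.Base) (g : P.Aut)
    (h : ∀ i, b.IsPos i → b'.IsPos (g • i)) :
    (fun i : ι => g • i) '' (b.support : Set ι) = (b'.support : Set ι) := by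
  apply Set.Subset.antisymm
  · rintro _ ⟨s, hs, rfl⟩
    exact simple_of_pos P b b' g h s hs
  · intro s hs
    refine ⟨g⁻¹ • s, simple_of_pos P b' b g⁻¹ (inv_pos_of_pos P b b' g h) s hs, ?_⟩
    show g • g⁻¹ • s = s
    rw [smul_smul, mul_inv_cancel, one_smul]

open Classical in
/-- number of `b`-positive roots sent by `g` to `b'`-negative roots -/
noncomputable def badCount (b b' : P.Base) (g : P.Aut) : ℕ :=
  Nat.card {i : ι // b.IsPos i ∧ ¬ b'.IsPos (g • i)}

theorem exists_simple_bad (b b' : P.Base) (g : P.Aut) (hbad : badCount P b b' g ≠ 0) :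
    ∃ s ∈ b'.support, ¬ b.IsPos (g⁻¹ • s) := by
  by_contra hcon
  push Not at hcon
  have h1 := pos_of_simple_pos P b' b g⁻¹ hcon
  have h2 := inv_pos_of_pos P b' b g⁻¹ h1
  rw [inv_inv] at h2
  apply hbad
  rw [badCount, Nat.card_eq_zero]
  left
  constructor
  rintro ⟨i, hi, hni⟩
  exact hni (h2 i hi)

theorem badCount_lt (b b' : P.Base) (g : P.Aut) {s : ι} (hs : s ∈ b'.support)
    (hneg : ¬ b.IsPos (g⁻¹ • s)) :
    badCount P b b' (Equiv.reflection P s * g) < badCount P b b' g := by
  classical
  have : Fintype ι := Fintype.ofFinite ι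
  rw [badCount, badCount, Nat.card_eq_fintype_card, Nat.card_eq_fintype_card,
    Fintype.card_subtype, Fintype.card_subtype]
  apply Finset.card_lt_card
  rw [Finset.ssubset_iff_of_subset]
  · refine ⟨P.reflectionPerm (g⁻¹ • s) (g⁻¹ • s), ?_, ?_⟩
    · rw [Finset.mem_filter]
      refine ⟨Finset.mem_univ _, (isPos_neg_iff P b _).mpr hneg, ?_⟩
      rw [neg_smul_idx, smul_smul, mul_inv_cancel, one_smul, isPos_neg_iff, not_not]
      exact b'.isPos_of_mem_support hs
    · rw [Finset.mem_filter]
      push Not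
      intro _ _
      rw [mul_smul, neg_smul_idx, smul_smul, mul_inv_cancel, one_smul, reflection_smul_idx,
        P.reflectionPerm_self]
      exact b'.isPos_of_mem_support hs
  · intro i hi
    rw [Finset.mem_filter] at hi ⊢
    refine ⟨Finset.mem_univ _, hi.2.1, ?_⟩
    intro hpos
    apply hi.2.2
    rw [mul_smul, reflection_smul_idx]
    apply hpos.reflectionPerm hs
    rintro heq
    apply hneg
    rw [← heq, smul_smul, inv_mul_cancel, one_smul]
    exact hi.2.1

theorem exists_weyl_pos (b b' : P.Base) :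
    ∃ g : P.Aut, g ∈ P.weylGroup ∧ ∀ i, b.IsPos i → b'.IsPos (g • i) := by
  have key : ∀ n : ℕ, ∀ g : P.Aut, g ∈ P.weylGroup → badCount P b b' g = n →
      ∃ g' : P.Aut, g' ∈ P.weylGroup ∧ badCount P b b' g' = 0 := by
    intro n
    induction n using Nat.strong_induction_on with
    | _ n ih =>
      intro g hg hn
      by_cases h0 : badCount P b b' g = 0
      · exact ⟨g, hg, h0⟩
      · obtain ⟨s, hs, hneg⟩ := exists_simple_bad P b b' g h0
        have hlt := badCount_lt P b b' g hs hneg
        exact ih _ (hn ▸ hlt) _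
          (Subgroup.mul_mem _ (P.reflection_mem_weylGroup s) hg) rfl
  obtain ⟨g, hg, h0⟩ := key _ 1 (Subgroup.one_mem _) rfl
  refine ⟨g, hg, ?_⟩
  intro i hi
  by_contra hni
  rw [badCount, Nat.card_eq_zero] at h0
  rcases h0 with h0 | h0
  · exact h0.false ⟨i, hi, hni⟩
  · exact absurd (inferInstance : Finite _) (by simpa using h0)

/-- simple transitivity on bases -/
theorem existsUnique_weyl_base (b b' : P.Base) :
    ∃! g : P.weylGroup,
      (fun i : ι => (g : P.Aut) • i) '' (b.support : Set ι) = (b'.support : Set ι) := by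
  obtain ⟨g, hg, hpos⟩ := exists_weyl_pos P b b'
  refine ⟨⟨g, hg⟩, image_support_eq_of_pos P b b' g hpos, ?_⟩
  rintro ⟨g', hg'⟩ him
  have him0 := image_support_eq_of_pos P b b' g hpos
  simp only at him
  -- g⁻¹ g' preserves the simple roots of b
  have hsimple : ∀ s ∈ b.support, b.IsPos ((g⁻¹ * g') • s) := by
    intro s hs
    have h1 : g' • s ∈ (b'.support : Set ι) := by rw [← him]; exact ⟨s, hs, rfl⟩
    rw [← him0] at h1
    obtain ⟨t, ht, hts⟩ := h1
    have : (g⁻¹ * g') • s = t := by
      rw [mul_smul, ← hts]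
      show g⁻¹ • g • t = t
      rw [smul_smul, inv_mul_cancel, one_smul]
    rw [this]
    exact b.isPos_of_mem_support ht
  have hone := eq_one_of_preserves_pos P b
    (Subgroup.mul_mem _ (Subgroup.inv_mem _ hg) hg') (pos_of_simple_pos P b b _ hsimple)
  apply Subtype.ext
  show g' = g
  have h : g' = g * (g⁻¹ * g') := by group
  rw [h, hone, mul_one]

end Groth.Agent.H8.RootB
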