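import Mathlib
import Groth.Agent.Lib.helper8.RootB2

/-! RootB3 (helper8): exchange lemma, reduction modulo a rank-two parabolic subgroup. -/

set_option autoImplicit false
set_option linter.unusedSectionVars false

namespace Groth.Agent.H8.RootB

open RootPairing Groth.Agent.H8.RootD

variable {ι R M N : Type*} [CommRing R] [AddCommGroup M] [Module R M] [AddCommGroup N] [Module R N]
  (P : RootPairing ι R M N)
  [CharZero R] [IsDomain R] [Finite ι] [P.IsCrystallographic] [P.IsReduced]

/-- exchange lemma: if `w δ < 0` then `w s_δ` has a shorter word -/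
theorem exchange (b : P.Base) {l : List ι} (hl : ∀ a ∈ l, a ∈ b.support) {δ : ι}
    (hδ : δ ∈ b.support) (hneg : ¬ b.IsPos (wd P l • δ)) :
    ∃ l' : List ι, (∀ a ∈ l', a ∈ b.support) ∧ wd P l' = wd P l * Equiv.reflection P δ ∧
      l'.length + 1 = l.length := by
  obtain ⟨p, a, q, hpq, hqpos, hqneg⟩ := exists_split P b δ (b.isPos_of_mem_support hδ) l hneg
  have haΔ : a ∈ b.support := hl a (by rw [hpq]; simp)
  have hqa : wd P q • δ = a := by
    by_contra hne'
    apply hqneg
    rw [reflection_smul_idx]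
    exact hqpos.reflectionPerm haΔ hne'
  have hconj : wd P q * Equiv.reflection P δ * (wd P q)⁻¹ = Equiv.reflection P a := by
    rw [aut_conj_reflection, hqa]
  have hcomm : Equiv.reflection P a * wd P q = wd P q * Equiv.reflection P δ := by
    rw [← hconj]; group
  refine ⟨p ++ q, ?_, ?_, ?_⟩
  · intro c hc
    apply hl
    rw [hpq]
    rcases List.mem_append.mp hc with h | h
    · simp [h]
    · simp [h]
  · rw [hpq, wd_append, wd_append, wd_cons]
    calc wd P p * wd P q = wd P p * (wd P q * (Equiv.reflection P δ * Equiv.reflection P δ)) := by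
          rw [refl_mul_self, mul_one]
      _ = wd P p * ((wd P q * Equiv.reflection P δ) * Equiv.reflection P δ) := by group
      _ = wd P p * ((Equiv.reflection P a * wd P q) * Equiv.reflection P δ) := by rw [hcomm]
      _ = wd P p * (Equiv.reflection P a * wd P q) * Equiv.reflection P δ := by group
  · rw [hpq]
    simp
    omega

/-- reduce a word on the right by a rank-two parabolic subgroup -/
theorem reduce_rank_two (b : P.Base) {α γ : ι} (hα : α ∈ b.support) (hγ : γ ∈ b.support) :
    ∀ n : ℕ, ∀ l : List ι, (∀ a ∈ l, a ∈ b.support) → l.length = n →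
      ∃ l' : List ι, (∀ a ∈ l', a ∈ b.support) ∧ ∃ u : P.Aut,
        u ∈ Subgroup.closure {Equiv.reflection P α, Equiv.reflection P γ} ∧
        wd P l = wd P l' * u ∧ b.IsPos (wd P l' • α) ∧ b.IsPos (wd P l' • γ) ∧ l'.length ≤ n ∧
        ((¬ b.IsPos (wd P l • α) ∨ ¬ b.IsPos (wd P l • γ)) → l'.length < n) := by
  intro n
  induction n using Nat.strong_induction_on with
  | _ n ih =>
    intro l hl hn
    by_cases hpos : b.IsPos (wd P l • α) ∧ b.IsPos (wd P l • γ)
    · exact ⟨l, hl, 1, Subgroup.one_mem _, by rw [mul_one], hpos.1, hpos.2, hn.le,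
        fun h => by rcases h with h | h <;> [exact absurd hpos.1 h; exact absurd hpos.2 h]⟩
    · have hδ : ∃ δ, (δ = α ∨ δ = γ) ∧ δ ∈ b.support ∧ ¬ b.IsPos (wd P l • δ) := by
        by_cases h1 : b.IsPos (wd P l • α)
        · exact ⟨γ, Or.inr rfl, hγ, fun h2 => hpos ⟨h1, h2⟩⟩
        · exact ⟨α, Or.inl rfl, hα, h1⟩
      obtain ⟨δ, hδ', hδs, hδneg⟩ := hδ
      obtain ⟨l₁, hl₁, hw₁, hlen₁⟩ := exchange P b hl hδs hδneg
      have hlt : l₁.length < n := by omega
      obtain ⟨l', hl', u, hu, hwu, hp1, hp2, hle, -⟩ := ih l₁.length hlt l₁ hl₁ rfl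
      have hδmem : Equiv.reflection P δ ∈
          Subgroup.closure {Equiv.reflection P α, Equiv.reflection P γ} := by
        apply Subgroup.subset_closure
        rcases hδ' with rfl | rfl
        · exact Set.mem_insert _ _
        · exact Set.mem_insert_of_mem _ rfl
      refine ⟨l', hl', u * Equiv.reflection P δ, Subgroup.mul_mem _ hu hδmem, ?_, hp1, hp2,
        by omega, fun _ => by omega⟩
      rw [← mul_assoc, ← hwu, hw₁, mul_assoc, refl_mul_self, mul_one]

end Groth.Agent.H8.RootB
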