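import Mathlib
import Groth.Agent.Lib.helper8.RootB3

/-! RootB4 (helper8): rank-two analysis for Tits' decomposition lemma. -/

set_option autoImplicit false
set_option linter.unusedSectionVars false

namespace Groth.Agent.H8.RootB

open RootPairing Groth.Agent.H8.RootD

variable {ι R M N : Type*} [CommRing R] [AddCommGroup M] [Module R M] [AddCommGroup N] [Module R N]
  (P : RootPairing ι R M N)
  [CharZero R] [IsDomain R] [Finite ι] [P.IsCrystallographic] [P.IsReduced]

theorem reflection_mem_span_pair {α γ δ : ι} (hδ : δ = α ∨ δ = γ) {x : M}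
    (hx : x ∈ Submodule.span ℤ {P.root α, P.root γ}) :
    P.reflection δ x ∈ Submodule.span ℤ {P.root α, P.root γ} := by
  obtain ⟨p, q, rfl⟩ := Submodule.mem_span_pair.mp hx
  rw [P.reflection_apply]
  apply Submodule.sub_mem _ hx
  have hc : P.coroot' δ (p • P.root α + q • P.root γ) =
      algebraMap ℤ R (p * P.pairingIn ℤ α δ + q * P.pairingIn ℤ γ δ) := by
    rw [map_add, map_zsmul, map_zsmul, map_add, map_mul, map_mul, P.algebraMap_pairingIn,
      P.algebraMap_pairingIn]
    simp only [root_coroot'_eq_pairing, zsmul_eq_mul, algebraMap_int_eq, eq_intCast]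
  rw [hc, algebraMap_smul]
  apply Submodule.smul_mem
  apply Submodule.subset_span
  rcases hδ with rfl | rfl
  · exact Set.mem_insert _ _
  · exact Set.mem_insert_of_mem _ rfl

theorem smul_mem_span_pair {α γ : ι} {u : P.Aut}
    (hu : u ∈ Subgroup.closure {Equiv.reflection P α, Equiv.reflection P γ}) :
    ∀ x ∈ Submodule.span ℤ {P.root α, P.root γ},
      u • x ∈ Submodule.span ℤ {P.root α, P.root γ} ∧
      u⁻¹ • x ∈ Submodule.span ℤ {P.root α, P.root γ} := by
  induction hu using Subgroup.closure_induction with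
  | mem g hg =>
    intro x hx
    have hδ : ∃ δ, (δ = α ∨ δ = γ) ∧ g = Equiv.reflection P δ := by
      rcases hg with rfl | hg
      · exact ⟨α, Or.inl rfl, rfl⟩
      · exact ⟨γ, Or.inr rfl, hg⟩
    obtain ⟨δ, hδ, rfl⟩ := hδ
    rw [Equiv.reflection_inv, Equiv.reflection_smul]
    exact ⟨reflection_mem_span_pair P hδ hx, reflection_mem_span_pair P hδ hx⟩
  | one =>
    intro x hx
    simp only [inv_one, one_smul]
    exact ⟨hx, hx⟩
  | mul g h _ _ hg hh =>
    intro x hx
    rw [mul_smul, mul_inv_rev, mul_smul]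
    exact ⟨(hg _ (hh x hx).1).1, (hh _ (hg x hx).2).2⟩
  | inv g _ hg =>
    intro x hx
    rw [inv_inv]
    exact ⟨(hg x hx).2, (hg x hx).1⟩

theorem exists_coeff_pair {α γ : ι} {u : P.Aut}
    (hu : u ∈ Subgroup.closure {Equiv.reflection P α, Equiv.reflection P γ}) :
    ∃ p q : ℤ, P.root (u • α) = p • P.root α + q • P.root γ := by
  have h := (smul_mem_span_pair P hu (P.root α)
    (Submodule.subset_span (Set.mem_insert _ _))).1
  rw [aut_smul_root] at h
  obtain ⟨p, q, hpq⟩ := Submodule.mem_span_pair.mp h
  exact ⟨p, q, hpq.symm⟩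

theorem coeff_nonneg_of_isPos (b : P.Base) {α γ k : ι} (hα : α ∈ b.support) (hγ : γ ∈ b.support)
    (hαγ : α ≠ γ) {p q : ℤ} (hk : P.root k = p • P.root α + q • P.root γ) (hpos : b.IsPos k) :
    0 ≤ p ∧ 0 ≤ q := by
  classical
  obtain ⟨f, hf₀, hf₁, hf₂⟩ := b.exists_root_eq_sum_int k
  replace hf₁ : 0 < f := by
    refine hf₁.resolve_right ?_
    rw [RootPairing.Base.isPos_iff, RootPairing.Base.height_eq_sum hf₂] at hpos
    contrapose! hpos
    exact Finset.sum_nonpos fun i _ ↦ hpos.le i
  set g : ι → ℤ := fun j => if j = α then p else if j = γ then q else 0 with hg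
  have hg₂ : P.root k = ∑ j ∈ b.support, g j • P.root j := by
    rw [Finset.sum_eq_add α γ hαγ]
    · simp only [hg, if_true, if_neg hαγ.symm]
      exact hk
    · intro c _ hc
      simp only [hg, if_neg hc.1, if_neg hc.2, zero_smul]
    · intro h; exact absurd hα h
    · intro h; exact absurd hγ h
  have heq := hf₂.symm.trans hg₂
  rw [b.support.sum_subtype (p := (· ∈ b.support)) (by simp) (F := inferInstance),
    b.support.sum_subtype (p := (· ∈ b.support)) (by simp) (F := inferInstance)] at heq
  have aux (j : b.support) := Fintype.linearIndependent_iffₛ.mp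
      (b.linearIndepOn_root.restrict_scalars' ℤ) (f ∘ (↑)) (g ∘ (↑)) (by simpa using heq) j
  have hfα : f α = p := by
    have := aux ⟨α, hα⟩
    simpa [hg] using this
  have hfγ : f γ = q := by
    have := aux ⟨γ, hγ⟩
    simpa [hg, hαγ.symm] using this
  exact ⟨hfα ▸ hf₁.le α, hfγ ▸ hf₁.le γ⟩

theorem height_lin (b : P.Base) {i j k : ι} {p q : ℤ}
    (hk : P.root k = p • P.root i + q • P.root j) :
    b.height k = p * b.height i + q * b.height j := by
  obtain ⟨f, -, -, hf⟩ := b.exists_root_eq_sum_int i
  obtain ⟨g, -, -, hg⟩ := b.exists_root_eq_sum_int j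
  have hfg : P.root k = ∑ l ∈ b.support, (p • f + q • g) l • P.root l := by
    simp_rw [Pi.add_apply, Pi.smul_apply, add_smul, smul_assoc, Finset.sum_add_distrib,
      ← Finset.smul_sum, ← hf, ← hg, hk]
  simp_rw [RootPairing.Base.height_eq_sum hf, RootPairing.Base.height_eq_sum hg,
    RootPairing.Base.height_eq_sum hfg, Pi.add_apply, Pi.smul_apply,
    Finset.sum_add_distrib, ← Finset.smul_sum, smul_eq_mul]

theorem aut_smul_zsmul (g : P.Aut) (z : ℤ) (x : M) : g • (z • x) = z • (g • x) := by
  have h : g • (z • x) = g.toHom.weightMap (z • x) := rfl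
  rw [h, map_zsmul]
  rfl

/-- in a rank two situation, a root of the rank two subsystem sent to a simple root by an element
positive on the two simple roots is one of the two simple roots -/
theorem rank_two_simple (b : P.Base) {α γ β : ι} (hα : α ∈ b.support) (hγ : γ ∈ b.support)
    (hβ : β ∈ b.support) (hαγ : α ≠ γ) {u v : P.Aut}
    (hu : u ∈ Subgroup.closure {Equiv.reflection P α, Equiv.reflection P γ})
    (hvα : b.IsPos (v • α)) (hvγ : b.IsPos (v • γ)) (hvu : v • (u • α) = β) :
    u • α = α ∨ u • α = γ := by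
  obtain ⟨p, q, hpq⟩ := exists_coeff_pair P hu
  have hroot : P.root β = p • P.root (v • α) + q • P.root (v • γ) := by
    rw [← hvu, ← aut_smul_root, hpq, smul_add, aut_smul_zsmul, aut_smul_zsmul, aut_smul_root,
      aut_smul_root]
  have hht := height_lin P b hroot
  rw [RootPairing.Base.height_one_of_mem_support hβ] at hht
  have h1 : 0 < b.height (v • α) := hvα
  have h2 : 0 < b.height (v • γ) := hvγ
  by_cases hpos : b.IsPos (u • α)
  · obtain ⟨hp, hq⟩ := coeff_nonneg_of_isPos P b hα hγ hαγ hpq hpos
    rcases hp.eq_or_lt with hp0 | hp1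
    · rcases hq.eq_or_lt with hq0 | hq1
      · rw [← hp0, ← hq0] at hht; omega
      · right
        have hq1' : q = 1 := by
          rw [← hp0, zero_mul, zero_add] at hht
          by_contra hne
          have : 2 ≤ q := by omega
          nlinarith
        apply P.root.injective
        rw [hpq, ← hp0, hq1', zero_smul, one_smul, zero_add]
    · rcases hq.eq_or_lt with hq0 | hq1
      · left
        have hp1' : p = 1 := by
          rw [← hq0, zero_mul, add_zero] at hht
          by_contra hne
          have : 2 ≤ p := by omega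
          nlinarith
        apply P.root.injective
        rw [hpq, ← hq0, hp1', zero_smul, one_smul, add_zero]
      · exfalso
        nlinarith
  · exfalso
    have hneg : b.IsPos (P.reflectionPerm (u • α) (u • α)) := (isPos_neg_iff P b _).mpr hpos
    have hpq' : P.root (P.reflectionPerm (u • α) (u • α)) = (-p) • P.root α + (-q) • P.root γ := by
      rw [root_neg_idx, hpq, neg_add, neg_smul, neg_smul]
    obtain ⟨hp, hq⟩ := coeff_nonneg_of_isPos P b hα hγ hαγ hpq' hneg
    nlinarith

end Groth.Agent.H8.RootB
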