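import Mathlib
import Groth.Agent.Lib.helper8.RootB4

/-! RootB5 (helper8): Tits' decomposition of a Weyl group element sending a simple root to a
simple root into rank-two pieces. -/

set_option autoImplicit false
set_option linter.unusedSectionVars false

namespace Groth.Agent.H8.RootB

open RootPairing Groth.Agent.H8.RootD

variable {ι R M N : Type*} [CommRing R] [AddCommGroup M] [Module R M] [AddCommGroup N] [Module R N]
  (P : RootPairing ι R M N)
  [CharZero R] [IsDomain R] [Finite ι] [P.IsCrystallographic] [P.IsReduced]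

theorem closure_pair_le_weylGroup (α γ : ι) :
    Subgroup.closure {Equiv.reflection P α, Equiv.reflection P γ} ≤ P.weylGroup := by
  rw [Subgroup.closure_le]
  rintro _ (rfl | rfl)
  · exact P.reflection_mem_weylGroup α
  · exact P.reflection_mem_weylGroup γ

theorem tits_aux (b : P.Base) : ∀ n : ℕ, ∀ l : List ι, (∀ a ∈ l, a ∈ b.support) → l.length = n →
    ∀ α β : ι, α ∈ b.support → β ∈ b.support → wd P l • α = β →
    ∃ (m : ℕ) (a : Fin (m + 1) → ι) (ws : Fin m → P.Aut),
      (∀ i, a i ∈ b.support) ∧ a 0 = α ∧ a (Fin.last m) = β ∧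
      (∀ i, ws i ∈ P.weylGroup) ∧
      wd P l = (List.ofFn fun i : Fin m => ws (Fin.rev i)).prod ∧
      (∀ i : Fin m, ws i • a (Fin.castSucc i) = a (Fin.succ i)) ∧
      ∀ i : Fin m, ∃ γ ∈ b.support,
        ws i ∈ Subgroup.closure {Equiv.reflection P (a (Fin.castSucc i)), Equiv.reflection P γ} ∧
        (a (Fin.castSucc i) ≠ a (Fin.succ i) → γ = a (Fin.succ i)) := by
  intro n
  induction n using Nat.strong_induction_on with
  | _ n ih =>
    intro l hl hn α β hα hβ hw
    by_cases hall : ∀ s ∈ b.support, b.IsPos (wd P l • s)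
    · have h1 : wd P l = 1 := eq_one_of_preserves_pos P b
        (WB_le_weylGroup P b (wd_mem_WB P b hl)) (pos_of_simple_pos P b b _ hall)
      rw [h1, one_smul] at hw
      subst hw
      refine ⟨0, fun _ => α, Fin.elim0, fun _ => hα, rfl, rfl, fun i => i.elim0, ?_,
        fun i => i.elim0, fun i => i.elim0⟩
      rw [h1]
      simp
    · push Not at hall
      obtain ⟨γ, hγ, hγneg⟩ := hall
      have hαγ : α ≠ γ := by
        rintro rfl
        apply hγneg
        rw [hw]
        exact b.isPos_of_mem_support hβ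
      obtain ⟨l', hl', u, hu, hwu, hp1, hp2, -, hlt⟩ := reduce_rank_two P b hα hγ n l hl hn
      have hlt' : l'.length < n := hlt (Or.inr hγneg)
      have hvu : wd P l' • (u • α) = β := by rw [← mul_smul, ← hwu, hw]
      have hα1 := rank_two_simple P b hα hγ hβ hαγ hu hp1 hp2 hvu
      have hα₁s : u • α ∈ b.support := by
        rcases hα1 with h | h
        · rw [h]; exact hα
        · rw [h]; exact hγ
      obtain ⟨m, a, ws, ha, ha0, hal, hws, hprod, hstep, hγs⟩ :=
        ih l'.length hlt' l' hl' rfl (u • α) β hα₁s hβ hvu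
      refine ⟨m + 1, Fin.cons α a, Fin.cons u ws, ?_, ?_, ?_, ?_, ?_, ?_, ?_⟩
      · intro i
        refine Fin.cases ?_ ?_ i
        · rw [Fin.cons_zero]; exact hα
        · intro j; rw [Fin.cons_succ]; exact ha j
      · rw [Fin.cons_zero]
      · rw [← Fin.succ_last, Fin.cons_succ]; exact hal
      · intro i
        refine Fin.cases ?_ ?_ i
        · rw [Fin.cons_zero]; exact closure_pair_le_weylGroup P α γ hu
        · intro j; rw [Fin.cons_succ]; exact hws j
      · rw [hwu, hprod, List.ofFn_succ', List.concat_eq_append, List.prod_append,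
          List.prod_singleton]
        congr 1
        · congr 1
          congr 1
          funext i
          rw [Fin.rev_castSucc, Fin.cons_succ]
        · rw [Fin.rev_last, Fin.cons_zero]
      · intro i
        refine Fin.cases ?_ ?_ i
        · rw [Fin.cons_zero, Fin.castSucc_zero, Fin.cons_zero, Fin.cons_succ, ha0]
        · intro j
          rw [Fin.cons_succ, ← Fin.succ_castSucc, Fin.cons_succ, Fin.cons_succ]
          exact hstep j
      · intro i
        refine Fin.cases ?_ ?_ i
        · refine ⟨γ, hγ, ?_, ?_⟩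
          · rw [Fin.cons_zero, Fin.castSucc_zero, Fin.cons_zero]; exact hu
          · rw [Fin.castSucc_zero, Fin.cons_zero, Fin.cons_succ, ha0]
            intro hne
            rcases hα1 with h | h
            · exact absurd h.symm hne
            · exact h.symm
        · intro j
          obtain ⟨γ', hγ', h1, h2⟩ := hγs j
          refine ⟨γ', hγ', ?_, ?_⟩
          · rw [Fin.cons_succ, ← Fin.succ_castSucc, Fin.cons_succ]; exact h1
          · rw [← Fin.succ_castSucc, Fin.cons_succ, Fin.cons_succ]; exact h2

theorem tits_decomposition (b : P.Base) (α β : ι) (hα : α ∈ b.support) (hβ : β ∈ b.support)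
    (w : P.Aut) (hw : w ∈ P.weylGroup) (hwα : w • α = β) :
    ∃ (m : ℕ) (a : Fin (m + 1) → ι) (ws : Fin m → P.Aut),
      (∀ i, a i ∈ b.support) ∧ a 0 = α ∧ a (Fin.last m) = β ∧
      (∀ i, ws i ∈ P.weylGroup) ∧
      w = (List.ofFn fun i : Fin m => ws (Fin.rev i)).prod ∧
      (∀ i : Fin m, ws i • a (Fin.castSucc i) = a (Fin.succ i)) ∧
      ∀ i : Fin m, ∃ γ ∈ b.support,
        ws i ∈ Subgroup.closure {Equiv.reflection P (a (Fin.castSucc i)), Equiv.reflection P γ} ∧
        (a (Fin.castSucc i) ≠ a (Fin.succ i) → γ = a (Fin.succ i)) := by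
  rw [← WB_eq_weylGroup P b] at hw
  obtain ⟨l, hl, rfl⟩ := exists_word_of_mem_WB P b hw
  exact tits_aux P b l.length l hl rfl α β hα hβ hwα

end Groth.Agent.H8.RootB
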