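import Mathlib
import Groth.Prelude.Def_RootCh2
import Groth.Agent.Lib.helper8.RootB2

/-! RootC1 (helper8): fundamental weights as a basis, expansions of coroots in simple coroots with
non-negative coefficients, sign vectors are determined on a base. -/

set_option autoImplicit false
set_option linter.unusedSectionVars false

namespace Groth.Agent.H8.RootC

open RootPairing RootCh Groth.Agent.H8.RootD Groth.Agent.H8.RootB Module

variable {ι R M N : Type*} [Field R] [LinearOrder R] [IsStrictOrderedRing R]
  [AddCommGroup M] [Module R M] [AddCommGroup N] [Module R N]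
  (P : RootPairing ι R M N) [P.IsRootSystem]

theorem eq_zero_of_toLinearMap_eq_zero {x : M} (h : ∀ n : N, P.toLinearMap x n = 0) : x = 0 := by
  have hinj := (LinearMap.IsPerfPair.bijective_left (p := P.toLinearMap)).injective
  apply hinj
  ext n
  simpa using h n

/-- vectors of `M` are determined by their pairings with the simple coroots -/
theorem eq_of_coroot'_eq (b : P.Base) {x y : M}
    (h : ∀ i ∈ b.support, P.coroot' i x = P.coroot' i y) : x = y := by
  rw [← sub_eq_zero]
  apply eq_zero_of_toLinearMap_eq_zero P
  have h2 : P.toLinearMap (x - y) = 0 := by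
    apply b.toCoweightBasis.ext
    intro i
    rw [b.toCoweightBasis_apply]
    have := h i i.2
    simp only [RootPairing.coroot', LinearMap.flip_apply] at this
    simp [this]
  intro n
  rw [h2]; rfl

theorem coroot'_fundWeight (b : P.Base) (i j : b.support) [DecidableEq b.support] :
    P.coroot' j (fundWeight b i) = if j = i then 1 else 0 := by
  split_ifs with h
  · subst h; exact coroot'_fundWeight_self b j
  · exact coroot'_fundWeight_of_ne b i j h

/-- expansion in the fundamental weights -/
theorem sum_fundWeight (b : P.Base) (x : M) :
    ∑ i : b.support, P.coroot' i x • fundWeight b i = x := by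
  classical
  apply eq_of_coroot'_eq P b
  intro j hj
  rw [map_sum]
  simp only [map_smul, smul_eq_mul]
  rw [Finset.sum_eq_single (⟨j, hj⟩ : b.support)]
  · rw [coroot'_fundWeight_self b ⟨j, hj⟩, mul_one]
  · intro i _ hne
    rw [coroot'_fundWeight_of_ne b i ⟨j, hj⟩ (Ne.symm hne), mul_zero]
  · intro h; exact absurd (Finset.mem_univ _) h

theorem coroot'_expand (b : P.Base) (k : ι) (x : M) :
    P.coroot' k x = ∑ i : b.support, P.coroot' k (fundWeight b i) * P.coroot' i x := by
  conv_lhs => rw [← sum_fundWeight P b x]
  rw [map_sum]
  apply Finset.sum_congr rfl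
  intro i _
  rw [map_smul, smul_eq_mul, mul_comm]

theorem linearIndependent_fundWeight (b : P.Base) : LinearIndependent R (fundWeight b) := by
  classical
  rw [Fintype.linearIndependent_iff]
  intro g hg j
  have := congrArg (P.coroot' j) hg
  rw [map_sum, map_zero] at this
  simp only [map_smul, smul_eq_mul] at this
  rw [Finset.sum_eq_single j] at this
  · rwa [coroot'_fundWeight_self b j, mul_one] at this
  · intro i _ hne
    rw [coroot'_fundWeight_of_ne b i j (Ne.symm hne), mul_zero]
  · intro h; exact absurd (Finset.mem_univ _) h

theorem fundWeight_injective (b : P.Base) : Function.Injective (fundWeight b) :=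
  (linearIndependent_fundWeight P b).injective

end Groth.Agent.H8.RootC
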