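import Mathlib
import Groth.Prelude.Def_RootCh2
import Groth.Agent.Lib.helper8.RootC1

/-! RootC2 (helper8): positivity of the coefficients of positive (co)roots, via the invariant form. -/

set_option autoImplicit false
set_option linter.unusedSectionVars false

namespace Groth.Agent.H8.RootC

open RootPairing RootCh Groth.Agent.H8.RootD Groth.Agent.H8.RootB Module

variable {ι R M N : Type*} [Field R] [LinearOrder R] [IsStrictOrderedRing R]
  [AddCommGroup M] [Module R M] [AddCommGroup N] [Module R N]
  (P : RootPairing ι R M N) [P.IsRootSystem]

section Fin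
variable [Fintype ι]

theorem rootForm_root_apply (k : ι) (x : M) :
    2 * P.RootForm (P.root k) x = P.RootForm (P.root k) (P.root k) * P.coroot' k x := by
  have h := P.rootForm_self_smul_coroot k
  have h2 := congrArg (P.toLinearMap x) h
  rw [map_smul, map_nsmul, P.toLinearMap_apply_apply_Polarization] at h2
  simp only [smul_eq_mul, nsmul_eq_mul, Nat.cast_ofNat] at h2
  exact h2.symm

theorem rootForm_root_pos (k : ι) : 0 < P.RootForm (P.root k) (P.root k) :=
  P.rootForm_pos_of_ne_zero (Submodule.subset_span ⟨k, rfl⟩) (P.ne_zero k)

theorem two_rootForm_fundWeight (b : P.Base) (i : b.support) (x : M) :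
    2 * P.RootForm x (fundWeight b i) =
      P.RootForm (P.root i) (P.root i) * P.toLinearMap x (fundCoweight b i) := by
  classical
  have key : (2 : R) • P.RootForm.flip (fundWeight b i) =
      P.RootForm (P.root i) (P.root i) • P.toLinearMap.flip (fundCoweight b i) := by
    apply b.toWeightBasis.ext
    intro j
    rw [b.toWeightBasis_apply]
    simp only [LinearMap.smul_apply, smul_eq_mul]
    change 2 * P.RootForm (P.root j) (fundWeight b i) =
      P.RootForm (P.root i) (P.root i) * P.toLinearMap (P.root j) (fundCoweight b i)
    rw [rootForm_root_apply]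
    by_cases hji : j = i
    · subst hji
      rw [coroot'_fundWeight_self]
      have := root'_fundCoweight_self b j
      simp only [RootPairing.root'] at this
      rw [this]
    · rw [coroot'_fundWeight_of_ne b i j hji]
      have := root'_fundCoweight_of_ne b i j hji
      simp only [RootPairing.root'] at this
      rw [this, mul_zero, mul_zero]
  have := LinearMap.congr_fun key x
  simpa using this

/-- the fundamental relation between the coefficient of a coroot and of the root -/
theorem len_mul_coroot'_fundWeight (b : P.Base) (i : b.support) (k : ι) :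
    P.RootForm (P.root k) (P.root k) * P.coroot' k (fundWeight b i) =
      P.RootForm (P.root i) (P.root i) * P.root' k (fundCoweight b i) := by
  rw [← rootForm_root_apply, two_rootForm_fundWeight]

theorem len_smul_coroot_add {i j k : ι} (h : P.root k = P.root i + P.root j) :
    P.RootForm (P.root k) (P.root k) • P.coroot k =
      P.RootForm (P.root i) (P.root i) • P.coroot i +
        P.RootForm (P.root j) (P.root j) • P.coroot j := by
  rw [P.rootForm_self_smul_coroot, P.rootForm_self_smul_coroot, P.rootForm_self_smul_coroot, h,
    map_add, smul_add]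

end Fin

variable [Finite ι] [P.IsCrystallographic] [P.IsReduced]

theorem exists_nat_coeff (b : P.Base) {k : ι} (hk : b.IsPos k) :
    ∃ f : ι → ℕ, P.root k = ∑ j ∈ b.support, f j • P.root j := by
  obtain ⟨f, -, h | h⟩ := b.exists_root_eq_sum_nat_or_neg k
  · exact ⟨f, h⟩
  · exfalso
    have h2 : P.root k = ∑ j ∈ b.support, (fun j => -(f j : ℤ)) j • P.root j := by
      rw [h, ← Finset.sum_neg_distrib]
      apply Finset.sum_congr rfl
      intro j _
      simp
    have h3 := RootPairing.Base.height_eq_sum h2
    rw [RootPairing.Base.isPos_iff, h3] at hk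
    have : ∑ j ∈ b.support, -(f j : ℤ) ≤ 0 := Finset.sum_nonpos (fun j _ => by simp)
    omega

theorem root'_fundCoweight_of_sum (b : P.Base) {k : ι} {f : ι → ℕ}
    (h : P.root k = ∑ j ∈ b.support, f j • P.root j) (i : b.support) :
    P.root' k (fundCoweight b i) = f i := by
  classical
  simp only [RootPairing.root']
  rw [h, map_sum, LinearMap.sum_apply, Finset.sum_eq_single_of_mem (i : ι) i.2]
  · rw [map_nsmul, LinearMap.smul_apply]
    have := root'_fundCoweight_self b i
    simp only [RootPairing.root'] at this
    rw [this]; simp
  · intro j hj hji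
    rw [map_nsmul, LinearMap.smul_apply]
    have := root'_fundCoweight_of_ne b i ⟨j, hj⟩ (fun h => hji (congrArg Subtype.val h))
    simp only [RootPairing.root'] at this
    rw [this]; simp

theorem root'_fundCoweight_nonneg (b : P.Base) {k : ι} (hk : b.IsPos k) (i : b.support) :
    0 ≤ P.root' k (fundCoweight b i) := by
  obtain ⟨f, hf⟩ := exists_nat_coeff P b hk
  rw [root'_fundCoweight_of_sum P b hf i]
  exact Nat.cast_nonneg _

theorem coroot'_fundWeight_nonneg (b : P.Base) {k : ι} (hk : b.IsPos k) (i : b.support) :
    0 ≤ P.coroot' k (fundWeight b i) := by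
  let _ := Fintype.ofFinite ι
  have h := len_mul_coroot'_fundWeight P b i k
  have h1 := rootForm_root_pos P k
  have h2 := rootForm_root_pos P (i : ι)
  have h3 := root'_fundCoweight_nonneg P b hk i
  by_contra hneg
  rw [not_le] at hneg
  have : P.RootForm (P.root k) (P.root k) * P.coroot' k (fundWeight b i) < 0 :=
    mul_neg_of_pos_of_neg h1 hneg
  rw [h] at this
  exact absurd (mul_nonneg h2.le h3) (not_le.mpr this)

theorem coroot'_fundWeight_eq_zero_iff (b : P.Base) (k : ι) (i : b.support) :
    P.coroot' k (fundWeight b i) = 0 ↔ P.root' k (fundCoweight b i) = 0 := by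
  let _ := Fintype.ofFinite ι
  have h := len_mul_coroot'_fundWeight P b i k
  have h1 := (rootForm_root_pos P k).ne'
  have h2 := (rootForm_root_pos P (i : ι)).ne'
  constructor
  · intro h0
    rw [h0, mul_zero] at h
    rcases mul_eq_zero.mp h.symm with h' | h'
    · exact absurd h' h2
    · exact h'
  · intro h0
    rw [h0, mul_zero] at h
    rcases mul_eq_zero.mp h with h' | h'
    · exact absurd h' h1
    · exact h'

end Groth.Agent.H8.RootC
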