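import Mathlib
import Groth.Prelude.Def_RootCh2
import Groth.Agent.Lib.helper8.RootC2

/-! RootC3 (helper8): sign vectors are determined by their values on a base; facets and chambers. -/

set_option autoImplicit false
set_option linter.unusedSectionVars false

namespace Groth.Agent.H8.RootC

open RootPairing RootCh Groth.Agent.H8.RootD Groth.Agent.H8.RootB Module

variable {ι R M N : Type*} [Field R] [LinearOrder R] [IsStrictOrderedRing R]
  [AddCommGroup M] [Module R M] [AddCommGroup N] [Module R N]
  (P : RootPairing ι R M N) [P.IsRootSystem]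

theorem coroot_neg_idx (k : ι) : P.coroot (P.reflectionPerm k k) = - P.coroot k :=
  root_neg_idx P.flip k

theorem coroot'_neg_idx (k : ι) (x : M) :
    P.coroot' (P.reflectionPerm k k) x = - P.coroot' k x := by
  simp only [RootPairing.coroot', LinearMap.flip_apply]
  rw [coroot_neg_idx, map_neg]

theorem root'_neg_idx (k : ι) (x : N) :
    P.root' (P.reflectionPerm k k) x = - P.root' k x := by
  simp only [RootPairing.root']
  rw [root_neg_idx, map_neg, LinearMap.neg_apply]

theorem sgnVec_neg_idx (x : M) (k : ι) :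
    sgnVec P x (P.reflectionPerm k k) = - sgnVec P x k := by
  unfold sgnVec
  rw [coroot'_neg_idx, Left.sign_neg]

theorem cosgnVec_neg_idx (x : N) (k : ι) :
    cosgnVec P x (P.reflectionPerm k k) = - cosgnVec P x k := by
  unfold cosgnVec
  rw [root'_neg_idx, Left.sign_neg]

theorem Facet.sgn_neg_idx (F : Facet P) (k : ι) : F.sgn (P.reflectionPerm k k) = - F.sgn k := by
  obtain ⟨x, hx⟩ := F.exists_sgnVec_eq
  rw [← hx, sgnVec_neg_idx]

variable [Finite ι] [P.IsCrystallographic] [P.IsReduced]

theorem coroot'_nonneg_of_isPos (b : P.Base) {x : M} (hx : x ∈ closedChamber b) {k : ι}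
    (hk : b.IsPos k) : 0 ≤ P.coroot' k x := by
  rw [coroot'_expand P b k x]
  apply Finset.sum_nonneg
  intro i _
  exact mul_nonneg (coroot'_fundWeight_nonneg P b hk i) (hx i i.2)

theorem coroot'_eq_zero_iff_of_isPos (b : P.Base) {x : M} (hx : x ∈ closedChamber b) {k : ι}
    (hk : b.IsPos k) :
    P.coroot' k x = 0 ↔ ∀ i : b.support, P.coroot' k (fundWeight b i) = 0 ∨ P.coroot' i x = 0 := by
  rw [coroot'_expand P b k x, Finset.sum_eq_zero_iff_of_nonneg]
  · constructor
    · intro h i
      exact mul_eq_zero.mp (h i (Finset.mem_univ _))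
    · intro h i _
      exact mul_eq_zero.mpr (h i)
  · intro i _
    exact mul_nonneg (coroot'_fundWeight_nonneg P b hk i) (hx i i.2)

theorem coroot'_nonpos_of_not_isPos (b : P.Base) {x : M} (hx : x ∈ closedChamber b) {k : ι}
    (hk : ¬ b.IsPos k) : P.coroot' k x ≤ 0 := by
  have hk' : b.IsPos (P.reflectionPerm k k) := (isPos_neg_iff P b k).mpr hk
  have := coroot'_nonneg_of_isPos P b hx hk'
  rw [coroot'_neg_idx] at this
  linarith

theorem sgnVec_eq_of_support (b : P.Base) {x y : M} (hx : x ∈ closedChamber b)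
    (h : ∀ i ∈ b.support, sgnVec P x i = sgnVec P y i) : sgnVec P x = sgnVec P y := by
  have hy : y ∈ closedChamber b := by
    intro i hi
    have := h i hi
    unfold sgnVec at this
    rw [← sign_nonneg_iff, ← this, sign_nonneg_iff]
    exact hx i hi
  have key : ∀ k, b.IsPos k → sgnVec P x k = sgnVec P y k := by
    intro k hk
    have hx0 := coroot'_nonneg_of_isPos P b hx hk
    have hy0 := coroot'_nonneg_of_isPos P b hy hk
    have hxz := coroot'_eq_zero_iff_of_isPos P b hx hk
    have hyz := coroot'_eq_zero_iff_of_isPos P b hy hk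
    have hz : P.coroot' k x = 0 ↔ P.coroot' k y = 0 := by
      rw [hxz, hyz]
      apply forall_congr'
      intro i
      have h1 := h i i.2
      have h2 : P.coroot' i x = 0 ↔ P.coroot' i y = 0 := by
        unfold sgnVec at h1
        rw [← sign_eq_zero_iff, ← sign_eq_zero_iff (a := P.coroot' i y), h1]
      rw [h2]
    unfold sgnVec
    by_cases h0 : P.coroot' k x = 0
    · rw [h0, hz.mp h0]
    · rw [sign_pos (lt_of_le_of_ne hx0 (Ne.symm h0)),
        sign_pos (lt_of_le_of_ne hy0 (Ne.symm (fun h' => h0 (hz.mpr h'))))]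
  funext k
  by_cases hk : b.IsPos k
  · exact key k hk
  · have hk' : b.IsPos (P.reflectionPerm k k) := (isPos_neg_iff P b k).mpr hk
    have := key _ hk'
    rw [sgnVec_neg_idx, sgnVec_neg_idx] at this
    exact neg_injective this

theorem Facet.carrier_nonempty (F : Facet P) : F.carrier.Nonempty := F.exists_sgnVec_eq

theorem Facet.mem_cham_iff (F : Facet P) (b : P.Base) :
    b ∈ F.cham ↔ ∀ i ∈ b.support, F.sgn i ≠ -1 := by
  constructor
  · intro h i hi
    obtain ⟨x, hx⟩ := F.exists_sgnVec_eq
    have hx' : x ∈ F.carrier := hx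
    have := h hx' i hi
    rw [← hx]
    unfold sgnVec
    intro hneg
    rw [sign_eq_neg_one_iff] at hneg
    linarith
  · intro h x hx i hi
    have hx' : sgnVec P x = F.sgn := hx
    have := h i hi
    rw [← hx'] at this
    unfold sgnVec at this
    rw [Ne, sign_eq_neg_one_iff, not_lt] at this
    exact this

theorem Facet.carrier_eq_of_mem_cham (F : Facet P) {b : P.Base} (hb : b ∈ F.cham) :
    F.carrier = {x | ∀ i ∈ b.support, sgnVec P x i = F.sgn i} := by
  ext x
  constructor
  · intro hx i _
    have hx' : sgnVec P x = F.sgn := hx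
    rw [hx']
  · intro hx
    obtain ⟨y, hy⟩ := F.exists_sgnVec_eq
    have hy' : y ∈ closedChamber b := hb hy
    show sgnVec P x = F.sgn
    rw [← hy]
    symm
    apply sgnVec_eq_of_support P b hy'
    intro i hi
    rw [hy, hx i hi]

theorem Facet.ext_of_base {F G : Facet P} {b : P.Base} (hb : b ∈ F.cham)
    (h : ∀ i ∈ b.support, F.sgn i = G.sgn i) : F = G := by
  obtain ⟨x, hx⟩ := F.exists_sgnVec_eq
  obtain ⟨y, hy⟩ := G.exists_sgnVec_eq
  apply Facet.ext
  rw [← hx, ← hy]
  apply sgnVec_eq_of_support P b (hb hx)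
  intro i hi
  rw [hx, hy, h i hi]

end Groth.Agent.H8.RootC
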