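import Mathlib
import Groth.Prelude.Def_RootCh2
import Groth.Agent.Lib.helper8.RootC3

/-! RootC4 (helper8): every vector lies in a closed chamber (existence of bases from regular
functionals, perturbation). -/

set_option autoImplicit false
set_option linter.unusedSectionVars false

namespace Groth.Agent.H8.RootC

open RootPairing RootCh Groth.Agent.H8.RootD Groth.Agent.H8.RootB Module

variable {ι R M N : Type*} [Field R] [LinearOrder R] [IsStrictOrderedRing R]
  [AddCommGroup M] [Module R M] [AddCommGroup N] [Module R N]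
  (P : RootPairing ι R M N) [P.IsRootSystem]

theorem exists_small_one (a c : R) :
    ∃ ε : R, 0 < ε ∧ ∀ ε' : R, 0 < ε' → ε' ≤ ε →
      (0 < a → 0 < a + ε' * c) ∧ (a < 0 → a + ε' * c < 0) := by
  by_cases ha : a = 0
  · refine ⟨1, one_pos, fun ε' _ _ => ⟨fun h => ?_, fun h => ?_⟩⟩
    · exact absurd ha h.ne'
    · exact absurd ha h.ne
  · have hc : 0 < |c| + 1 := by positivity
    have ha' : 0 < |a| := abs_pos.mpr ha
    refine ⟨|a| / (|c| + 1), div_pos ha' hc, ?_⟩
    intro ε' hε' hle
    have h1 : ε' * |c| < |a| := by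
      have h2 : |a| / (|c| + 1) * (|c| + 1) = |a| := div_mul_cancel₀ _ hc.ne'
      have h3 : ε' * |c| ≤ |a| / (|c| + 1) * |c| := mul_le_mul_of_nonneg_right hle (abs_nonneg _)
      have h4 : 0 < |a| / (|c| + 1) := div_pos ha' hc
      nlinarith
    have h5 : |ε' * c| < |a| := by rwa [abs_mul, abs_of_pos hε']
    have h6 := abs_lt.mp h5
    constructor
    · intro h
      rw [abs_of_pos h] at h6
      linarith [h6.1]
    · intro h
      rw [abs_of_neg h] at h6
      linarith [h6.2]

theorem exists_small {κ : Type*} (s : Finset κ) (a c : κ → R) :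
    ∃ ε : R, 0 < ε ∧ ∀ ε' : R, 0 < ε' → ε' ≤ ε → ∀ k ∈ s,
      (0 < a k → 0 < a k + ε' * c k) ∧ (a k < 0 → a k + ε' * c k < 0) := by
  classical
  induction s using Finset.induction_on with
  | empty => exact ⟨1, one_pos, fun _ _ _ k hk => absurd hk (Finset.notMem_empty k)⟩
  | insert k s _ ih =>
    obtain ⟨ε₁, h1, h1'⟩ := ih
    obtain ⟨ε₂, h2, h2'⟩ := exists_small_one (a k) (c k)
    refine ⟨min ε₁ ε₂, lt_min h1 h2, ?_⟩
    intro ε' hε' hle j hj
    rcases Finset.mem_insert.mp hj with rfl | hj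
    · exact h2' ε' hε' (hle.trans (min_le_right _ _))
    · exact h1' ε' hε' (hle.trans (min_le_left _ _)) j hj

variable [Finite ι] [P.IsCrystallographic] [P.IsReduced]

theorem exists_base_of_regular (f : Dual R N) (hf : ∀ i, f (P.coroot i) ≠ 0) :
    ∃ b : P.Base, ∀ i ∈ b.support, 0 < f (P.coroot i) := by
  let _ := P.flip.indexNeg
  have hf' : ∀ i, f (P.flip.root i) ≠ 0 := hf
  have hli := P.flip.linearIndepOn_root_baseOf' (S := R) f hf'
  have hsp : ∀ i, P.flip.root i ∈ AddSubmonoid.closure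
      (P.flip.root '' IsAddIndecomposable.baseOf P.flip.root (f : N →+ R)) ∨
      - P.flip.root i ∈ AddSubmonoid.closure
      (P.flip.root '' IsAddIndecomposable.baseOf P.flip.root (f : N →+ R)) := fun i =>
    IsAddIndecomposable.mem_or_neg_mem_closure_baseOf P.flip.root (f : N →+ R) i (hf' i) (by simp)
  let b' : P.flip.Base := Base.mk' P.flip _ hli hsp
  refine ⟨b'.flip, ?_⟩
  intro i hi
  have hi' : i ∈ IsAddIndecomposable.baseOf P.flip.root (f : N →+ R) := by
    have : i ∈ b'.support := hi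
    simpa [b', Base.mk'] using this
  exact IsAddIndecomposable.baseOf_subset_pos _ _ hi'

theorem exists_regular : ∃ γ : M, ∀ i, P.coroot' i γ ≠ 0 := by
  apply Module.Dual.exists_forall_ne_zero_of_forall_exists (fun i => P.coroot' i)
  intro i
  refine ⟨P.root i, ?_⟩
  rw [P.root_coroot'_eq_pairing, P.pairing_same]
  exact two_ne_zero

/-- every vector lies in a closed chamber; the chamber can be chosen compatibly with a second
vector (lexicographic refinement) -/
theorem exists_base_closedChamber (x ξ : M) :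
    ∃ b : P.Base, x ∈ closedChamber b ∧
      ∀ i ∈ b.support, P.coroot' i x = 0 → 0 ≤ P.coroot' i ξ := by
  classical
  let _ := Fintype.ofFinite ι
  obtain ⟨γ, hγ⟩ := exists_regular P
  obtain ⟨ε₁, hε₁, h1⟩ := exists_small (Finset.univ : Finset ι) (fun k => P.coroot' k x)
    (fun k => P.coroot' k ξ)
  have h1' := h1 ε₁ hε₁ le_rfl
  set x₁ := x + ε₁ • ξ with hx₁
  obtain ⟨ε₂, hε₂, h2⟩ := exists_small (Finset.univ : Finset ι) (fun k => P.coroot' k x₁)
    (fun k => P.coroot' k γ)
  have h2' := h2 ε₂ hε₂ le_rfl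
  set x₂ := x₁ + ε₂ • γ with hx₂
  have e1 : ∀ k, P.coroot' k x₁ = P.coroot' k x + ε₁ * P.coroot' k ξ := by
    intro k; rw [hx₁, map_add, map_smul, smul_eq_mul]
  have e2 : ∀ k, P.coroot' k x₂ = P.coroot' k x₁ + ε₂ * P.coroot' k γ := by
    intro k; rw [hx₂, map_add, map_smul, smul_eq_mul]
  have hreg : ∀ k, P.toLinearMap x₂ (P.coroot k) ≠ 0 := by
    intro k
    change P.coroot' k x₂ ≠ 0
    rw [e2]
    rcases lt_trichotomy (P.coroot' k x₁) 0 with h | h | h
    · exact ((h2' k (Finset.mem_univ _)).2 h).ne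
    · rw [h, zero_add]; exact mul_ne_zero hε₂.ne' (hγ k)
    · exact ((h2' k (Finset.mem_univ _)).1 h).ne'
  obtain ⟨b, hb⟩ := exists_base_of_regular P (P.toLinearMap x₂) hreg
  have hb1 : ∀ i ∈ b.support, 0 ≤ P.coroot' i x₁ := by
    intro i hi
    by_contra hneg
    rw [not_le] at hneg
    have := (h2' i (Finset.mem_univ _)).2 hneg
    rw [← e2] at this
    have h3 : 0 < P.coroot' i x₂ := hb i hi
    linarith
  have hb0 : ∀ i ∈ b.support, 0 ≤ P.coroot' i x := by
    intro i hi
    by_contra hneg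
    rw [not_le] at hneg
    have := (h1' i (Finset.mem_univ _)).2 hneg
    rw [← e1] at this
    have h3 := hb1 i hi
    linarith
  refine ⟨b, hb0, ?_⟩
  intro i hi h0
  have h3 := hb1 i hi
  rw [e1, h0, zero_add] at h3
  by_contra hneg
  rw [not_le] at hneg
  have := mul_neg_of_pos_of_neg hε₁ hneg
  linarith

end Groth.Agent.H8.RootC
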