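import Mathlib
import Groth.Prelude.Def_RootCh2
import Groth.Agent.Lib.helper8.RootC4

/-! RootC5 (helper8): the closed chamber is a fundamental domain for the Weyl group; corners of
a chamber are its fundamental weights. -/

set_option autoImplicit false
set_option linter.unusedSectionVars false

namespace Groth.Agent.H8.RootC

open RootPairing RootCh Groth.Agent.H8.RootD Groth.Agent.H8.RootB Module

variable {ι R M N : Type*} [Field R] [LinearOrder R] [IsStrictOrderedRing R]
  [AddCommGroup M] [Module R M] [AddCommGroup N] [Module R N]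
  (P : RootPairing ι R M N) [P.IsRootSystem]

theorem wd_smul_fix (l : List ι) (x : M) (h : ∀ a ∈ l, P.coroot' a x = 0) : wd P l • x = x := by
  induction l with
  | nil => rw [wd_nil, one_smul]
  | cons a l ih =>
    rw [wd_cons, mul_smul, ih (fun c hc => h c (by simp [hc])), Equiv.reflection_smul,
      P.reflection_apply, h a (by simp), zero_smul, sub_zero]

theorem wd_coweightMap_fix (l : List ι) (y : N) (h : ∀ a ∈ l, P.coreflection a y = y) :
    (wd P l).toHom.coweightMap y = y := by
  induction l with
  | nil => rw [wd_nil]; rfl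
  | cons a l ih =>
    rw [wd_cons]
    show (wd P l).toHom.coweightMap ((Equiv.reflection P a).toHom.coweightMap y) = y
    have : (Equiv.reflection P a).toHom.coweightMap y = P.coreflection a y := rfl
    rw [this, h a (by simp), ih (fun c hc => h c (by simp [hc]))]

variable [Finite ι] [P.IsCrystallographic] [P.IsReduced]

/-- all letters of a minimal word moving a point of the closed chamber into the closed chamber
fix that point -/
theorem letters_fix_of_minimal (b : P.Base) {x : M} (hx : x ∈ closedChamber b) :
    ∀ l : List ι, (∀ a ∈ l, a ∈ b.support) →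
      (∀ l' : List ι, (∀ a ∈ l', a ∈ b.support) → wd P l' = wd P l → l.length ≤ l'.length) →
      wd P l • x ∈ closedChamber b → ∀ a ∈ l, P.coroot' a x = 0 := by
  intro l
  induction l using List.reverseRecOn with
  | nil => intro _ _ _ a ha; exact absurd ha (List.not_mem_nil)
  | append_singleton l₀ β ih =>
    intro hl hmin hgx
    have hne : l₀ ++ [β] ≠ [] := by simp
    have hneg := neg_root_last_of_minimal_word P b (l₀ ++ [β]) hl hne hmin
    rw [List.getLast_append_singleton] at hneg
    have hβ : β ∈ b.support := hl β (by simp)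
    have h1 := aut_coroot' P (wd P (l₀ ++ [β])) β x
    have h2 := coroot'_nonpos_of_not_isPos P b hgx hneg
    have h3 : 0 ≤ P.coroot' β x := hx β hβ
    have h0 : P.coroot' β x = 0 := by
      rw [h1] at h2
      exact le_antisymm h2 h3
    have hfix : wd P (l₀ ++ [β]) • x = wd P l₀ • x := by
      rw [wd_append, mul_smul, wd_cons, wd_nil, mul_one, Equiv.reflection_smul,
        P.reflection_apply, h0, zero_smul, sub_zero]
    have hl₀ : ∀ a ∈ l₀, a ∈ b.support := fun a ha => hl a (by simp [ha])
    have hmin₀ : ∀ l' : List ι, (∀ a ∈ l', a ∈ b.support) → wd P l' = wd P l₀ →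
        l₀.length ≤ l'.length := by
      intro l' hl' hw
      have := hmin (l' ++ [β]) (by
        intro a ha
        rcases List.mem_append.mp ha with h | h
        · exact hl' a h
        · rw [List.mem_singleton.mp h]; exact hβ) (by rw [wd_append, wd_append, hw])
      simpa using this
    rw [hfix] at hgx
    have := ih hl₀ hmin₀ hgx
    intro a ha
    rcases List.mem_append.mp ha with h | h
    · exact this a h
    · rw [List.mem_singleton.mp h]; exact h0

theorem exists_word_fix (b : P.Base) {x : M} (hx : x ∈ closedChamber b) {g : P.Aut}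
    (hg : g ∈ P.weylGroup) (hgx : g • x ∈ closedChamber b) :
    ∃ l : List ι, (∀ a ∈ l, a ∈ b.support ∧ P.coroot' a x = 0) ∧ wd P l = g := by
  rw [← WB_eq_weylGroup P b] at hg
  obtain ⟨l, hl, rfl, hmin⟩ := exists_minimal_word P b hg
  exact ⟨l, fun a ha => ⟨hl a ha, letters_fix_of_minimal P b hx l hl hmin hgx a ha⟩, rfl⟩

/-- the closed chamber is a fundamental domain -/
theorem smul_eq_of_mem_closedChamber (b : P.Base) {x : M} (hx : x ∈ closedChamber b) {g : P.Aut}
    (hg : g ∈ P.weylGroup) (hgx : g • x ∈ closedChamber b) : g • x = x := by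
  obtain ⟨l, hl, rfl⟩ := exists_word_fix P b hx hg hgx
  exact wd_smul_fix P l x (fun a ha => (hl a ha).2)

theorem fundWeight_mem_closedChamber (b : P.Base) (i : b.support) :
    fundWeight b i ∈ closedChamber b := by
  intro j hj
  by_cases h : (⟨j, hj⟩ : b.support) = i
  · subst h
    rw [coroot'_fundWeight_self b ⟨j, hj⟩]
    exact zero_le_one
  · rw [coroot'_fundWeight_of_ne b i ⟨j, hj⟩ h]

/-- transport of a fundamental weight by an automorphism carrying one base to another -/
theorem smul_fundWeight (b' b : P.Base) (g : P.Aut)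
    (hg : (fun i : ι => g • i) '' (b'.support : Set ι) = (b.support : Set ι)) (i' : b'.support) :
    ∃ i : b.support, (i : ι) = g • (i' : ι) ∧ g • fundWeight b' i' = fundWeight b i := by
  have hmem : g • (i' : ι) ∈ b.support := by
    have : g • (i' : ι) ∈ (b.support : Set ι) := by rw [← hg]; exact ⟨i', i'.2, rfl⟩
    exact this
  refine ⟨⟨g • (i' : ι), hmem⟩, rfl, ?_⟩
  apply eq_of_coroot'_eq P b
  intro k hk
  have hk' : k ∈ (b.support : Set ι) := hk
  rw [← hg] at hk'
  obtain ⟨j, hj, rfl⟩ := hk'
  rw [aut_coroot']
  by_cases hji : (⟨j, hj⟩ : b'.support) = i'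
  · subst hji
    rw [coroot'_fundWeight_self b' ⟨j, hj⟩]
    exact (coroot'_fundWeight_self b ⟨g • j, hmem⟩).symm
  · rw [coroot'_fundWeight_of_ne b' i' ⟨j, hj⟩ hji]
    symm
    apply coroot'_fundWeight_of_ne b ⟨g • (i' : ι), hmem⟩ ⟨g • j, hk⟩
    intro h
    apply hji
    apply Subtype.ext
    have := congrArg Subtype.val h
    exact MulAction.injective g this

/-- S14227: the corners of a chamber are its fundamental weights -/
theorem baseCorners_eq (b : P.Base) : baseCorners b = Set.range (fundWeight b) := by
  apply Set.Subset.antisymm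
  · rintro w ⟨⟨b', i', rfl⟩, hw⟩
    obtain ⟨⟨g, hg⟩, hgb, -⟩ := existsUnique_weyl_base P b' b
    obtain ⟨i, -, hi⟩ := smul_fundWeight P b' b g hgb i'
    have h1 : g • fundWeight b' i' ∈ closedChamber b := by
      rw [hi]; exact fundWeight_mem_closedChamber P b i
    have h2 := smul_eq_of_mem_closedChamber P b hw hg h1
    exact ⟨i, by rw [← hi, h2]⟩
  · rintro _ ⟨i, rfl⟩
    exact ⟨⟨b, i, rfl⟩, fundWeight_mem_closedChamber P b i⟩

end Groth.Agent.H8.RootC
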