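import Mathlib
import Groth.Prelude.Def_RootCh2
import Groth.Agent.Lib.helper8.RootC5

/-! RootC6 (helper8): structure of facets relative to an adjacent chamber. -/

set_option autoImplicit false
set_option linter.unusedSectionVars false

namespace Groth.Agent.H8.RootC

open RootPairing RootCh Groth.Agent.H8.RootD Groth.Agent.H8.RootB Module

variable {ι R M N : Type*} [Field R] [LinearOrder R] [IsStrictOrderedRing R]
  [AddCommGroup M] [Module R M] [AddCommGroup N] [Module R N]
  (P : RootPairing ι R M N) [P.IsRootSystem]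
  [Finite ι] [P.IsCrystallographic] [P.IsReduced]

theorem Facet.exists_mem_cham (F : Facet P) : ∃ b : P.Base, b ∈ F.cham := by
  obtain ⟨x, hx⟩ := F.exists_sgnVec_eq
  obtain ⟨b, hb, -⟩ := exists_base_closedChamber P x 0
  refine ⟨b, (Facet.mem_cham_iff P F b).mpr ?_⟩
  intro i hi
  rw [← hx]
  unfold sgnVec
  rw [Ne, sign_eq_neg_one_iff, not_lt]
  exact hb i hi

theorem Facet.sgn_support {F : Facet P} {b : P.Base} (hb : b ∈ F.cham) {i : ι}
    (hi : i ∈ b.support) : F.sgn i = 0 ∨ F.sgn i = 1 := by
  have := (Facet.mem_cham_iff P F b).mp hb i hi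
  rcases h : F.sgn i with _ | _ | _
  · left; rfl
  · exact absurd h this
  · right; rfl

/-- (F1) the vectors of a facet, read on an adjacent chamber -/
theorem Facet.mem_carrier_iff {F : Facet P} {b : P.Base} (hb : b ∈ F.cham) (x : M) :
    x ∈ F.carrier ↔ ∀ i ∈ b.support,
      (F.sgn i = 1 → 0 < P.coroot' i x) ∧ (F.sgn i ≠ 1 → P.coroot' i x = 0) := by
  rw [Facet.carrier_eq_of_mem_cham P F hb]
  simp only [Set.mem_setOf_eq]
  apply forall_congr'
  intro i
  apply forall_congr'
  intro hi
  unfold sgnVec
  rcases Facet.sgn_support P hb hi with h | h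
  · rw [h]
    constructor
    · intro h0
      refine ⟨fun h1 => absurd h1 (by decide), fun _ => sign_eq_zero_iff.mp h0⟩
    · intro h0
      exact sign_eq_zero_iff.mpr (h0.2 (by decide))
  · rw [h]
    constructor
    · intro h0
      exact ⟨fun _ => sign_eq_one_iff.mp h0, fun h1 => absurd rfl h1⟩
    · intro h0
      exact sign_eq_one_iff.mpr (h0.1 rfl)

theorem Facet.closure_subset_closedChamber {F : Facet P} {b : P.Base} (hb : b ∈ F.cham) :
    F.closure ⊆ closedChamber b := by
  intro x hx i hi
  have h1 := hx i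
  have h2 := (Facet.mem_cham_iff P F b).mp hb i hi
  unfold sgnVec at h1
  rcases h1 with h1 | h1
  · rw [sign_eq_zero_iff] at h1; rw [h1]
  · rw [← h1, Ne, sign_eq_neg_one_iff, not_lt] at h2
    exact h2

/-- (F5)/(F6) the closure of a facet, read on an adjacent chamber -/
theorem Facet.mem_closure_iff {F : Facet P} {b : P.Base} (hb : b ∈ F.cham) (y : M) :
    y ∈ F.closure ↔ y ∈ closedChamber b ∧ ∀ i ∈ b.support, P.coroot' i y ≠ 0 → F.sgn i = 1 := by
  constructor
  · intro hy
    refine ⟨Facet.closure_subset_closedChamber P hb hy, ?_⟩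
    intro i hi hne
    have h1 := hy i
    have h0 := Facet.closure_subset_closedChamber P hb hy i hi
    unfold sgnVec at h1
    rcases h1 with h1 | h1
    · exact absurd (sign_eq_zero_iff.mp h1) hne
    · rw [← h1, sign_eq_one_iff]
      exact lt_of_le_of_ne h0 (Ne.symm hne)
  · rintro ⟨hy, hsupp⟩
    obtain ⟨x, hx⟩ := F.exists_sgnVec_eq
    have hxc : x ∈ closedChamber b := hb hx
    have hxF : x ∈ F.carrier := hx
    have key : ∀ k, b.IsPos k → sgnVec P y k = 0 ∨ sgnVec P y k = F.sgn k := by
      intro k hk
      have h0 := coroot'_nonneg_of_isPos P b hy hk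
      by_cases hz : P.coroot' k y = 0
      · left; unfold sgnVec; rw [hz, sign_zero]
      · right
        have hpos : 0 < P.coroot' k y := lt_of_le_of_ne h0 (Ne.symm hz)
        have h1 := (coroot'_eq_zero_iff_of_isPos P b hy hk).not.mp hz
        push Not at h1
        obtain ⟨j, hj1, hj2⟩ := h1
        have hFj := hsupp j j.2 hj2
        have hxj := ((Facet.mem_carrier_iff P hb x).mp hxF j j.2).1 hFj
        have hxk : P.coroot' k x ≠ 0 := by
          intro h
          rcases (coroot'_eq_zero_iff_of_isPos P b hxc hk).mp h j with h' | h'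
          · exact hj1 h'
          · exact hxj.ne' h'
        have hxk' : 0 < P.coroot' k x :=
          lt_of_le_of_ne (coroot'_nonneg_of_isPos P b hxc hk) (Ne.symm hxk)
        rw [← hx]
        unfold sgnVec
        rw [sign_pos hpos, sign_pos hxk']
    intro k
    by_cases hk : b.IsPos k
    · exact key k hk
    · have hk' : b.IsPos (P.reflectionPerm k k) := (isPos_neg_iff P b k).mpr hk
      have := key _ hk'
      rw [sgnVec_neg_idx, Facet.sgn_neg_idx] at this
      rcases this with h | h
      · left
        revert h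
        generalize sgnVec P y k = a
        cases a <;> decide
      · right; exact neg_injective h

/-- (F2) the corners of a facet, read on an adjacent chamber -/
theorem Facet.corners_eq {F : Facet P} {b : P.Base} (hb : b ∈ F.cham) :
    F.corners = {w | ∃ i : b.support, F.sgn i = 1 ∧ fundWeight b i = w} := by
  classical
  ext w
  constructor
  · rintro ⟨hw1, hw2⟩
    have hwc := Facet.closure_subset_closedChamber P hb hw2
    have : w ∈ baseCorners b := ⟨hw1, hwc⟩
    rw [baseCorners_eq] at this
    obtain ⟨i, rfl⟩ := this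
    refine ⟨i, ?_, rfl⟩
    apply ((Facet.mem_closure_iff P hb _).mp hw2).2 i i.2
    rw [coroot'_fundWeight_self]
    exact one_ne_zero
  · rintro ⟨i, hi, rfl⟩
    refine ⟨⟨b, i, rfl⟩, (Facet.mem_closure_iff P hb _).mpr
      ⟨fundWeight_mem_closedChamber P b i, ?_⟩⟩
    intro j hj hne
    by_cases hji : (⟨j, hj⟩ : b.support) = i
    · rw [← hji] at hi; exact hi
    · exact absurd (coroot'_fundWeight_of_ne b i ⟨j, hj⟩ hji) hne

theorem Facet.corner_mem_baseCorners {F : Facet P} {b : P.Base} (hb : b ∈ F.cham) {w : M}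
    (hw : w ∈ F.corners) : w ∈ baseCorners b :=
  ⟨hw.1, Facet.closure_subset_closedChamber P hb hw.2⟩

/-- S14228 -/
theorem Facet.linearIndepOn_corners (F : Facet P) : LinearIndepOn R (fun m : M => m) F.corners := by
  obtain ⟨b, hb⟩ := Facet.exists_mem_cham P F
  have h := (linearIndependent_fundWeight P b).linearIndepOn_id
  apply h.mono
  rw [Facet.corners_eq P hb]
  rintro w ⟨i, -, rfl⟩
  exact ⟨i, rfl⟩

theorem Facet.mem_span_corners_of_mem_carrier {F : Facet P} {x : M} (hx : x ∈ F.carrier) :
    x ∈ Submodule.span R F.corners := by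
  obtain ⟨b, hb⟩ := Facet.exists_mem_cham P F
  rw [← sum_fundWeight P b x]
  apply Submodule.sum_mem
  intro i _
  by_cases hi : F.sgn i = 1
  · apply Submodule.smul_mem
    apply Submodule.subset_span
    rw [Facet.corners_eq P hb]
    exact ⟨i, hi, rfl⟩
  · rw [((Facet.mem_carrier_iff P hb x).mp hx i i.2).2 hi, zero_smul]
    exact Submodule.zero_mem _

theorem Facet.add_corner_mem_carrier {F : Facet P} {x w : M} (hx : x ∈ F.carrier)
    (hw : w ∈ F.corners) : x + w ∈ F.carrier := by
  obtain ⟨b, hb⟩ := Facet.exists_mem_cham P F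
  rw [Facet.corners_eq P hb] at hw
  obtain ⟨j, hj, rfl⟩ := hw
  rw [Facet.mem_carrier_iff P hb]
  intro i hi
  have h1 := (Facet.mem_carrier_iff P hb x).mp hx i hi
  rw [map_add]
  by_cases hij : (⟨i, hi⟩ : b.support) = j
  · subst hij
    rw [coroot'_fundWeight_self b ⟨i, hi⟩]
    refine ⟨fun h => ?_, fun h => absurd hj h⟩
    have := h1.1 h
    linarith
  · rw [coroot'_fundWeight_of_ne b j ⟨i, hi⟩ hij, add_zero]
    exact h1

/-- S14229 -/
theorem Facet.span_carrier_eq (F : Facet P) :
    Submodule.span R F.carrier = Submodule.span R F.corners := by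
  apply le_antisymm
  · rw [Submodule.span_le]
    intro x hx
    exact Facet.mem_span_corners_of_mem_carrier P hx
  · rw [Submodule.span_le]
    intro w hw
    obtain ⟨x, hx⟩ := Facet.carrier_nonempty P F
    have h1 := Facet.add_corner_mem_carrier P hx hw
    have : w = (x + w) - x := by abel
    rw [this]
    exact Submodule.sub_mem _ (Submodule.subset_span h1) (Submodule.subset_span hx)

end Groth.Agent.H8.RootC
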