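import Mathlib
import Groth.Prelude.Def_RootCh2
import Groth.Agent.Lib.helper8.RootC6

/-! RootC7 (helper8): a facet is the set of positive combinations of its corners. -/

set_option autoImplicit false
set_option linter.unusedSectionVars false

namespace Groth.Agent.H8.RootC

open RootPairing RootCh Groth.Agent.H8.RootD Groth.Agent.H8.RootB Module

variable {ι R M N : Type*} [Field R] [LinearOrder R] [IsStrictOrderedRing R]
  [AddCommGroup M] [Module R M] [AddCommGroup N] [Module R N]
  (P : RootPairing ι R M N) [P.IsRootSystem]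
  [Finite ι] [P.IsCrystallographic] [P.IsReduced]

/-- S14230 -/
theorem Facet.carrier_eq_pos_comb (F : Facet P) :
    F.carrier = {ξ : M | ∃ c : M →₀ R, (c.support : Set M) ⊆ F.corners ∧
      (∀ m ∈ F.corners, 0 < c m) ∧ c.sum (fun m r => r • m) = ξ} := by
  classical
  obtain ⟨b, hb⟩ := Facet.exists_mem_cham P F
  have hinj := fundWeight_injective P b
  ext x
  constructor
  · intro hx
    let c₀ : b.support →₀ R := Finsupp.equivFunOnFinite.symm (fun i => P.coroot' i x)
    have hc₀ : ∀ i, c₀ i = P.coroot' i x := fun i => rfl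
    refine ⟨Finsupp.mapDomain (fundWeight b) c₀, ?_, ?_, ?_⟩
    · intro m hm
      have := Finsupp.mapDomain_support hm
      obtain ⟨i, hi, rfl⟩ := Finset.mem_image.mp this
      rw [Facet.corners_eq P hb]
      refine ⟨i, ?_, rfl⟩
      by_contra hne
      have h0 := ((Facet.mem_carrier_iff P hb x).mp hx i i.2).2 hne
      rw [Finsupp.mem_support_iff, hc₀] at hi
      exact hi h0
    · intro m hm
      rw [Facet.corners_eq P hb] at hm
      obtain ⟨i, hi, rfl⟩ := hm
      rw [Finsupp.mapDomain_apply hinj, hc₀]
      exact ((Facet.mem_carrier_iff P hb x).mp hx i i.2).1 hi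
    · show (Finsupp.mapDomain (fundWeight b) c₀).sum (fun m r => r • m) = x
      rw [Finsupp.sum_mapDomain_index (by intro; simp) (by intro _ _ _; rw [add_smul])]
      rw [Finsupp.sum_fintype _ _ (by intro; simp)]
      exact sum_fundWeight P b x
  · rintro ⟨c, hsupp, hpos, rfl⟩
    rw [Facet.mem_carrier_iff P hb]
    intro i hi
    have hsum : P.coroot' i (c.sum fun m r => r • m) = c.sum fun m r => r * P.coroot' i m := by
      rw [map_finsuppSum]; simp
    rw [hsum]
    by_cases hFi : F.sgn i = 1
    · refine ⟨fun _ => ?_, fun h => absurd hFi h⟩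
      have hcorner : fundWeight b ⟨i, hi⟩ ∈ F.corners := by
        rw [Facet.corners_eq P hb]; exact ⟨⟨i, hi⟩, hFi, rfl⟩
      have hc := hpos _ hcorner
      rw [Finsupp.sum, Finset.sum_eq_single (fundWeight b ⟨i, hi⟩)]
      · rw [coroot'_fundWeight_self b ⟨i, hi⟩, mul_one]; exact hc
      · intro m hm hne
        have := hsupp hm
        rw [Facet.corners_eq P hb] at this
        obtain ⟨j, hj, rfl⟩ := this
        rw [coroot'_fundWeight_of_ne b j ⟨i, hi⟩ (fun h => hne (by rw [h])), mul_zero]
      · intro h
        rw [Finsupp.notMem_support_iff] at h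
        rw [h, zero_mul]
    · refine ⟨fun h => absurd h hFi, fun _ => ?_⟩
      rw [Finsupp.sum]
      apply Finset.sum_eq_zero
      intro m hm
      have := hsupp hm
      rw [Facet.corners_eq P hb] at this
      obtain ⟨j, hj, rfl⟩ := this
      rw [coroot'_fundWeight_of_ne b j ⟨i, hi⟩ (fun h => hFi (by subst h; exact hj)), mul_zero]

end Groth.Agent.H8.RootC
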