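import Mathlib
import Groth.Prelude.Def_RootCh2
import Groth.Agent.Lib.helper8.RootC7

/-! RootC8 (helper8): the facet attached to a base and a set of simple indices. -/

set_option autoImplicit false
set_option linter.unusedSectionVars false

namespace Groth.Agent.H8.RootC

open RootPairing RootCh Groth.Agent.H8.RootD Groth.Agent.H8.RootB Module

variable {ι R M N : Type*} [Field R] [LinearOrder R] [IsStrictOrderedRing R]
  [AddCommGroup M] [Module R M] [AddCommGroup N] [Module R N]
  (P : RootPairing ι R M N) [P.IsRootSystem]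

open Classical in
/-- the vector `∑_{i ∈ J} ϖ_i` -/
noncomputable def rhoOf (b : P.Base) (J : Set b.support) : M :=
  ∑ i : b.support, (if i ∈ J then (1 : R) else 0) • fundWeight b i

/-- the facet attached to a base and a set of simple indices -/
noncomputable def facetOf (b : P.Base) (J : Set b.support) : Facet P :=
  Facet.ofVec P (rhoOf P b J)

open Classical in
theorem coroot'_rhoOf (b : P.Base) (J : Set b.support) (i : b.support) :
    P.coroot' i (rhoOf P b J) = if i ∈ J then 1 else 0 := by
  unfold rhoOf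
  rw [map_sum, Finset.sum_eq_single i]
  · rw [map_smul, coroot'_fundWeight_self, smul_eq_mul, mul_one]
  · intro j _ hne
    rw [map_smul, coroot'_fundWeight_of_ne b j i (Ne.symm hne), smul_zero]
  · intro h; exact absurd (Finset.mem_univ _) h

open Classical in
theorem facetOf_sgn (b : P.Base) (J : Set b.support) (i : b.support) :
    (facetOf P b J).sgn i = if i ∈ J then 1 else 0 := by
  show SignType.sign (P.coroot' i (rhoOf P b J)) = _
  rw [coroot'_rhoOf]
  split_ifs
  · exact sign_one
  · exact sign_zero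

variable [Finite ι] [P.IsCrystallographic] [P.IsReduced]

theorem mem_cham_facetOf (b : P.Base) (J : Set b.support) : b ∈ (facetOf P b J).cham := by
  classical
  rw [Facet.mem_cham_iff]
  intro i hi
  rw [facetOf_sgn P b J ⟨i, hi⟩]
  split_ifs <;> decide

theorem corners_facetOf (b : P.Base) (J : Set b.support) :
    (facetOf P b J).corners = fundWeight b '' J := by
  classical
  rw [Facet.corners_eq P (mem_cham_facetOf P b J)]
  ext w
  constructor
  · rintro ⟨i, hi, rfl⟩
    rw [facetOf_sgn] at hi
    refine ⟨i, ?_, rfl⟩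
    by_contra h
    rw [if_neg h] at hi
    exact absurd hi (by decide)
  · rintro ⟨i, hi, rfl⟩
    refine ⟨i, ?_, rfl⟩
    rw [facetOf_sgn, if_pos hi]

theorem Facet.eq_facetOf {F : Facet P} {b : P.Base} (hb : b ∈ F.cham) :
    F = facetOf P b {i | F.sgn i = 1} := by
  classical
  apply Facet.ext_of_base P hb
  intro i hi
  rw [facetOf_sgn P b _ ⟨i, hi⟩]
  rcases Facet.sgn_support P hb hi with h | h
  · rw [if_neg]
    · exact h
    · simp only [Set.mem_setOf_eq]
      rw [h]; decide
  · rw [if_pos]
    · exact h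
    · exact h

/-- S14232 -/
theorem Facet.exists_corners_eq_insert (F : Facet P) (m : M) (hm : m ∈ F.corners') :
    ∃ G : Facet P, G.corners = insert m F.corners := by
  unfold Facet.corners' at hm
  simp only [Set.mem_iUnion] at hm
  obtain ⟨b, hb, hmb⟩ := hm
  rw [baseCorners_eq] at hmb
  obtain ⟨j, rfl⟩ := hmb
  refine ⟨facetOf P b (insert j {i | F.sgn i = 1}), ?_⟩
  rw [corners_facetOf, Set.image_insert_eq, Facet.corners_eq P hb]
  congr 1

/-- S14233 -/
theorem Facet.exists_corners_eq_diff (F : Facet P) (m : M) (hm : m ∈ F.corners) :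
    ∃ G : Facet P, G.corners = F.corners \ {m} := by
  obtain ⟨b, hb⟩ := Facet.exists_mem_cham P F
  have hc := Facet.corners_eq P hb
  rw [hc] at hm
  obtain ⟨j, hj, rfl⟩ := hm
  refine ⟨facetOf P b ({i | F.sgn i = 1} \ {j}), ?_⟩
  rw [corners_facetOf, hc]
  ext w
  constructor
  · rintro ⟨i, ⟨hi1, hi2⟩, rfl⟩
    refine ⟨⟨i, hi1, rfl⟩, ?_⟩
    intro h
    exact hi2 (fundWeight_injective P b h)
  · rintro ⟨⟨i, hi, rfl⟩, hne⟩
    refine ⟨i, ⟨hi, ?_⟩, rfl⟩
    intro h
    apply hne
    rw [Set.mem_singleton_iff.mp h]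
    rfl

end Groth.Agent.H8.RootC
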