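import Mathlib
import Groth.Prelude.Def_RootCh2
import Groth.Agent.Lib.helper8.RootC8

/-! RootC9 (helper8): positivity for the dual base; corresponding fundamental weights and
coweights; the dual facet. -/

set_option autoImplicit false
set_option linter.unusedSectionVars false

namespace Groth.Agent.H8.RootC

open RootPairing RootCh Groth.Agent.H8.RootD Groth.Agent.H8.RootB Module

variable {ι R M N : Type*} [Field R] [LinearOrder R] [IsStrictOrderedRing R]
  [AddCommGroup M] [Module R M] [AddCommGroup N] [Module R N]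
  (P : RootPairing ι R M N) [P.IsRootSystem]
  [Finite ι] [P.IsCrystallographic] [P.IsReduced]

theorem isPos_flip_of_isPos (b : P.Base) {k : ι} (hk : b.IsPos k) : b.flip.IsPos k := by
  by_contra hneg
  have h1 : b.flip.IsPos (P.reflectionPerm k k) := (isPos_neg_iff P.flip b.flip k).mpr hneg
  have h2 : ∀ j : b.support, P.coroot' k (fundWeight b j) = 0 := by
    intro j
    have h3 : 0 ≤ P.coroot' (P.reflectionPerm k k) (fundWeight b j) :=
      root'_fundCoweight_nonneg P.flip b.flip h1 j
    rw [coroot'_neg_idx] at h3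
    have h4 := coroot'_fundWeight_nonneg P b hk j
    linarith
  have h5 := coroot'_expand P b k (P.root k)
  rw [P.root_coroot'_eq_pairing, P.pairing_same] at h5
  rw [Finset.sum_eq_zero (fun j _ => by rw [h2 j, zero_mul])] at h5
  exact two_ne_zero h5

theorem isPos_flip_iff (b : P.Base) (k : ι) : b.flip.IsPos k ↔ b.IsPos k :=
  ⟨fun h => isPos_flip_of_isPos P.flip b.flip h, isPos_flip_of_isPos P b⟩

/-- transport of a fundamental coweight by an automorphism carrying one base to another -/
theorem coweightMap_fundCoweight (b' b : P.Base) (g : P.Aut)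
    (hg : (fun i : ι => g • i) '' (b'.support : Set ι) = (b.support : Set ι)) (i' : b'.support)
    (i : b.support) (hi : (i : ι) = g • (i' : ι)) :
    g.toHom.coweightMap (fundCoweight b i) = fundCoweight b' i' := by
  apply eq_of_coroot'_eq P.flip b'.flip
  intro j hj
  have hj' : j ∈ b'.support := hj
  have hmem : g • j ∈ b.support := by
    have : g • j ∈ (b.support : Set ι) := by rw [← hg]; exact ⟨j, hj', rfl⟩
    exact this
  show P.toLinearMap (P.root j) (g.toHom.coweightMap (fundCoweight b i)) =
    P.toLinearMap (P.root j) (fundCoweight b' i')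
  rw [← aut_pairing, aut_smul_root]
  by_cases hji : (⟨j, hj'⟩ : b'.support) = i'
  · subst hji
    have e : (⟨g • j, hmem⟩ : b.support) = i := Subtype.ext hi.symm
    subst e
    exact (root'_fundCoweight_self b ⟨g • j, hmem⟩).trans
      (root'_fundCoweight_self b' ⟨j, hj'⟩).symm
  · have h1 := root'_fundCoweight_of_ne b' i' ⟨j, hj'⟩ hji
    have h2 := root'_fundCoweight_of_ne b i ⟨g • j, hmem⟩ (by
      intro h
      apply hji
      apply Subtype.ext
      have := congrArg Subtype.val h
      simp only at this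
      rw [hi] at this
      exact MulAction.injective g this)
    exact h2.trans h1.symm

/-- corresponding fundamental weights and coweights: the coweight is determined by the weight -/
theorem corr_unique {b b' : P.Base} {i : b.support} {i' : b'.support}
    (h : fundWeight b i = fundWeight b' i') : fundCoweight b i = fundCoweight b' i' := by
  obtain ⟨⟨g, hg⟩, hgb, -⟩ := existsUnique_weyl_base P b' b
  obtain ⟨i₂, hi₂, hi₂'⟩ := smul_fundWeight P b' b g hgb i'
  have hw : fundWeight b' i' ∈ closedChamber b := by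
    rw [← h]; exact fundWeight_mem_closedChamber P b i
  have hgw : g • fundWeight b' i' ∈ closedChamber b := by
    rw [hi₂']; exact fundWeight_mem_closedChamber P b i₂
  obtain ⟨l, hl, hlg⟩ := exists_word_fix P b hw hg hgw
  have hfix : g • fundWeight b' i' = fundWeight b' i' := by
    rw [← hlg]; exact wd_smul_fix P l _ (fun a ha => (hl a ha).2)
  have hii : i₂ = i := by
    apply fundWeight_injective P b
    rw [← hi₂', hfix, h]
  subst hii
  have h1 := coweightMap_fundCoweight P b' b g hgb i' i₂ hi₂
  rw [← h1, ← hlg]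
  symm
  apply wd_coweightMap_fix
  intro a ha
  obtain ⟨ha1, ha2⟩ := hl a ha
  rw [P.coreflection_apply]
  have hne : (⟨a, ha1⟩ : b.support) ≠ i₂ := by
    intro hh
    rw [← h, ← hh, coroot'_fundWeight_self b ⟨a, ha1⟩] at ha2
    exact one_ne_zero ha2
  have := root'_fundCoweight_of_ne b i₂ ⟨a, ha1⟩ hne
  rw [this, zero_smul, sub_zero]

theorem corr_unique' {b b' : P.Base} {i : b.support} {i' : b'.support}
    (h : fundCoweight b i = fundCoweight b' i') : fundWeight b i = fundWeight b' i' :=
  corr_unique P.flip (b := b.flip) (b' := b'.flip) (i := i) (i' := i') h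

theorem corr_iff (b : P.Base) (i : b.support) (y : N) :
    Corr P (fundWeight b i) y ↔ y = fundCoweight b i := by
  constructor
  · rintro ⟨b', i', h1, h2⟩
    rw [← h2]
    exact corr_unique P h1
  · rintro rfl
    exact ⟨b, i, rfl, rfl⟩

/-- (F7) the sign of a positive root on a facet adjacent to the chamber -/
theorem Facet.sgn_of_isPos {F : Facet P} {b : P.Base} (hb : b ∈ F.cham) {k : ι} (hk : b.IsPos k) :
    (F.sgn k = 0 ∨ F.sgn k = 1) ∧
    (F.sgn k = 1 ↔ ∃ j : b.support, F.sgn j = 1 ∧ P.coroot' k (fundWeight b j) ≠ 0) := by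
  obtain ⟨x, hx⟩ := F.exists_sgnVec_eq
  have hxc : x ∈ closedChamber b := hb hx
  have hxF : x ∈ F.carrier := hx
  have h0 := coroot'_nonneg_of_isPos P b hxc hk
  have hz := coroot'_eq_zero_iff_of_isPos P b hxc hk
  have hsgn : F.sgn k = SignType.sign (P.coroot' k x) := by rw [← hx]; rfl
  have hone : F.sgn k = 1 ↔ P.coroot' k x ≠ 0 := by
    rw [hsgn, sign_eq_one_iff]
    exact ⟨fun h => h.ne', fun h => lt_of_le_of_ne h0 (Ne.symm h)⟩
  constructor
  · by_cases h : P.coroot' k x = 0
    · left; rw [hsgn, h, sign_zero]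
    · right; exact hone.mpr h
  · rw [hone, Ne, hz]
    push Not
    constructor
    · rintro ⟨j, hj1, hj2⟩
      refine ⟨j, ?_, hj1⟩
      by_contra hne
      exact hj2 (((Facet.mem_carrier_iff P hb x).mp hxF j j.2).2 hne)
    · rintro ⟨j, hj1, hj2⟩
      exact ⟨j, hj2, (((Facet.mem_carrier_iff P hb x).mp hxF j j.2).1 hj1).ne'⟩

theorem cosgnVec_eq (x : N) : cosgnVec P x = sgnVec P.flip x := rfl

/-- a facet of the dual system with the same signs on a base is a dual facet -/
theorem Facet.sgn_eq_of_dual {F : Facet P} {G : Facet P.flip} {b : P.Base} (hb : b ∈ F.cham)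
    (hG : ∀ i ∈ b.support, G.sgn i = F.sgn i) : G.sgn = F.sgn := by
  have hbG : b.flip ∈ G.cham := by
    rw [Facet.mem_cham_iff]
    intro i hi
    rw [hG i hi]
    exact (Facet.mem_cham_iff P F b).mp hb i hi
  have key : ∀ k, b.IsPos k → G.sgn k = F.sgn k := by
    intro k hk
    have hF := Facet.sgn_of_isPos P hb hk
    have hG' := Facet.sgn_of_isPos P.flip hbG ((isPos_flip_iff P b k).mpr hk)
    have hiff : G.sgn k = 1 ↔ F.sgn k = 1 := by
      rw [hF.2, hG'.2]
      constructor
      · rintro ⟨j, hj1, hj2⟩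
        refine ⟨j, ?_, ?_⟩
        · rw [← hG j j.2]; exact hj1
        · rw [Ne, coroot'_fundWeight_eq_zero_iff]; exact hj2
      · rintro ⟨j, hj1, hj2⟩
        refine ⟨j, ?_, ?_⟩
        · show G.sgn j = 1
          rw [hG j j.2]; exact hj1
        · rw [Ne, coroot'_fundWeight_eq_zero_iff] at hj2; exact hj2
    rcases hF.1 with h | h
    · rcases hG'.1 with h' | h'
      · rw [h, h']
      · rw [hiff.mp h'] at h; exact absurd h (by decide)
    · rw [h, hiff.mpr h]
  funext k
  by_cases hk : b.IsPos k
  · exact key k hk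
  · have hk' : b.IsPos (P.reflectionPerm k k) := (isPos_neg_iff P b k).mpr hk
    have := key _ hk'
    have e : G.sgn (P.reflectionPerm k k) = - G.sgn k := Facet.sgn_neg_idx P.flip G k
    rw [Facet.sgn_neg_idx P F, e] at this
    exact neg_injective this

theorem Facet.exists_dual (F : Facet P) : ∃ x : N, cosgnVec P x = F.sgn := by
  classical
  obtain ⟨b, hb⟩ := Facet.exists_mem_cham P F
  let G : Facet P.flip := facetOf P.flip b.flip {i | F.sgn i = 1}
  obtain ⟨x, hx⟩ := G.exists_sgnVec_eq
  refine ⟨x, ?_⟩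
  rw [cosgnVec_eq, hx]
  apply Facet.sgn_eq_of_dual P hb
  intro i hi
  show (facetOf P.flip b.flip {i | F.sgn i = 1}).sgn i = F.sgn i
  rw [facetOf_sgn P.flip b.flip _ ⟨i, hi⟩]
  rcases Facet.sgn_support P hb hi with h | h
  · rw [if_neg]
    · exact h.symm
    · simp only [Set.mem_setOf_eq]; rw [h]; decide
  · rw [if_pos]
    · exact h.symm
    · exact h

/-- the dual facet -/
noncomputable def Facet.dual (F : Facet P) : Facet P.flip := ⟨F.sgn, Facet.exists_dual P F⟩

theorem Facet.dual_sgn (F : Facet P) : (Facet.dual P F).sgn = F.sgn := rfl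

theorem Facet.dualCarrier_eq (F : Facet P) : F.dualCarrier = (Facet.dual P F).carrier := rfl

theorem Facet.dualClosure_eq (F : Facet P) : F.dualClosure = (Facet.dual P F).closure := rfl

theorem Facet.dualCorners_eq (F : Facet P) : F.dualCorners = (Facet.dual P F).corners := rfl

theorem Facet.flip_mem_cham_dual {F : Facet P} {b : P.Base} (hb : b ∈ F.cham) :
    b.flip ∈ (Facet.dual P F).cham := by
  rw [Facet.mem_cham_iff]
  exact (Facet.mem_cham_iff P F b).mp hb

/-- S14231 -/
theorem Facet.dualCorners_eq_corr (F : Facet P) :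
    F.dualCorners = {y : N | ∃ m ∈ F.corners, Corr P m y} := by
  obtain ⟨b, hb⟩ := Facet.exists_mem_cham P F
  rw [Facet.dualCorners_eq, Facet.corners_eq P.flip (Facet.flip_mem_cham_dual P hb),
    Facet.corners_eq P hb]
  ext y
  constructor
  · rintro ⟨i, hi, rfl⟩
    exact ⟨fundWeight b i, ⟨i, hi, rfl⟩, b, i, rfl, rfl⟩
  · rintro ⟨m, ⟨i, hi, rfl⟩, hc⟩
    rw [corr_iff] at hc
    exact ⟨i, hi, hc.symm⟩

end Groth.Agent.H8.RootC
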