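import Mathlib
import Groth.Prelude.Def_RootCh2
import Groth.Agent.Lib.helper8.RootC9

/-! RootC10 (helper8): corners of a facet and its parabolic set of roots. -/

set_option autoImplicit false
set_option linter.unusedSectionVars false

namespace Groth.Agent.H8.RootC

open RootPairing RootCh Groth.Agent.H8.RootD Groth.Agent.H8.RootB Module

variable {ι R M N : Type*} [Field R] [LinearOrder R] [IsStrictOrderedRing R]
  [AddCommGroup M] [Module R M] [AddCommGroup N] [Module R N]
  (P : RootPairing ι R M N) [P.IsRootSystem]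
  [Finite ι] [P.IsCrystallographic] [P.IsReduced]

theorem Facet.isPos_mem_parab {F : Facet P} {b : P.Base} (hb : b ∈ F.cham) {k : ι}
    (hk : b.IsPos k) : k ∈ F.parab := by
  show F.sgn k ≠ -1
  rcases (Facet.sgn_of_isPos P hb hk).1 with h | h <;> rw [h] <;> decide

/-- a root of the parabolic set which is negative for an adjacent chamber has sign zero -/
theorem Facet.sgn_eq_zero_of_mem_parab_of_not_isPos {F : Facet P} {b : P.Base} (hb : b ∈ F.cham)
    {k : ι} (hk : ¬ b.IsPos k) (hkp : k ∈ F.parab) : F.sgn k = 0 := by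
  have hk' : b.IsPos (P.reflectionPerm k k) := (isPos_neg_iff P b k).mpr hk
  have h1 := (Facet.sgn_of_isPos P hb hk').1
  rw [Facet.sgn_neg_idx] at h1
  have h2 : F.sgn k ≠ -1 := hkp
  revert h1 h2
  generalize F.sgn k = a
  cases a <;> decide

theorem root'_fundCoweight_nonneg_of_mem_parab {F : Facet P} {b : P.Base} (hb : b ∈ F.cham)
    {j : b.support} (hj : F.sgn j = 1) {k : ι} (hkp : k ∈ F.parab) :
    0 ≤ P.root' k (fundCoweight b j) := by
  by_cases hk : b.IsPos k
  · exact root'_fundCoweight_nonneg P b hk j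
  · have hk' : b.IsPos (P.reflectionPerm k k) := (isPos_neg_iff P b k).mpr hk
    have h0 := Facet.sgn_eq_zero_of_mem_parab_of_not_isPos P hb hk hkp
    have h1 : F.sgn (P.reflectionPerm k k) ≠ 1 := by
      rw [Facet.sgn_neg_idx, h0]; decide
    rw [Ne, (Facet.sgn_of_isPos P hb hk').2] at h1
    push Not at h1
    have h2 := h1 j hj
    rw [coroot'_fundWeight_eq_zero_iff, root'_neg_idx, neg_eq_zero] at h2
    rw [h2]

/-- S14234 -/
theorem Facet.corners_eq_nonneg_on_parab (F : Facet P) :
    F.corners = {m : M | m ∈ fundWeights P ∧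
      ∀ y : N, Corr P m y → ∀ i ∈ F.parab, 0 ≤ P.root' i y} := by
  obtain ⟨b, hb⟩ := Facet.exists_mem_cham P F
  ext m
  constructor
  · intro hm
    refine ⟨hm.1, ?_⟩
    rw [Facet.corners_eq P hb] at hm
    obtain ⟨j, hj, rfl⟩ := hm
    intro y hy i hi
    rw [corr_iff] at hy
    rw [hy]
    exact root'_fundCoweight_nonneg_of_mem_parab P hb hj hi
  · rintro ⟨⟨b', j', rfl⟩, hy⟩
    have hy' := hy (fundCoweight b' j') ⟨b', j', rfl, rfl⟩
    have h1 : fundCoweight b' j' ∈ baseCorners (P := P.flip) b.flip := by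
      refine ⟨⟨b'.flip, j', rfl⟩, ?_⟩
      intro i hi
      exact hy' i (Facet.isPos_mem_parab P hb (b.isPos_of_mem_support hi))
    rw [baseCorners_eq P.flip b.flip] at h1
    obtain ⟨j, hj⟩ := h1
    have hj' : fundCoweight b j = fundCoweight b' j' := hj
    have hm := corr_unique' P hj'
    rw [← hm, Facet.corners_eq P hb]
    refine ⟨j, ?_, rfl⟩
    rcases Facet.sgn_support P hb j.2 with h | h
    · exfalso
      have h2 : P.reflectionPerm j j ∈ F.parab := by
        show F.sgn (P.reflectionPerm j j) ≠ -1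
        rw [Facet.sgn_neg_idx, h]; decide
      have h3 := hy' _ h2
      rw [← hj', root'_neg_idx, root'_fundCoweight_self] at h3
      linarith
    · exact h

end Groth.Agent.H8.RootC
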