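import Mathlib
import Groth.Prelude.Def_RootCh2
import Groth.Agent.Lib.helper8.RootC10

/-! RootC11 (helper8): transport of a base by an automorphism; the adjacent base. -/

set_option autoImplicit false
set_option linter.unusedSectionVars false

namespace Groth.Agent.H8.RootC

open RootPairing RootCh Groth.Agent.H8.RootD Groth.Agent.H8.RootB Module

variable {ι R M N : Type*} [Field R] [LinearOrder R] [IsStrictOrderedRing R]
  [AddCommGroup M] [Module R M] [AddCommGroup N] [Module R N]
  (P : RootPairing ι R M N) [P.IsRootSystem]
  [Finite ι] [P.IsCrystallographic] [P.IsReduced]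

theorem base_ext {b b' : P.Base} (h : b.support = b'.support) : b = b' := by
  cases b; cases b'; simp only at h; subst h; rfl

theorem linearIndepOn_root_image (g : P.Aut) (b : P.Base) :
    LinearIndepOn R P.root ((fun i => g • i) '' (b.support : Set ι)) := by
  apply LinearIndepOn.image_of_comp
  have h := b.linearIndepOn_root.map_injOn g.toHom.weightMap
    (g.bijective_weightMap.injective.injOn)
  have e : (P.root ∘ fun i => g • i) = (⇑g.toHom.weightMap ∘ ⇑P.root) := by
    funext i
    exact (aut_smul_root P g i).symm
  rw [e]
  exact h

theorem root_mem_or_neg_mem_image (g : P.Aut) (b : P.Base) (i : ι) :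
    P.root i ∈ AddSubmonoid.closure (P.root '' ((fun i => g • i) '' (b.support : Set ι))) ∨
    - P.root i ∈ AddSubmonoid.closure (P.root '' ((fun i => g • i) '' (b.support : Set ι))) := by
  have hmap : ∀ m ∈ AddSubmonoid.closure (P.root '' (b.support : Set ι)),
      g • m ∈ AddSubmonoid.closure (P.root '' ((fun i => g • i) '' (b.support : Set ι))) := by
    intro m hm
    induction hm using AddSubmonoid.closure_induction with
    | mem x hx =>
      obtain ⟨j, hj, rfl⟩ := hx
      rw [aut_smul_root]
      exact AddSubmonoid.subset_closure ⟨g • j, ⟨j, hj, rfl⟩, rfl⟩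
    | zero => rw [smul_zero]; exact zero_mem _
    | add x y _ _ hx hy => rw [smul_add]; exact add_mem hx hy
  rcases b.root_mem_or_neg_mem (g⁻¹ • i) with h | h
  · left
    have := hmap _ h
    rwa [aut_smul_root, smul_smul, mul_inv_cancel, one_smul] at this
  · right
    have := hmap _ h
    rwa [smul_neg, aut_smul_root, smul_smul, mul_inv_cancel, one_smul] at this

/-- transport of a base by an automorphism -/
noncomputable def mapBase (g : P.Aut) (b : P.Base) : P.Base :=
  Base.mk' P ((fun i => g • i) '' (b.support : Set ι)) (linearIndepOn_root_image P g b)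
    (root_mem_or_neg_mem_image P g b)

theorem mapBase_support (g : P.Aut) (b : P.Base) :
    ((mapBase P g b).support : Set ι) = (fun i => g • i) '' (b.support : Set ι) := by
  simp [mapBase, Base.mk']

theorem smul_mem_mapBase_support (g : P.Aut) (b : P.Base) {i : ι} (hi : i ∈ b.support) :
    g • i ∈ (mapBase P g b).support := by
  have : g • i ∈ ((mapBase P g b).support : Set ι) := by
    rw [mapBase_support]; exact ⟨i, hi, rfl⟩
  exact this

theorem mapBase_isPos (g : P.Aut) (b : P.Base) (k : ι) :
    (mapBase P g b).IsPos (g • k) ↔ b.IsPos k := by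
  have h1 : ∀ i, b.IsPos i → (mapBase P g b).IsPos (g • i) :=
    pos_of_simple_pos P b (mapBase P g b) g
      (fun s hs => (mapBase P g b).isPos_of_mem_support (smul_mem_mapBase_support P g b hs))
  constructor
  · intro h
    by_contra hneg
    have h2 : b.IsPos (P.reflectionPerm k k) := (isPos_neg_iff P b k).mpr hneg
    have h3 := h1 _ h2
    rw [neg_smul_idx, isPos_neg_iff] at h3
    exact h3 h
  · exact h1 k

/-- the base adjacent to `b` across the wall of the simple root `i` -/
noncomputable def reflBase (b : P.Base) (i : ι) : P.Base := mapBase P (Equiv.reflection P i) b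

theorem reflBase_isPos_iff (b : P.Base) {i : ι} (hi : i ∈ b.support) (k : ι) :
    (reflBase P b i).IsPos k ↔ (b.IsPos k ∧ k ≠ i) ∨ k = P.reflectionPerm i i := by
  have h0 : (reflBase P b i).IsPos k ↔ b.IsPos (P.reflectionPerm i k) := by
    have := mapBase_isPos P (Equiv.reflection P i) b (P.reflectionPerm i k)
    rw [reflection_smul_idx, P.reflectionPerm_self] at this
    exact this
  rw [h0]
  constructor
  · intro h
    by_cases hki : P.reflectionPerm i k = i
    · right
      have := congrArg (P.reflectionPerm i) hki
      rw [P.reflectionPerm_self] at this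
      exact this
    · left
      have h1 := h.reflectionPerm hi hki
      rw [P.reflectionPerm_self] at h1
      refine ⟨h1, ?_⟩
      rintro rfl
      exact (isPos_neg_iff P b k).mp h h1
  · rintro (⟨h1, h2⟩ | rfl)
    · exact h1.reflectionPerm hi h2
    · rw [P.reflectionPerm_self]
      exact b.isPos_of_mem_support hi

theorem eq_of_isPos_imp {b b' : P.Base} (h : ∀ i, b.IsPos i → b'.IsPos i) : b = b' := by
  have h1 := image_support_eq_of_pos P b b' 1 (by simpa using h)
  apply base_ext P
  apply Finset.coe_injective
  rw [← h1]
  simp

end Groth.Agent.H8.RootC
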