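import Mathlib
import Groth.Prelude.Def_RootCh2
import Groth.Agent.Lib.helper8.RootC11

/-! RootC12 (helper8): parabolic sets of roots and facets. -/

set_option autoImplicit false
set_option linter.unusedSectionVars false

namespace Groth.Agent.H8.RootC

open RootPairing RootCh Groth.Agent.H8.RootD Groth.Agent.H8.RootB Module

variable {ι R M N : Type*} [Field R] [LinearOrder R] [IsStrictOrderedRing R]
  [AddCommGroup M] [Module R M] [AddCommGroup N] [Module R N]
  (P : RootPairing ι R M N) [P.IsRootSystem]
  [Finite ι] [P.IsCrystallographic] [P.IsReduced]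

theorem Facet.parab_injective {F G : Facet P} (h : F.parab = G.parab) : F = G := by
  apply Facet.ext
  funext i
  have h1 : ¬ (F.sgn i = -1) ↔ ¬ (G.sgn i = -1) := by
    have : i ∈ F.parab ↔ i ∈ G.parab := by rw [h]
    exact this
  have h2 : ¬ (F.sgn (P.reflectionPerm i i) = -1) ↔ ¬ (G.sgn (P.reflectionPerm i i) = -1) := by
    have : P.reflectionPerm i i ∈ F.parab ↔ P.reflectionPerm i i ∈ G.parab := by rw [h]
    exact this
  rw [Facet.sgn_neg_idx, Facet.sgn_neg_idx] at h2
  revert h1 h2
  generalize F.sgn i = a
  generalize G.sgn i = c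
  cases a <;> cases c <;> decide

theorem Facet.isParabolicSubset_parab (F : Facet P) : IsParabolicSubset P F.parab := by
  let _ := Fintype.ofFinite ι
  obtain ⟨x, hx⟩ := F.exists_sgnVec_eq
  have hmem : ∀ i, i ∈ F.parab ↔ 0 ≤ P.coroot' i x := by
    intro i
    show F.sgn i ≠ -1 ↔ _
    rw [← hx]
    unfold sgnVec
    rw [Ne, sign_eq_neg_one_iff, not_lt]
  constructor
  · intro i j k hi hj hk
    rw [hmem] at hi hj ⊢
    have h := len_smul_coroot_add P hk
    have h2 := congrArg (P.toLinearMap x) h
    simp only [map_add, map_smul, smul_eq_mul] at h2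
    change P.RootForm (P.root k) (P.root k) * P.coroot' k x =
      P.RootForm (P.root i) (P.root i) * P.coroot' i x +
      P.RootForm (P.root j) (P.root j) * P.coroot' j x at h2
    have hk0 := rootForm_root_pos P k
    have hi0 := rootForm_root_pos P i
    have hj0 := rootForm_root_pos P j
    by_contra hneg
    rw [not_le] at hneg
    have h3 := mul_neg_of_pos_of_neg hk0 hneg
    have h4 := add_nonneg (mul_nonneg hi0.le hi) (mul_nonneg hj0.le hj)
    linarith
  · intro i
    rw [hmem, hmem, coroot'_neg_idx]
    rcases le_total 0 (P.coroot' i x) with h | h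
    · left; exact h
    · right; linarith

theorem Facet.le_iff_parab_subset (F G : Facet P) : F ≤ G ↔ F.parab ⊆ G.parab := by
  rw [Facet.le_def]
  constructor
  · intro h i hi
    show G.sgn i ≠ -1
    have hi' : F.sgn i ≠ -1 := hi
    rcases h i with h' | h'
    · rw [h']; decide
    · rw [h']; exact hi'
  · intro h i
    have h1 : ¬ (F.sgn i = -1) → ¬ (G.sgn i = -1) := fun hi => h hi
    have h2 : ¬ (F.sgn (P.reflectionPerm i i) = -1) → ¬ (G.sgn (P.reflectionPerm i i) = -1) :=
      fun hi => h hi
    rw [Facet.sgn_neg_idx, Facet.sgn_neg_idx] at h2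
    revert h1 h2
    generalize F.sgn i = a
    generalize G.sgn i = c
    cases a <;> cases c <;> decide

/-- a parabolic set contains all the simple roots of some base -/
theorem exists_base_support_subset {S : Set ι} (hS : IsParabolicSubset P S) :
    ∃ b : P.Base, ∀ i ∈ b.support, i ∈ S := by
  have key : ∀ n : ℕ, ∀ b : P.Base, {k | b.IsPos k ∧ k ∉ S}.ncard = n →
      ∃ b' : P.Base, ∀ i ∈ b'.support, i ∈ S := by
    intro n
    induction n using Nat.strong_induction_on with
    | _ n ih =>
      intro b hn
      by_cases hall : ∀ i ∈ b.support, i ∈ S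
      · exact ⟨b, hall⟩
      · push Not at hall
        obtain ⟨i, hi, hiS⟩ := hall
        have hneg : P.reflectionPerm i i ∈ S := (hS.2 i).resolve_left hiS
        have hsub : {k | (reflBase P b i).IsPos k ∧ k ∉ S} ⊂ {k | b.IsPos k ∧ k ∉ S} := by
          constructor
          · rintro k ⟨hk1, hk2⟩
            rw [reflBase_isPos_iff P b hi] at hk1
            rcases hk1 with ⟨h1, -⟩ | rfl
            · exact ⟨h1, hk2⟩
            · exact absurd hneg hk2
          · intro hcon
            have h1 : i ∈ {k | b.IsPos k ∧ k ∉ S} := ⟨b.isPos_of_mem_support hi, hiS⟩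
            have h2 := (hcon h1).1
            rw [reflBase_isPos_iff P b hi] at h2
            rcases h2 with ⟨-, h3⟩ | h3
            · exact h3 rfl
            · have h4 := b.isPos_of_mem_support hi
              rw [h3, isPos_neg_iff] at h4
              exact h4 (b.isPos_of_mem_support hi)
        have hlt := Set.ncard_lt_ncard hsub (Set.toFinite _)
        rw [hn] at hlt
        exact ih _ hlt (reflBase P b i) rfl
  obtain ⟨b⟩ := P.nonempty_base
  exact key _ b rfl

theorem isPos_mem_of_support_subset {S : Set ι} (hS : IsParabolicSubset P S) {b : P.Base}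
    (hb : ∀ i ∈ b.support, i ∈ S) {k : ι} (hk : b.IsPos k) : k ∈ S := by
  refine hk.induction_on_add (p := fun k => k ∈ S) hb ?_
  intro i j k hk hi hj
  exact hS.1 i j k hi (hb j hj) hk

theorem root'_add {i j k : ι} (h : P.root k = P.root i + P.root j) (y : N) :
    P.root' k y = P.root' i y + P.root' j y := by
  simp only [RootPairing.root']
  rw [h, map_add, LinearMap.add_apply]

theorem root_neg_add {i j k : ι} (h : P.root k = P.root i + P.root j) :
    P.root (P.reflectionPerm k k) =
      P.root (P.reflectionPerm i i) + P.root (P.reflectionPerm j j) := by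
  rw [root_neg_idx, root_neg_idx, root_neg_idx, h, neg_add]

theorem root'_fundCoweight_simple [DecidableEq ι] (b : P.Base) {j : ι} (hj : j ∈ b.support) (j' : b.support) :
    P.root' j (fundCoweight b j') = if (j' : ι) = j then 1 else 0 := by
  split_ifs with h
  · subst h
    exact root'_fundCoweight_self b j'
  · exact root'_fundCoweight_of_ne b j' ⟨j, hj⟩ (fun h' => h (by rw [← h']))

/-- for a parabolic set containing the positive roots, the negative of a positive root lies in
the set iff the negatives of the simple roots in its support do -/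
theorem neg_mem_iff {S : Set ι} (hS : IsParabolicSubset P S) {b : P.Base}
    (hb : ∀ i ∈ b.support, i ∈ S) {k : ι} (hk : b.IsPos k) :
    P.reflectionPerm k k ∈ S ↔
      ∀ j : b.support, P.root' k (fundCoweight b j) ≠ 0 → P.reflectionPerm j j ∈ S := by
  classical
  have hpos : ∀ k, b.IsPos k → k ∈ S := fun k hk => isPos_mem_of_support_subset P hS hb hk
  have key : b.IsPos k ∧ (P.reflectionPerm k k ∈ S ↔
      ∀ j : b.support, P.root' k (fundCoweight b j) ≠ 0 → P.reflectionPerm j j ∈ S) := by
    refine hk.induction_on_add (p := fun k => b.IsPos k ∧ (P.reflectionPerm k k ∈ S ↔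
      ∀ j : b.support, P.root' k (fundCoweight b j) ≠ 0 → P.reflectionPerm j j ∈ S)) ?_ ?_
    · intro i hi
      refine ⟨b.isPos_of_mem_support hi, ?_⟩
      constructor
      · intro h j hj
        rw [root'_fundCoweight_simple P b hi j] at hj
        by_cases hji : (j : ι) = i
        · rw [hji]; exact h
        · rw [if_neg hji] at hj; exact absurd rfl hj
      · intro h
        have := h ⟨i, hi⟩ (by rw [root'_fundCoweight_self b ⟨i, hi⟩]; exact one_ne_zero)
        exact this
    · rintro i j k hkij ⟨hi, hiff⟩ hj
      have hkpos : b.IsPos k := hi.add (b.isPos_of_mem_support hj) hkij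
      refine ⟨hkpos, ?_⟩
      have hadd : ∀ j' : b.support, P.root' k (fundCoweight b j') =
          P.root' i (fundCoweight b j') + P.root' j (fundCoweight b j') :=
        fun j' => root'_add P hkij _
      have hnn : ∀ j' : b.support, 0 ≤ P.root' i (fundCoweight b j') :=
        fun j' => root'_fundCoweight_nonneg P b hi j'
      have hnn' : ∀ j' : b.support, 0 ≤ P.root' j (fundCoweight b j') :=
        fun j' => root'_fundCoweight_nonneg P b (b.isPos_of_mem_support hj) j'
      constructor
      · intro hkS
        -- -i = -k + j and -j = -k + i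
        have hiS : P.reflectionPerm i i ∈ S := by
          apply hS.1 (P.reflectionPerm k k) j _ hkS (hb j hj)
          rw [root_neg_idx, root_neg_idx, hkij]; abel
        have hjS : P.reflectionPerm j j ∈ S := by
          apply hS.1 (P.reflectionPerm k k) i _ hkS (hpos i hi)
          rw [root_neg_idx, root_neg_idx, hkij]; abel
        intro j' hj'
        rw [hadd] at hj'
        by_cases h1 : P.root' i (fundCoweight b j') = 0
        · rw [h1, zero_add, root'_fundCoweight_simple P b hj j'] at hj'
          by_cases hjj : (j' : ι) = j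
          · rw [hjj]; exact hjS
          · rw [if_neg hjj] at hj'; exact absurd rfl hj'
        · exact hiff.mp hiS j' h1
      · intro hall
        have hiS : P.reflectionPerm i i ∈ S := by
          apply hiff.mpr
          intro j' hj'
          apply hall j'
          rw [hadd]
          have := hnn j'
          have := hnn' j'
          intro h0
          apply hj'
          linarith
        have hjS : P.reflectionPerm j j ∈ S := by
          apply hall ⟨j, hj⟩
          rw [hadd, root'_fundCoweight_self b ⟨j, hj⟩]
          have := hnn ⟨j, hj⟩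
          intro h0
          linarith
        exact hS.1 _ _ _ hiS hjS (root_neg_add P hkij)
  exact key.2

/-- every parabolic set is the parabolic set of a facet -/
theorem exists_facet_parab_eq {S : Set ι} (hS : IsParabolicSubset P S) :
    ∃ F : Facet P, F.parab = S := by
  classical
  obtain ⟨b, hb⟩ := exists_base_support_subset P hS
  have hpos : ∀ k, b.IsPos k → k ∈ S := fun k hk => isPos_mem_of_support_subset P hS hb hk
  let J : Set b.support := {j | P.reflectionPerm j j ∉ S}
  refine ⟨facetOf P b J, ?_⟩
  have hcham := mem_cham_facetOf P b J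
  have hneg : ∀ k, b.IsPos k →
      (P.reflectionPerm k k ∈ (facetOf P b J).parab ↔ P.reflectionPerm k k ∈ S) := by
    intro k hk
    rw [neg_mem_iff P hS hb hk]
    show (facetOf P b J).sgn (P.reflectionPerm k k) ≠ -1 ↔ _
    rw [Facet.sgn_neg_idx]
    have h1 := Facet.sgn_of_isPos P hcham hk
    have h2 : - (facetOf P b J).sgn k ≠ -1 ↔ ¬ ((facetOf P b J).sgn k = 1) := by
      generalize (facetOf P b J).sgn k = a
      cases a <;> decide
    rw [h2, h1.2]
    push Not
    constructor
    · intro h j hj
      by_contra hjS
      have hjJ : j ∈ J := hjS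
      have := h j (by rw [facetOf_sgn, if_pos hjJ])
      rw [coroot'_fundWeight_eq_zero_iff] at this
      exact hj this
    · intro h j hj
      rw [facetOf_sgn] at hj
      have hjJ : j ∈ J := by
        by_contra hn
        rw [if_neg hn] at hj
        exact absurd hj (by decide)
      rw [coroot'_fundWeight_eq_zero_iff]
      by_contra hne
      exact hjJ (h j hne)
  ext k
  by_cases hk : b.IsPos k
  · exact ⟨fun _ => hpos k hk, fun _ => Facet.isPos_mem_parab P hcham hk⟩
  · have hk' : b.IsPos (P.reflectionPerm k k) := (isPos_neg_iff P b k).mpr hk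
    have := hneg _ hk'
    have e : P.reflectionPerm (P.reflectionPerm k k) (P.reflectionPerm k k) = k := by
      apply P.root.injective
      rw [root_neg_idx, root_neg_idx, neg_neg]
    rw [e] at this
    exact this

end Groth.Agent.H8.RootC

namespace Groth.Agent.H8.RootC

open RootPairing RootCh Groth.Agent.H8.RootD Groth.Agent.H8.RootB Module

variable {ι R M N : Type*} [Field R] [LinearOrder R] [IsStrictOrderedRing R]
  [AddCommGroup M] [Module R M] [AddCommGroup N] [Module R N]
  (P : RootPairing ι R M N) [P.IsRootSystem]
  [Finite ι] [P.IsCrystallographic] [P.IsReduced]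

theorem Facet.eq_of_corners_eq {F G : Facet P} (h : F.corners = G.corners) : F = G := by
  have hc : F.carrier = G.carrier := by
    rw [Facet.carrier_eq_pos_comb P F, Facet.carrier_eq_pos_comb P G, h]
  obtain ⟨x, hx⟩ := Facet.carrier_nonempty P F
  have hx' : x ∈ G.carrier := hc ▸ hx
  apply Facet.ext
  have h1 : sgnVec P x = F.sgn := hx
  have h2 : sgnVec P x = G.sgn := hx'
  rw [← h1, ← h2]

/-- S14236 -/
theorem isParabolicSubset_iff :
    (∀ S : Set ι, IsParabolicSubset P S ↔ ∃! F : Facet P, F.parab = S) ∧
      ∀ F G : Facet P, F ≤ G ↔ F.parab ⊆ G.parab := by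
  refine ⟨fun S => ⟨fun hS => ?_, ?_⟩, fun F G => Facet.le_iff_parab_subset P F G⟩
  · obtain ⟨F, hF⟩ := exists_facet_parab_eq P hS
    exact ⟨F, hF, fun G hG => Facet.parab_injective P (hG.trans hF.symm)⟩
  · rintro ⟨F, rfl, -⟩
    exact Facet.isParabolicSubset_parab P F

/-- S14235 -/
theorem existsUnique_facet_of_parabolic (S : Set ι) (hS : IsParabolicSubset P S) :
    ∃ F : Facet P,
      (F.corners = {m : M | m ∈ fundWeights P ∧
          ∀ y : N, Corr P m y → ∀ i ∈ S, 0 ≤ P.root' i y} ∧ F.parab = S) ∧
      ∀ G : Facet P,
        G.corners = {m : M | m ∈ fundWeights P ∧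
          ∀ y : N, Corr P m y → ∀ i ∈ S, 0 ≤ P.root' i y} → G = F := by
  obtain ⟨F, hF⟩ := exists_facet_parab_eq P hS
  have hc := Facet.corners_eq_nonneg_on_parab P F
  rw [hF] at hc
  exact ⟨F, ⟨hc, hF⟩, fun G hG => Facet.eq_of_corners_eq P (hG.trans hc.symm)⟩

end Groth.Agent.H8.RootC
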