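import Mathlib
import Groth.Prelude.Def_RootCh2
import Groth.Agent.Lib.helper8.RootC12

/-! RootC13 (helper8): the sum of the roots of the parabolic set of a facet lies in the facet. -/

set_option autoImplicit false
set_option linter.unusedSectionVars false

namespace Groth.Agent.H8.RootC

open RootPairing RootCh Groth.Agent.H8.RootD Groth.Agent.H8.RootB Module

variable {ι R M N : Type*} [Field R] [LinearOrder R] [IsStrictOrderedRing R]
  [AddCommGroup M] [Module R M] [AddCommGroup N] [Module R N]
  (P : RootPairing ι R M N) [P.IsRootSystem]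

omit [LinearOrder R] [IsStrictOrderedRing R] in
/-- sum of an anti-invariant function over a stable finite set vanishes -/
theorem sum_eq_zero_of_involution [CharZero R] {κ : Type*} (T : Finset κ) (σ : κ → κ) (f : κ → R)
    (hT : ∀ i ∈ T, σ i ∈ T) (hσ : ∀ i ∈ T, σ (σ i) = i) (hf : ∀ i ∈ T, f (σ i) = - f i) :
    ∑ i ∈ T, f i = 0 := by
  have h : ∑ i ∈ T, f i = ∑ i ∈ T, f (σ i) := by
    apply Finset.sum_nbij' σ σ hT hT hσ hσ
    intro i hi
    rw [hσ i hi]
  rw [Finset.sum_congr rfl hf, Finset.sum_neg_distrib] at h
  have h2 : (2 : R) * ∑ i ∈ T, f i = 0 := by linear_combination h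
  rcases mul_eq_zero.mp h2 with h3 | h3
  · exact absurd h3 two_ne_zero
  · exact h3

/-- expansion of a vector in the simple roots -/
theorem sum_root (b : P.Base) (x : M) :
    ∑ j : b.support, P.toLinearMap x (fundCoweight b j) • P.root j = x := by
  rw [← sub_eq_zero]
  apply eq_zero_of_toLinearMap_eq_zero P
  intro n
  have hn := sum_fundWeight P.flip b.flip n
  rw [map_sub, LinearMap.sub_apply, sub_eq_zero]
  conv_rhs => rw [← hn]
  rw [map_sum, map_sum, LinearMap.sum_apply]
  apply Finset.sum_congr rfl
  intro j _
  rw [map_smul, map_smul, LinearMap.smul_apply, smul_eq_mul, smul_eq_mul, mul_comm]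
  rfl

variable [Finite ι] [P.IsCrystallographic] [P.IsReduced]

theorem pairing_simple_nonpos (b : P.Base) {i j : ι} (hi : i ∈ b.support) (hj : j ∈ b.support)
    (hij : i ≠ j) : P.pairing i j ≤ 0 := by
  have h := b.pairingIn_le_zero_of_ne hij hi hj
  rw [← P.algebraMap_pairingIn ℤ i j]
  simpa using h

theorem sgnVec_reflectionPerm_of_eq_zero {x : M} {j : ι} (hj : P.coroot' j x = 0) (i : ι) :
    sgnVec P x (P.reflectionPerm j i) = sgnVec P x i := by
  unfold sgnVec
  rw [← P.coroot'_reflection, P.reflection_apply, hj, zero_smul, sub_zero]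

theorem Facet.sgn_reflectionPerm_of_eq_zero {F : Facet P} {j : ι} (hj : F.sgn j = 0) (i : ι) :
    F.sgn (P.reflectionPerm j i) = F.sgn i := by
  obtain ⟨x, hx⟩ := F.exists_sgnVec_eq
  rw [← hx]
  apply sgnVec_reflectionPerm_of_eq_zero
  rw [← hx] at hj
  exact sign_eq_zero_iff.mp hj

theorem pairing_reflectionPerm_left (i j : ι) :
    P.pairing (P.reflectionPerm j i) j = - P.pairing i j := by
  rw [← P.pairing_reflectionPerm, P.pairing_reflectionPerm_self_right]

open Classical in
theorem Facet.sum_parab_split [Fintype ι] (F : Facet P) (f : ι → R) :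
    ∑ i ∈ (Set.toFinite F.parab).toFinset, f i =
      ∑ i ∈ Finset.univ.filter (fun i => F.sgn i = 0), f i +
      ∑ i ∈ Finset.univ.filter (fun i => F.sgn i = 1), f i := by
  rw [← Finset.sum_union]
  · apply Finset.sum_congr _ (fun _ _ => rfl)
    ext i
    simp only [Set.Finite.mem_toFinset, Finset.mem_union, Finset.mem_filter, Finset.mem_univ,
      true_and]
    show F.sgn i ≠ -1 ↔ _
    generalize F.sgn i = a
    cases a <;> decide
  · rw [Finset.disjoint_filter]
    intro i _ h0 h1
    rw [h0] at h1
    exact absurd h1 (by decide)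

open Classical in
theorem Facet.sum_levi_pairing [Fintype ι] (F : Facet P) (j : ι) :
    ∑ i ∈ Finset.univ.filter (fun i => F.sgn i = 0), P.pairing i j = 0 := by
  apply sum_eq_zero_of_involution _ (fun i => P.reflectionPerm i i)
  · intro i hi
    simp only [Finset.mem_filter, Finset.mem_univ, true_and] at hi ⊢
    rw [Facet.sgn_neg_idx, hi]; rfl
  · intro i _
    apply P.root.injective
    rw [root_neg_idx, root_neg_idx, neg_neg]
  · intro i _
    exact P.pairing_reflectionPerm_self_left i j

open Classical in
theorem Facet.sum_pos_pairing_of_sgn_zero [Fintype ι] (F : Facet P) {j : ι} (hj : F.sgn j = 0) :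
    ∑ i ∈ Finset.univ.filter (fun i => F.sgn i = 1), P.pairing i j = 0 := by
  apply sum_eq_zero_of_involution _ (fun i => P.reflectionPerm j i)
  · intro i hi
    simp only [Finset.mem_filter, Finset.mem_univ, true_and] at hi ⊢
    rw [Facet.sgn_reflectionPerm_of_eq_zero P hj, hi]
  · intro i _
    exact P.reflectionPerm_self j i
  · intro i _
    exact pairing_reflectionPerm_left P i j

open Classical in
theorem sum_isPos_pairing [Fintype ι] (b : P.Base) {j : ι} (hj : j ∈ b.support) :
    ∑ i ∈ Finset.univ.filter (fun i => b.IsPos i), P.pairing i j = 2 := by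
  have hjmem : j ∈ Finset.univ.filter (fun i => b.IsPos i) := by
    simp only [Finset.mem_filter, Finset.mem_univ, true_and]
    exact b.isPos_of_mem_support hj
  rw [← Finset.add_sum_erase _ _ hjmem, P.pairing_same]
  have : ∑ i ∈ (Finset.univ.filter (fun i => b.IsPos i)).erase j, P.pairing i j = 0 := by
    apply sum_eq_zero_of_involution _ (fun i => P.reflectionPerm j i)
    · intro i hi
      simp only [Finset.mem_erase, Finset.mem_filter, Finset.mem_univ, true_and] at hi ⊢
      refine ⟨?_, hi.2.reflectionPerm hj hi.1⟩
      intro h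
      have h2 := congrArg (P.reflectionPerm j) h
      rw [P.reflectionPerm_self] at h2
      have h3 := hi.2
      rw [h2, isPos_neg_iff] at h3
      exact h3 (b.isPos_of_mem_support hj)
    · intro i _
      exact P.reflectionPerm_self j i
    · intro i _
      exact pairing_reflectionPerm_left P i j
  rw [this, add_zero]

/-- a positive root of sign zero pairs non-positively with a simple coroot of sign one -/
theorem Facet.pairing_nonpos_of_levi {F : Facet P} {b : P.Base} (hb : b ∈ F.cham) {i : ι}
    (hi : b.IsPos i) (hi0 : F.sgn i = 0) {j : ι} (hj : j ∈ b.support) (hj1 : F.sgn j = 1) :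
    P.pairing i j ≤ 0 := by
  have h1 := sum_root P b (P.root i)
  have h2 : P.pairing i j = P.coroot' j (P.root i) := (P.root_coroot'_eq_pairing j i).symm
  rw [h2, ← h1, map_sum]
  apply Finset.sum_nonpos
  intro j' _
  rw [map_smul, smul_eq_mul, P.root_coroot'_eq_pairing]
  by_cases hjj : (j' : ι) = j
  · have h3 : F.sgn i ≠ 1 := by rw [hi0]; decide
    rw [Ne, (Facet.sgn_of_isPos P hb hi).2] at h3
    push Not at h3
    have h4 := h3 j' (by rw [hjj]; exact hj1)
    rw [coroot'_fundWeight_eq_zero_iff] at h4
    have h5 : P.toLinearMap (P.root i) (fundCoweight b j') = 0 := h4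
    rw [h5, zero_mul]
  · apply mul_nonpos_of_nonneg_of_nonpos
    · exact root'_fundCoweight_nonneg P b hi j'
    · exact pairing_simple_nonpos P b j'.2 hj hjj

/-- S14237 -/
theorem Facet.sum_root_parab_mem_carrier (F : Facet P) :
    (∑ i ∈ (Set.toFinite F.parab).toFinset, P.root i) ∈ F.carrier := by
  classical
  let _ := Fintype.ofFinite ι
  obtain ⟨b, hb⟩ := Facet.exists_mem_cham P F
  rw [Facet.mem_carrier_iff P hb]
  intro j hj
  have hsum : P.coroot' j (∑ i ∈ (Set.toFinite F.parab).toFinset, P.root i) =
      ∑ i ∈ Finset.univ.filter (fun i => F.sgn i = 1), P.pairing i j := by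
    rw [map_sum]
    simp only [P.root_coroot'_eq_pairing]
    rw [Facet.sum_parab_split P F (fun i => P.pairing i j), Facet.sum_levi_pairing, zero_add]
  rw [hsum]
  constructor
  · intro hj1
    have h2 := sum_isPos_pairing P b hj
    have hsplit : Finset.univ.filter (fun i => b.IsPos i) =
        Finset.univ.filter (fun i => F.sgn i = 1) ∪
          Finset.univ.filter (fun i => b.IsPos i ∧ F.sgn i = 0) := by
      ext i
      simp only [Finset.mem_union, Finset.mem_filter, Finset.mem_univ, true_and]
      constructor
      · intro hi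
        rcases (Facet.sgn_of_isPos P hb hi).1 with h | h
        · right; exact ⟨hi, h⟩
        · left; exact h
      · rintro (h | h)
        · by_contra hneg
          have hk' : b.IsPos (P.reflectionPerm i i) := (isPos_neg_iff P b i).mpr hneg
          have := (Facet.sgn_of_isPos P hb hk').1
          rw [Facet.sgn_neg_idx, h] at this
          revert this; decide
        · exact h.1
    rw [hsplit, Finset.sum_union] at h2
    · have h3 : ∑ i ∈ Finset.univ.filter (fun i => b.IsPos i ∧ F.sgn i = 0), P.pairing i j ≤ 0 := by
        apply Finset.sum_nonpos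
        intro i hi
        simp only [Finset.mem_filter, Finset.mem_univ, true_and] at hi
        exact Facet.pairing_nonpos_of_levi P hb hi.1 hi.2 hj hj1
      linarith
    · rw [Finset.disjoint_filter]
      intro i _ h1 h0
      rw [h0.2] at h1
      exact absurd h1 (by decide)
  · intro hj1
    have hj0 : F.sgn j = 0 := (Facet.sgn_support P hb hj).resolve_right hj1
    exact Facet.sum_pos_pairing_of_sgn_zero P F hj0

end Groth.Agent.H8.RootC
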