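import Mathlib
import Groth.Prelude.Def_RootCh2
import Groth.Agent.Lib.helper8.RootC13

/-! RootC14 (helper8): elementary sets of roots; degrees and numerical invariants do not depend
on the adjacent chamber. -/

set_option autoImplicit false
set_option linter.unusedSectionVars false

namespace Groth.Agent.H8.RootC

open RootPairing RootCh Groth.Agent.H8.RootD Groth.Agent.H8.RootB Module

variable {ι R M N : Type*} [Field R] [LinearOrder R] [IsStrictOrderedRing R]
  [AddCommGroup M] [Module R M] [AddCommGroup N] [Module R N]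
  (P : RootPairing ι R M N) [P.IsRootSystem]
  [Finite ι] [P.IsCrystallographic] [P.IsReduced]

theorem Facet.mem_span_corners_of {F : Facet P} {b : P.Base} (hb : b ∈ F.cham) {x : M}
    (h : ∀ k ∈ b.support, F.sgn k ≠ 1 → P.coroot' k x = 0) :
    x ∈ Submodule.span R F.corners := by
  rw [← sum_fundWeight P b x]
  apply Submodule.sum_mem
  intro i _
  by_cases hi : F.sgn i = 1
  · apply Submodule.smul_mem
    apply Submodule.subset_span
    rw [Facet.corners_eq P hb]
    exact ⟨i, hi, rfl⟩
  · rw [h i i.2 hi, zero_smul]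
    exact Submodule.zero_mem _

theorem Facet.mem_Psi_iff {F : Facet P} {b : P.Base} (hb : b ∈ F.cham) {j : b.support}
    (hj : F.sgn j = 1) (i : ι) :
    i ∈ F.Psi (fundWeight b j) ↔ P.root' i (fundCoweight b j) = 1 ∧
      ∀ j' : b.support, F.sgn j' = 1 → j' ≠ j → P.root' i (fundCoweight b j') = 0 := by
  constructor
  · rintro ⟨h1, h2⟩
    refine ⟨h1 _ ((corr_iff P b j _).mpr rfl), ?_⟩
    intro j' hj' hne
    apply h2 (fundWeight b j')
    · rw [Facet.corners_eq P hb]; exact ⟨j', hj', rfl⟩
    · intro h; exact hne (fundWeight_injective P b h)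
    · exact (corr_iff P b j' _).mpr rfl
  · rintro ⟨h1, h2⟩
    constructor
    · intro x hx
      rw [corr_iff] at hx
      rw [hx]; exact h1
    · intro w' hw' hne x hx
      rw [Facet.corners_eq P hb] at hw'
      obtain ⟨j', hj', rfl⟩ := hw'
      rw [corr_iff] at hx
      rw [hx]
      apply h2 j' hj'
      intro h; apply hne; rw [h]

theorem root'_reflectionPerm (k i : ι) (y : N) :
    P.root' (P.reflectionPerm k i) y = P.root' i y - P.pairing i k * P.root' k y := by
  simp only [RootPairing.root']
  rw [P.root_reflectionPerm, P.reflection_apply, map_sub, LinearMap.sub_apply, map_smul,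
    LinearMap.smul_apply, smul_eq_mul, P.root_coroot'_eq_pairing]

/-- S14242 -/
theorem Facet.sum_root_psi_mem_span_corners (F : Facet P) (m : M) (hm : m ∈ F.corners) :
    (∑ i ∈ (Set.toFinite (F.Psi m)).toFinset, P.root i) ∈ Submodule.span R F.corners := by
  classical
  obtain ⟨b, hb⟩ := Facet.exists_mem_cham P F
  have hm' := hm
  rw [Facet.corners_eq P hb] at hm'
  obtain ⟨j, hj, rfl⟩ := hm'
  apply Facet.mem_span_corners_of P hb
  intro k hk hk1
  have hk0 : F.sgn k = 0 := (Facet.sgn_support P hb hk).resolve_right hk1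
  rw [map_sum]
  simp only [P.root_coroot'_eq_pairing]
  have hkne : ∀ j' : b.support, F.sgn j' = 1 → j' ≠ ⟨k, hk⟩ := by
    intro j' hj' h
    rw [h] at hj'
    exact hk1 hj'
  apply sum_eq_zero_of_involution _ (fun i => P.reflectionPerm k i)
  · intro i hi
    rw [Set.Finite.mem_toFinset] at hi ⊢
    rw [Facet.mem_Psi_iff P hb hj] at hi ⊢
    constructor
    · rw [root'_reflectionPerm, root'_fundCoweight_of_ne b j ⟨k, hk⟩ (hkne j hj).symm, mul_zero,
        sub_zero]
      exact hi.1
    · intro j' hj' hne
      rw [root'_reflectionPerm, root'_fundCoweight_of_ne b j' ⟨k, hk⟩ (hkne j' hj').symm, mul_zero,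
        sub_zero]
      exact hi.2 j' hj' hne
  · intro i _
    exact P.reflectionPerm_self k i
  · intro i _
    exact pairing_reflectionPerm_left P i k

theorem pairing_eq_of_mem_span_corners {d : P.Base → N} (hd : IsCCS d) {F : Facet P}
    {b b' : P.Base} (hb : b ∈ F.cham) (hb' : b' ∈ F.cham) {x : M}
    (hx : x ∈ Submodule.span R F.corners) :
    P.toLinearMap x (d b) = P.toLinearMap x (d b') := by
  have key : ∀ z ∈ Submodule.span R F.corners,
      P.toLinearMap z (d b) = P.toLinearMap z (d b') := by
    intro z hz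
    induction hz using Submodule.span_induction with
    | mem w hw =>
      exact hd.corner_eq b b' w (Facet.corner_mem_baseCorners P hb hw)
        (Facet.corner_mem_baseCorners P hb' hw)
    | zero => simp
    | add u v _ _ hu hv => rw [map_add, LinearMap.add_apply, LinearMap.add_apply, hu, hv]
    | smul r u _ hu => rw [map_smul, LinearMap.smul_apply, LinearMap.smul_apply, hu]
  exact key x hx

theorem Facet.deg_eq_pairing (d : P.Base → N) (F : Facet P) (b : P.Base) :
    F.deg d b = P.toLinearMap (∑ i ∈ (Set.toFinite F.parab).toFinset, P.root i) (d b) := by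
  unfold Facet.deg
  rw [map_sum, LinearMap.sum_apply]

theorem Facet.numInv_eq_pairing (d : P.Base → N) (F : Facet P) (m : M) (b : P.Base) :
    F.numInv d m b =
      P.toLinearMap (∑ i ∈ (Set.toFinite (F.Psi m)).toFinset, P.root i) (d b) := by
  unfold Facet.numInv
  rw [map_sum, LinearMap.sum_apply]

/-- S14249 -/
theorem Facet.deg_eq_deg {d : P.Base → N} (hd : IsCCS d) (F : Facet P)
    {b b' : P.Base} (hb : b ∈ F.cham) (hb' : b' ∈ F.cham) : F.deg d b = F.deg d b' := by
  rw [Facet.deg_eq_pairing, Facet.deg_eq_pairing]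
  apply pairing_eq_of_mem_span_corners P hd hb hb'
  exact Facet.mem_span_corners_of_mem_carrier P (Facet.sum_root_parab_mem_carrier P F)

/-- S14250 -/
theorem Facet.numInv_eq_numInv {d : P.Base → N} (hd : IsCCS d) (F : Facet P) (m : M)
    (hm : m ∈ F.corners) {b b' : P.Base} (hb : b ∈ F.cham) (hb' : b' ∈ F.cham) :
    F.numInv d m b = F.numInv d m b' := by
  rw [Facet.numInv_eq_pairing, Facet.numInv_eq_pairing]
  apply pairing_eq_of_mem_span_corners P hd hb hb'
  exact Facet.sum_root_psi_mem_span_corners P F m hm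

end Groth.Agent.H8.RootC
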