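import Mathlib
import Groth.Prelude.Def_RootCh2
import Groth.Agent.Lib.helper8.RootC14
import Groth.Agent.Lib.helper8.Farkas

/-! RootC15 (helper8): criterion for membership in the convex hull of a finite set of `N`, by
pairing with the vectors of `M`. -/

set_option autoImplicit false
set_option linter.unusedSectionVars false

namespace Groth.Agent.H8.RootC

open RootPairing RootCh Groth.Agent.H8.RootD Groth.Agent.H8.RootB Module

variable {ι R M N : Type*} [Field R] [LinearOrder R] [IsStrictOrderedRing R]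
  [AddCommGroup M] [Module R M] [AddCommGroup N] [Module R N]
  (P : RootPairing ι R M N) [P.IsRootSystem]

theorem mem_convexHull_of_forall_exists_le {s : Set N} (hs : s.Finite) (y : N)
    (h : ∀ ξ : M, ∃ z ∈ s, P.toLinearMap ξ z ≤ P.toLinearMap ξ y) : y ∈ convexHull R s := by
  classical
  let α : N → Dual R (M × R) := fun z =>
    LinearMap.snd R M R - (P.toLinearMap.flip z) ∘ₗ LinearMap.fst R M R
  let γ : Dual R (M × R) := LinearMap.snd R M R - (P.toLinearMap.flip y) ∘ₗ LinearMap.fst R M R
  have hα : ∀ z (ξ : M) (t : R), α z (ξ, t) = t - P.toLinearMap ξ z := by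
    intro z ξ t
    simp [α]
  have hγ0 : ∀ (ξ : M) (t : R), γ (ξ, t) = t - P.toLinearMap ξ y := by
    intro ξ t
    simp [γ]
  have hF : ∀ w : M × R, (∀ z ∈ hs.toFinset, α z w ≤ 0) → γ w ≤ 0 := by
    rintro ⟨ξ, t⟩ hw
    obtain ⟨z, hz, hle⟩ := h ξ
    have := hw z (hs.mem_toFinset.mpr hz)
    rw [hα] at this
    rw [hγ0]
    linarith
  obtain ⟨c, hc, hγ⟩ := Groth.Agent.H8.Farkas.farkas hs.toFinset α γ hF
  have h1 : ∑ z ∈ hs.toFinset, c z = 1 := by
    have := hγ (0, 1)
    rw [hγ0] at this
    simp only [hα, map_zero, LinearMap.zero_apply, sub_zero, mul_one] at this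
    exact this.symm
  have h2 : ∑ z ∈ hs.toFinset, c z • z = y := by
    rw [← sub_eq_zero]
    apply eq_zero_of_toLinearMap_eq_zero P.flip
    intro ξ
    have := hγ (ξ, 0)
    rw [hγ0] at this
    simp only [hα, zero_sub, mul_neg, Finset.sum_neg_distrib, neg_inj] at this
    show P.toLinearMap ξ (∑ z ∈ hs.toFinset, c z • z - y) = 0
    rw [map_sub, map_sum, this, sub_eq_zero]
    apply Finset.sum_congr rfl
    intro z _
    rw [map_smul, smul_eq_mul]
  rw [← h2]
  exact (convex_convexHull R s).sum_mem (fun z _ => hc z) h1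
    (fun z hz => subset_convexHull R s (hs.mem_toFinset.mp hz))

end Groth.Agent.H8.RootC
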