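import Mathlib
import Groth.Prelude.Def_RootCh2
import Groth.Agent.Lib.helper8.RootC15

/-! RootC16 (helper8): complementary convex solids: crossing a wall, galleries. -/

set_option autoImplicit false
set_option linter.unusedSectionVars false

namespace Groth.Agent.H8.RootC

open RootPairing RootCh Groth.Agent.H8.RootD Groth.Agent.H8.RootB Module

variable {ι R M N : Type*} [Field R] [LinearOrder R] [IsStrictOrderedRing R]
  [AddCommGroup M] [Module R M] [AddCommGroup N] [Module R N]
  (P : RootPairing ι R M N) [P.IsRootSystem]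
  [Finite ι] [P.IsCrystallographic] [P.IsReduced]

/-- expansion of a vector of `N` in the simple coroots -/
theorem sum_coroot (b : P.Base) (n : N) :
    ∑ j : b.support, P.toLinearMap (fundWeight b j) n • P.coroot j = n :=
  sum_root P.flip b.flip n

theorem smul_fundWeight_reflBase (b : P.Base) {i : ι} (hi : i ∈ b.support) (j : b.support) :
    ∃ j' : (reflBase P b i).support, (j' : ι) = P.reflectionPerm i j ∧
      P.reflection i (fundWeight b j) = fundWeight (reflBase P b i) j' :=
  smul_fundWeight P b (reflBase P b i) (Equiv.reflection P i)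
    (mapBase_support P (Equiv.reflection P i) b).symm j

theorem reflection_fundWeight_of_ne (b : P.Base) {i : ι} (hi : i ∈ b.support) {j : b.support}
    (hj : j ≠ ⟨i, hi⟩) : P.reflection i (fundWeight b j) = fundWeight b j := by
  rw [P.reflection_apply, coroot'_fundWeight_of_ne b j ⟨i, hi⟩ (Ne.symm hj), zero_smul, sub_zero]

theorem baseCorners_inter_reflBase (b : P.Base) {i : ι} (hi : i ∈ b.support) :
    baseCorners b ∩ baseCorners (reflBase P b i) =
      fundWeight b '' {j : b.support | j ≠ ⟨i, hi⟩} := by
  ext w
  constructor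
  · rintro ⟨h1, h2⟩
    rw [baseCorners_eq] at h1
    obtain ⟨j, rfl⟩ := h1
    refine ⟨j, ?_, rfl⟩
    intro hji
    subst hji
    have h3 := h2.2 (P.reflectionPerm i i)
      (smul_mem_mapBase_support P (Equiv.reflection P i) b hi)
    rw [coroot'_neg_idx, coroot'_fundWeight_self b ⟨i, hi⟩] at h3
    linarith
  · rintro ⟨j, hj, rfl⟩
    refine ⟨?_, ?_⟩
    · rw [baseCorners_eq]; exact ⟨j, rfl⟩
    · obtain ⟨j', -, hj'⟩ := smul_fundWeight_reflBase P b hi j
      rw [reflection_fundWeight_of_ne P b hi hj] at hj'
      rw [baseCorners_eq, hj']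
      exact ⟨j', rfl⟩

theorem ncard_baseCorners_inter_reflBase (b : P.Base) {i : ι} (hi : i ∈ b.support) :
    (baseCorners b ∩ baseCorners (reflBase P b i)).ncard + 1 = b.support.card := by
  classical
  rw [baseCorners_inter_reflBase P b hi,
    Set.ncard_image_of_injective _ (fundWeight_injective P b)]
  have h1 : {j : b.support | j ≠ ⟨i, hi⟩} = ({⟨i, hi⟩} : Set b.support)ᶜ := by
    ext j; simp
  rw [h1, Set.ncard_compl, Set.ncard_singleton, Nat.card_eq_fintype_card, Fintype.card_coe]
  have : 0 < b.support.card := Finset.card_pos.mpr ⟨i, hi⟩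
  omega

theorem isPos_and_not_reflBase_iff (b : P.Base) {i : ι} (hi : i ∈ b.support) (j : ι) :
    (b.IsPos j ∧ ¬ (reflBase P b i).IsPos j) ↔ j = i := by
  rw [reflBase_isPos_iff P b hi]
  constructor
  · rintro ⟨h1, h2⟩
    by_contra hne
    exact h2 (Or.inl ⟨h1, hne⟩)
  · rintro rfl
    refine ⟨b.isPos_of_mem_support hi, ?_⟩
    rintro (⟨-, h⟩ | h)
    · exact h rfl
    · have h4 := b.isPos_of_mem_support hi
      rw [h, isPos_neg_iff] at h4
      exact h4 (b.isPos_of_mem_support hi)

/-- crossing a wall: `d` changes by a non-negative multiple of the simple coroot -/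
theorem adjacent_pairing {d : P.Base → N} (hd : IsCCS d) (b : P.Base) {i : ι}
    (hi : i ∈ b.support) :
    ∃ t : R, 0 ≤ t ∧ ∀ x : M, P.toLinearMap x (d (reflBase P b i)) =
      P.toLinearMap x (d b) + t * P.coroot' i x := by
  classical
  set b' := reflBase P b i with hb'
  set n := d b' - d b with hn
  have hwall := hd.wall_le b b' i (ncard_baseCorners_inter_reflBase P b hi)
    (isPos_and_not_reflBase_iff P b hi)
  have hcommon : ∀ j : b.support, j ≠ ⟨i, hi⟩ → P.toLinearMap (fundWeight b j) n = 0 := by
    intro j hj
    have hmem : fundWeight b j ∈ baseCorners b ∩ baseCorners b' := by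
      rw [baseCorners_inter_reflBase P b hi]; exact ⟨j, hj, rfl⟩
    have := hd.corner_eq b b' _ hmem.1 hmem.2
    rw [hn, map_sub, this, sub_self]
  have hexp : ∀ x : M, P.toLinearMap x n =
      P.toLinearMap (fundWeight b ⟨i, hi⟩) n * P.coroot' i x := by
    intro x
    conv_lhs => rw [← sum_coroot P b n]
    rw [map_sum, Finset.sum_eq_single (⟨i, hi⟩ : b.support)]
    · rw [map_smul, smul_eq_mul]; rfl
    · intro j _ hj
      rw [hcommon j hj, zero_smul, map_zero]
    · intro h; exact absurd (Finset.mem_univ _) h
  refine ⟨P.toLinearMap (fundWeight b ⟨i, hi⟩) n, ?_, ?_⟩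
  · have h1 := hexp (P.root i)
    rw [P.root_coroot'_eq_pairing, P.pairing_same] at h1
    have h2 : P.toLinearMap (P.root i) n = P.root' i (d b') - P.root' i (d b) := by
      rw [hn, map_sub]
    rw [h2] at h1
    linarith
  · intro x
    have := hexp x
    rw [hn, map_sub] at this
    linarith

/-- the gallery lemma: a dominant vector for `b` pairs least with `d b` -/
theorem pairing_le_of_mem_closedChamber {d : P.Base → N} (hd : IsCCS d) (b : P.Base) {x : M}
    (hx : x ∈ closedChamber b) (b' : P.Base) :
    P.toLinearMap x (d b) ≤ P.toLinearMap x (d b') := by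
  have key : ∀ n : ℕ, ∀ b' : P.Base, {k | b'.IsPos k ∧ ¬ b.IsPos k}.ncard = n →
      P.toLinearMap x (d b) ≤ P.toLinearMap x (d b') := by
    intro n
    induction n using Nat.strong_induction_on with
    | _ n ih =>
      intro b' hn
      by_cases hall : ∀ i ∈ b'.support, b.IsPos i
      · have : b' = b := by
          apply eq_of_isPos_imp P
          have := pos_of_simple_pos P b' b 1 (by simpa using hall)
          simpa using this
        rw [this]
      · push Not at hall
        obtain ⟨i, hi, hineg⟩ := hall
        obtain ⟨t, ht, hadj⟩ := adjacent_pairing P hd b' hi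
        have hsub : {k | (reflBase P b' i).IsPos k ∧ ¬ b.IsPos k} ⊂
            {k | b'.IsPos k ∧ ¬ b.IsPos k} := by
          constructor
          · rintro k ⟨hk1, hk2⟩
            rw [reflBase_isPos_iff P b' hi] at hk1
            rcases hk1 with ⟨h1, -⟩ | rfl
            · exact ⟨h1, hk2⟩
            · exact absurd ((isPos_neg_iff P b i).mpr hineg) hk2
          · intro hcon
            have h1 : i ∈ {k | b'.IsPos k ∧ ¬ b.IsPos k} := ⟨b'.isPos_of_mem_support hi, hineg⟩
            have h2 := (hcon h1).1
            rw [reflBase_isPos_iff P b' hi] at h2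
            rcases h2 with ⟨-, h3⟩ | h3
            · exact h3 rfl
            · have h4 := b'.isPos_of_mem_support hi
              rw [h3, isPos_neg_iff] at h4
              exact h4 (b'.isPos_of_mem_support hi)
        have hlt := Set.ncard_lt_ncard hsub (Set.toFinite _)
        rw [hn] at hlt
        have h1 := ih _ hlt (reflBase P b' i) rfl
        have h2 := hadj x
        have h3 := coroot'_nonpos_of_not_isPos P b hx hineg
        have h4 : t * P.coroot' i x ≤ 0 := mul_nonpos_of_nonneg_of_nonpos ht h3
        linarith
  exact key _ b' rfl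

end Groth.Agent.H8.RootC
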