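import Mathlib
import Groth.Prelude.Def_RootCh2
import Groth.Agent.Lib.helper8.RootC16

/-! RootC17 (helper8): the dual solid of a facet as an intersection of hyperplanes and closed
half-spaces. -/

set_option autoImplicit false
set_option linter.unusedSectionVars false

namespace Groth.Agent.H8.RootC

open RootPairing RootCh Groth.Agent.H8.RootD Groth.Agent.H8.RootB Module

variable {ι R M N : Type*} [Field R] [LinearOrder R] [IsStrictOrderedRing R]
  [AddCommGroup M] [Module R M] [AddCommGroup N] [Module R N]
  (P : RootPairing ι R M N) [P.IsRootSystem]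
  [Finite ι] [P.IsCrystallographic] [P.IsReduced]

instance finite_base : Finite P.Base :=
  Finite.of_injective (fun b : P.Base => b.support) (fun _ _ h => base_ext P h)

theorem convex_hyper (d : P.Base → N) (m : M) : Convex R (hyper d m) := by
  intro x hx y hy a c _ _ hac
  intro b hb
  rw [map_add, map_smul, map_smul, hx b hb, hy b hb, ← add_smul, hac, one_smul]

theorem convex_halfClosed (d : P.Base → N) (m : M) : Convex R (halfClosed d m) := by
  intro x hx y hy a c ha hc hac
  intro b hb
  rw [map_add, map_smul, map_smul, smul_eq_mul, smul_eq_mul]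
  have h1 := hx b hb
  have h2 := hy b hb
  have h3 : P.toLinearMap m (d b) = a * P.toLinearMap m (d b) + c * P.toLinearMap m (d b) := by
    rw [← add_mul, hac, one_mul]
  rw [h3]
  exact add_le_add (mul_le_mul_of_nonneg_left h1 ha) (mul_le_mul_of_nonneg_left h2 hc)

theorem d_mem_hyper {d : P.Base → N} (hd : IsCCS d) {F : Facet P} {b : P.Base} (hb : b ∈ F.cham)
    {m : M} (hm : m ∈ F.corners) : d b ∈ hyper d m := by
  intro b'' hb''
  exact hd.corner_eq b b'' m (Facet.corner_mem_baseCorners P hb hm) hb''

theorem d_mem_halfClosed {d : P.Base → N} (hd : IsCCS d) (b : P.Base) (m : M) :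
    d b ∈ halfClosed d m := by
  intro b'' hb''
  exact pairing_le_of_mem_closedChamber P hd b'' hb''.2 b

theorem dualSolid_subset_hyper {d : P.Base → N} (hd : IsCCS d) (F : Facet P) {m : M}
    (hm : m ∈ F.corners) : dualSolid d F ⊆ hyper d m := by
  apply convexHull_min _ (convex_hyper P d m)
  rintro _ ⟨b, hb, rfl⟩
  exact d_mem_hyper P hd hb hm

theorem dualSolid_subset_halfClosed {d : P.Base → N} (hd : IsCCS d) (F : Facet P) (m : M) :
    dualSolid d F ⊆ halfClosed d m := by
  apply convexHull_min _ (convex_halfClosed P d m)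
  rintro _ ⟨b, -, rfl⟩
  exact d_mem_halfClosed P hd b m

/-- S14238 -/
theorem dualSolid_eq {d : P.Base → N} (hd : IsCCS d) (F : Facet P) :
    dualSolid d F = (⋂ m ∈ F.corners, hyper d m) ∩ ⋂ m ∈ F.corners', halfClosed d m := by
  apply Set.Subset.antisymm
  · intro y hy
    refine ⟨?_, ?_⟩
    · simp only [Set.mem_iInter]
      intro m hm
      exact dualSolid_subset_hyper P hd F hm hy
    · simp only [Set.mem_iInter]
      intro m _
      exact dualSolid_subset_halfClosed P hd F m hy
  · rintro y ⟨hy1, hy2⟩
    simp only [Set.mem_iInter] at hy1 hy2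
    apply mem_convexHull_of_forall_exists_le P (Set.toFinite _)
    intro ξ
    obtain ⟨η, hη⟩ := Facet.carrier_nonempty P F
    obtain ⟨b, hb1, hb2⟩ := exists_base_closedChamber P η ξ
    have hηs : sgnVec P η = F.sgn := hη
    have hb : b ∈ F.cham := by
      rw [Facet.mem_cham_iff]
      intro i hi
      rw [← hηs]
      unfold sgnVec
      rw [Ne, sign_eq_neg_one_iff, not_lt]
      exact hb1 i hi
    refine ⟨d b, ⟨b, hb, rfl⟩, ?_⟩
    rw [← sub_nonneg, ← map_sub]
    conv_rhs => rw [← sum_fundWeight P b ξ]
    rw [map_sum, LinearMap.sum_apply]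
    apply Finset.sum_nonneg
    intro j _
    rw [map_smul, LinearMap.smul_apply, smul_eq_mul, map_sub]
    by_cases hj : F.sgn j = 1
    · have hc : fundWeight b j ∈ F.corners := by
        rw [Facet.corners_eq P hb]; exact ⟨j, hj, rfl⟩
      have := hy1 _ hc b (Facet.corner_mem_baseCorners P hb hc)
      rw [this, sub_self, mul_zero]
    · have h0 : P.coroot' j η = 0 := ((Facet.mem_carrier_iff P hb η).mp hη j j.2).2 hj
      have h1 := hb2 j j.2 h0
      have hbc : fundWeight b j ∈ baseCorners b := by
        rw [baseCorners_eq]; exact ⟨j, rfl⟩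
      have hc' : fundWeight b j ∈ F.corners' := by
        unfold Facet.corners'
        simp only [Set.mem_iUnion]
        exact ⟨b, hb, hbc⟩
      have h2 := hy2 _ hc' b hbc
      exact mul_nonneg h1 (sub_nonneg.mpr h2)

end Groth.Agent.H8.RootC
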