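import Mathlib
import Groth.Prelude.Def_RootCh2
import Groth.Agent.Lib.helper8.RootC17

/-! RootC18 (helper8): the equivalent conditions for semi-stability. -/

set_option autoImplicit false
set_option linter.unusedSectionVars false

namespace Groth.Agent.H8.RootC

open RootPairing RootCh Groth.Agent.H8.RootD Groth.Agent.H8.RootB Module

variable {ι R M N : Type*} [Field R] [LinearOrder R] [IsStrictOrderedRing R]
  [AddCommGroup M] [Module R M] [AddCommGroup N] [Module R N]
  (P : RootPairing ι R M N) [P.IsRootSystem]
  [Finite ι] [P.IsCrystallographic] [P.IsReduced]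

/-- pairing of a dominant vector with `d b`, expanded on the corners -/
theorem pairing_expand (b : P.Base) (x : M) (n : N) :
    P.toLinearMap x n = ∑ j : b.support, P.coroot' j x * P.toLinearMap (fundWeight b j) n := by
  conv_lhs => rw [← sum_fundWeight P b x]
  rw [map_sum, LinearMap.sum_apply]
  apply Finset.sum_congr rfl
  intro j _
  rw [map_smul, LinearMap.smul_apply, smul_eq_mul]

theorem solid_subset_halfClosed {d : P.Base → N} (hd : IsCCS d) (m : M) :
    solid d ⊆ halfClosed d m := by
  apply convexHull_min _ (convex_halfClosed P d m)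
  rintro _ ⟨b, rfl⟩
  exact d_mem_halfClosed P hd b m

/-- S14241 -/
theorem corner_nonpos_iff_isSemistable {d : P.Base → N} (hd : IsCCS d) :
    (∀ (b : P.Base), ∀ m ∈ baseCorners b, P.toLinearMap m (d b) ≤ 0) ↔ IsSemistable d := by
  constructor
  · intro h
    apply mem_convexHull_of_forall_exists_le P (Set.finite_range d)
    intro ξ
    obtain ⟨b, hb, -⟩ := exists_base_closedChamber P ξ 0
    refine ⟨d b, ⟨b, rfl⟩, ?_⟩
    rw [map_zero, pairing_expand P b ξ (d b)]
    apply Finset.sum_nonpos
    intro j _
    apply mul_nonpos_of_nonneg_of_nonpos (hb j j.2)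
    apply h b
    rw [baseCorners_eq]
    exact ⟨j, rfl⟩
  · intro h b m hm
    have := solid_subset_halfClosed P hd m h b hm
    rwa [map_zero] at this

theorem deg_nonpos_of_corner_nonpos {d : P.Base → N}
    (h : ∀ (b : P.Base), ∀ m ∈ baseCorners b, P.toLinearMap m (d b) ≤ 0)
    (F : Facet P) {b : P.Base} (hb : b ∈ F.cham) : F.deg d b ≤ 0 := by
  rw [Facet.deg_eq_pairing, pairing_expand P b _ (d b)]
  apply Finset.sum_nonpos
  intro j _
  apply mul_nonpos_of_nonneg_of_nonpos
  · exact hb (Facet.sum_root_parab_mem_carrier P F) j j.2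
  · apply h b
    rw [baseCorners_eq]
    exact ⟨j, rfl⟩

theorem dim_facetOf_singleton (b : P.Base) (j : b.support) : (facetOf P b {j}).dim = 1 := by
  unfold Facet.dim
  rw [Facet.span_carrier_eq, corners_facetOf, Set.image_singleton]
  apply finrank_span_singleton
  intro h
  have := coroot'_fundWeight_self b j
  rw [h, map_zero] at this
  exact zero_ne_one this

theorem corner_nonpos_of_deg_nonpos {d : P.Base → N}
    (h : ∀ (F : Facet P) (b : P.Base), F.dim = 1 → b ∈ F.cham → F.deg d b ≤ 0)
    (b : P.Base) (m : M) (hm : m ∈ baseCorners b) : P.toLinearMap m (d b) ≤ 0 := by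
  classical
  rw [baseCorners_eq] at hm
  obtain ⟨j, rfl⟩ := hm
  have hcham := mem_cham_facetOf P b {j}
  have h1 := h (facetOf P b {j}) b (dim_facetOf_singleton P b j) hcham
  rw [Facet.deg_eq_pairing, pairing_expand P b _ (d b)] at h1
  have hmem := Facet.sum_root_parab_mem_carrier P (facetOf P b {j})
  rw [Facet.mem_carrier_iff P hcham] at hmem
  rw [Finset.sum_eq_single j] at h1
  · have hpos := (hmem j j.2).1 (by rw [facetOf_sgn, if_pos (Set.mem_singleton j)])
    by_contra hneg
    rw [not_le] at hneg
    have := mul_pos hpos hneg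
    linarith
  · intro j' _ hne
    have := (hmem j' j'.2).2 (by
      rw [facetOf_sgn, if_neg (fun hh => hne (Set.mem_singleton_iff.mp hh))]; decide)
    rw [this, zero_mul]
  · intro hh; exact absurd (Finset.mem_univ _) hh

/-- S14240 -/
theorem deg_nonpos_of_dim_one_iff_isSemistable {d : P.Base → N} (hd : IsCCS d) :
    (∀ (F : Facet P) (b : P.Base), F.dim = 1 → b ∈ F.cham → F.deg d b ≤ 0) ↔
      IsSemistable d := by
  rw [← corner_nonpos_iff_isSemistable P hd]
  constructor
  · intro h b m hm
    exact corner_nonpos_of_deg_nonpos P h b m hm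
  · intro h F b _ hb
    exact deg_nonpos_of_corner_nonpos P h F hb

/-- S14239 -/
theorem deg_nonpos_iff_isSemistable {d : P.Base → N} (hd : IsCCS d) :
    (∀ (F : Facet P) (b : P.Base), b ∈ F.cham → F.deg d b ≤ 0) ↔ IsSemistable d := by
  rw [← corner_nonpos_iff_isSemistable P hd]
  constructor
  · intro h b m hm
    exact corner_nonpos_of_deg_nonpos P (fun F b _ hb => h F b hb) b m hm
  · intro h F b hb
    exact deg_nonpos_of_corner_nonpos P h F hb

end Groth.Agent.H8.RootC
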