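import Mathlib
import Groth.Prelude.Def_RootCh2
import Groth.Agent.Lib.helper8.RootC18

/-! RootC19 (helper8): the point `y(F)` of a facet; special facets and numerical invariants. -/

set_option autoImplicit false
set_option linter.unusedSectionVars false

namespace Groth.Agent.H8.RootC

open RootPairing RootCh Groth.Agent.H8.RootD Groth.Agent.H8.RootB Module

variable {ι R M N : Type*} [Field R] [LinearOrder R] [IsStrictOrderedRing R]
  [AddCommGroup M] [Module R M] [AddCommGroup N] [Module R N]
  (P : RootPairing ι R M N) [P.IsRootSystem]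
  [Finite ι] [P.IsCrystallographic] [P.IsReduced]

theorem Facet.mem_dualCarrier_iff {F : Facet P} {b : P.Base} (hb : b ∈ F.cham) (y : N) :
    y ∈ F.dualCarrier ↔ ∀ i ∈ b.support,
      (F.sgn i = 1 → 0 < P.root' i y) ∧ (F.sgn i ≠ 1 → P.root' i y = 0) :=
  Facet.mem_carrier_iff P.flip (Facet.flip_mem_cham_dual P hb) y

theorem root'_eq_zero_of_mem_span_dualCarrier {F : Facet P} {b : P.Base} (hb : b ∈ F.cham)
    {z : N} (hz : z ∈ Submodule.span R F.dualCarrier) {j : ι} (hj : j ∈ b.support)
    (hj1 : F.sgn j ≠ 1) : P.root' j z = 0 := by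
  have key : ∀ z ∈ Submodule.span R F.dualCarrier, P.root' j z = 0 := by
    intro z hz
    induction hz using Submodule.span_induction with
    | mem w hw => exact ((Facet.mem_dualCarrier_iff P hb w).mp hw j hj).2 hj1
    | zero => simp
    | add u v _ _ hu hv => rw [map_add, hu, hv, add_zero]
    | smul r u _ hu => rw [map_smul, hu, smul_zero]
  exact key z hz

/-- a vector of the span of the dual facet pairing to zero with the corners vanishes -/
theorem eq_zero_of_levi {F : Facet P} {b : P.Base} (z : N)
    (h1 : ∀ j : b.support, F.sgn j ≠ 1 → P.root' j z = 0)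
    (h2 : ∀ j : b.support, F.sgn j = 1 → P.toLinearMap (fundWeight b j) z = 0) : z = 0 := by
  classical
  let _ := Fintype.ofFinite ι
  set l : ι → R := fun i => P.RootForm (P.root i) (P.root i) with hl
  have hlpos : ∀ i, 0 < l i := fun i => rootForm_root_pos P i
  set x₀ : M := ∑ j : b.support, (P.root' j z * (2 / l j)) • fundWeight b j with hx₀
  have hpair : ∀ x : M, P.toLinearMap x z = P.RootForm x x₀ := by
    intro x
    conv_lhs => rw [← sum_fundWeight P.flip b.flip z]
    rw [hx₀, map_sum, map_sum]
    apply Finset.sum_congr rfl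
    intro j _
    rw [map_smul, map_smul, smul_eq_mul, smul_eq_mul]
    have h := two_rootForm_fundWeight P b j x
    have hl' : l j ≠ 0 := (hlpos j).ne'
    have e : P.toLinearMap x (fundWeight (P := P.flip) b.flip j) =
        P.toLinearMap x (fundCoweight b j) := rfl
    rw [e]
    have e2 : P.flip.coroot' (j : ι) z = P.root' j z := rfl
    rw [e2]
    have h3 : P.toLinearMap x (fundCoweight b j) = 2 / l j * P.RootForm x (fundWeight b j) := by
      have h' : 2 * P.RootForm x (fundWeight b j) = l j * P.toLinearMap x (fundCoweight b j) := h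
      rw [div_mul_eq_mul_div, h', mul_div_cancel_left₀ _ hl']
    rw [h3]
    ring
  have h0 : P.RootForm x₀ x₀ = 0 := by
    rw [← hpair x₀, hx₀, map_sum, LinearMap.sum_apply]
    apply Finset.sum_eq_zero
    intro j _
    rw [map_smul, LinearMap.smul_apply, smul_eq_mul]
    by_cases hj : F.sgn j = 1
    · rw [h2 j hj, mul_zero]
    · rw [h1 j hj, zero_mul, zero_mul]
  have hx0 : x₀ = 0 := P.eq_zero_of_mem_rootSpan_of_rootForm_self_eq_zero (by simp) h0
  apply eq_zero_of_toLinearMap_eq_zero P.flip
  intro x
  show P.toLinearMap x z = 0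
  rw [hpair x, hx0, map_zero]

theorem pairing_eq_of_mem_hyper {d : P.Base → N} {F : Facet P} {b : P.Base} (hb : b ∈ F.cham)
    {y : N} (hy : ∀ m ∈ F.corners, y ∈ hyper d m) {x : M}
    (hx : x ∈ Submodule.span R F.corners) : P.toLinearMap x y = P.toLinearMap x (d b) := by
  have key : ∀ z ∈ Submodule.span R F.corners, P.toLinearMap z y = P.toLinearMap z (d b) := by
    intro z hz
    induction hz using Submodule.span_induction with
    | mem w hw => exact hy w hw b (Facet.corner_mem_baseCorners P hb hw)
    | zero => simp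
    | add u v _ _ hu hv => rw [map_add, LinearMap.add_apply, LinearMap.add_apply, hu, hv]
    | smul r u _ hu => rw [map_smul, LinearMap.smul_apply, LinearMap.smul_apply, hu]
  exact key x hx

theorem yLocus_subsingleton (d : P.Base → N) (F : Facet P) {y y' : N}
    (hy : y ∈ yLocus d F) (hy' : y' ∈ yLocus d F) : y = y' := by
  obtain ⟨b, hb⟩ := Facet.exists_mem_cham P F
  rw [← sub_eq_zero]
  obtain ⟨hy1, hy2⟩ := hy
  obtain ⟨hy1', hy2'⟩ := hy'
  simp only [Set.mem_iInter] at hy1 hy1'
  apply eq_zero_of_levi P (F := F) (b := b)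
  · intro j hj
    exact root'_eq_zero_of_mem_span_dualCarrier P hb (Submodule.sub_mem _ hy2 hy2') j.2 hj
  · intro j hj
    have hc : fundWeight b j ∈ F.corners := by
      rw [Facet.corners_eq P hb]; exact ⟨j, hj, rfl⟩
    have hbc := Facet.corner_mem_baseCorners P hb hc
    rw [map_sub, hy1 _ hc b hbc, hy1' _ hc b hbc, sub_self]

theorem mem_yLocus_of_special {d : P.Base → N} (hd : IsCCS d) {F : Facet P} {y : N}
    (hy1 : y ∈ Submodule.span R F.dualCarrier) (hy2 : y ∈ dualSolid d F) : y ∈ yLocus d F := by
  refine ⟨?_, hy1⟩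
  simp only [Set.mem_iInter]
  intro m hm
  exact dualSolid_subset_hyper P hd F hm hy2

/-- S14251 -/
theorem exists_yLocus_eq {d : P.Base → N} (hd : IsCCS d) (F : Facet P) (hF : IsSpecial d F) :
    ∃ y₀ : N, yLocus d F = {y₀} ∧ F.dualCarrier ∩ dualSolid d F = {y₀} := by
  obtain ⟨y₀, hy1, hy2⟩ := hF
  have hmem : y₀ ∈ yLocus d F := mem_yLocus_of_special P hd (Submodule.subset_span hy1) hy2
  refine ⟨y₀, ?_, ?_⟩
  · ext y
    constructor
    · intro hy
      exact yLocus_subsingleton P d F hy hmem
    · rintro rfl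
      exact hmem
  · ext y
    constructor
    · rintro ⟨h1, h2⟩
      exact yLocus_subsingleton P d F
        (mem_yLocus_of_special P hd (Submodule.subset_span h1) h2) hmem
    · rintro rfl
      exact ⟨hy1, hy2⟩

end Groth.Agent.H8.RootC
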