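import Mathlib
import Groth.Prelude.Def_RootCh2
import Groth.Agent.Lib.helper8.RootC19

/-! RootC20 (helper8): special facets through numerical invariants. -/

set_option autoImplicit false
set_option linter.unusedSectionVars false

namespace Groth.Agent.H8.RootC

open RootPairing RootCh Groth.Agent.H8.RootD Groth.Agent.H8.RootB Module

variable {ι R M N : Type*} [Field R] [LinearOrder R] [IsStrictOrderedRing R]
  [AddCommGroup M] [Module R M] [AddCommGroup N] [Module R N]
  (P : RootPairing ι R M N) [P.IsRootSystem]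
  [Finite ι] [P.IsCrystallographic] [P.IsReduced]

theorem Facet.isPos_of_mem_Psi {F : Facet P} {b : P.Base} (hb : b ∈ F.cham) {j : b.support}
    (hj : F.sgn j = 1) {i : ι} (hi : i ∈ F.Psi (fundWeight b j)) : b.IsPos i := by
  rw [Facet.mem_Psi_iff P hb hj] at hi
  by_contra hneg
  have hk' : b.IsPos (P.reflectionPerm i i) := (isPos_neg_iff P b i).mpr hneg
  have := root'_fundCoweight_nonneg P b hk' j
  rw [root'_neg_idx, hi.1] at this
  linarith

theorem Facet.sgn_of_mem_Psi {F : Facet P} {b : P.Base} (hb : b ∈ F.cham) {j : b.support}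
    (hj : F.sgn j = 1) {i : ι} (hi : i ∈ F.Psi (fundWeight b j)) : F.sgn i = 1 := by
  have hpos := Facet.isPos_of_mem_Psi P hb hj hi
  rw [(Facet.sgn_of_isPos P hb hpos).2]
  refine ⟨j, hj, ?_⟩
  rw [Ne, coroot'_fundWeight_eq_zero_iff]
  rw [Facet.mem_Psi_iff P hb hj] at hi
  rw [hi.1]
  exact one_ne_zero

theorem Facet.simple_mem_Psi {F : Facet P} {b : P.Base} (hb : b ∈ F.cham) {j : b.support}
    (hj : F.sgn j = 1) : (j : ι) ∈ F.Psi (fundWeight b j) := by
  rw [Facet.mem_Psi_iff P hb hj]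
  refine ⟨root'_fundCoweight_self b j, ?_⟩
  intro j' _ hne
  exact root'_fundCoweight_of_ne b j' j (Ne.symm hne)

theorem Facet.root'_eq_of_mem_Psi {F : Facet P} {b : P.Base} (hb : b ∈ F.cham) {j : b.support}
    (hj : F.sgn j = 1) {i : ι} (hi : i ∈ F.Psi (fundWeight b j)) {y : N}
    (hy : ∀ j' : b.support, F.sgn j' ≠ 1 → P.root' j' y = 0) :
    P.root' i y = P.root' j y := by
  rw [Facet.mem_Psi_iff P hb hj] at hi
  have h1 := sum_root P b (P.root i)
  have h2 : P.root' i y = P.toLinearMap (P.root i) y := rfl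
  rw [h2, ← h1, map_sum, LinearMap.sum_apply, Finset.sum_eq_single j]
  · rw [map_smul, LinearMap.smul_apply, smul_eq_mul]
    have : P.toLinearMap (P.root i) (fundCoweight b j) = 1 := hi.1
    rw [this, one_mul]
  · intro j' _ hne
    rw [map_smul, LinearMap.smul_apply, smul_eq_mul]
    by_cases hj' : F.sgn j' = 1
    · have : P.toLinearMap (P.root i) (fundCoweight b j') = 0 := hi.2 j' hj' hne
      rw [this, zero_mul]
    · have : P.toLinearMap (P.root j') y = 0 := hy j' hj'
      rw [this, mul_zero]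
  · intro h; exact absurd (Finset.mem_univ _) h

/-- the numerical invariant computed on a point of the hyperplanes of the corners -/
theorem Facet.numInv_eq_sum {d : P.Base → N} {F : Facet P} {b : P.Base} (hb : b ∈ F.cham)
    {m : M} (hm : m ∈ F.corners) {y : N} (hy : ∀ m ∈ F.corners, y ∈ hyper d m) :
    F.numInv d m b = ∑ i ∈ (Set.toFinite (F.Psi m)).toFinset, P.root' i y := by
  rw [Facet.numInv_eq_pairing,
    ← pairing_eq_of_mem_hyper P hb hy (Facet.sum_root_psi_mem_span_corners P F m hm),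
    map_sum, LinearMap.sum_apply]

/-- S14243 -/
theorem numInv_pos_and_meets_iff_isSpecial {d : P.Base → N} (hd : IsCCS d) (F : Facet P) :
    ((∀ m ∈ F.corners, ∀ b ∈ F.cham, 0 < F.numInv d m b) ∧
        (dualSolid d F ∩ (Submodule.span R F.dualCarrier : Set N)).Nonempty) ↔
      IsSpecial d F := by
  constructor
  · rintro ⟨hS1, y, hy1, hy2⟩
    refine ⟨y, ?_, hy1⟩
    obtain ⟨b, hb⟩ := Facet.exists_mem_cham P F
    rw [Facet.mem_dualCarrier_iff P hb]
    have hyh : ∀ m ∈ F.corners, y ∈ hyper d m :=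
      fun m hm => dualSolid_subset_hyper P hd F hm hy1
    have hy0 : ∀ j' : b.support, F.sgn j' ≠ 1 → P.root' j' y = 0 :=
      fun j' hj' => root'_eq_zero_of_mem_span_dualCarrier P hb hy2 j'.2 hj'
    intro j hj
    refine ⟨fun hj1 => ?_, fun hj1 => hy0 ⟨j, hj⟩ hj1⟩
    have hc : fundWeight b ⟨j, hj⟩ ∈ F.corners := by
      rw [Facet.corners_eq P hb]; exact ⟨⟨j, hj⟩, hj1, rfl⟩
    have h1 := hS1 _ hc b hb
    rw [Facet.numInv_eq_sum P hb hc hyh] at h1
    rw [Finset.sum_congr rfl (fun i hi => Facet.root'_eq_of_mem_Psi P hb (j := ⟨j, hj⟩) hj1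
      ((Set.Finite.mem_toFinset _).mp hi) hy0), Finset.sum_const, nsmul_eq_mul] at h1
    by_contra hneg
    rw [not_lt] at hneg
    have : ((Set.toFinite (F.Psi (fundWeight b ⟨j, hj⟩))).toFinset.card : R) * P.root' j y ≤ 0 :=
      mul_nonpos_of_nonneg_of_nonpos (Nat.cast_nonneg _) hneg
    linarith
  · rintro ⟨y, hy1, hy2⟩
    refine ⟨?_, y, hy2, Submodule.subset_span hy1⟩
    intro m hm b hb
    have hyh : ∀ m ∈ F.corners, y ∈ hyper d m :=
      fun m hm => dualSolid_subset_hyper P hd F hm hy2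
    rw [Facet.numInv_eq_sum P hb hm hyh]
    have hm' := hm
    rw [Facet.corners_eq P hb] at hm'
    obtain ⟨j, hj, rfl⟩ := hm'
    apply Finset.sum_pos
    · intro i hi
      rw [Set.Finite.mem_toFinset] at hi
      have hs := Facet.sgn_of_mem_Psi P hb hj hi
      have hy1' : cosgnVec P y = F.sgn := hy1
      rw [← hy1'] at hs
      exact sign_eq_one_iff.mp hs
    · exact ⟨j, (Set.Finite.mem_toFinset _).mpr (Facet.simple_mem_Psi P hb hj)⟩

end Groth.Agent.H8.RootC
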