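import Mathlib
import Groth.Prelude.Def_RootCh2
import Groth.Agent.Lib.helper8.RootC20

/-! RootC21 (helper8): the special facet is the largest facet of maximal degree. -/

set_option autoImplicit false
set_option linter.unusedSectionVars false

namespace Groth.Agent.H8.RootC

open RootPairing RootCh Groth.Agent.H8.RootD Groth.Agent.H8.RootB Module

variable {ι R M N : Type*} [Field R] [LinearOrder R] [IsStrictOrderedRing R]
  [AddCommGroup M] [Module R M] [AddCommGroup N] [Module R N]
  (P : RootPairing ι R M N) [P.IsRootSystem]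
  [Finite ι] [P.IsCrystallographic] [P.IsReduced]

theorem signType_cases (a : SignType) : a = 0 ∨ a = -1 ∨ a = 1 := by
  cases a <;> decide

theorem neg_idx_involutive : Function.Involutive (fun i : ι => P.reflectionPerm i i) := by
  intro i
  apply P.root.injective
  rw [root_neg_idx, root_neg_idx, neg_neg]

open Classical in
/-- for an odd function on the roots, the sum over the parabolic set of a facet is the sum over
its positive part -/
theorem Facet.sum_parab_odd [Fintype ι] (F : Facet P) (f : ι → R)
    (hf : ∀ i, f (P.reflectionPerm i i) = - f i) :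
    ∑ i ∈ (Set.toFinite F.parab).toFinset, f i =
      ∑ i ∈ Finset.univ.filter (fun i => F.sgn i = 1), f i := by
  rw [Facet.sum_parab_split P F f]
  have : ∑ i ∈ Finset.univ.filter (fun i => F.sgn i = 0), f i = 0 := by
    apply sum_eq_zero_of_involution _ (fun i => P.reflectionPerm i i)
    · intro i hi
      simp only [Finset.mem_filter, Finset.mem_univ, true_and] at hi ⊢
      rw [Facet.sgn_neg_idx, hi]; rfl
    · intro i _
      exact neg_idx_involutive P i
    · intro i _
      exact hf i
  rw [this, zero_add]

open Classical in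
theorem Facet.two_mul_sum_pos_odd [Fintype ι] (F : Facet P) (f : ι → R)
    (hf : ∀ i, f (P.reflectionPerm i i) = - f i) :
    2 * ∑ i ∈ Finset.univ.filter (fun i => F.sgn i = 1), f i = ∑ i, (F.sgn i : R) * f i := by
  have h1 : ∀ i, (F.sgn i : R) * f i = (if F.sgn i = 1 then f i else 0) +
      (if F.sgn (P.reflectionPerm i i) = 1 then f (P.reflectionPerm i i) else 0) := by
    intro i
    rw [Facet.sgn_neg_idx, hf]
    generalize F.sgn i = a
    cases a <;> simp
  rw [Finset.sum_congr rfl (fun i _ => h1 i), Finset.sum_add_distrib, Finset.sum_filter, two_mul]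
  congr 1
  symm
  exact Fintype.sum_bijective (fun i => P.reflectionPerm i i) (neg_idx_involutive P).bijective
    _ _ (fun i => rfl)

theorem root'_neg_idx_apply (y : N) (i : ι) :
    P.root' (P.reflectionPerm i i) y = - P.root' i y := root'_neg_idx P i y

/-- the degree of a facet computed on a point of the hyperplanes of its corners -/
theorem Facet.deg_eq_sum_of_hyper {d : P.Base → N} {F : Facet P} {b : P.Base} (hb : b ∈ F.cham)
    {y : N} (hy : ∀ m ∈ F.corners, y ∈ hyper d m) :
    F.deg d b = ∑ i ∈ (Set.toFinite F.parab).toFinset, P.root' i y := by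
  rw [Facet.deg_eq_pairing,
    ← pairing_eq_of_mem_hyper P hb hy
      (Facet.mem_span_corners_of_mem_carrier P (Facet.sum_root_parab_mem_carrier P F)),
    map_sum, LinearMap.sum_apply]

/-- the degree of a facet is at most the pairing of `ρ` with any point of the solid -/
theorem Facet.deg_le_of_mem_solid {d : P.Base → N} (hd : IsCCS d) (G : Facet P) {c : P.Base}
    (hc : c ∈ G.cham) {y : N} (hy : y ∈ solid d) :
    G.deg d c ≤ ∑ i ∈ (Set.toFinite G.parab).toFinset, P.root' i y := by
  set ρ := ∑ i ∈ (Set.toFinite G.parab).toFinset, P.root i with hρ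
  have hρc : ρ ∈ closedChamber c := hc (Facet.sum_root_parab_mem_carrier P G)
  have hconv : Convex R {z : N | P.toLinearMap ρ (d c) ≤ P.toLinearMap ρ z} := by
    intro x hx z hz a e ha he hae
    simp only [Set.mem_setOf_eq] at hx hz ⊢
    rw [map_add, map_smul, map_smul, smul_eq_mul, smul_eq_mul]
    have h3 : P.toLinearMap ρ (d c) = a * P.toLinearMap ρ (d c) + e * P.toLinearMap ρ (d c) := by
      rw [← add_mul, hae, one_mul]
    rw [h3]
    exact add_le_add (mul_le_mul_of_nonneg_left hx ha) (mul_le_mul_of_nonneg_left hz he)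
  have hsub : solid d ⊆ {z : N | P.toLinearMap ρ (d c) ≤ P.toLinearMap ρ z} := by
    apply convexHull_min _ hconv
    rintro _ ⟨b', rfl⟩
    exact pairing_le_of_mem_closedChamber P hd c hρc b'
  have := hsub hy
  simp only [Set.mem_setOf_eq] at this
  rw [Facet.deg_eq_pairing]
  refine this.trans (le_of_eq ?_)
  rw [hρ, map_sum, LinearMap.sum_apply]

theorem dualSolid_subset_solid (d : P.Base → N) (F : Facet P) : dualSolid d F ⊆ solid d := by
  apply convexHull_mono
  rintro _ ⟨b, -, rfl⟩
  exact ⟨b, rfl⟩

/-- S14248 -/
theorem isGreatest_of_isSpecial {d : P.Base → N} (hd : IsCCS d) (F : Facet P) (b : P.Base)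
    (hb : b ∈ F.cham) (hF : IsSpecial d F) :
    (∀ (G : Facet P) (c : P.Base), c ∈ G.cham → G.deg d c ≤ F.deg d b) ∧
      ∀ (G : Facet P) (c : P.Base), c ∈ G.cham → G.deg d c = F.deg d b → G ≤ F := by
  classical
  let _ := Fintype.ofFinite ι
  obtain ⟨y₀, hy1, hy2⟩ := hF
  set f : ι → R := fun i => P.root' i y₀ with hf
  have hodd : ∀ i, f (P.reflectionPerm i i) = - f i := fun i => root'_neg_idx P i y₀
  have hsgn : ∀ i, F.sgn i = SignType.sign (f i) := by
    intro i
    have : cosgnVec P y₀ = F.sgn := hy1
    rw [← this]; rfl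
  have hyh : ∀ m ∈ F.corners, y₀ ∈ hyper d m :=
    fun m hm => dualSolid_subset_hyper P hd F hm hy2
  have hdegF : 2 * F.deg d b = ∑ i, |f i| := by
    rw [Facet.deg_eq_sum_of_hyper P hb hyh, Facet.sum_parab_odd P F f hodd,
      Facet.two_mul_sum_pos_odd P F f hodd]
    apply Finset.sum_congr rfl
    intro i _
    rw [hsgn i, sign_mul_self]
  have hterm : ∀ (G : Facet P) (i : ι), (G.sgn i : R) * f i ≤ |f i| := by
    intro G i
    rcases signType_cases (G.sgn i) with h | h | h <;> rw [h]
    · simp
    · simp only [SignType.coe_neg_one, neg_mul, one_mul]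
      exact neg_le_abs _
    · simp only [SignType.coe_one, one_mul]
      exact le_abs_self _
  have hdegG : ∀ (G : Facet P) (c : P.Base), c ∈ G.cham →
      2 * G.deg d c ≤ ∑ i, (G.sgn i : R) * f i := by
    intro G c hc
    have h1 := Facet.deg_le_of_mem_solid P hd G hc (dualSolid_subset_solid P d F hy2)
    rw [Facet.sum_parab_odd P G f hodd] at h1
    rw [← Facet.two_mul_sum_pos_odd P G f hodd]
    linarith
  constructor
  · intro G c hc
    have h1 := hdegG G c hc
    have h2 : ∑ i, (G.sgn i : R) * f i ≤ ∑ i, |f i| :=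
      Finset.sum_le_sum (fun i _ => hterm G i)
    linarith
  · intro G c hc heq
    have h1 := hdegG G c hc
    have h2 : ∑ i, (G.sgn i : R) * f i ≤ ∑ i, |f i| :=
      Finset.sum_le_sum (fun i _ => hterm G i)
    have h3 : ∑ i, (G.sgn i : R) * f i = ∑ i, |f i| := by
      apply le_antisymm h2
      rw [← hdegF, ← heq]
      exact h1
    have h4 := (Finset.sum_eq_sum_iff_of_le (fun i _ => hterm G i)).mp h3
    rw [Facet.le_def]
    intro i
    have h5 := h4 i (Finset.mem_univ _)
    rw [hsgn i]
    rcases lt_trichotomy (f i) 0 with h | h | h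
    · right
      rw [sign_neg h]
      rw [abs_of_neg h] at h5
      rcases signType_cases (G.sgn i) with h6 | h6 | h6 <;> rw [h6] at h5 ⊢
      · simp only [SignType.coe_zero, zero_mul] at h5
        linarith
      · simp only [SignType.coe_one, one_mul] at h5
        linarith
    · left; rw [h, sign_zero]
    · right
      rw [sign_pos h]
      rw [abs_of_pos h] at h5
      rcases signType_cases (G.sgn i) with h6 | h6 | h6 <;> rw [h6] at h5 ⊢
      · simp only [SignType.coe_zero, zero_mul] at h5
        linarith
      · simp only [SignType.coe_neg_one, neg_mul, one_mul] at h5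
        linarith

end Groth.Agent.H8.RootC
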