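import Mathlib
import Groth.Prelude.Def_RootCh2
import Groth.Agent.Lib.helper8.RootC21

/-! RootC22 (helper8): the point of a special facet is the point of the solid closest to the
origin, for an invariant scalar product. -/

set_option autoImplicit false
set_option linter.unusedSectionVars false

namespace Groth.Agent.H8.RootC

open RootPairing RootCh Groth.Agent.H8.RootD Groth.Agent.H8.RootB Module

variable {ι R M N : Type*} [Field R] [LinearOrder R] [IsStrictOrderedRing R]
  [AddCommGroup M] [Module R M] [AddCommGroup N] [Module R N]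
  (P : RootPairing ι R M N) [P.IsRootSystem]
  [Finite ι] [P.IsCrystallographic] [P.IsReduced]

/-- a dominant vector for `b` pairs least with `d b` on the whole solid -/
theorem pairing_le_of_mem_solid {d : P.Base → N} (hd : IsCCS d) (c : P.Base) {ρ : M}
    (hρc : ρ ∈ closedChamber c) {y : N} (hy : y ∈ solid d) :
    P.toLinearMap ρ (d c) ≤ P.toLinearMap ρ y := by
  have hconv : Convex R {z : N | P.toLinearMap ρ (d c) ≤ P.toLinearMap ρ z} := by
    intro x hx z hz a e ha he hae
    simp only [Set.mem_setOf_eq] at hx hz ⊢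
    rw [map_add, map_smul, map_smul, smul_eq_mul, smul_eq_mul]
    have h3 : P.toLinearMap ρ (d c) = a * P.toLinearMap ρ (d c) + e * P.toLinearMap ρ (d c) := by
      rw [← add_mul, hae, one_mul]
    rw [h3]
    exact add_le_add (mul_le_mul_of_nonneg_left hx ha) (mul_le_mul_of_nonneg_left hz he)
  have hsub : solid d ⊆ {z : N | P.toLinearMap ρ (d c) ≤ P.toLinearMap ρ z} := by
    apply convexHull_min _ hconv
    rintro _ ⟨b', rfl⟩
    exact pairing_le_of_mem_closedChamber P hd c hρc b'
  exact hsub hy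

section Metric

variable (B : LinearMap.BilinForm R N)
  (hBi : ∀ (i : ι) (y z : N), B (P.coreflection i y) (P.coreflection i z) = B y z)

include hBi in
theorem two_mul_B_coroot (i : ι) (y : N) :
    2 * B y (P.coroot i) = P.root' i y * B (P.coroot i) (P.coroot i) := by
  have h := hBi i y (P.coroot i)
  rw [P.coreflection_apply_self, P.coreflection_apply, map_neg, map_sub, map_smul,
    LinearMap.sub_apply, LinearMap.smul_apply, smul_eq_mul] at h
  linarith

/-- the vector of `M` representing `B y₀` -/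
noncomputable def dualVec (y₀ : N) : M := P.toPerfPair.symm (B y₀)

theorem toLinearMap_dualVec (y₀ n : N) : P.toLinearMap (dualVec P B y₀) n = B y₀ n := by
  unfold dualVec
  rw [P.toLinearMap.apply_symm_toPerfPair_self]

include hBi in
theorem sgnVec_dualVec (hBp : ∀ y : N, y ≠ 0 → 0 < B y y) (y₀ : N) :
    sgnVec P (dualVec P B y₀) = cosgnVec P y₀ := by
  funext i
  unfold sgnVec cosgnVec
  have h1 : P.coroot' i (dualVec P B y₀) = B y₀ (P.coroot i) := toLinearMap_dualVec P B y₀ _
  have h2 := two_mul_B_coroot P B hBi i y₀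
  have h3 : 0 < B (P.coroot i) (P.coroot i) := hBp _ (P.flip.ne_zero i)
  rw [h1]
  rcases lt_trichotomy (P.root' i y₀) 0 with h | h | h
  · rw [sign_neg h, sign_neg]
    have := mul_neg_of_neg_of_pos h h3
    linarith
  · rw [h, sign_zero]
    rw [h, zero_mul] at h2
    have : B y₀ (P.coroot i) = 0 := by linarith
    rw [this, sign_zero]
  · rw [sign_pos h, sign_pos]
    have := mul_pos h h3
    linarith

variable (hBs : ∀ y z : N, B y z = B z y) (hBp : ∀ y : N, y ≠ 0 → 0 < B y y)

include hBs hBp in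
theorem B_lt_of_inner_le {y₀ y : N} (h : B y₀ y₀ ≤ B y₀ y) (hne : y ≠ y₀) : B y₀ y₀ < B y y := by
  have hv : 0 < B (y - y₀) (y - y₀) := hBp _ (sub_ne_zero.mpr hne)
  have e : B (y - y₀) (y - y₀) = B y y - 2 * B y₀ y + B y₀ y₀ := by
    simp only [map_sub, LinearMap.sub_apply]
    rw [hBs y y₀]
    ring
  linarith

include hBi hBs hBp in
/-- S14244 -/
theorem exists_yLocus_eq_and_isMinOn {d : P.Base → N} (hd : IsCCS d) (F : Facet P)
    (hF : IsSpecial d F) :
    ∃ y₀ : N, yLocus d F = {y₀} ∧ y₀ ∈ solid d ∧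
      ∀ y ∈ solid d, y ≠ y₀ → B y₀ y₀ < B y y := by
  obtain ⟨y₀, hyl, hy⟩ := exists_yLocus_eq P hd F hF
  have hy₀ : y₀ ∈ F.dualCarrier ∩ dualSolid d F := by rw [hy]; rfl
  obtain ⟨hy1, hy2⟩ := hy₀
  refine ⟨y₀, hyl, dualSolid_subset_solid P d F hy2, ?_⟩
  obtain ⟨b, hb⟩ := Facet.exists_mem_cham P F
  set lam := dualVec P B y₀ with hlam
  have hlamF : lam ∈ F.carrier := by
    show sgnVec P lam = F.sgn
    rw [sgnVec_dualVec P B hBi hBp]
    exact hy1
  have hyh : ∀ m ∈ F.corners, y₀ ∈ hyper d m :=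
    fun m hm => dualSolid_subset_hyper P hd F hm hy2
  intro y hys hne
  apply B_lt_of_inner_le B hBs hBp _ hne
  rw [← toLinearMap_dualVec P B y₀ y₀, ← toLinearMap_dualVec P B y₀ y,
    pairing_eq_of_mem_hyper P hb hyh (Facet.mem_span_corners_of_mem_carrier P hlamF)]
  exact pairing_le_of_mem_solid P hd b (hb hlamF) hys

include hBs hBp in
/-- first order condition at a point of least norm of a convex set -/
theorem inner_le_of_isMin {S : Set N} (hS : Convex R S) {y₀ : N} (hy₀ : y₀ ∈ S)
    (hmin : ∀ y ∈ S, B y₀ y₀ ≤ B y y) {y : N} (hy : y ∈ S) : B y₀ y₀ ≤ B y₀ y := by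
  by_contra hneg
  rw [not_le] at hneg
  set v := y - y₀ with hv
  have hBv : B y₀ v < 0 := by
    rw [hv, map_sub]; linarith
  have hvv : 0 ≤ B v v := by
    by_cases h0 : v = 0
    · rw [h0]; simp
    · exact (hBp v h0).le
  set t := min 1 (- B y₀ v / (B v v + 1)) with ht
  have hden : 0 < B v v + 1 := by linarith
  have ht0 : 0 < t := lt_min one_pos (div_pos (by linarith) hden)
  have ht1 : t ≤ 1 := min_le_left _ _
  have ht2 : t * (B v v + 1) ≤ - B y₀ v := by
    have : t ≤ - B y₀ v / (B v v + 1) := min_le_right _ _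
    calc t * (B v v + 1) ≤ - B y₀ v / (B v v + 1) * (B v v + 1) :=
          mul_le_mul_of_nonneg_right this hden.le
      _ = - B y₀ v := div_mul_cancel₀ _ hden.ne'
  have hmem : y₀ + t • v ∈ S := by
    have : y₀ + t • v = (1 - t) • y₀ + t • y := by
      rw [hv]; module
    rw [this]
    exact hS hy₀ hy (by linarith) ht0.le (by ring)
  have h1 := hmin _ hmem
  have e : B (y₀ + t • v) (y₀ + t • v) = B y₀ y₀ + 2 * t * B y₀ v + t * t * B v v := by
    simp only [map_add, map_smul, LinearMap.add_apply, LinearMap.smul_apply, smul_eq_mul]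
    rw [hBs v y₀]
    ring
  rw [e] at h1
  have h2 : 0 ≤ 2 * B y₀ v + t * B v v := by
    by_contra hc
    rw [not_le] at hc
    have := mul_neg_of_pos_of_neg ht0 hc
    nlinarith
  nlinarith

include hBi hBs hBp in
/-- S14245 -/
theorem isSpecial_of_isMinOn {d : P.Base → N} (hd : IsCCS d) (y₀ : N) (hy₀ : y₀ ∈ solid d)
    (hmin : ∀ y ∈ solid d, B y₀ y₀ ≤ B y y) (F : Facet P) (hF : y₀ ∈ F.dualCarrier) :
    IsSpecial d F ∧ yLocus d F = {y₀} := by
  obtain ⟨b, hb⟩ := Facet.exists_mem_cham P F
  set lam := dualVec P B y₀ with hlam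
  have hlamF : lam ∈ F.carrier := by
    show sgnVec P lam = F.sgn
    rw [sgnVec_dualVec P B hBi hBp]
    exact hF
  have hfirst : ∀ y ∈ solid d, P.toLinearMap lam y₀ ≤ P.toLinearMap lam y := by
    intro y hy
    rw [toLinearMap_dualVec, toLinearMap_dualVec]
    exact inner_le_of_isMin B hBs hBp (convex_convexHull R _) hy₀ hmin hy
  have hdb : d b ∈ solid d := subset_convexHull R _ ⟨b, rfl⟩
  have h1 := hfirst (d b) hdb
  rw [pairing_expand P b lam y₀, pairing_expand P b lam (d b)] at h1
  have hterm : ∀ j : b.support, P.coroot' j lam * P.toLinearMap (fundWeight b j) (d b) ≤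
      P.coroot' j lam * P.toLinearMap (fundWeight b j) y₀ := by
    intro j
    apply mul_le_mul_of_nonneg_left _ (hb hlamF j j.2)
    exact solid_subset_halfClosed P hd (fundWeight b j) hy₀ b
      (by rw [baseCorners_eq]; exact ⟨j, rfl⟩)
  have heq := (Finset.sum_eq_sum_iff_of_le (fun j _ => hterm j)).mp
    (le_antisymm (Finset.sum_le_sum (fun j _ => hterm j)) h1)
  have hyh : ∀ m ∈ F.corners, y₀ ∈ hyper d m := by
    intro m hm
    have hm' := hm
    rw [Facet.corners_eq P hb] at hm'
    obtain ⟨j, hj, rfl⟩ := hm'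
    have h2 := heq j (Finset.mem_univ _)
    have hpos := ((Facet.mem_carrier_iff P hb lam).mp hlamF j j.2).1 hj
    have h3 : P.toLinearMap (fundWeight b j) (d b) = P.toLinearMap (fundWeight b j) y₀ :=
      mul_left_cancel₀ hpos.ne' h2
    intro b'' hb''
    rw [← h3]
    exact hd.corner_eq b b'' _ (Facet.corner_mem_baseCorners P hb hm) hb''
  have hmem : y₀ ∈ dualSolid d F := by
    rw [dualSolid_eq P hd F]
    refine ⟨?_, ?_⟩
    · simp only [Set.mem_iInter]
      exact hyh
    · simp only [Set.mem_iInter]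
      intro m _
      exact solid_subset_halfClosed P hd m hy₀
  have hsp : IsSpecial d F := ⟨y₀, hF, hmem⟩
  refine ⟨hsp, ?_⟩
  obtain ⟨y₁, hyl, hy⟩ := exists_yLocus_eq P hd F hsp
  have : y₀ ∈ ({y₁} : Set N) := by rw [← hy]; exact ⟨hF, hmem⟩
  rw [Set.mem_singleton_iff] at this
  rw [hyl, this]

end Metric

end Groth.Agent.H8.RootC
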