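import Mathlib
import Groth.Prelude.Def_RootCh2
import Groth.Agent.Lib.helper8.RootC22

/-! RootC23 (helper8): existence of the point `y(F)`; auxiliary lemmas on signs. -/

set_option autoImplicit false
set_option linter.unusedSectionVars false

namespace Groth.Agent.H8.RootC

open RootPairing RootCh Groth.Agent.H8.RootD Groth.Agent.H8.RootB Module

variable {ι R M N : Type*} [Field R] [LinearOrder R] [IsStrictOrderedRing R]
  [AddCommGroup M] [Module R M] [AddCommGroup N] [Module R N]
  (P : RootPairing ι R M N) [P.IsRootSystem]
  [Finite ι] [P.IsCrystallographic] [P.IsReduced]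

theorem Facet.isPos_of_sgn_one {F : Facet P} {b : P.Base} (hb : b ∈ F.cham) {i : ι}
    (h : F.sgn i = 1) : b.IsPos i := by
  by_contra hneg
  have hk' : b.IsPos (P.reflectionPerm i i) := (isPos_neg_iff P b i).mpr hneg
  have := (Facet.sgn_of_isPos P hb hk').1
  rw [Facet.sgn_neg_idx, h] at this
  revert this; decide

theorem root'_eq_zero_of_mem_span_dualCarrier' {F : Facet P}
    {z : N} (hz : z ∈ Submodule.span R F.dualCarrier) {i : ι} (hi : F.sgn i = 0) :
    P.root' i z = 0 := by
  have key : ∀ z ∈ Submodule.span R F.dualCarrier, P.root' i z = 0 := by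
    intro z hz
    induction hz using Submodule.span_induction with
    | mem w hw =>
      have hw' : cosgnVec P w = F.sgn := hw
      have := congrFun hw' i
      rw [hi] at this
      exact sign_eq_zero_iff.mp this
    | zero => simp
    | add u v _ _ hu hv => rw [map_add, hu, hv, add_zero]
    | smul r u _ hu => rw [map_smul, hu, smul_zero]
  exact key z hz

theorem root'_expand (b : P.Base) (i : ι) (y : N) :
    P.root' i y = ∑ j : b.support, P.root' i (fundCoweight b j) * P.root' j y := by
  have h1 := sum_root P b (P.root i)
  have h2 : P.root' i y = P.toLinearMap (P.root i) y := rfl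
  rw [h2, ← h1, map_sum, LinearMap.sum_apply]
  apply Finset.sum_congr rfl
  intro j _
  rw [map_smul, LinearMap.smul_apply, smul_eq_mul]

theorem fundCoweight_mem_span_dualCarrier {F : Facet P} {b : P.Base} (hb : b ∈ F.cham)
    {j : b.support} (hj : F.sgn j = 1) :
    fundCoweight b j ∈ Submodule.span R F.dualCarrier := by
  rw [Facet.dualCarrier_eq, Facet.span_carrier_eq P.flip (Facet.dual P F)]
  apply Submodule.subset_span
  rw [Facet.corners_eq P.flip (Facet.flip_mem_cham_dual P hb)]
  exact ⟨j, hj, rfl⟩

theorem Facet.le_of_base {F G : Facet P} {b : P.Base} (hbF : b ∈ F.cham) (hbG : b ∈ G.cham)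
    (h : ∀ i : b.support, G.sgn i = 1 → F.sgn i = 1) : F ≤ G := by
  rw [Facet.le_def]
  have key : ∀ k, b.IsPos k → (G.sgn k = 0 ∨ G.sgn k = F.sgn k) := by
    intro k hk
    have hF := Facet.sgn_of_isPos P hbF hk
    have hG := Facet.sgn_of_isPos P hbG hk
    rcases hG.1 with h0 | h1
    · left; exact h0
    · right
      rw [h1]
      symm
      rw [hF.2]
      obtain ⟨j, hj1, hj2⟩ := hG.2.mp h1
      exact ⟨j, h j hj1, hj2⟩
  intro k
  by_cases hk : b.IsPos k
  · exact key k hk
  · have hk' : b.IsPos (P.reflectionPerm k k) := (isPos_neg_iff P b k).mpr hk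
    have := key _ hk'
    rw [Facet.sgn_neg_idx, Facet.sgn_neg_idx] at this
    rcases this with h0 | h1
    · left
      revert h0
      generalize G.sgn k = a
      cases a <;> decide
    · right; exact neg_injective h1

/-- existence of the point `y(F)`: a vector of the span of the dual facet lying on the
hyperplanes of the corners -/
theorem exists_mem_yLocus {d : P.Base → N} (hd : IsCCS d) (F : Facet P) :
    (yLocus d F).Nonempty := by
  classical
  obtain ⟨b, hb⟩ := Facet.exists_mem_cham P F
  let J := {j : b.support // F.sgn j = 1}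
  let φ : (J → R) →ₗ[R] (J → R) := LinearMap.pi fun j =>
    (P.toLinearMap (fundWeight b j.1)) ∘ₗ
      (Fintype.linearCombination R (fun j' : J => fundCoweight b j'.1))
  have hφ : ∀ c j, φ c j =
      P.toLinearMap (fundWeight b j.1) (∑ j' : J, c j' • fundCoweight b j'.1) := by
    intro c j
    simp [φ, Fintype.linearCombination_apply]
  have hli : LinearIndependent R (fun j' : J => fundCoweight b j'.1) :=
    (linearIndependent_fundWeight P.flip b.flip).comp (fun j' : J => j'.1)
      Subtype.val_injective
  have hinj : Function.Injective φ := by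
    rw [← LinearMap.ker_eq_bot, LinearMap.ker_eq_bot']
    intro c hc
    have hz : ∑ j' : J, c j' • fundCoweight b j'.1 = 0 := by
      apply eq_zero_of_levi P (F := F) (b := b)
      · intro k hk
        rw [map_sum]
        apply Finset.sum_eq_zero
        intro j' _
        rw [map_smul, root'_fundCoweight_of_ne b j'.1 k (fun h => hk (h ▸ j'.2)), smul_zero]
      · intro j hj
        have := congrFun hc ⟨j, hj⟩
        rw [hφ] at this
        exact this
    have := Fintype.linearIndependent_iff.mp hli c hz
    funext j
    exact this j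
  have hsurj : Function.Surjective φ := LinearMap.injective_iff_surjective.mp hinj
  obtain ⟨c, hc⟩ := hsurj (fun j => P.toLinearMap (fundWeight b j.1) (d b))
  refine ⟨∑ j' : J, c j' • fundCoweight b j'.1, ?_, ?_⟩
  · simp only [Set.mem_iInter]
    intro m hm
    have hm' := hm
    rw [Facet.corners_eq P hb] at hm'
    obtain ⟨j, hj, rfl⟩ := hm'
    intro b'' hb''
    have := congrFun hc ⟨j, hj⟩
    rw [hφ] at this
    rw [this]
    exact hd.corner_eq b b'' _ (Facet.corner_mem_baseCorners P hb hm) hb''
  · apply Submodule.sum_mem
    intro j' _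
    apply Submodule.smul_mem
    exact fundCoweight_mem_span_dualCarrier P hb j'.2

end Groth.Agent.H8.RootC
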