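import Mathlib
import Groth.Prelude.Def_RootCh2
import Groth.Agent.Lib.helper8.RootC23

/-! RootC24 (helper8): a facet of maximal degree, maximal among those, is special. -/

set_option autoImplicit false
set_option linter.unusedSectionVars false

namespace Groth.Agent.H8.RootC

open RootPairing RootCh Groth.Agent.H8.RootD Groth.Agent.H8.RootB Module

variable {ι R M N : Type*} [Field R] [LinearOrder R] [IsStrictOrderedRing R]
  [AddCommGroup M] [Module R M] [AddCommGroup N] [Module R N]
  (P : RootPairing ι R M N) [P.IsRootSystem]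
  [Finite ι] [P.IsCrystallographic] [P.IsReduced]

theorem facetOf_sgn_of_mem (b : P.Base) (J : Set b.support) {i : b.support} (hi : i ∈ J) :
    (facetOf P b J).sgn i = 1 := by
  classical
  rw [facetOf_sgn, if_pos hi]

theorem facetOf_sgn_of_notMem (b : P.Base) (J : Set b.support) {i : b.support} (hi : i ∉ J) :
    (facetOf P b J).sgn i = 0 := by
  classical
  rw [facetOf_sgn, if_neg hi]

open Classical in
theorem Facet.pairing_rho_eq [Fintype ι] (F : Facet P) (y : N) :
    P.toLinearMap (∑ i ∈ (Set.toFinite F.parab).toFinset, P.root i) y =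
      ∑ i ∈ Finset.univ.filter (fun i => F.sgn i = 1), P.root' i y := by
  rw [map_sum, LinearMap.sum_apply]
  exact Facet.sum_parab_odd P F (fun i => P.root' i y) (fun i => root'_neg_idx P i y)

open Classical in
/-- step (iii): the coordinates of `y(F)` are positive -/
theorem pos_of_maximal {d : P.Base → N} (F : Facet P) (b : P.Base) (hb : b ∈ F.cham)
    (hmax : ∀ (G : Facet P) (c : P.Base), c ∈ G.cham → G.deg d c ≤ F.deg d b)
    (hmaxl : ∀ (G : Facet P) (c : P.Base), c ∈ G.cham → G.deg d c = F.deg d b → F ≤ G → G = F)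
    {y : N} (hy1 : ∀ m ∈ F.corners, y ∈ hyper d m) (hy2 : y ∈ Submodule.span R F.dualCarrier)
    (j : b.support) (hj : F.sgn j = 1) : 0 < P.root' j y := by
  let _ := Fintype.ofFinite ι
  set Js : Set b.support := {i | F.sgn i = 1} \ {j} with hJs
  set G := facetOf P b Js with hG
  have hbG : b ∈ G.cham := mem_cham_facetOf P b Js
  have hGF : ∀ i : b.support, G.sgn i = 1 → F.sgn i = 1 := by
    intro i hi
    by_cases him : i ∈ Js
    · exact him.1
    · rw [hG, facetOf_sgn_of_notMem P b Js him] at hi; exact absurd hi (by decide)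
  have hle : F ≤ G := Facet.le_of_base P hb hbG hGF
  have hne : G ≠ F := by
    intro h
    have h1 : G.sgn j = 0 := by
      rw [hG]
      apply facetOf_sgn_of_notMem
      intro hmem
      exact hmem.2 rfl
    rw [h, hj] at h1
    exact absurd h1 (by decide)
  have hlt : G.deg d b < F.deg d b :=
    lt_of_le_of_ne (hmax G b hbG) (fun heq => hne (hmaxl G b hbG heq hle))
  have hcorn : ∀ m ∈ G.corners, m ∈ F.corners := by
    intro m hm
    rw [hG, corners_facetOf] at hm
    obtain ⟨i, hi, rfl⟩ := hm
    rw [Facet.corners_eq P hb]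
    exact ⟨i, hi.1, rfl⟩
  have hdegF : F.deg d b = ∑ i ∈ Finset.univ.filter (fun i => F.sgn i = 1), P.root' i y := by
    rw [Facet.deg_eq_sum_of_hyper P hb hy1]
    exact Facet.sum_parab_odd P F (fun i => P.root' i y) (fun i => root'_neg_idx P i y)
  have hdegG : G.deg d b = ∑ i ∈ Finset.univ.filter (fun i => G.sgn i = 1), P.root' i y := by
    rw [Facet.deg_eq_sum_of_hyper P hbG (fun m hm => hy1 m (hcorn m hm))]
    exact Facet.sum_parab_odd P G (fun i => P.root' i y) (fun i => root'_neg_idx P i y)
  have hsub : Finset.univ.filter (fun i => G.sgn i = 1) ⊆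
      Finset.univ.filter (fun i => F.sgn i = 1) := by
    intro i hi
    simp only [Finset.mem_filter, Finset.mem_univ, true_and] at hi ⊢
    rcases (Facet.le_def F G).mp hle i with h | h
    · rw [h] at hi; exact absurd hi (by decide)
    · rw [← h]; exact hi
  have hdiff := Finset.sum_sdiff hsub (f := fun i => P.root' i y)
  have hterm : ∀ i ∈ Finset.univ.filter (fun i => F.sgn i = 1) \
      Finset.univ.filter (fun i => G.sgn i = 1),
      P.root' i y = P.root' i (fundCoweight b j) * P.root' j y := by
    intro i hi
    simp only [Finset.mem_sdiff, Finset.mem_filter, Finset.mem_univ, true_and] at hi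
    have hpos : b.IsPos i := Facet.isPos_of_sgn_one P hb hi.1
    rw [root'_expand P b i y, Finset.sum_eq_single j]
    · intro j' _ hne'
      by_cases hj' : F.sgn j' = 1
      · have hmem : j' ∈ Js := ⟨hj', hne'⟩
        have h1 := hi.2
        rw [(Facet.sgn_of_isPos P hbG hpos).2] at h1
        push Not at h1
        have h2 := h1 j' (by rw [hG]; exact facetOf_sgn_of_mem P b Js hmem)
        rw [coroot'_fundWeight_eq_zero_iff] at h2
        rw [h2, zero_mul]
      · rw [root'_eq_zero_of_mem_span_dualCarrier P hb hy2 j'.2 hj', mul_zero]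
    · intro h; exact absurd (Finset.mem_univ _) h
  rw [Finset.sum_congr rfl hterm, ← Finset.sum_mul] at hdiff
  have hcoef : 0 ≤ ∑ i ∈ Finset.univ.filter (fun i => F.sgn i = 1) \
      Finset.univ.filter (fun i => G.sgn i = 1), P.root' i (fundCoweight b j) := by
    apply Finset.sum_nonneg
    intro i hi
    simp only [Finset.mem_sdiff, Finset.mem_filter, Finset.mem_univ, true_and] at hi
    exact root'_fundCoweight_nonneg P b (Facet.isPos_of_sgn_one P hb hi.1) j
  by_contra hneg
  rw [not_lt] at hneg
  have := mul_nonpos_of_nonneg_of_nonpos hcoef hneg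
  rw [hdegF, hdegG] at hlt
  linarith

open Classical in
/-- step (iv): `y(F)` lies in the closed half-spaces of the corners of the adjacent chambers -/
theorem mem_halfClosed_of_maximal {d : P.Base → N} (hd : IsCCS d) (F : Facet P) (b : P.Base)
    (hb : b ∈ F.cham)
    (hmax : ∀ (G : Facet P) (c : P.Base), c ∈ G.cham → G.deg d c ≤ F.deg d b)
    {y : N} (hy1 : ∀ m ∈ F.corners, y ∈ hyper d m) (hy2 : y ∈ Submodule.span R F.dualCarrier)
    (m : M) (hm : m ∈ F.corners') : y ∈ halfClosed d m := by
  let _ := Fintype.ofFinite ι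
  unfold Facet.corners' at hm
  simp only [Set.mem_iUnion] at hm
  obtain ⟨b', hb', hmb'⟩ := hm
  intro b'' hb''
  rw [hd.corner_eq b'' b' m hb'' hmb']
  rw [baseCorners_eq] at hmb'
  obtain ⟨k, rfl⟩ := hmb'
  by_cases hk : F.sgn k = 1
  · have hc : fundWeight b' k ∈ F.corners := by
      rw [Facet.corners_eq P hb']; exact ⟨k, hk, rfl⟩
    exact le_of_eq (hy1 _ hc b' (Facet.corner_mem_baseCorners P hb' hc)).symm
  · set Js : Set b'.support := insert k {i | F.sgn i = 1} with hJs
    set G := facetOf P b' Js with hG
    have hbG : b' ∈ G.cham := mem_cham_facetOf P b' Js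
    have hle : G ≤ F := by
      apply Facet.le_of_base P hbG hb'
      intro i hi
      rw [hG]
      exact facetOf_sgn_of_mem P b' Js (Set.mem_insert_of_mem _ hi)
    have hdeg : G.deg d b' ≤ F.deg d b' := by
      rw [← Facet.deg_eq_deg P hd F hb hb']
      exact hmax G b' hbG
    rw [Facet.deg_eq_pairing, Facet.deg_eq_pairing] at hdeg
    set ρG := ∑ i ∈ (Set.toFinite G.parab).toFinset, P.root i with hρG
    set ρF := ∑ i ∈ (Set.toFinite F.parab).toFinset, P.root i with hρF
    have hρGmem := (Facet.mem_carrier_iff P hbG ρG).mp (Facet.sum_root_parab_mem_carrier P G)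
    have hρFmem := (Facet.mem_carrier_iff P hb' ρF).mp (Facet.sum_root_parab_mem_carrier P F)
    -- pairing of ρG - ρF with y vanishes
    have hzy : P.toLinearMap (ρG - ρF) y = 0 := by
      rw [map_sub, LinearMap.sub_apply, hρG, hρF, Facet.pairing_rho_eq, Facet.pairing_rho_eq]
      have hsub : Finset.univ.filter (fun i => F.sgn i = 1) ⊆
          Finset.univ.filter (fun i => G.sgn i = 1) := by
        intro i hi
        simp only [Finset.mem_filter, Finset.mem_univ, true_and] at hi ⊢
        rcases (Facet.le_def G F).mp hle i with h | h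
        · rw [h] at hi; exact absurd hi (by decide)
        · rw [← h]; exact hi
      rw [← Finset.sum_sdiff hsub, add_sub_cancel_right]
      apply Finset.sum_eq_zero
      intro i hi
      simp only [Finset.mem_sdiff, Finset.mem_filter, Finset.mem_univ, true_and] at hi
      apply root'_eq_zero_of_mem_span_dualCarrier' P hy2
      rcases (Facet.le_def G F).mp hle i with h | h
      · exact h
      · rw [hi.1] at h; exact absurd h hi.2
    -- expansion
    have hexp : P.toLinearMap (ρG - ρF) (d b') - P.toLinearMap (ρG - ρF) y =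
        P.coroot' k (ρG - ρF) *
          (P.toLinearMap (fundWeight b' k) (d b') - P.toLinearMap (fundWeight b' k) y) := by
      rw [pairing_expand P b' (ρG - ρF) (d b'), pairing_expand P b' (ρG - ρF) y,
        ← Finset.sum_sub_distrib, Finset.sum_eq_single k]
      · rw [mul_sub]
      · intro i _ hik
        by_cases hi : F.sgn i = 1
        · have hc : fundWeight b' i ∈ F.corners := by
            rw [Facet.corners_eq P hb']; exact ⟨i, hi, rfl⟩
          rw [hy1 _ hc b' (Facet.corner_mem_baseCorners P hb' hc), sub_self]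
        · have h1 : G.sgn i ≠ 1 := by
            rw [hG, facetOf_sgn_of_notMem P b' Js]
            · decide
            · intro hmem
              rcases Set.mem_insert_iff.mp hmem with h | h
              · exact hik h
              · exact hi h
          rw [map_sub, (hρGmem i i.2).2 h1, (hρFmem i i.2).2 hi, sub_self, zero_mul, zero_mul,
            sub_self]
      · intro h; exact absurd (Finset.mem_univ _) h
    have ha : 0 < P.coroot' k (ρG - ρF) := by
      rw [map_sub, (hρFmem k k.2).2 hk, sub_zero]
      apply (hρGmem k k.2).1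
      rw [hG]
      exact facetOf_sgn_of_mem P b' Js (Set.mem_insert _ _)
    rw [hzy, sub_zero, map_sub, LinearMap.sub_apply] at hexp
    by_contra hneg
    rw [not_le] at hneg
    have := mul_pos ha (sub_pos.mpr hneg)
    linarith

/-- S14247 -/
theorem isSpecial_of_maximal {d : P.Base → N} (hd : IsCCS d) (F : Facet P) (b : P.Base)
    (hb : b ∈ F.cham)
    (hmax : ∀ (G : Facet P) (c : P.Base), c ∈ G.cham → G.deg d c ≤ F.deg d b)
    (hmaxl : ∀ (G : Facet P) (c : P.Base), c ∈ G.cham → G.deg d c = F.deg d b → F ≤ G → G = F) :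
    IsSpecial d F := by
  obtain ⟨y, hy1, hy2⟩ := exists_mem_yLocus P hd F
  simp only [Set.mem_iInter] at hy1
  refine ⟨y, ?_, ?_⟩
  · rw [Facet.mem_dualCarrier_iff P hb]
    intro i hi
    refine ⟨fun h1 => pos_of_maximal P F b hb hmax hmaxl hy1 hy2 ⟨i, hi⟩ h1, fun h1 => ?_⟩
    exact root'_eq_zero_of_mem_span_dualCarrier P hb hy2 hi h1
  · rw [dualSolid_eq P hd F]
    refine ⟨?_, ?_⟩
    · simp only [Set.mem_iInter]; exact hy1
    · simp only [Set.mem_iInter]
      intro m hm
      exact mem_halfClosed_of_maximal P hd F b hb hmax hy1 hy2 m hm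

end Groth.Agent.H8.RootC
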