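import Mathlib
import Groth.Prelude.Def_RootCh2
import Groth.Agent.Lib.helper8.RootC24

/-! RootC25 (helper8): existence and uniqueness of the special facet. -/

set_option autoImplicit false
set_option linter.unusedSectionVars false

namespace Groth.Agent.H8.RootC

open RootPairing RootCh Groth.Agent.H8.RootD Groth.Agent.H8.RootB Module

variable {ι R M N : Type*} [Field R] [LinearOrder R] [IsStrictOrderedRing R]
  [AddCommGroup M] [Module R M] [AddCommGroup N] [Module R N]
  (P : RootPairing ι R M N) [P.IsRootSystem]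
  [Finite ι] [P.IsCrystallographic] [P.IsReduced]

instance finite_facet : Finite (Facet P) :=
  Finite.of_injective (fun F : Facet P => F.sgn) (fun _ _ h => Facet.ext h)

theorem exists_isSpecial {d : P.Base → N} (hd : IsCCS d) : ∃ F : Facet P, IsSpecial d F := by
  classical
  let D : Facet P → R := fun F => F.deg d (Classical.choose (Facet.exists_mem_cham P F))
  have hD : ∀ (F : Facet P) (c : P.Base), c ∈ F.cham → F.deg d c = D F := by
    intro F c hc
    exact Facet.deg_eq_deg P hd F hc (Classical.choose_spec (Facet.exists_mem_cham P F))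
  haveI : Nonempty (Facet P) := ⟨Facet.origin P⟩
  obtain ⟨F₀, hF₀⟩ := Finite.exists_max D
  have hfin : {F : Facet P | D F = D F₀}.Finite := Set.toFinite _
  obtain ⟨F, hF⟩ := hfin.exists_maximal ⟨F₀, rfl⟩
  obtain ⟨b, hb⟩ := Facet.exists_mem_cham P F
  refine ⟨F, isSpecial_of_maximal P hd F b hb ?_ ?_⟩
  · intro G c hc
    rw [hD G c hc, hD F b hb, hF.1]
    exact hF₀ G
  · intro G c hc heq hle
    have hG : G ∈ {F : Facet P | D F = D F₀} := by
      show D G = D F₀
      rw [← hD G c hc, heq, hD F b hb]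
      exact hF.1
    exact le_antisymm (hF.2 hG hle) hle

/-- S14246 -/
theorem existsUnique_isSpecial {d : P.Base → N} (hd : IsCCS d) :
    ∃! F : Facet P, IsSpecial d F := by
  classical
  let _ := Fintype.ofFinite ι
  obtain ⟨F, hF⟩ := exists_isSpecial P hd
  refine ⟨F, hF, ?_⟩
  intro F' hF'
  have hBs : ∀ y z : N, P.CorootForm y z = P.CorootForm z y :=
    fun y z => by
      rw [P.corootForm_apply_apply, P.corootForm_apply_apply]
      exact Finset.sum_congr rfl (fun i _ => mul_comm _ _)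
  have hBp : ∀ y : N, y ≠ 0 → 0 < P.CorootForm y y :=
    fun y hy => P.flip.rootForm_pos_of_ne_zero (by simp) hy
  have hBi : ∀ (i : ι) (y z : N),
      P.CorootForm (P.coreflection i y) (P.coreflection i z) = P.CorootForm y z :=
    fun i y z => P.flip.rootForm_reflection_reflection_apply i y z
  obtain ⟨y₀, hy₀l, hy₀s, hy₀m⟩ :=
    exists_yLocus_eq_and_isMinOn P P.CorootForm hBi hBs hBp hd F hF
  obtain ⟨y₀', hy₀l', hy₀s', hy₀m'⟩ :=
    exists_yLocus_eq_and_isMinOn P P.CorootForm hBi hBs hBp hd F' hF'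
  have heq : y₀' = y₀ := by
    by_contra hne
    have h1 := hy₀m y₀' hy₀s' hne
    have h2 := hy₀m' y₀ hy₀s (Ne.symm hne)
    exact lt_asymm h1 h2
  obtain ⟨y₁, hy₁l, hy₁⟩ := exists_yLocus_eq P hd F hF
  obtain ⟨y₁', hy₁l', hy₁'⟩ := exists_yLocus_eq P hd F' hF'
  have e1 : y₁ = y₀ := by
    have : y₀ ∈ ({y₁} : Set N) := by rw [← hy₁l, hy₀l]; rfl
    exact (Set.mem_singleton_iff.mp this).symm
  have e1' : y₁' = y₀' := by
    have : y₀' ∈ ({y₁'} : Set N) := by rw [← hy₁l', hy₀l']; rfl
    exact (Set.mem_singleton_iff.mp this).symm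
  have hm : y₀ ∈ F.dualCarrier := by
    have : y₁ ∈ F.dualCarrier ∩ dualSolid d F := by rw [hy₁]; rfl
    rw [← e1]; exact this.1
  have hm' : y₀ ∈ F'.dualCarrier := by
    have : y₁' ∈ F'.dualCarrier ∩ dualSolid d F' := by rw [hy₁']; rfl
    rw [← heq, ← e1']; exact this.1
  apply Facet.ext
  have h1 : cosgnVec P y₀ = F.sgn := hm
  have h2 : cosgnVec P y₀ = F'.sgn := hm'
  rw [← h1, ← h2]

end Groth.Agent.H8.RootC
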