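import Mathlib

/-! RootIso1 (helper8): isomorphism theorem for adjoint reduced root data over `ℤ`:
a bijection of bases preserving the Cartan matrix extends uniquely to an equivalence. -/

set_option autoImplicit false
set_option linter.unusedSectionVars false

namespace Groth.Agent.H8.RootIso

open RootPairing Module

variable {ι M N ι' M' N' : Type*} [AddCommGroup M] [AddCommGroup N] [AddCommGroup M']
  [AddCommGroup N'] (P : RootPairing ι ℤ M N) (P' : RootPairing ι' ℤ M' N')

/-- the basis of simple roots of an adjoint root datum -/
noncomputable def basisOfAdj (had : Submodule.span ℤ (Set.range P.root) = ⊤) (b : P.Base) :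
    Basis b.support ℤ M :=
  b.toWeightBasisInt.map (LinearEquiv.ofTop (P.rootSpan ℤ) had)

theorem basisOfAdj_apply (had : Submodule.span ℤ (Set.range P.root) = ⊤) (b : P.Base)
    (s : b.support) : basisOfAdj P had b s = P.root s := by
  rw [basisOfAdj, Basis.map_apply, LinearEquiv.ofTop_apply, b.coe_toWeightBasisInt_apply]

variable (had : Submodule.span ℤ (Set.range P.root) = ⊤)
  (had' : Submodule.span ℤ (Set.range P'.root) = ⊤)
  (b : P.Base) (b' : P'.Base) (u : ↥b.support ≃ ↥b'.support)

/-- the linear equivalence sending simple roots to simple roots -/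
noncomputable def phi : M ≃ₗ[ℤ] M' :=
  (basisOfAdj P had b).equiv (basisOfAdj P' had' b') u

theorem phi_root_simple (s : b.support) :
    phi P P' had had' b b' u (P.root s) = P'.root (u s) := by
  rw [phi, ← basisOfAdj_apply P had b s, Basis.equiv_apply, basisOfAdj_apply]

theorem phi_symm : (phi P P' had had' b b' u).symm = phi P' P had' had b' b u.symm := by
  rw [phi, phi, Basis.equiv_symm]

variable (hu : ∀ i j : ↥b.support, P.pairing (i : ι) (j : ι) = P'.pairing (u i : ι') (u j : ι'))

include hu in
theorem phi_reflection (s : b.support) (x : M) :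
    phi P P' had had' b b' u (P.reflection s x) =
      P'.reflection (u s) (phi P P' had had' b b' u x) := by
  have h : (phi P P' had had' b b' u).toLinearMap ∘ₗ (P.reflection s).toLinearMap =
      (P'.reflection (u s)).toLinearMap ∘ₗ (phi P P' had had' b b' u).toLinearMap := by
    apply (basisOfAdj P had b).ext
    intro t
    simp only [LinearMap.coe_comp, LinearEquiv.coe_coe, Function.comp_apply, basisOfAdj_apply]
    rw [P.reflection_apply_root, map_sub, map_zsmul, phi_root_simple, phi_root_simple,
      P'.reflection_apply_root, hu t s]
  exact LinearMap.congr_fun h x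

variable [Finite ι] [Finite ι'] [P.IsReduced] [P'.IsReduced]

include hu in
theorem phi_root (i : ι) : ∃ i' : ι', phi P P' had had' b b' u (P.root i) = P'.root i' := by
  refine b.induction_reflect i
    (p := fun i => ∃ i' : ι', phi P P' had had' b b' u (P.root i) = P'.root i') ?_ ?_ ?_
  · rintro i ⟨i', hi'⟩
    refine ⟨P'.reflectionPerm i' i', ?_⟩
    rw [P.root_reflectionPerm, P.reflection_apply_self, map_neg, hi', P'.root_reflectionPerm,
      P'.reflection_apply_self]
  · intro i hi
    exact ⟨u ⟨i, hi⟩, phi_root_simple P P' had had' b b' u ⟨i, hi⟩⟩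
  · rintro i j ⟨i', hi'⟩ hj
    refine ⟨P'.reflectionPerm (u ⟨j, hj⟩) i', ?_⟩
    rw [P.root_reflectionPerm, phi_reflection P P' had had' b b' u hu ⟨j, hj⟩, hi',
      P'.root_reflectionPerm]

include hu in
theorem phi_symm_root (i' : ι') :
    ∃ i : ι, (phi P P' had had' b b' u).symm (P'.root i') = P.root i := by
  rw [phi_symm]
  apply phi_root P' P had' had b' b u.symm
  intro i j
  have := hu (u.symm i) (u.symm j)
  simp only [Equiv.apply_symm_apply] at this
  exact this.symm

/-- the bijection of roots induced by `phi` -/
noncomputable def sigma : ι ≃ ι' where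
  toFun i := (phi_root P P' had had' b b' u hu i).choose
  invFun i' := (phi_symm_root P P' had had' b b' u hu i').choose
  left_inv i := by
    apply P.root.injective
    rw [← (phi_symm_root P P' had had' b b' u hu _).choose_spec,
      ← (phi_root P P' had had' b b' u hu i).choose_spec, LinearEquiv.symm_apply_apply]
  right_inv i' := by
    apply P'.root.injective
    rw [← (phi_root P P' had had' b b' u hu _).choose_spec,
      ← (phi_symm_root P P' had had' b b' u hu i').choose_spec, LinearEquiv.apply_symm_apply]

theorem phi_root_sigma (i : ι) :
    phi P P' had had' b b' u (P.root i) = P'.root (sigma P P' had had' b b' u hu i) :=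
  (phi_root P P' had had' b b' u hu i).choose_spec

theorem sigma_simple (s : b.support) : sigma P P' had had' b b' u hu s = u s := by
  apply P'.root.injective
  rw [← phi_root_sigma, phi_root_simple]

/-- the transpose of `phi` on coweights -/
noncomputable def psi : N' ≃ₗ[ℤ] N :=
  (P'.flip.toPerfPair.trans (phi P P' had had' b b' u).dualMap).trans P.flip.toPerfPair.symm

theorem psi_pairing (m : M) (n' : N') :
    P.toLinearMap m (psi P P' had had' b b' u n') =
      P'.toLinearMap (phi P P' had had' b b' u m) n' := by
  have h : P.flip.toPerfPair (psi P P' had had' b b' u n') =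
      (phi P P' had had' b b' u).dualMap (P'.flip.toPerfPair n') := by
    rw [psi, LinearEquiv.trans_apply, LinearEquiv.trans_apply, LinearEquiv.apply_symm_apply]
  have h2 := LinearMap.congr_fun h m
  exact h2

/-- `psi` sends coroots to coroots -/
theorem psi_coroot (i : ι) :
    psi P P' had had' b b' u (P'.coroot (sigma P P' had had' b b' u hu i)) = P.coroot i := by
  have : Module.IsReflexive ℤ M := .of_isPerfPair P.toLinearMap
  apply P.flip.toPerfPair.injective
  apply Dual.eq_of_preReflection_mapsTo (x := P.root i) (Set.finite_range P.root) had
  · show P.toLinearMap (P.root i) (psi P P' had had' b b' u _) = 2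
    rw [psi_pairing, phi_root_sigma P P' had had' b b' u hu]
    exact P'.root_coroot_two _
  · rintro _ ⟨k, rfl⟩
    rw [preReflection_apply]
    have h1 : (P.flip.toPerfPair (psi P P' had had' b b' u
        (P'.coroot (sigma P P' had had' b b' u hu i)))) (P.root k) =
        P'.pairing (sigma P P' had had' b b' u hu k) (sigma P P' had had' b b' u hu i) := by
      show P.toLinearMap (P.root k) (psi P P' had had' b b' u _) = _
      rw [psi_pairing, phi_root_sigma P P' had had' b b' u hu]
      rfl
    rw [h1]
    refine ⟨(sigma P P' had had' b b' u hu).symm (P'.reflectionPerm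
      (sigma P P' had had' b b' u hu i) (sigma P P' had had' b b' u hu k)), ?_⟩
    apply (phi P P' had had' b b' u).injective
    rw [phi_root_sigma P P' had had' b b' u hu, Equiv.apply_symm_apply, map_sub, map_zsmul,
      phi_root_sigma P P' had had' b b' u hu, phi_root_sigma P P' had had' b b' u hu,
      P'.root_reflectionPerm, P'.reflection_apply_root]
  · exact P.root_coroot_two i
  · rintro _ ⟨k, rfl⟩
    rw [preReflection_apply]
    refine ⟨P.reflectionPerm i k, ?_⟩
    rw [P.root_reflectionPerm, P.reflection_apply_root]
    rfl

/-- the equivalence of root data extending `u` -/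
noncomputable def equivOfBase : RootPairing.Equiv P P' where
  weightMap := (phi P P' had had' b b' u).toLinearMap
  coweightMap := (psi P P' had had' b b' u).toLinearMap
  indexEquiv := sigma P P' had had' b b' u hu
  weight_coweight_transpose := by
    apply LinearMap.ext
    intro n'
    apply LinearMap.ext
    intro m
    exact (psi_pairing P P' had had' b b' u m n').symm
  root_weightMap := by
    funext i
    exact phi_root_sigma P P' had had' b b' u hu i
  coroot_coweightMap := by
    funext i'
    have := psi_coroot P P' had had' b b' u hu ((sigma P P' had had' b b' u hu).symm i')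
    rw [Equiv.apply_symm_apply] at this
    exact this
  bijective_weightMap := (phi P P' had had' b b' u).bijective
  bijective_coweightMap := (psi P P' had had' b b' u).bijective

theorem equivOfBase_indexEquiv (s : b.support) :
    (equivOfBase P P' had had' b b' u hu).indexEquiv s = u s :=
  sigma_simple P P' had had' b b' u hu s

omit [Finite ι'] [P'.IsReduced] [P.IsReduced] [Finite ι] in
include had in
/-- uniqueness -/
theorem equiv_unique (e₁ e₂ : RootPairing.Equiv P P')
    (h₁ : ∀ i : ↥b.support, e₁.indexEquiv (i : ι) = (u i : ι'))
    (h₂ : ∀ i : ↥b.support, e₂.indexEquiv (i : ι) = (u i : ι')) : e₁ = e₂ := by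
  have hw : e₁.weightMap = e₂.weightMap := by
    apply (basisOfAdj P had b).ext
    intro s
    rw [basisOfAdj_apply, Hom.root_weightMap_apply, Hom.root_weightMap_apply, h₁, h₂]
  have hi : e₁.indexEquiv = e₂.indexEquiv := by
    ext i
    apply P'.root.injective
    rw [← Hom.root_weightMap_apply, ← Hom.root_weightMap_apply, hw]
  have hc : e₁.coweightMap = e₂.coweightMap := by
    apply LinearMap.ext
    intro n'
    apply P.flip.toPerfPair.injective
    rw [← Hom.weight_coweight_transpose_apply, ← Hom.weight_coweight_transpose_apply, hw]
  exact RootPairing.Equiv.ext hw hc hi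

end Groth.Agent.H8.RootIso
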