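import Mathlib

/-! RootQ (helper8): quadratic forms invariant under root reflections. -/

set_option autoImplicit false

namespace Groth.Agent.H8.RootQ

open RootPairing

variable {ι R M N : Type*} [CommRing R] [IsDomain R] [CharZero R] [AddCommGroup M] [Module R M]
  [AddCommGroup N] [Module R N] (P : RootPairing ι R M N)

omit [IsDomain R] [CharZero R] in
theorem map_coreflection (Q : QuadraticMap R N R) (i : ι) (y : N) :
    Q (P.coreflection i y) = Q y + (P.root' i y * (P.root' i y * Q (P.coroot i) -
        QuadraticMap.polar Q y (P.coroot i))) := by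
  have h1 : P.coreflection i y = y + (-(P.root' i y)) • P.coroot i := by
    rw [P.coreflection_apply, neg_smul, sub_eq_add_neg]
  rw [h1, QuadraticMap.map_add Q, QuadraticMap.map_smul, QuadraticMap.polar_smul_right]
  simp only [smul_eq_mul]
  ring

omit [IsDomain R] [CharZero R] in
theorem inv_iff (Q : QuadraticMap R N R) (i : ι) (y : N) : Q (P.coreflection i y) = Q y ↔
    P.root' i y * (P.root' i y * Q (P.coroot i) - QuadraticMap.polar Q y (P.coroot i)) = 0 := by
  rw [map_coreflection]
  constructor
  · intro h; linear_combination h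
  · intro h; rw [h, add_zero]

/-- the polar form of a form invariant (on a submodule containing the coroot) against a coroot -/
theorem polar_coroot_of_invariant (Q : QuadraticMap R N R) (i : ι) (D : Submodule R N)
    (hD : P.coroot i ∈ D) (hQ : ∀ y ∈ D, Q (P.coreflection i y) = Q y) :
    ∀ y ∈ D, QuadraticMap.polar Q y (P.coroot i) = P.root' i y * Q (P.coroot i) := by
  have h2 : (2 : R) ≠ 0 := two_ne_zero
  intro y hy
  by_cases hp : P.root' i y = 0
  · have h1 := (inv_iff P Q i (y + P.coroot i)).mp (hQ _ (D.add_mem hy hD))
    rw [map_add, QuadraticMap.polar_add_left, QuadraticMap.polar_self] at h1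
    have h4 : P.root' i (P.coroot i) = 2 := P.pairing_same i
    rw [h4, hp, zero_add] at h1
    rw [hp, zero_mul]
    simp only [nsmul_eq_mul, smul_eq_mul, Nat.cast_ofNat] at h1
    have h5 : (2 : R) * QuadraticMap.polar (⇑Q) y (P.coroot i) = 0 := by
      linear_combination -h1
    rcases mul_eq_zero.mp h5 with h | h
    · exact absurd h h2
    · exact h
  · have h1 := (inv_iff P Q i y).mp (hQ y hy)
    rcases mul_eq_zero.mp h1 with h | h
    · exact absurd h hp
    · exact (sub_eq_zero.mp h).symm

omit [IsDomain R] [CharZero R] in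
/-- conversely the polar identity gives invariance -/
theorem invariant_of_polar_coroot (Q : QuadraticMap R N R) (i : ι) (y : N)
    (h : QuadraticMap.polar Q y (P.coroot i) = P.root' i y * Q (P.coroot i)) :
    Q (P.coreflection i y) = Q y := by
  rw [inv_iff, h, sub_self, mul_zero]

/-- a bilinear-in-the-second-variable identity extends from coroots to a saturated submodule -/
theorem eq_zero_on_sat (D : Submodule R N)
    (hDsat : ∀ y ∈ D, ∃ n : ℕ, 0 < n ∧ n • y ∈ Submodule.span R (Set.range P.coroot))
    (f : N →ₗ[R] R) (hf : ∀ i, f (P.coroot i) = 0) : ∀ d ∈ D, f d = 0 := by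
  have hspan : ∀ z ∈ Submodule.span R (Set.range P.coroot), f z = 0 := by
    intro z hz
    induction hz using Submodule.span_induction with
    | mem x hx =>
      obtain ⟨i, rfl⟩ := hx
      exact hf i
    | zero => simp
    | add u v _ _ hu hv => rw [map_add, hu, hv, add_zero]
    | smul a u _ hu => rw [map_smul, hu, smul_zero]
  intro d hd
  obtain ⟨n, hn, hnd⟩ := hDsat d hd
  have h1 : f (n • d) = 0 := hspan _ hnd
  rw [map_nsmul, nsmul_eq_mul] at h1
  rcases mul_eq_zero.mp h1 with h | h
  · exact absurd h (by exact_mod_cast hn.ne')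
  · exact h

end Groth.Agent.H8.RootQ
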