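import Mathlib
import Groth.Prelude.Def_CurvBase

/-!
# Roots of unity in a field extension of an algebraically closed field lie in the base field
(helper8) — used for S18912.
-/

universe u

open CategoryTheory AlgebraicGeometry Opposite

namespace Groth.Agent.Lib.helper8.RootUnity

theorem exists_root {k K : Type u} [Field k] [IsAlgClosed k] [CommRing K] [IsDomain K]
    (φ : k →+* K) (d : ℕ) (hd : 1 ≤ d) (ζ : K) (hζ : ζ ^ d = 1) :
    ∃ ξ : k, ξ ^ d = 1 ∧ φ ξ = ζ := by
  letI : Algebra k K := φ.toAlgebra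
  have hint : IsIntegral k ζ := by
    refine ⟨Polynomial.X ^ d - Polynomial.C 1, Polynomial.monic_X_pow_sub_C 1 (by omega), ?_⟩
    simp [hζ]
  have hdeg := IsAlgClosed.degree_eq_one_of_irreducible k (minpoly.irreducible hint)
  obtain ⟨ξ, hξ⟩ := minpoly.mem_range_of_degree_eq_one k ζ hdeg
  have hξ' : φ ξ = ζ := hξ
  refine ⟨ξ, ?_, hξ'⟩
  apply φ.injective
  rw [map_pow, hξ', hζ, map_one]

variable {X : Scheme.{u}}

lemma germ_app_res {F : X.Modules} (τ : F ⟶ Coh.structureModule X) {U W : X.Opens} (h : W ≤ U)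
    (η : X) (hW : η ∈ W) (a : Γ(F, U)) :
    (X.presheaf.germ W η hW (τ.app W (F.presheaf.map (homOfLE h).op a) : Γ(X, W)) :
      X.presheaf.stalk η) =
      X.presheaf.germ U η (h hW) (τ.app U a : Γ(X, U)) := by
  have h1 := τ.mapPresheaf.naturality (homOfLE h).op
  have h2 : τ.app W (F.presheaf.map (homOfLE h).op a) =
      (Coh.structureModule X).presheaf.map (homOfLE h).op (τ.app U a) :=
    congrArg (fun f => (ConcreteCategory.hom f) a) h1
  rw [h2]
  exact X.presheaf.germ_res_apply (homOfLE h) η hW (τ.app U a : Γ(X, U))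

end Groth.Agent.Lib.helper8.RootUnity
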