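import Groth.Agent.Lib.helper8.SchemDenseA

/-!
# Schematic density vs. topological density under `S₁` (helper8), scheme part
-/

set_option autoImplicit false
universe u

namespace Groth.Agent.H8.SchemDense

open AlgebraicGeometry CategoryTheory TopologicalSpace PrimeSpectrum Opposite
open Groth.Agent.Lib.helper9.Depth

variable (X : Scheme.{u})

/-- schematically dense ⇒ dense. -/
theorem dense_of_schemDense (U : X.Opens) (h : CInt.IsSchematicallyDense U) :
    Dense (U : Set X) := by
  rw [dense_iff_inter_open]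
  intro V hVo hVne
  by_contra hcon
  rw [Set.not_nonempty_iff_eq_empty] at hcon
  let V' : X.Opens := ⟨V, hVo⟩
  have hbot : V' ⊓ U = ⊥ := by
    ext x
    simp only [Opens.coe_inf, Opens.coe_bot]
    exact Set.ext_iff.1 hcon x
  have hinj := h V'
  obtain ⟨x, hx⟩ := hVne
  have hsub : Subsingleton Γ(X, V' ⊓ U) := by
    rw [hbot]
    infer_instance
  have hsubV : Subsingleton Γ(X, V') := hinj.subsingleton
  have h01 : (1 : Γ(X, V')) = 0 := Subsingleton.elim _ _
  have := congrArg (X.presheaf.germ V' x hx).hom h01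
  rw [map_one, map_zero] at this
  exact one_ne_zero this

variable [IsLocallyNoetherian X]

/-- A point in an affine open whose prime is minimal lies in every dense open. -/
lemma mem_of_dense_of_minimal (U : X.Opens) (hU : Dense (U : Set X)) (W : X.Opens)
    (hW : IsAffineOpen W) (P : PrimeSpectrum Γ(X, W)) (hP : P.asIdeal ∈ minimalPrimes Γ(X, W)) :
    hW.fromSpec P ∈ U := by
  haveI : IsNoetherianRing Γ(X, W) := IsLocallyNoetherian.component_noetherian ⟨W, hW⟩
  obtain ⟨O, hOo, hPO, hspec⟩ := exists_open_specializes P hP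
  have hopen : IsOpen (hW.fromSpec '' O) := hW.fromSpec.isOpenEmbedding.isOpenMap O hOo
  obtain ⟨z, ⟨q, hqO, rfl⟩, hzU⟩ :=
    (dense_iff_inter_open.1 hU) _ hopen ⟨_, Set.mem_image_of_mem _ hPO⟩
  have hsp : hW.fromSpec P ⤳ hW.fromSpec q := (hspec q hqO).map hW.fromSpec.continuous
  exact hsp.mem_open U.2 hzU

theorem schemDense_of_dense
    (hS1 : ∀ x : X, min (1 : WithBot ℕ∞) (ringKrullDim (X.presheaf.stalk x)) ≤
      ((LocCoh.depth (X.presheaf.stalk x) (X.presheaf.stalk x) : ℕ∞) : WithBot ℕ∞))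
    (U : X.Opens) (hU : Dense (U : Set X)) : CInt.IsSchematicallyDense U := by
  intro V a b hab
  rw [← sub_eq_zero]
  have hs : X.presheaf.map (homOfLE (inf_le_left : V ⊓ U ≤ V)).op (a - b) = 0 := by
    rw [map_sub, hab, sub_self]
  generalize a - b = s at hs
  apply TopCat.Presheaf.section_ext X.sheaf V
  intro x hx
  change X.presheaf.germ V x hx s = X.presheaf.germ V x hx 0
  rw [map_zero]
  obtain ⟨_, ⟨W, hW, rfl⟩, hxW, hWV⟩ := X.isBasis_affineOpens.exists_subset_of_mem_open hx V.2
  have hWV' : W ≤ V := hWV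
  haveI : IsNoetherianRing Γ(X, W) := IsLocallyNoetherian.component_noetherian ⟨W, hW⟩
  set s' : Γ(X, W) := X.presheaf.map (homOfLE hWV').op s with hs'
  have hgerm : X.presheaf.germ V x hx s = X.presheaf.germ W x hxW s' := by
    rw [hs', TopCat.Presheaf.germ_res_apply]
  change X.presheaf.germ V x hx s = 0
  rw [hgerm]
  by_cases hs0 : s' = 0
  · rw [hs0, map_zero]
  exfalso
  obtain ⟨P, hPprime, hPass, hPann⟩ := exists_ass s' hs0
  let y : X := hW.fromSpec ⟨P, hPprime⟩
  have hyW : y ∈ W := by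
    have : y ∈ Set.range hW.fromSpec := Set.mem_range_self _
    rw [hW.range_fromSpec] at this
    exact this
  letI : Algebra Γ(X, W) (X.presheaf.stalk y) :=
    TopCat.Presheaf.algebra_section_stalk X.presheaf ⟨y, hyW⟩
  haveI : IsLocalization.AtPrime (X.presheaf.stalk y) P :=
    hW.isLocalization_stalk' ⟨P, hPprime⟩ hyW
  have hmin : P ∈ minimalPrimes Γ(X, W) := minimal_of_ass P hPass (X.presheaf.stalk y) (hS1 y)
  have hyU : y ∈ U := mem_of_dense_of_minimal X U hU W hW ⟨P, hPprime⟩ hmin
  have hyV : y ∈ V := hWV' hyW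
  -- the germ of `s` at `y` vanishes
  have h1 : X.presheaf.germ V y hyV s = 0 := by
    have := TopCat.Presheaf.germ_res_apply X.presheaf (homOfLE (inf_le_left : V ⊓ U ≤ V)) y
      ⟨hyV, hyU⟩ s
    rw [← this, hs, map_zero]
  have h2 : X.presheaf.germ W y hyW s' = 0 := by
    rw [hs', TopCat.Presheaf.germ_res_apply]
    exact h1
  have h3 : algebraMap Γ(X, W) (X.presheaf.stalk y) s' = 0 := h2
  rw [IsLocalization.map_eq_zero_iff P.primeCompl] at h3
  obtain ⟨m, hm⟩ := h3
  exact m.2 (hPann m hm)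

end Groth.Agent.H8.SchemDense
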