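import Groth.Agent.Lib.helper8.TorsFreeInjA
import Groth.Agent.Lib.helper9.ZC6
import Groth.Agent.Lib.helper9.CohB3
import Groth.Prelude.Def_TorSh

/-!
# Sections of a torsion-free quasi-coherent module on a reduced scheme are determined by the germ
at a point through which all components pass (helper8)
-/

set_option autoImplicit false
universe u

namespace Groth.Agent.H8.TFGerm

open AlgebraicGeometry CategoryTheory TopologicalSpace Opposite
open Groth.Agent.Lib.helper9

lemma isField_of_minimal {A : Type u} [CommRing A] (P : Ideal A) [P.IsPrime]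
    (hP : P ∈ minimalPrimes A) (R' : Type u) [CommRing R'] [IsLocalRing R'] [_root_.IsReduced R']
    [Algebra A R'] [IsLocalization.AtPrime R' P] : IsField R' := by
  have h := IsLocalization.AtPrime.radical_map_of_mem_minimalPrimes (A := R') P ⊥ hP
  rw [Ideal.map_bot, IsLocalization.AtPrime.map_eq_maximalIdeal P R'] at h
  rw [IsLocalRing.isField_iff_maximalIdeal_eq, ← h]
  exact nilradical_eq_zero R'

variable {X : Scheme.{u}}

theorem eq_zero_of_germ_eq_zero [IsLocallyNoetherian X] [AlgebraicGeometry.IsReduced X]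
    (F : X.Modules) [F.IsQuasicoherent] (htF : TorSh.IsTorsionFree F) (x : X) (U : X.Opens)
    (hxU : x ∈ U)
    (hU : ∀ y : X, y ∈ U → IsField (X.presheaf.stalk y) → x ∈ closure ({y} : Set X))
    (s : Γ(F, U)) (hs : F.presheaf.germ U x hxU s = 0) : s = 0 := by
  have hopen := ZC.isOpen_germ_eq_zero F U s
  let N : X.Opens := ⟨{y | ∃ hy : y ∈ U, F.presheaf.germ U y hy s = 0}, hopen⟩
  have hxN : x ∈ N := ⟨hxU, hs⟩
  apply ZC.eq_zero_of_germ_eq_zero F U s
  intro z hz
  obtain ⟨_, ⟨W, hW, rfl⟩, hzW, hWU⟩ := X.isBasis_affineOpens.exists_subset_of_mem_open hz U.2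
  have hWU' : W ≤ U := hWU
  haveI : IsNoetherianRing Γ(X, W) := IsLocallyNoetherian.component_noetherian ⟨W, hW⟩
  rw [← ZC.germ_res F hWU' z hzW s]
  set s' := ZC.res F hWU' s with hs'def
  have key : ∀ a : Γ(X, W), X.basicOpen a ≤ N → ∃ n : ℕ, a ^ n • s' = 0 := by
    intro a ha
    have hle : X.basicOpen a ≤ W := X.basicOpen_le a
    apply QcohLoc.exists_pow_smul_eq_zero F hW a (X.basicOpen a) rfl hle s'
    apply ZC.eq_zero_of_germ_eq_zero
    intro y hy
    change F.presheaf.germ (X.basicOpen a) y hy (ZC.res F hle s') = 0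
    rw [ZC.germ_res, hs'def, ZC.germ_res]
    obtain ⟨hyU, h0⟩ := ha hy
    exact h0
  let I : Ideal Γ(X, W) := LinearMap.ker (LinearMap.toSpanSingleton Γ(X, W) Γ(F, W) s')
  have hImem : ∀ a : Γ(X, W), a ∈ I ↔ a • s' = 0 := by
    intro a
    rw [LinearMap.mem_ker, LinearMap.toSpanSingleton_apply]
  have hex : ∃ a ∈ I, a ∈ nonZeroDivisors Γ(X, W) := by
    by_contra hcon
    push Not at hcon
    obtain ⟨b, hb0, hb⟩ := TorsFreeInj.exists_ne_zero_of_disjoint I hcon
    apply hb0
    have hbmin : ∀ P ∈ minimalPrimes Γ(X, W), b ∈ P := by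
      intro P hP
      haveI hPprime : P.IsPrime := hP.1.1
      let y : X := hW.fromSpec ⟨P, hPprime⟩
      have hyW : y ∈ W := by
        have : y ∈ Set.range hW.fromSpec := Set.mem_range_self _
        rw [hW.range_fromSpec] at this
        exact this
      letI : Algebra Γ(X, W) (X.presheaf.stalk y) :=
        TopCat.Presheaf.algebra_section_stalk X.presheaf ⟨y, hyW⟩
      haveI : IsLocalization.AtPrime (X.presheaf.stalk y) P :=
        hW.isLocalization_stalk' ⟨P, hPprime⟩ hyW
      have hfield : IsField (X.presheaf.stalk y) := isField_of_minimal P hP (X.presheaf.stalk y)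
      have hxy := hU y (hWU' hyW) hfield
      have hyN : y ∈ N := (specializes_iff_mem_closure.2 hxy).mem_open N.2 hxN
      obtain ⟨a, haN, hya⟩ := hW.exists_basicOpen_le (V := N ⊓ W) ⟨y, ⟨hyN, hyW⟩⟩ hyW
      obtain ⟨n, hn⟩ := key a (haN.trans inf_le_left)
      have hab : a ^ n * b = 0 := hb _ ((hImem _).2 hn)
      have hunit : IsUnit (X.presheaf.germ W y hyW a) := (X.mem_basicOpen a y hyW).1 hya
      have h1 := congrArg (X.presheaf.germ W y hyW).hom hab
      rw [map_mul, map_pow, map_zero] at h1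
      have h2 : algebraMap Γ(X, W) (X.presheaf.stalk y) b = 0 :=
        ((hunit.pow n).mul_right_eq_zero).1 h1
      rw [IsLocalization.map_eq_zero_iff P.primeCompl] at h2
      obtain ⟨t, ht⟩ := h2
      have h3 : (t : Γ(X, W)) * b ∈ P := by rw [ht]; exact P.zero_mem
      exact (hPprime.mem_or_mem h3).resolve_left t.2
    have h4 : b ∈ sInf (minimalPrimes Γ(X, W)) := Submodule.mem_sInf.2 hbmin
    have h5 := Ideal.sInf_minimalPrimes (I := (⊥ : Ideal Γ(X, W)))
    change sInf (minimalPrimes Γ(X, W)) = nilradical Γ(X, W) at h5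
    rw [h5, nilradical_eq_zero] at h4
    exact h4
  obtain ⟨a, haI, hareg⟩ := hex
  letI : Algebra Γ(X, W) (X.presheaf.stalk z) :=
    TopCat.Presheaf.algebra_section_stalk X.presheaf ⟨z, hzW⟩
  haveI : IsLocalization.AtPrime (X.presheaf.stalk z) (hW.primeIdealOf ⟨z, hzW⟩).asIdeal :=
    hW.isLocalization_stalk ⟨z, hzW⟩
  have hreg : algebraMap Γ(X, W) (X.presheaf.stalk z) a ∈ nonZeroDivisors (X.presheaf.stalk z) :=
    IsLocalization.map_nonZeroDivisors_le (hW.primeIdealOf ⟨z, hzW⟩).asIdeal.primeCompl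
      (X.presheaf.stalk z) (Submonoid.mem_map_of_mem _ hareg)
  have hreg' : IsRegular (X.presheaf.germ W z hzW a) := isRegular_iff_mem_nonZeroDivisors.2 hreg
  haveI := htF z
  have hsm : IsSMulRegular (F.presheaf.stalk z) (X.presheaf.germ W z hzW a) :=
    Module.IsTorsionFree.isSMulRegular hreg'
  apply hsm
  change X.presheaf.germ W z hzW a • F.presheaf.germ W z hzW s' =
    X.presheaf.germ W z hzW a • (0 : F.presheaf.stalk z)
  rw [← CohB.germ_smul, (hImem a).1 haI, map_zero, smul_zero]

end Groth.Agent.H8.TFGerm
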