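import Mathlib
import Groth.Prelude.Def_CInt
import Groth.Agent.Lib.helper9.QcohLoc
import Groth.Agent.Lib.helper9.ZC4

/-!
# Injectivity of maps out of torsion-free quasi-coherent modules, checked on a schematically dense
open (helper8)
-/

set_option autoImplicit false
universe u

namespace Groth.Agent.H8.TorsFreeInj

open AlgebraicGeometry CategoryTheory TopologicalSpace Opposite
open Groth.Agent.Lib.helper9

lemma exists_ne_zero_of_disjoint {A : Type u} [CommRing A] [IsNoetherianRing A] (I : Ideal A)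
    (h : ∀ a ∈ I, a ∉ nonZeroDivisors A) : ∃ b : A, b ≠ 0 ∧ ∀ a ∈ I, a * b = 0 := by
  have hd : Disjoint (I : Set A) (nonZeroDivisors A) := by
    rw [Set.disjoint_left]
    exact h
  obtain ⟨b, hb, hb0⟩ := SetLike.exists_of_lt (Ideal.bot_lt_annihilator_of_disjoint_nonZeroDivisors hd)
  refine ⟨b, fun h0 => hb0 (h0 ▸ Submodule.zero_mem _), fun a ha => ?_⟩
  have := Module.mem_annihilator.1 hb ⟨a, ha⟩
  have h2 := congrArg Subtype.val this
  rw [mul_comm]
  exact h2

variable {X : Scheme.{u}}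

lemma app_res {F G : X.Modules} (φ : F ⟶ G) {V W : X.Opens} (h : W ≤ V) (s : Γ(F, V)) :
    φ.app W (ZC.res F h s) = ZC.res G h (φ.app V s) := by
  have := φ.mapPresheaf.naturality (homOfLE h).op
  exact congrArg (fun f => (ConcreteCategory.hom f) s) this

theorem eq_zero_of_app_eq_zero [IsLocallyNoetherian X] (F G : X.Modules) [F.IsQuasicoherent]
    (htf : ∀ (W : X.affineOpens) (t : Γ(F, W.1)) (a : Γ(X, W.1)),
      a ∈ nonZeroDivisors Γ(X, W.1) → a • t = 0 → t = 0)
    (φ : F ⟶ G) (U : X.Opens) (hU : CInt.IsSchematicallyDense U)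
    (hφU : ∀ (V : X.Opens), V ≤ U → ∀ t : Γ(F, V), φ.app V t = 0 → t = 0)
    (V : X.Opens) (s : Γ(F, V)) (hs : φ.app V s = 0) : s = 0 := by
  apply ZC.eq_zero_of_germ_eq_zero F V s
  intro x hx
  obtain ⟨_, ⟨W, hW, rfl⟩, hxW, hWV⟩ := X.isBasis_affineOpens.exists_subset_of_mem_open hx V.2
  have hWV' : W ≤ V := hWV
  haveI : IsNoetherianRing Γ(X, W) := IsLocallyNoetherian.component_noetherian ⟨W, hW⟩
  rw [← ZC.germ_res F hWV' x hxW s]
  set s' := ZC.res F hWV' s with hs'def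
  suffices h0 : s' = 0 by rw [h0, map_zero]
  have hφs' : φ.app W s' = 0 := by
    rw [hs'def, app_res, hs, map_zero]
  have key : ∀ a : Γ(X, W), X.basicOpen a ≤ U → ∃ n : ℕ, a ^ n • s' = 0 := by
    intro a ha
    have hle : X.basicOpen a ≤ W := X.basicOpen_le a
    apply QcohLoc.exists_pow_smul_eq_zero F hW a (X.basicOpen a) rfl hle s'
    apply hφU (X.basicOpen a) ha
    have := app_res φ hle s'
    rw [hφs', map_zero] at this
    exact this
  by_contra hs'
  let I : Ideal Γ(X, W) := LinearMap.ker (LinearMap.toSpanSingleton Γ(X, W) Γ(F, W) s')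
  have hImem : ∀ a : Γ(X, W), a ∈ I ↔ a • s' = 0 := by
    intro a
    rw [LinearMap.mem_ker, LinearMap.toSpanSingleton_apply]
  have hI : ∀ a ∈ I, a ∉ nonZeroDivisors Γ(X, W) :=
    fun a ha hnz => hs' (htf ⟨W, hW⟩ s' a hnz ((hImem a).1 ha))
  obtain ⟨b, hb0, hb⟩ := exists_ne_zero_of_disjoint I hI
  apply hb0
  apply hU W
  rw [map_zero]
  apply TopCat.Presheaf.section_ext X.sheaf (W ⊓ U)
  intro y hy
  change X.presheaf.germ (W ⊓ U) y hy _ = X.presheaf.germ (W ⊓ U) y hy 0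
  rw [map_zero, TopCat.Presheaf.germ_res_apply]
  obtain ⟨a, haU, hya⟩ := hW.exists_basicOpen_le (V := W ⊓ U) ⟨y, hy⟩ hy.1
  obtain ⟨n, hn⟩ := key a (haU.trans inf_le_right)
  have hab : a ^ n * b = 0 := hb (a ^ n) ((hImem _).2 hn)
  have hunit : IsUnit (X.presheaf.germ W y hy.1 a) := (X.mem_basicOpen a y hy.1).1 hya
  have h1 := congrArg (X.presheaf.germ W y hy.1).hom hab
  rw [map_mul, map_pow, map_zero] at h1
  exact ((hunit.pow n).mul_right_eq_zero).1 h1

end Groth.Agent.H8.TorsFreeInj
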