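import Mathlib.CategoryTheory.EffectiveEpi.Comp
import Mathlib.CategoryTheory.MorphismProperty.Limits
import Mathlib.CategoryTheory.Limits.Shapes.Pullback.HasPullback
import Mathlib.CategoryTheory.Comma.Over.Pullback

/-! Helper library (helper8): universal effective epimorphisms. -/

set_option autoImplicit false

namespace Groth.Agent.H8

open CategoryTheory CategoryTheory.Limits

universe v₁ u₁

variable {C : Type u₁} [Category.{v₁} C]

/-- universal effective epimorphism -/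
abbrev UEE : MorphismProperty C :=
  MorphismProperty.universally (fun (A B : C) (p : A ⟶ B) => EffectiveEpi p)

/-- universal epimorphism -/
abbrev UEpi : MorphismProperty C :=
  MorphismProperty.universally (MorphismProperty.epimorphisms C)

theorem UEE.effectiveEpi {X Y : C} {f : X ⟶ Y} (h : UEE f) : EffectiveEpi f :=
  MorphismProperty.universally_le _ _ h

theorem UEE.uepi {X Y : C} {f : X ⟶ Y} (h : UEE f) : UEpi f := by
  intro X' Y' i₁ i₂ f' H
  have := h i₁ i₂ f' H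
  exact (MorphismProperty.epimorphisms.iff f').mpr inferInstance

theorem UEpi.epi {X Y : C} {f : X ⟶ Y} (h : UEpi f) : Epi f :=
  (MorphismProperty.epimorphisms.iff f).mp (MorphismProperty.universally_le _ _ h)

theorem UEE.epi {X Y : C} {f : X ⟶ Y} (h : UEE f) : Epi f := h.uepi.epi

theorem UEE.of_isPullback {X Y X' Y' : C} {f : X ⟶ Y} {f' : X' ⟶ Y'} {i₁ : X' ⟶ X} {i₂ : Y' ⟶ Y}
    (H : IsPullback f' i₁ i₂ f) (h : UEE f) : UEE f' :=
  MorphismProperty.of_isPullback (P := UEE) H.flip h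

theorem UEpi.of_isPullback {X Y X' Y' : C} {f : X ⟶ Y} {f' : X' ⟶ Y'} {i₁ : X' ⟶ X} {i₂ : Y' ⟶ Y}
    (H : IsPullback f' i₁ i₂ f) (h : UEpi f) : UEpi f' :=
  MorphismProperty.of_isPullback (P := UEpi) H.flip h

/-- Given two maps `h₁ h₂ : Z ⟶ T` and a universal epi `v : U ⟶ T`, there is an epi
`π : Z' ⟶ Z` and lifts `k₁ k₂ : Z' ⟶ U`. -/
theorem UEpi.exists_lift_pair [HasPullbacks C] {U T Z : C} {v : U ⟶ T} (hv : UEpi v)
    (h₁ h₂ : Z ⟶ T) :
    ∃ (Z' : C) (π : Z' ⟶ Z) (k₁ k₂ : Z' ⟶ U), Epi π ∧ k₁ ≫ v = π ≫ h₁ ∧ k₂ ≫ v = π ≫ h₂ := by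
  -- first pullback
  have e1 : Epi (pullback.fst h₁ v) :=
    (UEpi.of_isPullback (IsPullback.of_hasPullback h₁ v) hv).epi
  have e2 : Epi (pullback.fst (pullback.fst h₁ v ≫ h₂) v) :=
    (UEpi.of_isPullback (IsPullback.of_hasPullback (pullback.fst h₁ v ≫ h₂) v) hv).epi
  refine ⟨pullback (pullback.fst h₁ v ≫ h₂) v,
    pullback.fst (pullback.fst h₁ v ≫ h₂) v ≫ pullback.fst h₁ v,
    pullback.fst (pullback.fst h₁ v ≫ h₂) v ≫ pullback.snd h₁ v,
    pullback.snd (pullback.fst h₁ v ≫ h₂) v, epi_comp _ _, ?_, ?_⟩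
  · rw [Category.assoc, Category.assoc, pullback.condition]
  · rw [← pullback.condition, Category.assoc]

/-- `u`, `v` effective epis, `v` universally epi, then `v ≫ u` is an effective epi. -/
theorem effectiveEpi_comp_of_uepi [HasPullbacks C] {U T S : C} (v : U ⟶ T) (u : T ⟶ S)
    [EffectiveEpi u] [EffectiveEpi v] (hv : UEpi v) : EffectiveEpi (v ≫ u) := by
  have hvepi : Epi v := hv.epi
  -- descend in two steps
  have key : ∀ {W : C} (e : U ⟶ W)
      (_ : ∀ {Z : C} (g₁ g₂ : Z ⟶ U), g₁ ≫ (v ≫ u) = g₂ ≫ (v ≫ u) → g₁ ≫ e = g₂ ≫ e),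
      ∃ d : S ⟶ W, (v ≫ u) ≫ d = e := by
    intro W e he
    have he1 : ∀ {Z : C} (g₁ g₂ : Z ⟶ U), g₁ ≫ v = g₂ ≫ v → g₁ ≫ e = g₂ ≫ e := by
      intro Z g₁ g₂ hg
      apply he
      rw [← Category.assoc, hg, Category.assoc]
    have he2 : ∀ {Z : C} (h₁ h₂ : Z ⟶ T), h₁ ≫ u = h₂ ≫ u →
        h₁ ≫ EffectiveEpi.desc v e he1 = h₂ ≫ EffectiveEpi.desc v e he1 := by
      intro Z h₁ h₂ hh
      obtain ⟨Z', π, k₁, k₂, hπ, hk₁, hk₂⟩ := hv.exists_lift_pair h₁ h₂
      rw [← cancel_epi π, ← Category.assoc, ← Category.assoc, ← hk₁, ← hk₂, Category.assoc,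
        Category.assoc, EffectiveEpi.fac]
      apply he
      rw [← Category.assoc, ← Category.assoc, hk₁, hk₂, Category.assoc, Category.assoc, hh]
    refine ⟨EffectiveEpi.desc u (EffectiveEpi.desc v e he1) he2, ?_⟩
    rw [Category.assoc, EffectiveEpi.fac, EffectiveEpi.fac]
  have hepi : Epi (v ≫ u) := epi_comp _ _
  refine ⟨⟨{ desc := fun e he => (key e he).choose
             fac := fun e he => (key e he).choose_spec
             uniq := fun e he m hm => ?_ }⟩⟩
  rw [← cancel_epi (v ≫ u), hm, (key e he).choose_spec]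

theorem UEE.comp [HasPullbacks C] {U T S : C} {v : U ⟶ T} {u : T ⟶ S} (hv : UEE v) (hu : UEE u) :
    UEE (v ≫ u) := by
  intro X' Y' i₁ i₂ f' H
  have hl := pullback.lift_fst (f := i₂) (g := u) f' (i₁ ≫ v)
    (H.w.trans (Category.assoc _ _ _).symm)
  have hu' : UEE (pullback.fst i₂ u) := UEE.of_isPullback (IsPullback.of_hasPullback i₂ u) hu
  have hv' : UEE (pullback.lift (f := i₂) (g := u) f' (i₁ ≫ v)
      (H.w.trans (Category.assoc _ _ _).symm)) := by
    have H' := H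
    rw [← hl] at H'
    have H'' := H'.of_right (pullback.lift_snd _ _ _) (IsPullback.of_hasPullback i₂ u)
    exact UEE.of_isPullback H'' hv
  have := hu'.effectiveEpi
  have := hv'.effectiveEpi
  have := effectiveEpi_comp_of_uepi _ (pullback.fst i₂ u) hv'.uepi
  rw [hl] at this
  exact this

/-- If `v ≫ u` is an effective epi whose base change along `u` is epi, then `u` is an effective
epi. -/
theorem effectiveEpi_of_comp [HasPullbacks C] {U T S : C} (v : U ⟶ T) (u : T ⟶ S)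
    [EffectiveEpi (v ≫ u)] (hq : Epi (pullback.fst u (v ≫ u))) : EffectiveEpi u := by
  have key : ∀ {W : C} (e : T ⟶ W)
      (_ : ∀ {Z : C} (g₁ g₂ : Z ⟶ T), g₁ ≫ u = g₂ ≫ u → g₁ ≫ e = g₂ ≫ e),
      ∃ d : S ⟶ W, u ≫ d = e ∧ ∀ m : S ⟶ W, u ≫ m = e → m = d := by
    intro W e he
    have he' : ∀ {Z : C} (g₁ g₂ : Z ⟶ U), g₁ ≫ v ≫ u = g₂ ≫ v ≫ u →
        g₁ ≫ v ≫ e = g₂ ≫ v ≫ e := by
      intro Z g₁ g₂ hg
      rw [← Category.assoc, ← Category.assoc]
      apply he
      rw [Category.assoc, Category.assoc, hg]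
    refine ⟨EffectiveEpi.desc (v ≫ u) (v ≫ e) he', ?_, ?_⟩
    · rw [← cancel_epi (pullback.fst u (v ≫ u))]
      have h1 : pullback.fst u (v ≫ u) ≫ u = (pullback.snd u (v ≫ u) ≫ v) ≫ u := by
        rw [pullback.condition, Category.assoc]
      rw [← Category.assoc, h1, Category.assoc, Category.assoc]
      have h2 : v ≫ u ≫ EffectiveEpi.desc (v ≫ u) (v ≫ e) he' = v ≫ e := by
        rw [← Category.assoc, EffectiveEpi.fac]
      rw [h2, ← Category.assoc]
      exact (he _ _ h1).symm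
    · intro m hm
      apply EffectiveEpi.uniq
      rw [Category.assoc, hm]
  refine ⟨⟨{ desc := fun e he => (key e he).choose
             fac := fun e he => (key e he).choose_spec.1
             uniq := fun e he m hm => (key e he).choose_spec.2 m hm }⟩⟩

theorem UEE.of_comp [HasPullbacks C] {U T S : C} (v : U ⟶ T) (u : T ⟶ S) (h : UEE (v ≫ u)) :
    UEE u := by
  intro P Y' i₁ i₂ u' H
  -- base change of `v` along `i₁ : P ⟶ T`
  have H2 : IsPullback (pullback.fst i₁ v) (pullback.snd i₁ v) i₁ v := IsPullback.of_hasPullback i₁ v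
  have H3 : IsPullback (pullback.fst i₁ v ≫ u') (pullback.snd i₁ v) i₂ (v ≫ u) :=
    H2.paste_horiz H
  have h3 : UEE (pullback.fst i₁ v ≫ u') := UEE.of_isPullback H3 h
  have := h3.effectiveEpi
  apply effectiveEpi_of_comp (pullback.fst i₁ v) u'
  exact (UEE.of_isPullback (IsPullback.of_hasPullback u' (pullback.fst i₁ v ≫ u')) h3).epi

/-- A criterion for monomorphisms: `π` universally epi, and `g` such that every pair of maps to the
source of `π` equalized by `π ≫ g` is equalized by `π`. -/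
theorem mono_of_uepi [HasPullbacks C] {X B Z : C} {π : X ⟶ B} (hπ : UEpi π) (g : B ⟶ Z)
    (h : ∀ {W : C} (a b : W ⟶ X), a ≫ π ≫ g = b ≫ π ≫ g → a ≫ π = b ≫ π) : Mono g := by
  constructor
  intro W a b hab
  obtain ⟨W', p, a', b', hp, ha', hb'⟩ := hπ.exists_lift_pair a b
  rw [← cancel_epi p, ← ha', ← hb']
  apply h
  rw [← Category.assoc, ← Category.assoc, ha', hb', Category.assoc, Category.assoc, hab]

theorem mono_of_isPullback_of_uepi [HasPullbacks C] {X' Y' X Y : C} {g' : X' ⟶ Y'} {i₁ : X' ⟶ X}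
    {i₂ : Y' ⟶ Y} {g : X ⟶ Y} (H : IsPullback g' i₁ i₂ g) (hi : UEpi i₂) [Mono g'] : Mono g := by
  constructor
  intro Z a b hab
  have hπ : Epi (pullback.fst (a ≫ g) i₂) :=
    (UEpi.of_isPullback (IsPullback.of_hasPullback (a ≫ g) i₂) hi).epi
  have ha : pullback.snd (a ≫ g) i₂ ≫ i₂ = (pullback.fst (a ≫ g) i₂ ≫ a) ≫ g := by
    rw [← pullback.condition, Category.assoc]
  have hb : pullback.snd (a ≫ g) i₂ ≫ i₂ = (pullback.fst (a ≫ g) i₂ ≫ b) ≫ g := by
    rw [← pullback.condition, Category.assoc]; exact congrArg _ hab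
  have h1 : H.lift _ _ ha = H.lift _ _ hb := by
    rw [← cancel_mono g', H.lift_fst, H.lift_fst]
  rw [← cancel_epi (pullback.fst (a ≫ g) i₂), ← H.lift_snd _ _ ha, h1, H.lift_snd]

theorem isIso_of_isPullback_of_uee [HasPullbacks C] {X' Y' X Y : C} {g' : X' ⟶ Y'} {i₁ : X' ⟶ X}
    {i₂ : Y' ⟶ Y} {g : X ⟶ Y} (H : IsPullback g' i₁ i₂ g) (hi : UEE i₂) [IsIso g'] : IsIso g := by
  have hm : Mono g := mono_of_isPullback_of_uepi H hi.uepi
  have h2 : i₂ = (inv g' ≫ i₁) ≫ g := by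
    rw [Category.assoc, ← H.w, IsIso.inv_hom_id_assoc]
  rw [h2] at hi
  have := (UEE.of_comp _ g hi).effectiveEpi
  exact isIso_of_mono_of_strongEpi g

end Groth.Agent.H8
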