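import Mathlib
import Groth.Prelude.Def_EGA43

/-! helper8: openness at a point / universal openness at a point: pullback-square form. -/

set_option autoImplicit false
open CategoryTheory AlgebraicGeometry Limits
universe u

namespace Groth.Agent.H8.UO

lemma isOpenAt_comp {α β γ : Type*} [TopologicalSpace α] [TopologicalSpace β] [TopologicalSpace γ]
    (f : α → β) (g : β → γ) (x : α) (hf : EGA43.IsOpenAt f x) (hg : EGA43.IsOpenAt g (f x)) :
    EGA43.IsOpenAt (g ∘ f) x := by
  intro U hU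
  have := hg _ (hf U hU)
  simpa [Set.image_image] using this

lemma isOpenAt_of_comp {α β γ : Type*} [TopologicalSpace α] [TopologicalSpace β] [TopologicalSpace γ]
    (f : α → β) (g : β → γ) (x : α) (hf : Continuous f) (h : EGA43.IsOpenAt (g ∘ f) x) :
    EGA43.IsOpenAt g (f x) := by
  intro U hU
  have h1 : f ⁻¹' U ∈ nhds x := hf.continuousAt hU
  have h2 := h _ h1
  refine Filter.mem_of_superset h2 ?_
  rintro _ ⟨a, ha, rfl⟩
  exact ⟨f a, ha, rfl⟩

lemma isOpenAt_of_isOpenMap {α β : Type*} [TopologicalSpace α] [TopologicalSpace β]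
    (f : α → β) (hf : IsOpenMap f) (x : α) : EGA43.IsOpenAt f x :=
  fun _ hU => hf.image_mem_nhds hU

/-- universal openness at a point, tested on an arbitrary pullback square -/
lemma isOpenAt_of_isPullback {X Y Y' P : Scheme.{u}} {f : X ⟶ Y} {g : Y' ⟶ Y} {fst : P ⟶ X}
    {snd : P ⟶ Y'} (h : IsPullback fst snd f g) {x : X} (hf : EGA43.IsUnivOpenAt f x) (p : P)
    (hp : fst.base p = x) : EGA43.IsOpenAt snd.base p := by
  obtain ⟨e, e1, e2⟩ : ∃ e : P ≅ pullback f g, e.hom ≫ pullback.fst f g = fst ∧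
      e.hom ≫ pullback.snd f g = snd :=
    ⟨h.isoPullback, h.isoPullback_hom_fst, h.isoPullback_hom_snd⟩
  clear h
  subst e1 e2
  have h1 : EGA43.IsOpenAt (pullback.snd f g).base (e.hom.base p) := by
    apply hf
    rw [← hp]
    rfl
  have h2 : EGA43.IsOpenAt e.hom.base p :=
    isOpenAt_of_isOpenMap _ (e.hom.homeomorph.isOpenMap) p
  exact isOpenAt_comp e.hom.base (pullback.snd f g).base p h2 h1

lemma isUnivOpenAt_of_isPullback {X Y Y' P : Scheme.{u}} {f : X ⟶ Y} {g : Y' ⟶ Y} {fst : P ⟶ X}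
    {snd : P ⟶ Y'} (h : IsPullback fst snd f g) {x : X} (hf : EGA43.IsUnivOpenAt f x) (p : P)
    (hp : fst.base p = x) : EGA43.IsUnivOpenAt snd p := by
  intro Y'' g' q hq
  have h2 : IsPullback (pullback.fst snd g' ≫ fst) (pullback.snd snd g') f (g' ≫ g) :=
    (IsPullback.of_hasPullback snd g').paste_horiz h
  apply isOpenAt_of_isPullback h2 hf q
  rw [← hp, ← hq]
  rfl


/-- Topological core: openness at a point descends along a finite jointly surjective family of
closed maps, given "pullback-like" data. -/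
lemma isOpenAt_of_closed_cover {ι : Type*} [Finite ι] {X Y : Type*} [TopologicalSpace X]
    [TopologicalSpace Y] (f : X → Y) (x : X)
    {Yi Xi : ι → Type*} [∀ i, TopologicalSpace (Yi i)] [∀ i, TopologicalSpace (Xi i)]
    (v : ∀ i, Yi i → Y) (hv : ∀ i, IsClosedMap (v i)) (hsurj : ∀ y : Y, ∃ i, ∃ z : Yi i, v i z = y)
    (p : ∀ i, Xi i → X) (hp : ∀ i, Continuous (p i)) (fi : ∀ i, Xi i → Yi i)
    (hcomm : ∀ i (a : Xi i), f (p i a) = v i (fi i a))
    (hpb : ∀ i (a : X) (b : Yi i), f a = v i b → ∃ c : Xi i, p i c = a ∧ fi i c = b)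
    (h : ∀ i (c : Xi i), p i c = x → EGA43.IsOpenAt (fi i) c) :
    EGA43.IsOpenAt f x := by
  intro U hU
  -- W i := fi i '' (p i ⁻¹' U)
  have hW : ∀ i, ∀ b : Yi i, v i b = f x → fi i '' (p i ⁻¹' U) ∈ nhds b := by
    intro i b hb
    obtain ⟨c, hc1, hc2⟩ := hpb i x b hb.symm
    have := h i c hc1 (p i ⁻¹' U) ((hp i).continuousAt (by rw [hc1]; exact hU))
    rw [hc2] at this
    exact this
  have hWsub : ∀ i, fi i '' (p i ⁻¹' U) ⊆ v i ⁻¹' (f '' U) := by
    rintro i _ ⟨a, ha, rfl⟩
    exact ⟨p i a, ha, hcomm i a⟩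
  -- V i := (v i '' (interior (W i))ᶜ)ᶜ
  have hV : ∀ i, (v i '' (interior (fi i '' (p i ⁻¹' U)))ᶜ)ᶜ ∈ nhds (f x) := by
    intro i
    apply IsOpen.mem_nhds
    · exact (hv i _ isOpen_interior.isClosed_compl).isOpen_compl
    · rintro ⟨b, hb, hbx⟩
      exact hb (mem_interior_iff_mem_nhds.mpr (hW i b hbx))
  have hVall : (⋂ i, (v i '' (interior (fi i '' (p i ⁻¹' U)))ᶜ)ᶜ) ∈ nhds (f x) :=
    (Filter.iInter_mem).mpr hV
  refine Filter.mem_of_superset hVall ?_
  intro z hz
  obtain ⟨i, b, hb⟩ := hsurj z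
  have hzi := Set.mem_iInter.mp hz i
  have hb' : b ∈ interior (fi i '' (p i ⁻¹' U)) := by
    by_contra hcon
    exact hzi ⟨b, hcon, hb⟩
  have := hWsub i (interior_subset hb')
  rw [Set.mem_preimage, hb] at this
  exact this

/-- The cube lemma: `pullback.snd f' v'` is a base change of `pullback.snd f v`. -/
lemma cube {X Y Y₁ Y' : Scheme.{u}} (f : X ⟶ Y) (v : Y₁ ⟶ Y) (g : Y' ⟶ Y) :
    ∃ m : pullback (pullback.snd f g) (pullback.snd v g) ⟶ pullback f v,
      IsPullback m (pullback.snd (pullback.snd f g) (pullback.snd v g)) (pullback.snd f v)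
        (pullback.fst v g) ∧
      m ≫ pullback.fst f v =
        pullback.fst (pullback.snd f g) (pullback.snd v g) ≫ pullback.fst f g := by
  have hA : IsPullback (pullback.fst (pullback.snd f g) (pullback.snd v g))
      (pullback.snd (pullback.snd f g) (pullback.snd v g)) (pullback.snd f g) (pullback.snd v g) :=
    IsPullback.of_hasPullback _ _
  have hB : IsPullback (pullback.fst f g) (pullback.snd f g) f g := IsPullback.of_hasPullback _ _
  have hC : IsPullback (pullback.fst f v) (pullback.snd f v) f v := IsPullback.of_hasPullback _ _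
  have hAB := hA.paste_horiz hB
  have hcond : pullback.snd v g ≫ g = pullback.fst v g ≫ v := pullback.condition.symm
  rw [hcond] at hAB
  have hw : (pullback.fst (pullback.snd f g) (pullback.snd v g) ≫ pullback.fst f g) ≫ f =
      (pullback.snd (pullback.snd f g) (pullback.snd v g) ≫ pullback.fst v g) ≫ v := by
    rw [hAB.w, Category.assoc]
  refine ⟨pullback.lift _ _ hw, ?_, pullback.lift_fst _ _ _⟩
  refine IsPullback.of_right ?_ (pullback.lift_snd _ _ _) hC
  rw [pullback.lift_fst]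
  exact hAB

end Groth.Agent.H8.UO
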